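import Cfsg.Agent.Lib.SporOutHe.Engine

/-! The searches. -/

set_option autoImplicit false
set_option maxRecDepth 100000

namespace Cfsg.Agent.Lib.SporOutHe

open Cfsg.Agent.Lib.Coset Cfsg.Agent.Lib.SporPres.He
open Cfsg.Agent.Lib.SchurMult.Held (same)

/-- The exponents after raising to the third power. -/
def esT : List ℕ := ksX.map fun k => 3 * k % 17

/-- The test for a power of `x`. -/
noncomputable def goodX (w : List ℕ) : Bool :=
  (List.range 17).any fun i => same w (xPow.getD i [])

/-- The test against the relations of the third generator. -/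
noncomputable def goodY (w : List ℕ) : Bool :=
  same w sWord || killers.any fun r => !same (Coset.rep r.1 (subst [xWord, hWord, w] r.2)) []

/-- The square of `h`. -/
def yWord : List ℕ := hWord ++ hWord

theorem baseX : baseOK levX xPow xb ksX = true := by decide +kernel

theorem baseY : baseOK levY yPow yb ksY = true := by decide +kernel

theorem powsX : powsOK xPow ksX ksX xWord = true := by decide +kernel

theorem powsT : powsOK xPow esT ksX (xPow.getD 3 []) = true := by decide +kernel

theorem powsY : powsOK yPow ksY ksY yWord = true := by decide +kernel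

theorem powsAll : powsOK xPow (List.range 17) (List.range 17) xWord = true := by decide +kernel

theorem searchX0 : searchOK levX xPow ksX xWord xWord goodX 0 147 = true := by decide +kernel

theorem searchX1 : searchOK levX xPow ksX xWord xWord goodX 147 147 = true := by decide +kernel

theorem searchX2 : searchOK levX xPow ksX xWord xWord goodX 294 147 = true := by decide +kernel

theorem searchX3 : searchOK levX xPow ksX xWord xWord goodX 441 147 = true := by decide +kernel

theorem searchX4 : searchOK levX xPow ksX xWord xWord goodX 588 147 = true := by decide +kernel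

theorem searchX5 : searchOK levX xPow ksX xWord xWord goodX 735 147 = true := by decide +kernel

theorem searchX6 : searchOK levX xPow ksX xWord xWord goodX 882 147 = true := by decide +kernel

theorem searchX7 : searchOK levX xPow ksX xWord xWord goodX 1029 147 = true := by decide +kernel

theorem searchX8 : searchOK levX xPow ksX xWord xWord goodX 1176 147 = true := by decide +kernel

theorem searchX9 : searchOK levX xPow ksX xWord xWord goodX 1323 147 = true := by decide +kernel

theorem searchX10 : searchOK levX xPow ksX xWord xWord goodX 1470 147 = true := by decide +kernel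

theorem searchX11 : searchOK levX xPow ksX xWord xWord goodX 1617 147 = true := by decide +kernel

theorem searchX12 : searchOK levX xPow ksX xWord xWord goodX 1764 147 = true := by decide +kernel

theorem searchX13 : searchOK levX xPow ksX xWord xWord goodX 1911 147 = true := by decide +kernel

theorem searchX : ∀ q ∈ [((0, 147) : ℕ × ℕ), ((147, 147) : ℕ × ℕ), ((294, 147) : ℕ × ℕ), ((441, 147) : ℕ × ℕ), ((588, 147) : ℕ × ℕ), ((735, 147) : ℕ × ℕ), ((882, 147) : ℕ × ℕ), ((1029, 147) : ℕ × ℕ), ((1176, 147) : ℕ × ℕ), ((1323, 147) : ℕ × ℕ), ((1470, 147) : ℕ × ℕ), ((1617, 147) : ℕ × ℕ), ((1764, 147) : ℕ × ℕ), ((1911, 147) : ℕ × ℕ)], searchOK levX xPow ksX xWord xWord goodX q.1 q.2 = true := by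
  simp only [List.forall_mem_cons, List.not_mem_nil, IsEmpty.forall_iff, implies_true, and_true]
  exact ⟨searchX0, searchX1, searchX2, searchX3, searchX4, searchX5, searchX6, searchX7, searchX8, searchX9, searchX10, searchX11, searchX12, searchX13⟩

theorem searchT0 : searchOK levX xPow esT xWord (xPow.getD 3 []) (fun _ => false) 0 147 = true := by decide +kernel

theorem searchT1 : searchOK levX xPow esT xWord (xPow.getD 3 []) (fun _ => false) 147 147 = true := by decide +kernel

theorem searchT2 : searchOK levX xPow esT xWord (xPow.getD 3 []) (fun _ => false) 294 147 = true := by decide +kernel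

theorem searchT3 : searchOK levX xPow esT xWord (xPow.getD 3 []) (fun _ => false) 441 147 = true := by decide +kernel

theorem searchT4 : searchOK levX xPow esT xWord (xPow.getD 3 []) (fun _ => false) 588 147 = true := by decide +kernel

theorem searchT5 : searchOK levX xPow esT xWord (xPow.getD 3 []) (fun _ => false) 735 147 = true := by decide +kernel

theorem searchT6 : searchOK levX xPow esT xWord (xPow.getD 3 []) (fun _ => false) 882 147 = true := by decide +kernel

theorem searchT7 : searchOK levX xPow esT xWord (xPow.getD 3 []) (fun _ => false) 1029 147 = true := by decide +kernel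

theorem searchT8 : searchOK levX xPow esT xWord (xPow.getD 3 []) (fun _ => false) 1176 147 = true := by decide +kernel

theorem searchT9 : searchOK levX xPow esT xWord (xPow.getD 3 []) (fun _ => false) 1323 147 = true := by decide +kernel

theorem searchT10 : searchOK levX xPow esT xWord (xPow.getD 3 []) (fun _ => false) 1470 147 = true := by decide +kernel

theorem searchT11 : searchOK levX xPow esT xWord (xPow.getD 3 []) (fun _ => false) 1617 147 = true := by decide +kernel

theorem searchT12 : searchOK levX xPow esT xWord (xPow.getD 3 []) (fun _ => false) 1764 147 = true := by decide +kernel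

theorem searchT13 : searchOK levX xPow esT xWord (xPow.getD 3 []) (fun _ => false) 1911 147 = true := by decide +kernel

theorem searchT : ∀ q ∈ [((0, 147) : ℕ × ℕ), ((147, 147) : ℕ × ℕ), ((294, 147) : ℕ × ℕ), ((441, 147) : ℕ × ℕ), ((588, 147) : ℕ × ℕ), ((735, 147) : ℕ × ℕ), ((882, 147) : ℕ × ℕ), ((1029, 147) : ℕ × ℕ), ((1176, 147) : ℕ × ℕ), ((1323, 147) : ℕ × ℕ), ((1470, 147) : ℕ × ℕ), ((1617, 147) : ℕ × ℕ), ((1764, 147) : ℕ × ℕ), ((1911, 147) : ℕ × ℕ)], searchOK levX xPow esT xWord (xPow.getD 3 []) (fun _ => false) q.1 q.2 = true := by
  simp only [List.forall_mem_cons, List.not_mem_nil, IsEmpty.forall_iff, implies_true, and_true]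
  exact ⟨searchT0, searchT1, searchT2, searchT3, searchT4, searchT5, searchT6, searchT7, searchT8, searchT9, searchT10, searchT11, searchT12, searchT13⟩

theorem searchY0 : searchOK levY yPow ksY yWord yWord goodY 0 147 = true := by decide +kernel

theorem searchY1 : searchOK levY yPow ksY yWord yWord goodY 147 147 = true := by decide +kernel

theorem searchY2 : searchOK levY yPow ksY yWord yWord goodY 294 147 = true := by decide +kernel

theorem searchY3 : searchOK levY yPow ksY yWord yWord goodY 441 147 = true := by decide +kernel

theorem searchY4 : searchOK levY yPow ksY yWord yWord goodY 588 147 = true := by decide +kernel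

theorem searchY5 : searchOK levY yPow ksY yWord yWord goodY 735 147 = true := by decide +kernel

theorem searchY6 : searchOK levY yPow ksY yWord yWord goodY 882 147 = true := by decide +kernel

theorem searchY7 : searchOK levY yPow ksY yWord yWord goodY 1029 147 = true := by decide +kernel

theorem searchY8 : searchOK levY yPow ksY yWord yWord goodY 1176 147 = true := by decide +kernel

theorem searchY9 : searchOK levY yPow ksY yWord yWord goodY 1323 147 = true := by decide +kernel

theorem searchY10 : searchOK levY yPow ksY yWord yWord goodY 1470 147 = true := by decide +kernel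

theorem searchY11 : searchOK levY yPow ksY yWord yWord goodY 1617 147 = true := by decide +kernel

theorem searchY12 : searchOK levY yPow ksY yWord yWord goodY 1764 147 = true := by decide +kernel

theorem searchY13 : searchOK levY yPow ksY yWord yWord goodY 1911 147 = true := by decide +kernel

theorem searchY : ∀ q ∈ [((0, 147) : ℕ × ℕ), ((147, 147) : ℕ × ℕ), ((294, 147) : ℕ × ℕ), ((441, 147) : ℕ × ℕ), ((588, 147) : ℕ × ℕ), ((735, 147) : ℕ × ℕ), ((882, 147) : ℕ × ℕ), ((1029, 147) : ℕ × ℕ), ((1176, 147) : ℕ × ℕ), ((1323, 147) : ℕ × ℕ), ((1470, 147) : ℕ × ℕ), ((1617, 147) : ℕ × ℕ), ((1764, 147) : ℕ × ℕ), ((1911, 147) : ℕ × ℕ)], searchOK levY yPow ksY yWord yWord goodY q.1 q.2 = true := by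
  simp only [List.forall_mem_cons, List.not_mem_nil, IsEmpty.forall_iff, implies_true, and_true]
  exact ⟨searchY0, searchY1, searchY2, searchY3, searchY4, searchY5, searchY6, searchY7, searchY8, searchY9, searchY10, searchY11, searchY12, searchY13⟩

theorem cover : ∀ k < tab.size, ∃ q ∈ [((0, 147) : ℕ × ℕ), ((147, 147) : ℕ × ℕ), ((294, 147) : ℕ × ℕ), ((441, 147) : ℕ × ℕ), ((588, 147) : ℕ × ℕ), ((735, 147) : ℕ × ℕ), ((882, 147) : ℕ × ℕ), ((1029, 147) : ℕ × ℕ), ((1176, 147) : ℕ × ℕ), ((1323, 147) : ℕ × ℕ), ((1470, 147) : ℕ × ℕ), ((1617, 147) : ℕ × ℕ), ((1764, 147) : ℕ × ℕ), ((1911, 147) : ℕ × ℕ)], q.1 ≤ k ∧ k < q.1 + q.2 := by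
  intro k hk
  have hk : k < 2058 := hk
  refine ⟨(k / 147 * 147, 147), ?_, by simp only; omega, by simp only; omega⟩
  have : k / 147 < 14 := by omega
  interval_cases hq : k / 147 <;> simp

theorem letters_ok : ((xWord :: hWord :: sWord :: tauWords).all fun w => w.all fun a => decide (a < tab.gens)) = true := by
  decide +kernel

theorem rel_hx : same (hWord ++ xWord) (xWord ++ (xWord ++ hWord)) = true := by decide +kernel

theorem rel_x : same (Coset.rep 17 xWord) [] = true ∧ same xWord [] = false := by decide +kernel

theorem rel_s : same (yWord ++ sWord) (sWord ++ yWord) = true ∧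
    (killers.all fun r => same (Coset.rep r.1 (subst [xWord, hWord, sWord] r.2)) []) = true := by decide +kernel

theorem rel_gen : ((List.range 7).all fun g => same [g] (subst [xWord, hWord, sWord] (genWords.getD g []))) = true := by
  decide +kernel

theorem rel_tau : ((List.range 7).all fun g => same (tauWords.getD g [] ++ tauWords.getD g []) []) = true ∧
    (pres.base.all fun w => same (subst tauWords w) []) = true ∧
    same (subst tauWords xWord) (xPow.getD 3 []) = true ∧ tauWords.length = 7 := by decide +kernel

theorem residues : ((List.range 17).all fun r => Nat.beq r 0 ||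
    (List.range 8).any fun i => Nat.beq r (2 ^ i % 17) || Nat.beq r (3 * 2 ^ i % 17)) = true := by decide +kernel

end Cfsg.Agent.Lib.SporOutHe
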