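import Cfsg.Agent.Lib.SchurMult.GolayEngine
import Cfsg.Agent.Lib.Coset.Action

/-!
Transversals of words along a base, and the word of an element with given images of the base.
-/

set_option autoImplicit false

namespace Cfsg.Agent.Lib.SporOutHe

open Cfsg.Agent.Lib.Coset

/-- Words indexed by a point, read from the lowest bit. -/
inductive WTree
  | none
  | word (w : List ℕ)
  | node (l r : WTree)

/-- The word at a point. -/
def WTree.get : WTree → ℕ → Option (List ℕ)
  | .none, _ => Option.none
  | .word w, i => bif Nat.beq i 0 then some w else Option.none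
  | .node l r, i => bif Nat.beq (i % 2) 0 then l.get (i / 2) else r.get (i / 2)

/-- A base point, the words of its transversal, and the points they reach. -/
structure Level where
  b : ℕ
  tree : WTree
  pts : List ℕ

variable (P : Tab)

/-- The word at a listed point is right and fixes the base points before. -/
noncomputable def entryOK (before : List ℕ) (L : Level) (d : ℕ) : Bool :=
  match L.tree.get d with
  | Option.none => false
  | some w => (w.all fun a => decide (a < P.gens)) && Nat.beq (P.app w L.b) d &&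
      before.all fun c => Nat.beq (P.app w c) c

/-- The checks of one level on a range of its points. -/
noncomputable def levelOK (before : List ℕ) (L : Level) (lo len : ℕ) : Bool :=
  ((L.pts.drop lo).take len).all (entryOK P before L)

/-- The shape of a level. -/
def shapeOK (L : Level) : Bool := decide (L.b < P.size) && SchurMult.GolayEngine.increasing L.pts

/-- All levels are right. -/
def Valid : List Level → List ℕ → Prop
  | [], _ => True
  | L :: Ls, before => shapeOK P L = true ∧ (∀ d ∈ L.pts, entryOK P before L d = true) ∧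
      Valid Ls (before ++ [L.b])

/-- The product of the lengths of the levels. -/
def total : List Level → ℕ
  | [] => 1
  | L :: Ls => L.pts.length * total Ls

/-- The word of the element with given images of the base. -/
noncomputable def sift : List Level → List ℕ → Option (List ℕ)
  | L :: Ls, t :: ts =>
    match L.tree.get t with
    | Option.none => Option.none
    | some w =>
      match sift Ls (ts.map fun s => P.app w.reverse s) with
      | Option.none => Option.none
      | some v => some (w ++ v)
  | _, _ => some []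

variable {P}

theorem valid_of_parts {L : Level} {before : List ℕ} (parts : List (ℕ × ℕ))
    (h : ∀ q ∈ parts, levelOK P before L q.1 q.2 = true)
    (hc : ∀ k < L.pts.length, ∃ q ∈ parts, q.1 ≤ k ∧ k < q.1 + q.2) :
    ∀ d ∈ L.pts, entryOK P before L d = true := by
  intro d hd
  obtain ⟨k, hk, rfl⟩ := List.getElem_of_mem hd
  obtain ⟨q, hq, h1, h2⟩ := hc k hk
  refine List.all_eq_true.1 (h q hq) _ (List.mem_iff_getElem?.2 ⟨k - q.1, ?_⟩)
  rw [List.getElem?_take, if_pos (show k - q.1 < q.2 by omega), List.getElem?_drop,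
    show q.1 + (k - q.1) = k by omega, List.getElem?_eq_getElem hk]

theorem entry_spec {before : List ℕ} {L : Level} {d : ℕ} (h : entryOK P before L d = true) :
    ∃ w, L.tree.get d = some w ∧ (∀ a ∈ w, a < P.gens) ∧ P.app w L.b = d ∧
      ∀ c ∈ before, P.app w c = c := by
  unfold entryOK at h
  split at h
  · simp at h
  · next w hw =>
    simp only [Bool.and_eq_true, List.all_eq_true, decide_eq_true_eq, Nat.beq_eq] at h
    exact ⟨w, hw, h.1.1, h.1.2, h.2⟩

/-- The words of the levels lie in a subgroup. -/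
def Inside (hP : P.Good) (K : Subgroup (Equiv.Perm (Fin P.size))) (Ls : List Level) : Prop :=
  ∀ L ∈ Ls, ∀ d ∈ L.pts, ∀ w, L.tree.get d = some w → ev (P.perm hP) w ∈ K

theorem valid_fix : ∀ {Ls : List Level} {before : List ℕ}, Valid P Ls before →
    ∀ L ∈ Ls, ∀ d ∈ L.pts, ∀ w, L.tree.get d = some w → ∀ c ∈ before,
      (∀ a ∈ w, a < P.gens) ∧ P.app w c = c
  | L₀ :: Ls, before, hv, L, hL, d, hd, w, hw, c, hc => by
    rcases List.mem_cons.1 hL with rfl | hL
    · obtain ⟨w', e, h1, -, h3⟩ := entry_spec (hv.2.1 d hd)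
      obtain rfl : w' = w := Option.some.inj (e.symm.trans hw)
      exact ⟨h1, h3 c hc⟩
    · exact valid_fix hv.2.2 L hL d hd w hw c (List.mem_append_left _ hc)

variable {hP : P.Good}

theorem points_in_orbit {K : Subgroup (Equiv.Perm (Fin P.size))} {L : Level} {Ls : List Level}
    {before : List ℕ} (hv : Valid P (L :: Ls) before) (hK : Inside hP K (L :: Ls)) :
    ∃ hb : L.b < P.size, ∃ S : Finset (Fin P.size), S.card = L.pts.length ∧
      (∀ x, x ∈ S ↔ (x : ℕ) ∈ L.pts) ∧
      ∀ x ∈ S, x ∈ MulAction.orbit K (⟨L.b, hb⟩ : Fin P.size) := by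
  classical
  have hs := hv.1
  simp only [shapeOK, Bool.and_eq_true, decide_eq_true_eq] at hs
  refine ⟨hs.1, ?_⟩
  have hnd : L.pts.Nodup := (SchurMult.GolayEngine.pairwise_of_increasing _ hs.2).imp fun h => h.ne
  have himg : ∀ d ∈ L.pts, ∃ x : Fin P.size, (x : ℕ) = d ∧
      x ∈ MulAction.orbit K (⟨L.b, hs.1⟩ : Fin P.size) := fun d hd => by
    obtain ⟨w, hw, h1, h2, -⟩ := entry_spec (hv.2.1 d hd)
    exact ⟨ev (P.perm hP) w ⟨L.b, hs.1⟩, (Tab.ev_perm_apply hP w h1 _).trans h2,
      ⟨⟨_, hK L List.mem_cons_self d hd w hw⟩, rfl⟩⟩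
  let S : Finset (Fin P.size) := Finset.univ.filter fun x => (x : ℕ) ∈ L.pts
  have hS : ∀ x, x ∈ S ↔ (x : ℕ) ∈ L.pts := fun x => by simp [S]
  refine ⟨S, ?_, hS, fun x hx => ?_⟩
  · rw [← List.toFinset_card_of_nodup hnd]
    refine Finset.card_bij (fun x _ => (x : ℕ)) (fun x hx => List.mem_toFinset.2 ((hS x).1 hx))
      (fun _ _ _ _ e => Fin.ext e) fun d hd => ?_
    obtain ⟨x, rfl, -⟩ := himg d (List.mem_toFinset.1 hd)
    exact ⟨x, (hS x).2 (List.mem_toFinset.1 hd), rfl⟩
  · obtain ⟨y, e, hy⟩ := himg _ ((hS x).1 hx)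
    exact Fin.ext e ▸ hy

theorem inside_stab {K : Subgroup (Equiv.Perm (Fin P.size))} {L : Level} {Ls : List Level}
    {before : List ℕ} (hv : Valid P (L :: Ls) before) (hK : Inside hP K (L :: Ls)) (hb : L.b < P.size) :
    Inside hP ((MulAction.stabilizer K (⟨L.b, hb⟩ : Fin P.size)).map K.subtype) Ls := by
  intro M hM d hd w hw
  obtain ⟨h1, h2⟩ := valid_fix hv.2.2 M hM d hd w hw L.b (List.mem_append_right _ (List.mem_singleton_self _))
  exact ⟨⟨_, hK M (List.mem_cons_of_mem _ hM) d hd w hw⟩,
    Fin.ext ((Tab.ev_perm_apply hP w h1 _).trans h2), rfl⟩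

theorem total_le : ∀ {Ls : List Level} {before : List ℕ} {K : Subgroup (Equiv.Perm (Fin P.size))},
    Valid P Ls before → Inside hP K Ls → total Ls ≤ Nat.card K
  | [], _, K, _, _ => Nat.one_le_iff_ne_zero.2 Nat.card_pos.ne'
  | L :: Ls, before, K, hv, hK => by
    obtain ⟨hb, S, hS, -, horb⟩ := points_in_orbit hv hK
    let x0 : Fin P.size := ⟨L.b, hb⟩
    have hmul : (MulAction.orbit K x0).ncard * Nat.card (MulAction.stabilizer K x0) = Nat.card K := by
      rw [← Nat.card_coe_set_eq, Nat.card_congr (MulAction.orbitEquivQuotientStabilizer K x0)]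
      exact Subgroup.index_mul_card _
    have hle := total_le hv.2.2 (inside_stab hv hK hb)
    rw [Subgroup.card_map_of_injective K.subtype_injective] at hle
    rw [total, ← hmul]
    refine Nat.mul_le_mul ?_ hle
    rw [← hS, ← Set.ncard_coe_finset]
    exact Set.ncard_le_ncard (fun x hx => horb x hx) (Set.toFinite _)

/-- An element of a group no larger than the chain is found by sifting the images of the base. -/
theorem sift_spec : ∀ {Ls : List Level} {before : List ℕ} {K : Subgroup (Equiv.Perm (Fin P.size))},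
    Valid P Ls before → Inside hP K Ls → Nat.card K ≤ total Ls → ∀ g ∈ K, ∀ ts : List ℕ,
    List.Forall₂ (fun (L : Level) t => ∀ i : Fin P.size, (i : ℕ) = L.b → (g i : ℕ) = t) Ls ts →
    ∃ w, sift P Ls ts = some w ∧ (∀ a ∈ w, a < P.gens) ∧ g = ev (P.perm hP) w
  | [], _, K, _, _, hle, g, hg, ts, hts => by
    cases hts
    exact ⟨[], rfl, by simp, (Subgroup.eq_bot_iff_forall K).1 (Subgroup.eq_bot_of_card_le K hle) g hg⟩
  | L :: Ls, before, K, hv, hK, hle, g, hg, ts, hts => by
    cases hts with
    | @cons _ t _ ts ht hts =>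
    obtain ⟨hb, S, hS, hmem, horb⟩ := points_in_orbit hv hK
    let x0 : Fin P.size := ⟨L.b, hb⟩
    have hmul : (MulAction.orbit K x0).ncard * Nat.card (MulAction.stabilizer K x0) = Nat.card K := by
      rw [← Nat.card_coe_set_eq, Nat.card_congr (MulAction.orbitEquivQuotientStabilizer K x0)]
      exact Subgroup.index_mul_card _
    have hin := inside_stab hv hK hb
    have hlo := total_le hv.2.2 hin
    rw [Subgroup.card_map_of_injective K.subtype_injective] at hlo
    have hsub : (S : Set (Fin P.size)) ⊆ MulAction.orbit K x0 := fun x hx => horb x hx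
    have hSle : L.pts.length ≤ (MulAction.orbit K x0).ncard := by
      rw [← hS, ← Set.ncard_coe_finset]
      exact Set.ncard_le_ncard hsub (Set.toFinite _)
    have htot : 0 < total Ls := by
      rcases Nat.eq_zero_or_pos (total Ls) with h0 | h0
      · rw [total, h0, mul_zero] at hle
        exact absurd (Nat.card_pos (α := K)) (by omega)
      · exact h0
    rw [total, ← hmul] at hle
    have hle2 : Nat.card (MulAction.stabilizer K x0) ≤ total Ls := by
      rcases Nat.eq_zero_or_pos L.pts.length with h0 | h0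
      · rw [h0, zero_mul] at hle
        have := Nat.card_pos (α := K)
        omega
      · exact Nat.le_of_mul_le_mul_left ((Nat.mul_le_mul_right _ hSle).trans hle) h0
    have horbEq : (MulAction.orbit K x0).ncard ≤ L.pts.length :=
      Nat.le_of_mul_le_mul_right ((Nat.mul_le_mul_left _ hlo).trans hle) htot
    have heq : (S : Set (Fin P.size)) = MulAction.orbit K x0 :=
      Set.eq_of_subset_of_ncard_le hsub (by rw [Set.ncard_coe_finset, hS]; exact horbEq) (Set.toFinite _)
    have htm : t ∈ L.pts := by
      have : g x0 ∈ (S : Set (Fin P.size)) := heq ▸ ⟨⟨g, hg⟩, rfl⟩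
      rw [← ht x0 rfl]
      exact (hmem _).1 this
    obtain ⟨u, hu, hu1, hu2, -⟩ := entry_spec (hv.2.1 t htm)
    set U := ev (P.perm hP) u with hU
    have hUK : U ∈ K := hK L List.mem_cons_self t htm u hu
    have hfix : (⟨U⁻¹ * g, mul_mem (inv_mem hUK) hg⟩ : K) ∈ MulAction.stabilizer K x0 := by
      show (U⁻¹ * g) x0 = x0
      rw [Equiv.Perm.mul_apply, Equiv.Perm.inv_eq_iff_eq]
      exact Fin.ext ((ht x0 rfl).trans ((Tab.ev_perm_apply hP u hu1 x0).trans hu2).symm)
    have hrev : ev (P.perm hP) u.reverse = U⁻¹ := ev_reverse _ _ fun a _ => Tab.perm_mul_self hP a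
    obtain ⟨v, hv1, hv2, hv3⟩ := sift_spec hv.2.2 hin
      (by rw [Subgroup.card_map_of_injective K.subtype_injective]; exact hle2)
      (U⁻¹ * g) ⟨⟨_, mul_mem (inv_mem hUK) hg⟩, hfix, rfl⟩
      (ts.map fun s => P.app u.reverse s) (List.forall₂_map_right_iff.2 (hts.imp fun M s hM i hi => by
        rw [Equiv.Perm.mul_apply, ← hM i hi, ← hrev,
          Tab.ev_perm_apply hP _ (fun a ha => hu1 a (List.mem_reverse.1 ha))]))
    refine ⟨u ++ v, ?_, List.forall_mem_append.2 ⟨hu1, hv2⟩, ?_⟩
    · simp only [sift, hu, hv1]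
    · rw [ev_append, ← hv3, ← hU, mul_inv_cancel_left]

end Cfsg.Agent.Lib.SporOutHe
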