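import Cfsg.Agent.Lib.SporOutHe.Sift

/-! Certificate for the automorphisms of the Held group. -/

set_option autoImplicit false
set_option maxRecDepth 100000

namespace Cfsg.Agent.Lib.SporOutHe

/-- A subtree. -/
def sub0 : WTree :=
  (.node (.node (.node (.node (.node (.node (.node (.node (.word [1,2,3,2,3,6,1,2,3,5,0]) (.word [6,3,1,2,3,5,6,3,1])) (.word [3,5,3,0,1,2,0])) (.node (.word [6,2,3,1]) (.word [5,6,3,5,6,3,2]))) (.node (.node (.word [3,6,4,1,2,3]) (.word [2,3,1,2,3,5,2,3,0])) (.node (.word [3,2,3,2,3,5,1]) (.word [3,6,4,3,2,3,4])))) (.node (.node (.node (.word [2,3,6,4,2,3,0]) (.word [3,5,4,2])) (.node (.word [5,3,2,3,0,1,2]) (.word [6,3,5,3,2,3,0]))) (.node (.node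 (.word [6,1,2,3,0]) (.word [6,3,1,2,3,6,3,2])) (.node (.word [6,3,5,2,3,4,1,2,0]) (.word [3,6,2,3,2,3,0]))))) (.node (.node (.node (.node (.word [2,3,2,3,1,2,0]) (.word [4,3,5,3,4,3,1,2])) (.node (.word [5,3,1,2,1]) (.word [3,5,1,2,3,6,4,3]))) (.node (.node (.word [6,3,2,3,5,3,0]) (.word [5,6,3,4,2,3,2])) (.node (.word [6,3,5,6,3,4,1,2,0]) (.word [1,2,3,2,3])))) (.node (.node (.node (.word [2,3,6,4,2,3]) (.word [3,5,6,3,0])) (.node (.word [6,5,3,4,1,2]) (.word [1,2,3,4,2,3,5,2,3,2]))) (.node (.node (.word [5,3,1,2,0]) (.word [4,2,3,1,2,3,2])) (.node (.word [6,3,5,3,6,1,2,3]) (.word [3,2,3,6,4,3,2,0,1])))))) (.node (.node (.node (.node (.node (.word [2,3,1,2,3,6,1,2,3,0,1]) (.word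 [5,6,2,3,5,0,1,2])) (.node (.word [2,3,2,3,1,2,3,5,3,0]) (.word [3,5,3,2,3]))) (.node (.node (.word [6,2,3,1,2,0]) (.word [1,2,3,5,3,2,3,4,1,2,0])) (.node (.word [5,2,3,6,5,3,0]) (.word [6,3,5,3,1,2,3])))) (.node (.node (.node (.word [6,2,3,2,3,1,2,0,1]) (.word [2,3,2,3,6,3])) (.node (.word [4,1,2,3,2,0]) (.word [2,3,2,3,5,3,2,3,2,0]))) (.node (.node (.word [3,1,2,3,1,2]) (.word [3,1,2,3,6,4,3,1,2])) (.node (.word [2,3,5,2,3,1,2,1]) (.word [6,2,3,2,3]))))) (.node (.node (.node (.node (.word [2,3,6,4,1,2,3,0]) (.word [4,3,5,6,2,3,1,2,0])) (.node (.word [2,3,5,6,1,2,3,1,2,0]) (.word [6,2,3,4,3,0]))) (.node (.node (.word [5,2,3,4,3,1,2]) (.word [3,5,4,3,0,1,2,0])) (.node (.word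 [5,2,3,2]) (.word [4,3,6,2,3,4,3])))) (.node (.node (.node (.word [5,2,3,6,1,2,3,1]) (.word [5,6,3,5,4,3,2,0])) (.node (.word [5,6,2,3,5,6,3,1,2]) (.word [4,2,3,5,3,1,2,1]))) (.node (.node (.word [3,1,2,3,6,4,3]) (.word [2,3,6,3,4,3,2])) (.node (.word [4,3,0,1,2,3,2,0]) (.word [6,1,2,3,5,3,6,2,3]))))))) (.node (.node (.node (.node (.node (.node (.word [2,3,1,2,3,2,3,4,3,1,2]) (.word [4,3,1,2,3,2])) (.node (.word [5,4,2,3,6,2]) (.word [6,2,3,5,6,3,0]))) (.node (.node (.word [1,2,3,1,2]) (.word [4,3,2,3,6,2])) (.node (.word [4,2,3,2,3,6,3]) (.word [2,3,5,6,1,2,3])))) (.node (.node (.node (.word [5,2,3,6,4,1,2,3,0]) (.word [4,3,2,3,2,3,5,1])) (.node (.word [3,1,2,3,6,2,0]) (.word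 [3,6,1,2,3,4,0]))) (.node (.node (.word [5,2,3,0,1,2]) (.word [5,6,3,5,1,2,3,2])) (.node (.word [5,4,3,2,0,1]) (.word [5,1,2,3,6,5,2,0]))))) (.node (.node (.node (.node (.word [1,2,3,6,4,2,3,0]) (.word [1,2,3,5,3,0,1,2])) (.node (.word [2,3,5,1,2,3,1]) (.word [5,6,3,5,4,2]))) (.node (.node (.word [1,2,3,5,6,3,4,2,0]) (.word [2,3,5,3,2,3,1,2,1])) (.node (.word [5,6,2,3,0]) (.word [1,2,3,2,3,6,3,0])))) (.node (.node (.node (.word [6,5,2,3,6,2]) (.word [3,2,3,0])) (.node (.word [6,3,5,2,3,1,2]) (.word [6,2,3,1,2,3,5,4,1,2,0]))) (.node (.node (.word [2,3,6,2,3,5,3]) (.word [1,2,3,6,5,1,2,3,1,2])) (.node (.word [4,3,1,2,3,2,3,5,1]) (.word [3,5,1,2,3,6,5,1,2,0])))))) (.node (.node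 (.node (.node (.node (.word [5,3,6,1,2,3,5]) (.word [6,3,4,2,0])) (.node (.word [5,6,2,3,4,1,2]) (.word [2,3,2,3,6,5,3]))) (.node (.node (.word [6,5,0]) (.word [6,3,5,1,2,3,4,1,2])) (.node (.word [6,3,5,2]) (.word [2,3,5,4,1,2])))) (.node (.node (.node (.word [3,2,3,0,1,2,0]) (.word [3,6,4,3,1])) (.node (.word [3,4,2,0]) (.word [3,5,3,2,3,2]))) (.node (.node (.word [1,2]) (.word [1,2,3,6,3,4,3,2])) (.node (.word [4,3,5,1,2,3,0,1]) (.word [4,1,2,3,6,3,0]))))) (.node (.node (.node (.node (.word [4,2,3,1,2]) (.word [0,1,2,3,6,3,5,3])) (.node (.word [3,0,1,2,3,2,0]) (.word [1,2,3,5,4,2,0]))) (.node (.node (.word [3,5,4,2,3,1,2,1]) (.word [4,1,2,3,6,5,1,2,3,1,2])) (.node (.word [3,1,2,3,2,3,5,3])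 (.word [5,4,2,3,2,3,2])))) (.node (.node (.node (.word [4,3,1,2,1]) (.word [6,3,2,3,5,2,1])) (.node (.word [6,5,3,1]) (.word [6,5,3,2,3,2]))) (.node (.node (.word [6,0]) (.word [2,3,2,3,5,3,1,2,1])) (.node (.word [5,4,3,0,1,2,0]) (.word [5,2,3,2,3]))))))))

/-- A subtree. -/
def sub1 : WTree :=
  (.node (.node (.node (.node (.node (.node (.node (.node (.word [2,3,1,2,3,4,2,3,1,2,1]) (.word [6,3,2,3,5,3,2,3,2,0])) (.word [3,5,0,1,2,3,1,2])) (.node (.word [5,1,2,3,6,2]) (.word [3,2,3,6,5,3]))) (.node (.node (.word [0,1,2,3,1,2,0]) (.word [6,3,2,3,6,3,2])) (.node (.word [6,5,3,0,1,2,0]) (.word [6,3,1,2,3,6,4,3,2,1])))) (.node (.node (.node (.word [3,6,1,2,3,5,3,0]) (.word [5,6,3]))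 (.node (.word [3,6,5,2,3,0,1,2]) (.word [3,5,3,2,3,2,3]))) (.node (.node (.word [1,2,3,0,1,2]) (.word [3,0,1,2,3])) (.node (.word [6,5,3,2,3,5,4,1,2,0]) (.word [3,5,2,3,2,3,0]))))) (.node (.node (.node (.node (.word [6,3,5,0]) (.word [5,2,3,1,2,3,2,0])) (.node (.word [6,3,2,3,1,2,1]) (.word [6,3,2,3,6,5,3,0]))) (.node (.node (.word [5,6,2,3,2]) (.word [2,3,6,4,3,2,1])) (.node (.word [3,5,6,3,4,2]) (.word [4,3,1,2,3,5,4,1,2,0])))) (.node (.node (.node (.word [5,0]) (.word [6,3,5,2,1])) (.node (.word [3,6,4,3,1,2,0]) (.word [3,5,2,3,6,5,1,2,0]))) (.node (.node (.word [2,3,5,6,3,5]) (.word [3,2,3,5,4,1,2])) (.node (.word [5,3,2,3,6,5,1,2,0]) (.word [2,3,5,3,2,3,2,0])))))) (.node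 (.node (.node (.node (.node (.word [3,1,2,3,1,2,3,6,1,2,3,0,1]) (.word [5,3,1,2,3,2,0])) (.node (.word [1,2,3,4,1,2]) (.word [3,5,6,3,5,6,2]))) (.node (.node (.word [3,5,3]) (.word [2,3,6,2,3,4,1,2])) (.node (.word [3,5,2,3,0,1]) (.word [6,2,3,2,3,2])))) (.node (.node (.node (.word [1,2,3,5,6,3,1,2,1]) (.word [4,3,5,4,2])) (.node (.word [3,1,2,3,2,0]) (.word [4,3,1,2,3,5,2,3]))) (.node (.node (.word [4,3,2,0]) (.word [3,4,2,3,5,3,1,2])) (.node (.word [3,2,3,5,2,3,1,2,0,1]) (.word [3,2,3,5,3,4,2,0]))))) (.node (.node (.node (.node (.word [1,2,3,6,1,2,3,0,1]) (.word [1,2,3,6,3,5,3])) (.node (.word [1,2,3,0]) (.word [4,2,3,6,0]))) (.node (.node (.word [6,1,2,3,0,1]) (.word [3,2,3,6,5,1,2,3,1,2]))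 (.node (.word [6,5,3,2,0]) (.word [6,3,4,2,3,5,4,2])))) (.node (.node (.node (.word [2,3,4,3,1,2]) (.word [1,2,3,1,2,3,5,2,1])) (.node (.word [5,2,1]) (.word [3,5,6,2,3,5,1,2,1]))) (.node (.node (.word [3,5,4,3,0]) (.word [2,3,5,3,4,1,2])) (.node (.word [6,2]) (.word [3,1,2,3,5,1,2,1]))))))) (.node (.node (.node (.node (.node (.node (.word [6,1,2,3,5,0]) (.word [3,1,2,3,6,3,2])) (.node (.word [6,5,2,3,2,0]) (.word [3,5,6,3]))) (.node (.node (.word [6,4,3,1,2]) (.word [4,3,1,2,3,2,3,5,3])) (.node (.word [1,2,3,6,4,3]) (.word [6,3,0,1,2,3,5,3,1,2,1])))) (.node (.node (.node (.word [5,2,3,2,3,4,3,1,2]) (.word [4,3,6,4,3,2,0])) (.node (.word [6,4,2,3,2]) (.word [3,5,3,2,3,1,2,3,0])))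 (.node (.node (.word [1,2,3,6,2,0]) (.word [3,5,6,3,0,1,2,0])) (.node (.word [3,5,3,1,2,1]) (.word [6,3,0,1,2,3,5,2,1]))))) (.node (.node (.node (.node (.word [1,2,3,5,6,2,3,2,0]) (.word [4,2,3,6,5,2,3,1,2])) (.node (.word [6,5,2,3,1,2,0,1]) (.word [3,0,1,2,3,6,5,3,0]))) (.node (.node (.word [6,1,2,3,2,3,5,3]) (.word [3,5,6,2,3,1,2,3])) (.node (.word [6,5,1,2,3,2,0]) (.word [2,3,5,2,3,2,3])))) (.node (.node (.node (.word [1,2,3,5,6,3,2,1]) (.word [5,2,3,0,1,2,3,2,0])) (.node (.word [5,3,2,0]) (.word [6,3,5,6,2,3]))) (.node (.node (.word [3,6,5,2,3]) (.word [3,2,3,5,3,0,1,2])) (.node (.word [1,2,3]) (.word [2,3,2,3,6,4,3,2,1])))))) (.node (.node (.node (.node (.node (.word [4,3,2,3,1,2,3,5,1])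 (.word [3,5,3,2])) (.node (.word [3,6,1,2,3]) (.word [6,4,3,5,6,2,3]))) (.node (.node (.word [5,3,0]) (.word [5,3,2,3,1,2,3,6,5,3,0])) (.node (.word [4,3,0]) (.word [6,5,3,2,3,2,0])))) (.node (.node (.node (.word [2,3,1,2,0]) (.word [3,6,2,3,4,3,0])) (.node (.word [3,6,4,3,2]) (.word [0,1,2,3,4]))) (.node (.node (.word [5,3,2,3,1,2]) (.word [6,3,2,3,4])) (.node (.word [2,3,5,2,3,1,2,0,1]) (.word [2,3,0,1,2,3,5,2,1]))))) (.node (.node (.node (.node (.word [5,6,2,3,5]) (.word [5,3,6,4,3])) (.node (.word [5,4,3,6,2]) (.word [6,3,2,3,0]))) (.node (.node (.word [3,6,3,2,3,1,2,0,1]) (.word [3,2,3,5,3,4,1,2])) (.node (.word [5,6,2,3,4,1,2,0]) (.word [5,3,1,2,3,6,5,3])))) (.node (.node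 (.node (.word [5,6,3,2,3,1,2,0,1]) (.word [3,5,6,2,3,0])) (.node (.word [3]) (.word [3,2,3,1,2,3,5,2,1]))) (.node (.node (.word [2,3,5,6,3,4,2,0]) (.word [3,4,1,2,3,5,4,1,2])) (.node (.word [4,3,5,6,2,3,0,1,2]) (.word [6,3,1,2,3,6,5,3]))))))))

/-- A subtree. -/
def sub2 : WTree :=
  (.node (.node (.node (.node (.node (.node (.node (.node (.word [6,2,3,2,3,6,1,2,3,5,0]) (.word [0,1,2,3,5,3,4,2])) (.word [3,2,3,6,2,0])) (.node (.word [5,6,1,2,3,2,0]) (.word [1,2,3,6,5,3]))) (.node (.node (.word [3,2,3,6,1,2,3,5,3,0]) (.word [2,3,5,3,6,2])) (.node (.word [4,2,3]) (.word [6,3,2,3,5,4,1,2])))) (.node (.node (.node (.word [5,2,3,6,2,3,1]) (.word [6,3])) (.node (.word [3,5,6,2,3,0,1,2])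 (.word [5,6,2,3,5,2,3,0]))) (.node (.node (.word [6,4,1,2,3]) (.word [6,2,3,1,2,3,2,3,5,1])) (.node (.word [2,3,5,4,1,2,3]) (.word [3,1,2,3,5,6,2,3]))))) (.node (.node (.node (.node (.word [1,2,3,2,3,0,1,2,0]) (.word [4,3,5,3,1,2])) (.node (.word [3,6,4,3,1,2,1]) (.word [5,4,3,2,3,6,3]))) (.node (.node (.word [6,5,3,6,2]) (.word [6,3,1,2,3])) (.node (.word [3,5,4,3,2,1]) (.word [1,2,3,0,1,2,3])))) (.node (.node (.node (.word [6,3,5,3,0]) (.word [6,3,4,0])) (.node (.word [4,3,5,4,3,1,2]) (.word [1,2,3,5,2,3,4,1,2,0]))) (.node (.node (.word [6,2,3,5,6,3,0,1,2]) (.word [3,5,3,1,2,3,2])) (.node (.word [3,6,1,2,3,5,2,3,4,1,2]) (.word [6,1,2,3,4])))))) (.node (.node (.node (.node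 (.node (.word [1,2,3,4,1,2,3,1,2]) (.word [4,3,6,5,1,2,3,1,2])) (.node (.word [6,2,3,2,3,5,3]) (.word [1,2,3,2,3,2]))) (.node (.node (.word [3,5,1]) (.word [5,6,3,5,4,1,2,3])) (.node (.word [5,6,3,0,1]) (.word [0,1,2,3,4,0])))) (.node (.node (.node (.word [2,3,6,1,2,3,1]) (.word [3,6,5,1,2,0])) (.node (.word [6,2,3,5,0,1,2]) (.word [6,3,5,6,2,3,0]))) (.node (.node (.word [6,5,1,2,3,1,2]) (.word [3,4,2,3,5,1,2,1])) (.node (.word [4,3,6,2,3,1,2,1]) (.word [0,1,2,3,5,2,1]))))) (.node (.node (.node (.node (.word [5,3,2,3,1,2,3,5,1]) (.word [6,3,5,6,3,1,2,0])) (.node (.word [6,3,5,1,2,3,1]) (.word [6,4,3,2,3,5,2,1]))) (.node (.node (.word [3,6,3,2,3,4,3,1,2]) (.word [5,6,3,5,4,1,2]))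 (.node (.word [5,2,3,2,0]) (.word [5,3,6,2,3,4,3])))) (.node (.node (.node (.word [6,3,1,2,3,5,3]) (.word [3,6,2,3,4,0])) (.node (.word [2,3,5,6,3,1,2]) (.word [1,2,3,5,3,2,3,1,2,1]))) (.node (.node (.word [5,3,6,5,3,0]) (.word [3,1,2,3,2,3])) (.node (.word [3,5,1,2,3,0,1,2]) (.word [6,3,1,2,3,5,4,1,2]))))))) (.node (.node (.node (.node (.node (.node (.word [3,1,2,3,4,2,3,0,1,2]) (.word [6,3,1,2,3,2])) (.node (.word [5,6,3,2]) (.word [3,2,3,5,6,3,0]))) (.node (.node (.word [4,3,2]) (.word [3,6,2,3,4])) (.node (.word [3,6,5,2,0]) (.word [4,3,5,2,3,1,2,3])))) (.node (.node (.node (.word [3,6,1,2,3,1,2,3,5,3]) (.word [3,2,3,5,2,3,0])) (.node (.word [5,6,0,1,2,3,1,2]) (.word [3,6,5,3,2,3,5,1,2,1])))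 (.node (.node (.word [6,5,2,3,0,1,2]) (.word [3,5,4,3,6,2,0])) (.node (.word [6,3,2,1]) (.word [2,3,4,1,2,3,6,4,3]))))) (.node (.node (.node (.node (.word [1,2,3,5]) (.word [6,3,2,3,5,3,1,2,0])) (.node (.word [1,2,0,1]) (.word [3,4,1,2,3,6,4,3]))) (.node (.node (.word [3,2,3,1,2,3,5,3,0]) (.word [3,2,3,5,3,4,1,2,0])) (.node (.word [1,2,3,2,3,5,2,3]) (.word [3,2,3,5,6,2,3,0])))) (.node (.node (.node (.word [3,6,1,2,3,5,3]) (.word [4,3,5,2,3,0])) (.node (.word [3,5,3,6,2,3,1,2]) (.word [6,1,2,3,5,2,3,1,2,1]))) (.node (.node (.word [2,3,2,3,5,3]) (.word [5,3,2,3,2,0])) (.node (.word [0,1,2,3]) (.word [6,2,3,5,6,2,3])))))) (.node (.node (.node (.node (.node (.word [2,3,4,2,3,1,2,1])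 (.word [3,5,3,4,3,2])) (.node (.word [5,6,3,5,2,3,4,1,2,0]) (.word [5,3,2,3,5,2,3,0]))) (.node (.node (.word [5,3,0,1]) (.word [1,2,3,5,4,2,3])) (.node (.word [4,2,0]) (.word [2,3,2,3])))) (.node (.node (.node (.word [4,3,1,2]) (.word [2,3,5,6,3,1])) (.node (.word [2]) (.word [2,3,5,2,3,2,0]))) (.node (.node (.word [5,6,3,1,2]) (.word [3,4,3,2,3,2,0])) (.node (.word [5,3,2,0,1]) (.word [6,1,2,3,1,2,3]))))) (.node (.node (.node (.node (.word [3,1,2,3,1,2,3,1,2,0]) (.word [2,3,6,3,4,3,0])) (.node (.word [3,2,3,5,1,2]) (.word [1,2,3,4,0]))) (.node (.node (.word [3,1,2,0,1]) (.word [6,1,2,3,5,2,3,4,1,2])) (.node (.word [6,1,2,3,4,1,2]) (.word [6,3,4,2,3,6,3])))) (.node (.node (.node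 (.word [2,3,1,2,0,1]) (.word [2,3,2,3,6,5,3,0])) (.node (.word [3,1]) (.word [1,2,3,6,5,2,3,4,1,2,0]))) (.node (.node (.word [6,3,5,6,3,1,2,1]) (.word [2,3,5,6,2])) (.node (.word [3,6,4,3,1,2,0,1]) (.word [5,6,2,3,2,3]))))))))

/-- A subtree. -/
def sub3 : WTree :=
  (.node (.node (.node (.node (.node (.node (.node (.word [3,6,1,2,3,5,0]) (.word [3,4,3,2,3,2])) (.node (.word [4,3,6,3,2]) (.word [5,1,2,3,6,4,3,0]))) (.node (.node (.word [6,4,2,3,0,1,2]) (.word [6,2,3,5,2,3,0])) (.node (.word [2,3,6,3,2,0]) (.word [1,2,3,5,6,1,2,3,0])))) (.node (.node (.node (.word [1,2,3,5,3,1]) (.word [1,2,3,1,2,3,2])) (.node (.word [6,3,0,1,2,0]) (.word [6,1,2,3,2,3]))) (.node (.node (.word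 [3,0,1,2]) (.word [4,3,5,1,2,3,0])) (.node (.word [6,3,5,4,1,2,3]) (.word [5,6,2,3,5,2,1]))))) (.node (.node (.node (.node (.word [5,2,3,6,4,2,3,0]) (.word [5,1,2,3,4,2])) (.node (.word [6,3,5,2,3,1,2,0,1]) (.word [1,2,3,6,5,2,0]))) (.node (.node (.word [2,3,6,1,2,3,5,3]) (.word [4,3,5,3,1,2,1])) (.node (.word [5,2,3,2,3,5,2,1]) (.word [2,3,6,2,3,1,2,3])))) (.node (.node (.node (.word [3,6,4,2,3,0]) (.word [3,5,3,4,2,0])) (.node (.word [6,4,3,1,2,0]) (.word [4,2,3,5,2,3,1,2,3,0]))) (.node (.node (.word [5,2]) (.word [2,3,6,2,3,4,2])) (.node (.word [6,3,5,2,3,1]) (.word [0,1,2,3,5,6,2,3])))))) (.node (.node (.node (.node (.node (.word [6,4,1,2,3,5,0]) (.word [6,2,3,4,2])) (.node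 (.word [3,6,3,2,3,4,1,2,0]) (.word [5,3,2,3,6,5,3]))) (.node (.node (.word [3,2,3,5,3]) (.word [2,3,5,2,3,1,2,3,0])) (.node (.word [6,3,0,1]) (.word [2,3,1,2,3,5,3,4,2])))) (.node (.node (.node (.word [6,5,1,2,3,2,3,4,1,2,0]) (.word [4,1,2,3,6,4,3])) (.node (.word [5,6,1,2,3,1,2,0]) (.word [2,3,6,2,3,5,2,3,2]))) (.node (.node (.word [6,4,3,2]) (.word [4,3,0,1,2,3,2])) (.node (.word [6,3,5,3,2,3,1,2,1]) (.word [6,5,3,2,3]))))) (.node (.node (.node (.node (.word [3,4,2,3,0,1,2]) (.word [3,5,2,1])) (.node (.word [6,1,2,3]) (.word [6,3,5,1,2,1]))) (.node (.node (.word [6,4,3,1,2,1]) (.word [6,4,3,2,3,5,1,2,1])) (.node (.word [2,3,6,2,3,4]) (.word [2,3,6,3])))) (.node (.node (.node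 (.word [6,2,3,2,3,4,1,2,0]) (.word [3,1,2,3,5,2,1])) (.node (.word [2,3,6,4,3,0]) (.word [5,2,3,1,2,3,6,5,2,0]))) (.node (.node (.word [5,4,2,0]) (.word [6,4,3,2,3,2,0])) (.node (.word [4,2,3,5,1,2,3,0]) (.word [4,3,1,2,3,5,6,3,0]))))))) (.node (.node (.node (.node (.node (.node (.word [3,2,3,4,2,3,1,2,1]) (.word [2,3,5,0,1,2])) (.node (.word [2,3,5,2,3,1,2,3,2]) (.word [3,2,3]))) (.node (.node (.word [5,6,2,3,1,2]) (.word [3,6,1,2,3,4,1,2])) (.node (.word [4,2,3,6,4,3]) (.word [3,4,3,2,3,5,1,2,1])))) (.node (.node (.node (.word [3,2,3,1,2,0,1]) (.word [6,3,5,2,3])) (.node (.word [5,1,2,3,2]) (.word [1,2,3,5,2,1]))) (.node (.node (.word [3,4,1,2,3,2]) (.word [5,3,2,3,5,1,2,1]))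 (.node (.word [5,4,3,1,2,0,1]) (.word [2,3,2,3,5,3,2,1]))))) (.node (.node (.node (.node (.word [3,4,2,3,1,2,1]) (.word [5,6,3,5,1,2])) (.node (.word [4,3,5,3,2,3,1,2,0,1]) (.word [4,3,2,3,5,6,3]))) (.node (.node (.word [2,3,4,1,2,0]) (.word [5,3,2,3,5,3,4,1,2,0])) (.node (.word [3,5,3,6,3,2]) (.word [6,1,2,3,5,6,3,0])))) (.node (.node (.node (.word [6,3,1,2,3,5,3,0]) (.word [4,3,2,3,6,3,0])) (.node (.word [5,6,3,1,2,0]) (.word [2,3,6,4,3,2,0,1]))) (.node (.node (.word [3,6,5,3,0]) (.word [2,3,6,4,3,2,0])) (.node (.word [5,0,1,2,3]) (.word [6,2,3,1,2,3,6,5,3])))))) (.node (.node (.node (.node (.node (.word [3,2,3,1,2,3,6,1,2,3,0,1]) (.word [2,3,6,4,3,2])) (.node (.word [3,2,1])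 (.word [6,4,3,5,2,3]))) (.node (.node (.word [2,3,4,2,3,5,0]) (.word [2,3,5,6,2,3,0,1,2,0])) (.node (.word [5,4,2,3,0]) (.word [2,3,5,3,4,2])))) (.node (.node (.node (.word [5,6,3,5]) (.word [6,3,5,6,3,0])) (.node (.word [6,3,4,1,2]) (.word [5,6,3,5,6,2,3]))) (.node (.node (.word [3,5,6,2,3,1,2]) (.word [5,3,2,3,2])) (.node (.word [1,2,3,5,3,2,3,1,2,0,1]) (.word [1,2,3,2,3,5,3,2,3,2,0]))))) (.node (.node (.node (.node (.word [5,6,3,5,0]) (.word [4,3,5,6,3])) (.node (.word [2,3,5,1,2,3,0]) (.word [4,2,3,5,2,3,0]))) (.node (.node (.word [6,2,3,5,1,2,3,1]) (.word [6,4,3,2,3,4])) (.node (.word [6,1,2,3,5,4,1,2,3]) (.word [3,1,2,3,5,6,3,1])))) (.node (.node (.node (.word [1,2,3,1,2,3,5,1])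 (.word [3,1,2,3,5,2,3])) (.node (.word [6,5,3]) (.word [4,3,1,2,3,6,5,1,2,0]))) (.node (.node (.word [6,4,3,0]) (.word [3,4,3,2,3,5,3,1,2])) (.node (.word [6,3,4,2,3,5,1,2,1]) (.word [1,2,3,6,3]))))))))

/-- A subtree. -/
def sub4 : WTree :=
  (.node (.node sub0 sub1) (.node sub2 sub3))

/-- A subtree. -/
def sub5 : WTree :=
  (.node (.node (.node (.node (.node (.node (.node (.node (.word [3,2,3,1,2,3,4,2,3,1,2]) (.word [0,1,2,3,5,3,2,1])) (.word [3,6,5,2,3,0,1,2,0])) (.node (.word [2,3,2,3,5,2,3]) (.word [3,2,3,5,6,3,1,2,0]))) (.node (.node (.word [3,5,2,3,2,3,1,2,3,5,3,0]) (.word [5,2,3,2,3,5,4,1,2,0])) (.node (.word [6,2,3]) (.word [2,3,6,3,5,2,3,1])))) (.node (.node (.node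 (.word [2,3,5,3,0]) (.word [2,3])) (.node (.word [3,5,2,3,0,1,2]) (.word [6,2,3,5,3,2,3]))) (.node (.node (.word [4,1,2,3,0]) (.word [6,2,3,5,6,1,2,3,0])) (.node (.word [3,5,6,2,3,4,1,2]) (.word [1,2,3,1,2,3,6,3]))))) (.node (.node (.node (.node (.word [1,2,3,1,2,3,1,2,0]) (.word [3,5,1,2])) (.node (.word [3,5,4,3,1,2,1]) (.word [3,5,2,3,2,3,2]))) (.node (.node (.word [6,5,1,2,3,6,2]) (.word [6,3,5,6,1,2,3])) (.node (.word [2,3,4,2,3,6,3,0]) (.word [5,0,1,2,3,2,3])))) (.node (.node (.node (.word [2,3,5,3]) (.word [4,2,3,0,1])) (.node (.word [3,5,3,1,2]) (.word [5,6,3,5,1,2,1]))) (.node (.node (.word [6,5,2,3,1,2,0]) (.word [6,5,3,2,3,5,4,1,2])) (.node (.word [5,3,2,3,1,2,3,6,5,3])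 (.word [1,2,3,5,6,2,3,0])))))) (.node (.node (.node (.node (.node (.word [2,3,4,2,3,1,2]) (.word [4,2,3,6,2,3,1,2,1])) (.node (.word [3,5,6,3,1,2,0,1]) (.word [5,2,3,2,3,2]))) (.node (.node (.word [3,6,2,3,5,6,3,1,2]) (.word [6,3,5,4,2,3,0])) (.node (.word [5,3,6,4,3,0]) (.word [6,3,2,3,4,0])))) (.node (.node (.node (.word [6,5,2,3,2,3,1,2,0,1]) (.word [2,3,5,2,3,2,3,2])) (.node (.word [3,2,3,5,0,1,2]) (.word [5,1,2,3,1,2,3,0]))) (.node (.node (.word [6,1,2,3,1,2]) (.word [6,3,2,3,5,4,1,2,0])) (.node (.word [6,3,5,2,3,1,2,1]) (.word [6,2,3,5,1,2,1]))))) (.node (.node (.node (.node (.word [5,1,2,3,2,3,1,2,0,1]) (.word [6,3,5,3,6,3,2])) (.node (.word [6,4,3,5,2,3,1]) (.word [6,3,2,3,5,6,3])))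 (.node (.node (.word [3,5,3,2,3,4,3,1,2]) (.word [4,3,2,3,5,3,1,2])) (.node (.word [6,3,5,2,3,2]) (.word [6,3,2,3,6,3,0])))) (.node (.node (.node (.word [4,3,6,1,2,3,5,3]) (.word [4,3,5,4,3,2,1])) (.node (.word [2,3,5,6,3,0,1,2]) (.word [5,3,1,2,3]))) (.node (.node (.word [4,3,2,3,6,4,3]) (.word [3,2,3,5,4,3,2])) (.node (.word [3,1,2,3,6,2]) (.word [6,3,1,2,3,5,1,2,1]))))))) (.node (.node (.node (.node (.node (.node (.word [3,2,3,4,2,3,1,2]) (.word [2,3,1,2,3,2])) (.node (.word [5,4,2,3,2,0]) (.word [2,3,5,6,3,0]))) (.node (.node (.word [6,4,1,2,3,1,2]) (.word [6,3,5,6,3,2,0])) (.node (.word [2,3,6,5,3,0]) (.word [3,5,3,0,1,2,3,2])))) (.node (.node (.node (.word [1,2,3,5,6,1,2,3,2,0])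 (.word [6,3,2,3,2,3,5,1])) (.node (.word [5,1,2,3,6,2,0]) (.word [3,6,3,2,3,4,0]))) (.node (.node (.word [5,6,2,3,0,1,2]) (.word [1,2,3,6,4,3,2,0,1])) (.node (.word [2,1]) (.word [4,2,3,5,3,4,2]))))) (.node (.node (.node (.node (.word [1,2,3,5,3,0]) (.word [3,5,6,2,0])) (.node (.word [3,6,5,2,3,1,2,1]) (.word [1,2,3,5,6,3]))) (.node (.node (.word [1,2,3,4,1,2,3,5,0]) (.word [1,2,3,5,2,3,1,2,1])) (.node (.word [5,6,2,3,1]) (.word [1,2,3,5,3,2,3,2,3])))) (.node (.node (.node (.word [3,5,6,2,3,2,0]) (.word [2,3,6,0])) (.node (.word [5,3,6,2,3,1,2]) (.word [1,2,3,5,6,2,3,0,1,2,0]))) (.node (.node (.word [2,3,2,3,5,1]) (.word [3,2,3,2,3])) (.node (.word [6,3,1,2,3,2,3,5,1]) (.word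 [3,1,2,3,5,3,1,2,1])))))) (.node (.node (.node (.node (.node (.word [3,5,2,3,6,1,2,3,5]) (.word [5,3,4,2])) (.node (.word [6,5,2,3,4,1,2]) (.word [3,1,2,3,5,2,3,0]))) (.node (.node (.word [6,5,3,6,5,3,0]) (.word [4,3,5,1,2,3])) (.node (.word [4,3,5,2]) (.word [5,2,3,1,2,3])))) (.node (.node (.node (.word [4,1,2,3,1,2]) (.word [3,6,3,4,3])) (.node (.word [5,3,4,3,2]) (.word [6,2,3,2,3,6,3,2]))) (.node (.node (.word [6,3,1,2]) (.word [3,5,6,2,3,5,1,2])) (.node (.word [2,3,6,5,2,3,1,2,1]) (.word [4,3,5,2,3,2,3]))))) (.node (.node (.node (.node (.word [2,3,1,2,3,1,2,0]) (.word [4,2,3,6,4,3,0])) (.node (.word [5,0,1,2,3,2,0]) (.word [2,3,5,3,4,2,0]))) (.node (.node (.word [3,6,4,2,3,1,2,1])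 (.word [6,3,1,2,3,5,3,4,1,2])) (.node (.word [6,3,4,1,2,0]) (.word [4,2,3,6,3])))) (.node (.node (.node (.word [5,4,2,3,1,2,1]) (.word [6,4,2,3,2,3,5,2,1])) (.node (.word [5,2,3,1]) (.word [5,6,2,3,5,4,1,2]))) (.node (.node (.word [5,4,3,0]) (.word [2,3,5,1,2,3])) (.node (.word [3,5,3,2,3,0,1,2]) (.word [1,2,3,5,3,4,2]))))))))

/-- A subtree. -/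
def sub6 : WTree :=
  (.node (.node (.node (.node (.node (.node (.node (.word [2,3,1,2,3,4,2,3,0,1,2]) (.word [3,4,2,3,2,0])) (.node (.word [6,5,3,0,1,2]) (.word [4,1,2,3,6,5,3]))) (.node (.node (.word [2,3,0,1,2]) (.word [3,5,2,3,2,0])) (.node (.word [4,3,6,3,2,0]) (.word [2,3,0,1,2,3])))) (.node (.node (.node (.word [1,2,3,6,2,3,1]) (.word [5,1,2,3,2,3,2])) (.node (.word [0,1,2,0]) (.word [6,1,2,3,5,2,3,0]))) (.node (.node (.word [4,3,2,3,5,1,2]) (.word [2,3,1,2,3,0])) (.node (.word [6,4,3,5,4,2,3]) (.word [5,1,2,3,2,3,0]))))) (.node (.node (.node (.node (.word [5,6,2,3,5,0]) (.word [1,2,3,6,4,3,1,2])) (.node (.word [3,6,2,3,1,2,1]) (.word [2,3,6,5,1,2,0]))) (.node (.node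 (.word [3,6,2,3,0,1]) (.word [3,5,1,2,1])) (.node (.word [3,2,3,5,2,1]) (.word [3,1,2,3,5,6,1,2,3,0])))) (.node (.node (.node (.word [3,6,2,3,5,3,0]) (.word [4,3,5,3,2])) (.node (.word [1,2,3,4,2]) (.word [1,2,3,5,2,3,1,2,3,0]))) (.node (.node (.word [3,6,5,3,1]) (.word [6,3,4,1,2,3,2,0])) (.node (.word [5,6,3,5,2,3,1]) (.word [4,1,2,3,6,3])))))) (.node (.node (.node (.node (.node (.word [6,2,3,5,0]) (.word [3,6,5,1,2,3,1,2,0])) (.node (.word [6,2,3,4,1,2,0]) (.word [3,4,2,3,5,4,2]))) (.node (.node (.word [3,2,3,5,1]) (.word [5,3,6,2,3,4,1,2])) (.node (.word [2,3,0,1]) (.word [1,2,3,6,4,2,3,2])))) (.node (.node (.node (.word [5,3,2,3,4,1,2,3,5,0]) (.word [4,1,2,3,6,5,3,0]))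 (.node (.word [6,1,2,3,2,0]) (.word [2,3,5,3,2,3]))) (.node (.node (.word [3,2]) (.word [3,1,2,3,4])) (.node (.word [4,3,5,3,2,3,1,2,1]) (.word [5,2,3,2,3,0]))))) (.node (.node (.node (.node (.word [1,2,3,6,4,1,2,3]) (.word [4,2,3,6,3,5,3])) (.node (.word [4,1,2,3]) (.word [6,2,3,4,0]))) (.node (.node (.word [3,1,2,1]) (.word [4,2,3,6,5,1,2,3,1,2])) (.node (.word [3,6,2,3,2,0]) (.word [1,2,3,5,4,2])))) (.node (.node (.node (.word [6,3,2,3,4,3,1,2]) (.word [6,3,5,2,3,1,2,3,0])) (.node (.word [1]) (.word [3,0,1,2,3,6,5,3]))) (.node (.node (.word [5,1,2,0]) (.word [3,5,6,3,2,3])) (.node (.word [5,0,1,2]) (.word [4,1,2,3,5,1,2,1]))))))) (.node (.node (.node (.node (.node (.node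 (.word [5,3,6,1,2,3,5,0]) (.word [6,4,1,2,3,2,0])) (.node (.word [6,2,3,0,1]) (.word [2,3,5,4,2]))) (.node (.node (.word [5,2,3,1,2]) (.word [3,5,3,4,1,2,0])) (.node (.word [1,2,3,6,5,3,0,1]) (.word [3,6,2,3,1,2,3,5,2,1])))) (.node (.node (.node (.word [2,3,6,1,2,3,0,1]) (.word [4,3,5,6,2,3])) (.node (.word [6,3,4,1,2,3,2]) (.word [4,3,5,2,3,1,2,3,0]))) (.node (.node (.word [5,1,2,3,0,1,2,0]) (.word [4,2,3,5,3,1,2])) (.node (.word [4,3,5,4,3,1,2,1]) (.word [3,5,0,1,2,3,2,3]))))) (.node (.node (.node (.node (.word [2,3,2,3,4,3,1,2]) (.word [4,3,6,3,5,2,3,1,2])) (.node (.word [5,6,2,3,1,2,0,1]) (.word [6,3,4,3]))) (.node (.node (.word [1,2,3,1,2,3,5,3]) (.word [3,2,3,5,6,2,3,1,2,0]))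 (.node (.word [3,6,5,1,2,3,0,1,2]) (.word [1,2,3,5,6,3,0])))) (.node (.node (.node (.word [2,3,1,2,3,5,3,0]) (.word [1,2,3,6,2,3,4,0])) (.node (.word [4,1,2,0]) (.word [4,3,2,3,5,1,2,1]))) (.node (.node (.word [2,3,6,3,5,3,0]) (.word [3,5,6,3,5,2])) (.node (.word [3,5,4,1,2,3,0]) (.word [4,1,2,3,5,3,1,2,1])))))) (.node (.node (.node (.node (.node (.word [3,1,2,3,6,1,2,3,0,1]) (.word [4,3,5,4,3,2])) (.node (.word [1,2,3,0,1]) (.word [4,3,5,3,2,3,2]))) (.node (.node (.word [3,2,3,6,2,3,1]) (.word [3,6,1,2,3,5,2,3,1,2,1])) (.node (.word [3,6,0]) (.word [3,0,1,2,3,2,3])))) (.node (.node (.node (.word [3,6,2,3,2,3,0,1,2,0]) (.word [5,3,2,3,5,3,2,1])) (.node (.word [4,1,2]) (.word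 [6,4,3,2,3,6,2]))) (.node (.node (.word [3,5,2,3,1,2]) (.word [3,6,3,4,2,3,2])) (.node (.word [3,5,1,2,3,0,1]) (.word [6,2,3,1,2,3,5,2,1]))))) (.node (.node (.node (.node (.word [5,2,3,6,4,2,3]) (.word [5,6,3,1])) (.node (.word [5,3,0,1,2]) (.word [1,2,3,6,0]))) (.node (.node (.word [5,6,3,5,2,3,1,2,0,1]) (.word [3,2,3,6,5,1,2,0])) (.node (.word [4,3,5,3,2,3,4,1,2,0]) (.word [5,3,6,1,2,3,1,2,3])))) (.node (.node (.node (.word [6,5,3,2,3,1,2,0,1]) (.word [1,2,3,1,2,3,5,2,3])) (.node (.word [5,2,3]) (.word [6,5,3,2,3,5,1,2,1]))) (.node (.node (.word [1,2,3,4,2,3,5,0]) (.word [4,2,3,5,4,1,2])) (.node (.word [4,3,5,6,1,2,3]) (.word [3,5,1,2,3,6,5,2,0]))))))))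

/-- A subtree. -/
def sub7 : WTree :=
  (.node (.node (.node (.node (.node (.node (.node (.node (.word [2,3,6,1,2,3,5,0]) (.word [4,1,2,3,5,3,2,1])) (.word [3,0,1,2,3,2])) (.node (.word [3,6,5,1,2,3,2]) (.word [3,5,2,3,6,4,3,0]))) (.node (.node (.word [2,3,2,3,6,1,2,3,5,3,0]) (.word [3,5,2,3,2])) (.node (.word [6,5,0,1,2,3,2]) (.word [3,2,3,1,2,3,6,5,2,0])))) (.node (.node (.node (.word [6,1,2,3,5,3]) (.word [3,5,2,3])) (.node (.word [6,0,1,2,3,1,2]) (.word [3,2,3,6,3,0]))) (.node (.node (.word [3,6,2,3,5,6,3,4,1,2]) (.word [3,5,3,6,2,3,1,2,3])) (.node (.word [3,6,5,2,3,4,1,2]) (.word [2,3,1,2,3,6,5,3,0]))))) (.node (.node (.node (.node (.word [6,2,3,5]) (.word [6,4,3,1,2,3,2,0]))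 (.node (.word [4,3,1,2,0,1]) (.word [2,3,1,2,3,6,3]))) (.node (.node (.word [3,6,5,2,3,0]) (.word [6,5,3,2,0,1])) (.node (.word [3,5,6,3,4,2,0]) (.word [4,2,3,5,3,4,1,2])))) (.node (.node (.node (.word [3,5,6,3,5,0]) (.word [4,3,5,1,2])) (.node (.word [3,5,6,3,1,2]) (.word [6,2,3,1,2,3,6,2]))) (.node (.node (.word [3,6,3,5,3]) (.word [5,3,1,2,3,5,4,1,2])) (.node (.word [6,3,2,3,5,3,4,1,2]) (.word [2,3,5,3,2,3,2])))))) (.node (.node (.node (.node (.node (.word [1,2,3,4,2,3,0,1,2]) (.word [3,2,3,2,0])) (.node (.word [1,2,3,2,3,5,3]) (.word [6,3,5,4,3,6,2,0]))) (.node (.node (.word [3,5,3,1]) (.word [4,3,5,2,3,4,1,2])) (.node (.word [4,3,5,6,3,0]) (.word [5,4,3,2,3,2])))) (.node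 (.node (.node (.word [5,1,2,3,2,3,4,1,2,0]) (.word [6,3,5,4,2])) (.node (.word [3,6,5,1,2,3,1,2]) (.word [4,1,2,3,1,2,3,5,2,3]))) (.node (.node (.word [5,1,2,3,1,2,0]) (.word [1,2,3,2,3,5,4,1,2,0])) (.node (.word [1,2,3,5,4,2,3,1,2,1]) (.word [1,2,3,5,3,4,2,0]))))) (.node (.node (.node (.node (.word [5,1,2,3,2,3,4,3,1,2]) (.word [2,3,5,6,3,1,2,0])) (.node (.word [6,0,1,2,3]) (.word [2,3,6,5,2,3,1]))) (.node (.node (.word [2,3,5,6,3,4,1,2]) (.word [6,3,2,3,5,3,4,1,2,0])) (.node (.word [3,5,6,3,2]) (.word [6,3,2,3,5,6,3,0])))) (.node (.node (.node (.word [2,3,1,2,3,5,3]) (.word [3,5,2,3,4,2])) (.node (.word [4,3,6,3,5,3]) (.word [2,3,1,2,3,5,4,1,2,0]))) (.node (.node (.word [4,3,6,5,3,0])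 (.word [3,2,3,6,4,3,2])) (.node (.word [5,3,2,3,5,3,1,2]) (.word [1,2,3,1,2,3]))))))) (.node (.node (.node (.node (.node (.node (.word [1,2,3,1,2,3,6,1,2,3,0,1]) (.word [5,3,2,3,5,4,1,2])) (.node (.word [5,4,2,3,2]) (.word [4,3,2,3,6,5,3]))) (.node (.node (.word [3,1,2]) (.word [6,4,3,5,4,3,2])) (.node (.word [2,0,1]) (.word [5,3,1,2,3,5,1,2,1])))) (.node (.node (.node (.word [3,2,3,4,3,1,2]) (.word [5,3,2,3,2,3,5,3])) (.node (.word [3,4,2,3,2]) (.word [6,1,2,3,1,2,3,5,2,1]))) (.node (.node (.word [5,2,3,0,1,2,0]) (.word [3,5,0,1,2])) (.node (.word [6,5,3,2,1]) (.word [3,1,2,3,5,3,2,1]))))) (.node (.node (.node (.node (.word [5,1,2,3,6,4,1,2,3,0]) (.word [1,2,3,6,5,2,3,1,2]))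 (.node (.word [6,3,1,2,0,1]) (.word [5,3,1,2,3,5,3,2,1]))) (.node (.node (.word [2,3,5,6,3,4,1,2,0]) (.word [2,3,0,1,2,3,6,5,3])) (.node (.word [4,2,3,2,3,5,2,3]) (.word [4,2,3,5,2,3,2,3])))) (.node (.node (.node (.word [2,3,6,1,2,3,5,3,0]) (.word [3,5,4,2,3,0])) (.node (.word [4,3,6,5,2,3,1,2]) (.word [3,2,3,5,4,1,2,0]))) (.node (.node (.word [6,5,3,6,2,0]) (.word [3,5,3,1,2,3,2,0])) (.node (.word [3,1,2,3,0]) (.word [4,3,1,2,3,5,1,2,1])))))) (.node (.node (.node (.node (.node (.word [1,2,3,2,3,1,2,0,1]) (.word [3,6,3,4,3,2])) (.node (.word [6,2,3,5,4,1,2,3]) (.word [5,6,3,5,6,2]))) (.node (.node (.word [5,4,0]) (.word [2,3,6,5,2,3,4,1,2])) (.node (.word [3,4,0]) (.word [5,3,2,3,2,3]))))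 (.node (.node (.node (.word [5,4,2,3,1,2]) (.word [4,2,3,5,6,3])) (.node (.word [6,3,2]) (.word [3,5,3,2,3,2,0]))) (.node (.node (.word [6,5,3,1,2]) (.word [2,3,4])) (.node (.word [5,3,6,5,1,2,0]) (.word [1,2,3,5,3,2,3]))))) (.node (.node (.node (.node (.word [6,3,5]) (.word [5,2,3,6,5,3])) (.node (.word [4,3,6,2,0]) (.word [2,3,2,3,0]))) (.node (.node (.word [6,2,3,1,2,0,1]) (.word [6,3,5,6,1,2,3,1,2,0])) (.node (.word [6,5,2,3,4,1,2,0]) (.word [3,4,1,2,3,5,4,2])))) (.node (.node (.node (.word [6,3,2,3,1,2,0,1]) (.word [3,6,3,4,3,0])) (.node (.word [5,4,2]) (.word [0,1,2,3,5,2,3,4,1,2]))) (.node (.node (.word [6,3,5,6,3,4,2,0]) (.word [6,3,1,2,3,6,5,1,2,0])) (.node (.word [6,2,3,5,1,2])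 (.word [3,1,2,3,5,6,2,3,0]))))))))

/-- A subtree. -/
def sub8 : WTree :=
  (.node (.node (.node (.node (.node (.node (.node (.word [5,2,3,6,1,2,3,5,0]) (.word [3,2,3,2])) (.node (.word [6,5,2,3,2]) (.word [0,1,2,3,6,5,3]))) (.node (.node (.word [1,2,3,0,1,2,0]) (.word [5,6,3,5,2,3,0])) (.node (.word [4,2,3,6,2,0]) (.word [3,2,3,1,2,3,0])))) (.node (.node (.node (.word [1,2,3,5,3]) (.word [5,6,3,2,0,1])) (.node (.word [5,6,2,3,0,1,2,0]) (.word [4,3,6,2,3,4,0]))) (.node (.node (.word [6,4,3,0,1,2]) (.word [3,5,1,2,3])) (.node (.word [0,1,2,3,0]) (.word [4,1,2,3,5,4,2]))))) (.node (.node (.node (.node (.word [6,1,2,3,5,3,0]) (.word [3,5,4,3,1,2,0])) (.node (.word [3,5,6,2,3,1,2,1])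 (.word [5,2,3,6,5,2,0]))) (.node (.node (.word [6,2,3,5,6,3,1,2,1]) (.word [4,3,5,3,1,2,3,0])) (.node (.word [3,6,4,3,0]) (.word [2,3,2,3,1,2,3,0])))) (.node (.node (.node (.word [3,2,3,5,3,0]) (.word [2,3,4,0])) (.node (.word [1,2,3,5,0,1,2]) (.word [4,3,5,3,1,2,3]))) (.node (.node (.word []) (.word [6,3,5,6,2])) (.node (.word [3,6,3,5,1,2,3,1]) (.word [5,6,2,3,5,1,2,1])))))) (.node (.node (.node (.node (.node (.word [1,2,3,5,0]) (.word [3,6,4,3,2,0])) (.node (.word [6,2,3,4,1,2]) (.word [6,4,3,2,3,2,3,5,1]))) (.node (.node (.word [5,3,6,5,2,3]) (.word [4,2,3,5,2,3,4,1,2,0])) (.node (.word [3,5,1,2,0]) (.word [3,1,2,3,5,4,1,2])))) (.node (.node (.node (.word [6,3,2,3,0,1,2,0])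 (.word [5,3,1,2,3,5,6,3])) (.node (.word [5,4,3,2,0]) (.word [4,1,2,3,6,4,3,2]))) (.node (.node (.word [5,3,4,3,1,2]) (.word [5,3,0,1,2,3,2])) (.node (.word [6,4,3,1,2,3,2]) (.word [6,3,2,3,6,0]))))) (.node (.node (.node (.node (.word [2,3,1,2,3,0,1,2,0]) (.word [4,1,2,3,6,3,5,3])) (.node (.word [1,2,3,1]) (.word [6,2,3,5,2,1]))) (.node (.node (.word [5,2,3,1,2,1]) (.word [6,4,3,5,6,1,2,3])) (.node (.word [5,6,3,1,2,0,1]) (.word [4,3,5,3,2,3])))) (.node (.node (.node (.word [6,5,2,3,2,3,4,1,2,0]) (.word [4,3,2,3,5,2,1])) (.node (.word [2,3,6,5,3,1]) (.word [6,1,2,3,1,2,3,6,5,3]))) (.node (.node (.word [4,0]) (.word [4,3,2,3,5,4,1,2,0])) (.node (.word [2,3,6,4,3,0,1,2]) (.word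 [0,1,2,3,5,4,1,2]))))))) (.node (.node (.node (.node (.node (.node (.word [3,1,2,3,2,3,4,3,1,2]) (.word [6,3,5,1,2,3,1,2])) (.node (.word [6,2,3,5,6,3,4,1,2,0]) (.word [2,3,6]))) (.node (.node (.word [3,1,2,0]) (.word [3,6,5,2,3,4,1,2,0])) (.node (.word [2,3,6,3,4,3]) (.word [1,2,3,4])))) (.node (.node (.node (.word [6,3,4,2,3,1,2,1]) (.word [1,2,3,6,5,3,0])) (.node (.word [3,6,4,1,2,3,2]) (.word [6,3,1,2,3,5,2,1]))) (.node (.node (.word [5,4,1,2,3,2]) (.word [5,6,3,4,2,3,5,1,2,1])) (.node (.word [3,5,3,2,3,1,2,1]) (.word [3,6,5,2,3,2,3]))))) (.node (.node (.node (.node (.word [5,2,3,4,2,3,1,2,1]) (.word [4,3,6,5,2,3,1,2,0])) (.node (.word [3,6,2,3,5,1,2,3,1]) (.word [2,3,5,3,6,2,3])))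 (.node (.node (.word [6,3,2,3,4,1,2,0]) (.word [6,2,3,5,3,2,3,1,2,1])) (.node (.word [4,3,6,4,3,2]) (.word [3,1,2,3,5,6,3,0])))) (.node (.node (.node (.word [2,3,6,3,1,2,3,5,3]) (.word [0,1,2,3,2,3,2])) (.node (.word [3,5,6,2,3,1,2,0]) (.word [2,3,5,1,2,1]))) (.node (.node (.word [5,6,0]) (.word [3,6,3,2,3,4])) (.node (.word [5,1,2,3]) (.word [4,1,2,3,5,3,4,1,2])))))) (.node (.node (.node (.node (.node (.word [2,3,2,3,6,1,2,3,0,1]) (.word [3,5,3,4,1,2])) (.node (.word [6,4,3,2,1]) (.word [1,2,3,5,2,3,2,3,2]))) (.node (.node (.word [3,6,2,3,1]) (.word [6,2,3,5,2,3,1,2,1])) (.node (.word [6,3,5,6,3,4,1,2]) (.word [4,3,6,3,2,3,4])))) (.node (.node (.node (.word [6,2,3,5,3]) (.word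 [3,6,4,3,0,1])) (.node (.word [5,6,3,4,1,2]) (.word [4,3,6,2,3,4]))) (.node (.node (.word [3,2,0]) (.word [2,3,6,4,2,3,2])) (.node (.word [4,2,3,5,3,2,3,1,2,0,1]) (.word [1,2,3,5,3,2,1]))))) (.node (.node (.node (.node (.word [6,2,3,5,3,0]) (.word [5,4,2,3,1])) (.node (.word [3,6,4,3,0,1,2]) (.word [2,3,5,4,2,3]))) (.node (.node (.word [1,2,3,2,3,5,1]) (.word [3,6,3,5,2,3,1])) (.node (.word [3,6,2,3,4,1,2]) (.word [3,4,2,3,5,2,3,2])))) (.node (.node (.node (.word [6,4,1,2,3,0]) (.word [4,3,2,3,5,2,3])) (.node (.word [6,3,5,4,3,2,0,1]) (.word [3,1,2,3,6,5,1,2,0]))) (.node (.node (.word [6,5,2,3,0]) (.word [2,3,2,3,6,5,1,2,0])) (.node (.word [2,3,4,2,3,5,1,2,1]) (.word [3,6,1,2,3,1,2,3]))))))))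

/-- A subtree. -/
def sub9 : WTree :=
  (.node (.node sub5 sub6) (.node sub7 sub8))

/-- A subtree. -/
def sub10 : WTree :=
  (.node (.node (.node (.node (.node (.node (.node (.node (.word [2,3,2,3,6,1,2,3,5,0]) (.word [6,2,3,1,2,3,6,5,3,0])) (.word [5,6,3,0,1,2,0])) (.node (.word [1,2,3,2,3,5,3,0]) (.word [5,2,3,6,2,3,1,2,3]))) (.node (.node (.word [1,2,3,5,6,3,4,1,2]) (.word [3,2,3,6,5,2,3,1,2,1])) (.node (.word [6,4,3]) (.word [6,3,1,2,3,4])))) (.node (.node (.node (.word [4,2,3,5,3,0]) (.word [3,4])) (.node (.word [6,3,2,3,0,1,2]) (.word [6,2,3,5,3,1,2,3]))) (.node (.node (.word [6,5,1,2,3,0]) (.word [2,3,1,2,3,6,5,2,0])) (.node (.word [4,3,5,2,3,4,1,2,0]) (.word [6,3,1,2,3,6,5,3,0])))))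 (.node (.node (.node (.node (.word [2,3,4,1,2,3,1,2]) (.word [1,2,3,6,2,3,4])) (.node (.word [6,3,1,2,1]) (.word [3,1,2,3,6,5,3,0]))) (.node (.node (.word [3,5,6,1,2,3,2,0]) (.word [6,3,5,4,2,3])) (.node (.word [3,4,3,2,3,6,3,0]) (.word [5,2,3,0,1,2,3])))) (.node (.node (.node (.word [2,3,5,3,1]) (.word [4,3,5,2,3,0,1])) (.node (.word [5,1,2]) (.word [2,3,5,3,4,1,2,0]))) (.node (.node (.word [6,3,1,2,0]) (.word [5,4,3,1,2,3,2])) (.node (.word [5,6,3,5,1,2,3,1]) (.word [3,1,2,3,1,2,3,0])))))) (.node (.node (.node (.node (.node (.word [3,2,3,4,2,3,0,1,2]) (.word [5,2,3,6,2,3,1,2,1])) (.node (.word [5,3,2,3,1,2,3,5,3,0]) (.word [3,5,4,2,3]))) (.node (.node (.word [2,3,2,3,1,2,3,1,2,0])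 (.word [4,2,3,5,3,2,3,4,1,2,0])) (.node (.word [4,2,3,6,5,3,0]) (.word [3,1,2,3,4,0])))) (.node (.node (.node (.word [5,6,2,3,2,3,1,2,0,1]) (.word [3,5,2,3,6,4,3])) (.node (.word [5,3,1,2,3,1,2]) (.word [5,3,1,2,3,1,2,3,0]))) (.node (.node (.word [5,1,2,3,1,2]) (.word [6,3,4,1,2,3,5,1,2,1])) (.node (.word [4,3,5,2,3,1,2,1]) (.word [6,1,2,3,4,0]))))) (.node (.node (.node (.node (.word [1,2,3,2,3,4,1,2,0]) (.word [6,3,5,6,2,3,1,2,0])) (.node (.word [3,6,2,3,5,2,3,4,1,2]) (.word [2,3,2,3,5,6,3]))) (.node (.node (.word [6,2,3,4,3,1,2]) (.word [6,5,3,1,2,3,2])) (.node (.word [3,2,3,6,3,2]) (.word [6,3,4,2,3,6,4,3,0])))) (.node (.node (.node (.word [1,2,3,5,6,3,4,1,2,0]) (.word [6,3,5,4,3,6,2]))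 (.node (.word [6,2,3,5,6,3,1,2,0]) (.word [5,2,3,1,2,3,0]))) (.node (.node (.word [2,3,6,4,3]) (.word [6,3,2,3,2,3])) (.node (.word [5,3,0,1,2,3,2,0]) (.word [6,5,3,1,2,3,5,1,2,1]))))))) (.node (.node (.node (.node (.node (.node (.word [2,3,1,2,3,6,4,1,2,3,0]) (.word [3,6,3,4,1,2,3,2])) (.node (.word [4,2,3,6,2]) (.word [2,3,6,4,3,0,1]))) (.node (.node (.word [5,4,1,2,3,1,2]) (.word [6,3,2,3,6,2])) (.node (.word [3,2,3,6,3,4,3]) (.word [3,5,3,1,2,3])))) (.node (.node (.node (.word [5,1,2,3,6,1,2,3,1]) (.word [5,3,2,3,2,3,5,1])) (.node (.word [0,1,2,3,2]) (.word [5,3,6,2,3,4,0]))) (.node (.node (.word [6,2,3,0,1,2]) (.word [6,3,1,2,3,6,2])) (.node (.word [6,4,3,2,0,1]) (.word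 [5,3,2,3,5,4,2]))))) (.node (.node (.node (.node (.word [4,1,2,3,5,3,0]) (.word [3,6,2,3,4,2])) (.node (.word [4,3,6,2,3,1,2,0,1]) (.word [4,3,5,3,4,2]))) (.node (.node (.word [1,2,3,5,6,3,4,2]) (.word [3,2,3,5,3,1,2])) (.node (.word [6,3,1]) (.word [3,5,1,2,3,6,4,3,0])))) (.node (.node (.node (.word [5,3,6,2,3,1]) (.word [3,6,3,0])) (.node (.word [3,5,0,1,2,0]) (.word [6,3,1,2,3,5,3,1,2,1]))) (.node (.node (.word [3,6,3,2,3,5,3]) (.word [3,5,6,2,3,5,4,1,2])) (.node (.word [5,3,1,2,3,2,3,5,1]) (.word [6,2,3,0,1,2,3,5,2,1])))))) (.node (.node (.node (.node (.node (.word [5,1,2,3,6,4,2,3,0]) (.word [4,2])) (.node (.word [3,6,2,3,4,3,1,2]) (.word [3,5,6,2,3]))) (.node (.node (.word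 [3,2,3,6,4,3]) (.word [4,3,5,4,2,3])) (.node (.word [3,5,3,2,0]) (.word [3,1,2,3,6,4,3,2,1])))) (.node (.node (.node (.word [3,1,2,3,0,1,2,0]) (.word [4,3,6,4,3])) (.node (.word [3,4,2]) (.word [1,2,3,2,3,6,3,2]))) (.node (.node (.word [5,3,1,2]) (.word [5,2,3,6,2,3,4,1,2])) (.node (.word [4,3,6,3,2,3,1,2,1]) (.word [5,6,1,2,3,2,3]))))) (.node (.node (.node (.node (.word [3,2,3,1,2,0]) (.word [1,2,3,6,5,3,1])) (.node (.word [1,2,3,6,2]) (.word [4,2,3,5,2,1]))) (.node (.node (.word [5,6,2,3,1,2,1]) (.word [1,2,3,5,6,2,3,1,2,0])) (.node (.word [5,3,4,1,2,0]) (.word [6,5,2,3,2,3,2])))) (.node (.node (.node (.word [2,3,1,2,1]) (.word [6,2,3,2,3,6,5,3,0])) (.node (.word [4,3,6,5,3])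 (.word [5,1,2,3,6,5,1,2,0]))) (.node (.node (.word [5,2,3,0]) (.word [3,5,1,2,3,4,2])) (.node (.word [6,4,3,0,1,2,0]) (.word [5,1,2,3,2,3]))))))))

/-- A subtree. -/
def sub11 : WTree :=
  (.node (.node (.node (.node (.node (.node (.node (.node (.word [3,1,2,3,4,2,3,1,2]) (.word [6,1,2,3,5,6,2,3])) (.word [3,5,6,0,1,2,3,1,2])) (.node (.word [5,6,1,2,3,2]) (.word [1,2,3,6,3,4,3,0]))) (.node (.node (.word [4,3,0,1,2]) (.word [6,2,3,5,2,3,2])) (.node (.word [5,3,6,3,2,0]) (.word [5,3,6,2,3,1,2,3])))) (.node (.node (.node (.word [3,4,1,2,3,5,0]) (.word [5,2,3,1,2,3,2])) (.node (.word [3,6,2,0]) (.word [4,2,3,6,3,0]))) (.node (.node (.word [5,0,1,2,3,1,2,0]) (.word [2,3,5,6,1,2,3,0]))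 (.node (.word [3,6,2,3,5,2,3,1,2,1]) (.word [5,3,2,3,6,3]))))) (.node (.node (.node (.node (.word [6,4,2,3,5,0]) (.word [3,5,6,3,1,2,0])) (.node (.word [3,5,2,3,1,2,1]) (.word [2,3,5,2,3,2,3,0]))) (.node (.node (.word [5,6,2,3,2,0]) (.word [6,5,3,4,2,0])) (.node (.word [1,2,3,2,3,5,2,1]) (.word [2,3,5,3,1,2,3])))) (.node (.node (.node (.word [3,5,3,0]) (.word [5,6,3,5,2])) (.node (.word [6,5,3,1,2,0]) (.word [3,2,3,1,2,3,6,5,3,0]))) (.node (.node (.word [6,5,3,6,5,3]) (.word [3,4,3,1,2,3,2,0])) (.node (.word [6,2,3,5,2,3,4,1,2]) (.word [6,3,4,2,3,6])))))) (.node (.node (.node (.node (.node (.word [3,6,2,3,5]) (.word [3,5,1,2,3,2,0])) (.node (.word [5,2,3,4,1,2,0]) (.word [3,1,2,3,6,5,2,0])))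 (.node (.node (.word [3,6,2,3,5,3]) (.word [4,3,6,2,3,4,1,2])) (.node (.word [2,3,5,4,3,0]) (.word [5,6,3,2,3,2])))) (.node (.node (.node (.word [2,3,1,2,3,5,1]) (.word [1,2,3,6,3,4,3])) (.node (.word [5,1,2,3,2,0]) (.word [4,2,3,5,2,3]))) (.node (.node (.word [3,4,3,2]) (.word [4,3,5,6,2,3,0,1,2,0])) (.node (.word [4,2,3,5,2,3,1,2,0,1]) (.word [1,2,3,4,3,0]))))) (.node (.node (.node (.node (.word [1,2,3,6,1,2,3,1]) (.word [3,2,3,6,3,5,3])) (.node (.word [5,1,2,3,0]) (.word [4,3,6,3,0]))) (.node (.node (.word [4,3,2,1]) (.word [3,5,3,2,3,6,5,1,2,0])) (.node (.word [6,4,2,3,2,0]) (.word [4,2,3,6])))) (.node (.node (.node (.word [5,3,2,3,4,3,1,2]) (.word [4,1,2,3,2,3,5,2,1]))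 (.node (.word [5,6]) (.word [2,3,1,2,3,6,5,3]))) (.node (.node (.word [3,0,1]) (.word [4,3,5,3,4,1,2])) (.node (.word [3,5,4,3,6,2]) (.word [2,3,1,2,3,5,3,1,2,1]))))))) (.node (.node (.node (.node (.node (.node (.word [3,6,1,2,3,5]) (.word [3,4,1,2,3,2,0])) (.node (.word [6,2,3,2,0]) (.word [4,3,6]))) (.node (.node (.word [3,2,3,1,2]) (.word [5,3,1,2,3,2,3,5,3])) (.node (.word [4,3,1,2,3,6,4,3]) (.word [6,3,1,2,3,5,4,1,2,0])))) (.node (.node (.node (.word [6,2,3,2,3,4,3,1,2]) (.word [3,5,3,6,2,0])) (.node (.word [3,4,3,1,2,3,2]) (.word [3,5,2,3,1,2,3,0]))) (.node (.node (.word [0,1,2,3,1,2]) (.word [1,2,3,6,4,3,0,1,2])) (.node (.word [3,5,3,1,2,3,0]) (.word [5,3,6,5,2,3,2,3])))))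 (.node (.node (.node (.node (.word [3,6,2,3,1,2,3,5,3]) (.word [3,4,2,3,5,4,1,2])) (.node (.word [3,6,2,3,1,2,0,1]) (.word [4,3,6,3]))) (.node (.node (.word [6,1,2,3,1,2,3,5,3,0]) (.word [1,2,3,1,2,3,6,5,3])) (.node (.word [5,4,1,2,3,2,0]) (.word [1,2,3,6,4,3,0,1])))) (.node (.node (.node (.word [2,3,4,1,2,3,5,0]) (.word [3,2,3,1,2,3,2])) (.node (.word [6,3,2,0]) (.word [6,2,3,5,6,1,2,3]))) (.node (.node (.word [5,2,3,6,2,0]) (.word [2,3,5,4,3,2,0])) (.node (.word [5,4,1,2,3]) (.word [0,1,2,3,5,3,1,2,1])))))) (.node (.node (.node (.node (.node (.word [1,2,3,2,3,4,3,1,2]) (.word [2,3,5,4,3,2])) (.node (.word [3,6,1,2,3,2,0]) (.word [4,2,3,5,2,3,2]))) (.node (.node (.word [6,3,5,6,3,2,1])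 (.word [6,5,3,1,2,3,5,4,1,2,0])) (.node (.word [6,3,0]) (.word [6,1,2,3,2,3,2])))) (.node (.node (.node (.word [3,2,3,1,2,3,1,2,0]) (.word [3,2,3,5,6,3])) (.node (.word [6,5,3,2]) (.word [6,5,3,2,3,4,0]))) (.node (.node (.word [6,3,2,3,1,2]) (.word [4,3,2,3,2])) (.node (.word [3,6,5,2,3,1,2,0,1]) (.word [5,2,3,1,2,3,5,2,1]))))) (.node (.node (.node (.node (.word [2,3,5]) (.word [6,5,2,3,1])) (.node (.word [0,1,2]) (.word [2,3,6,3,0]))) (.node (.node (.word [2,3,5,3,4,2,3,1,2,1]) (.word [4,3,2,3,6,5,1,2,0])) (.node (.word [2,3,5,3,2,3,4,1,2,0]) (.word [6,3,2,3,6,4,3,2,1])))) (.node (.node (.node (.word [3,6,3,4,2,3,1,2,1]) (.word [6,3,4])) (.node (.word [6]) (.word [6,3,2,3,5,1,2,1])))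 (.node (.node (.word [2,3,5,6,3,4,2]) (.word [3,2,3,5,6,1,2,3,0])) (.node (.word [3,2,3,5,3,1,2,0]) (.word [1,2,3,5,2,3,2,3]))))))))

/-- A subtree. -/
def sub12 : WTree :=
  (.node (.node (.node (.node (.node (.node (.node (.node (.word [2,3,1,2,3,4,2,3,1,2]) (.word [0,1,2,3,5,1,2,1])) (.word [4,3,1,2,3,6,2,0])) (.node (.word [6,5,1,2,3,0,1,2]) (.word [2,3,2,3,6,3,0]))) (.node (.node (.word [3,4,2,3,6,1,2,3,5,3]) (.word [3,5,6,2])) (.node (.word [3,2,3,2,3,5,3]) (.word [2,3,4,1,2,3,5,4,2])))) (.node (.node (.node (.word [2,3,5,6,2,3,2,0]) (.word [3,6])) (.node (.word [1,2,3,6,3,2,0]) (.word [3,6,2,3,2,3]))) (.node (.node (.word [5,2,3,2,3,1,2,3,5,3,0]) (.word [6,1,2,3,2,3,6,5,3]))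 (.node (.word [1,2,3,5,4,1,2,3]) (.word [2,3,1,2,3,5,6,2,3]))))) (.node (.node (.node (.node (.word [1,2,3,1,2,3,0,1,2,0]) (.word [6,3,2,3,2,0])) (.node (.word [6,5,3,1,2,1]) (.word [3,2,3,5,6,2,3]))) (.node (.node (.word [3,6,5,2,3,2]) (.word [3,6,4,3,2,0,1])) (.node (.word [2,3,6,2,3,4,0]) (.word [1,2,3,5,3,4,1,2])))) (.node (.node (.node (.word [4,3,5,0]) (.word [6,3,5,1,2])) (.node (.word [2,3,1,2,3,2,0]) (.word [6,3,2,3,5,2,3,1,2,1]))) (.node (.node (.word [6,2,3,5,6,3,1,2]) (.word [5,6,3,1,2,3,2])) (.node (.word [3,5,6,1,2,3,1,2,0]) (.word [1,2,3,6,2,3,5,2,3,2])))))) (.node (.node (.node (.node (.node (.word [1,2,3,2,3,1,2,0]) (.word [3,6,3,5,1,2,3,1,2])) (.node (.word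 [6,1,2,3,2,3,5,3,0]) (.word [2,3,5,4,3,2,0,1]))) (.node (.node (.word [3,5,6,3,5]) (.word [2,3,5,2,3,4,1,2])) (.node (.word [6,4,3,0,1]) (.word [4,2,3,2,3,2])))) (.node (.node (.node (.word [2,3,6,4,1,2,3]) (.word [2,3,6,5,2,0])) (.node (.word [3,5,6,1,2,3,1,2]) (.word [6,2,3,4]))) (.node (.node (.word [1,2,3,2,0]) (.word [1,2,3,2,3,5,3,1,2,1])) (.node (.word [5,3,6,2,3,1,2,1]) (.word [4,1,2,3,5,2,1]))))) (.node (.node (.node (.node (.word [5,4,3,2,3,1,2,3,5,1]) (.word [2,3,5,6,3,0,1,2,0])) (.node (.word [3,1,2,3,2,3,5,1]) (.word [4,1,2,3,5,6,3,0]))) (.node (.node (.word [6,5,3,2,3,4,1,2,0]) (.word [1,2,3,5,2,3,1,2,0,1])) (.node (.word [3,2,3,6,2]) (.word [3,1,2,3,6,3,0]))))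 (.node (.node (.node (.word [6,2,3,1,2,3,5,3,0]) (.word [6,3,5,6,3,5,2])) (.node (.word [2,3,6,3,5,3]) (.word [0,1,2,3,5,2,3,1,2,1]))) (.node (.node (.word [6,5,3,0,1]) (.word [1,2,3,6,4,3,2])) (.node (.word [2,3,5,1,2]) (.word [6,1,2,3,5,6,2,3,0]))))))) (.node (.node (.node (.node (.node (.node (.word [5,3,1,2,3,4,2,3,1,2]) (.word [3,5,1,2,3,2])) (.node (.word [6,2,3,2]) (.word [2,3,1,2,3,6,3,0]))) (.node (.node (.word [3,4,3,1,2]) (.word [5,6,3,5,4,3,2])) (.node (.word [5,6,2,0]) (.word [2,3,5,4,3,6,2,0])))) (.node (.node (.node (.word [6,2,3,1,2,3,5,3]) (.word [4,3,2,3,2,3,5,3])) (.node (.word [4,2,3,2,0]) (.word [6,2,3,5,2,3,1,2,3,0]))) (.node (.node (.word [3,0,1,2,0])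 (.word [1,2,3,5,2,3,0])) (.node (.word [3,6,4,3,2,1]) (.word [4,3,1,2,3,5,6,3]))))) (.node (.node (.node (.node (.word [5,1,2,3,6,4,2,3]) (.word [4,3,2,3,5,3,1,2,0])) (.node (.word [5,3,1,2,0,1]) (.word [1,2,3,5,6,3,1]))) (.node (.node (.word [2,3,5,6,3,1,2,0,1]) (.word [3,2,3,1,2,3,6,5,3])) (.node (.word [3,2,3,5,2,3]) (.word [6,2,3,2,3,6,3,0])))) (.node (.node (.node (.word [3,1,2,3,5,1]) (.word [3,5,3,2,3,0])) (.node (.word [2,3,6,5,2,3,1,2]) (.word [3,2,3,5,3,1,2,1]))) (.node (.node (.word [5,6,0,1,2,3,2]) (.word [5,4,3,1,2,3,2,0])) (.node (.word [3,5,6,1,2,3,0]) (.word [6,1,2,3,5,6,1,2,3])))))) (.node (.node (.node (.node (.node (.word [3,2,3,6,4,1,2,3,0]) (.word [5,6,3,4,2]))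 (.node (.word [6,4,3,5,4,1,2,3]) (.word [4,2,3,6,4,3,2,0]))) (.node (.node (.word [5,2,0]) (.word [4,3,6,1,2,3,4,1,2])) (.node (.word [6,2,0]) (.word [4,3,2,3,2,3])))) (.node (.node (.node (.word [2,3,1,2]) (.word [2,3,6,4,3,1])) (.node (.word [5,3,2]) (.word [5,6,2,3,5,2,3,2]))) (.node (.node (.word [3,6,4,3,1,2]) (.word [6,3,4,2,3,2,0])) (.node (.word [6,3,2,0,1]) (.word [0,1,2,3,2,3]))))) (.node (.node (.node (.node (.word [3,6,1,2,3,2,3,0,1,2,0]) (.word [2,3,6,2,3,4,3])) (.node (.word [5,3,2,3,5,1,2]) (.word [2,3,4,3,0]))) (.node (.node (.word [5,2,3,1,2,0,1]) (.word [4,3,5,6,1,2,3,1,2,0])) (.node (.word [3,5,2,3,4,1,2,0]) (.word [1,2,3,2,3,0])))) (.node (.node (.node (.word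 [5,3,2,3,1,2,0,1]) (.word [4,3,6,4,3,0])) (.node (.word [3,5,2]) (.word [3,1,2,3,6,5,1,2,3,1,2]))) (.node (.node (.word [6,3,5,4,3,2,1]) (.word [4,3,5,1,2,1])) (.node (.word [6,3,5,2,3,0,1,2]) (.word [6,3,1,2,3,5,6,3,0]))))))))

/-- A subtree. -/
def sub13 : WTree :=
  (.node (.node (.node (.node (.node (.node (.node (.word [2,3,6,1,2,3,5]) (.word [6,3,4,2,3,2])) (.node (.word [5,3,6,2]) (.word [1,2,3,6,2,3,4,3]))) (.node (.node (.word [2,3,0,1,2,0]) (.word [6,4,3,5,2,3,0])) (.node (.word [5,4,2,3,6,2,0]) (.word [1,2,3,1,2,3,0])))) (.node (.node (.node (.word [3,1,2,3,5,3,0]) (.word [3,5,4,3,2,0,1])) (.node (.word [6,5,2,3,0,1,2,0]) (.word [6,5,3,2,3,2,3]))) (.node (.node (.word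 [5,4,3,0,1,2]) (.word [3,5,6,1,2,3])) (.node (.word [5,3,6,1,2,3]) (.word [1,2,3,6,5,1,2,0]))))) (.node (.node (.node (.node (.word [6,1,2,3,5,1]) (.word [6,1,2,3,4,2])) (.node (.word [4,3,5,2,3,1,2,0,1]) (.word [3,2,3,5,4,2]))) (.node (.node (.word [3,6,3,1,2,3,5,3]) (.word [5,3,1,2,3,0])) (.node (.word [6,2,3,2,3,5,2,1]) (.word [5,3,2,3,1,2,3,0])))) (.node (.node (.node (.word [2,3,6,2,3,1]) (.word [4,3,5,2,1])) (.node (.word [3,5,3,2,3,1,2]) (.word [2,3,5,3,2,3,1,2,3,0]))) (.node (.node (.word [5,4]) (.word [3,5,2,3,1,2,3])) (.node (.word [6,3,1,2,3,6,2,0]) (.word [1,2,3,5,3,4,1,2,0])))))) (.node (.node (.node (.node (.node (.word [5,6,1,2,3,5,0]) (.word [3,5,4,3,2,0])) (.node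 (.word [5,2,3,4,1,2]) (.word [6,2,3,2,3,6,5,3]))) (.node (.node (.word [5,3,6,4,1,2,3]) (.word [3,2,3,5,2,3,4,1,2,0])) (.node (.word [5,0,1,2,0]) (.word [1,2,3,6,5,1,2,3,1])))) (.node (.node (.node (.word [2,3,4,2,3,6,1,2,3,5,3]) (.word [5,1,2,3,6,4,3])) (.node (.word [2,3,4,2]) (.word [2,3,4,2,3,5,2,3,2]))) (.node (.node (.word [3,4,1,2]) (.word [2,3,0,1,2,3,2])) (.node (.word [4,3,5,2,3,1]) (.word [1,2,3,6,3,0]))))) (.node (.node (.node (.node (.word [2,3,2,3,0,1,2,0]) (.word [5,6,2])) (.node (.word [5,6,1,2,3,1]) (.word [2,3,5,4,1,2,0]))) (.node (.node (.word [3,2,3,1,2,1]) (.word [5,6,3,5,6,1,2,3])) (.node (.word [5,3,1,2,3,1,2,3,5,3,0]) (.word [1,2,3,6])))) (.node (.node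 (.node (.word [5,6,2,3,2,3,4,1,2,0]) (.word [2,3,5,2,1])) (.node (.word [6,5,2,3,6,5,3]) (.word [5,6,2,3,1,2,3]))) (.node (.node (.word [2,0]) (.word [5,4,2,3,1,2,3,2])) (.node (.word [3,5,6,3,0,1,2]) (.word [3,5,1,2,3,2,3]))))))) (.node (.node (.node (.node (.node (.node (.word [1,2,3,4,2,3,1,2,1]) (.word [2,3,5,1,2,3,1,2])) (.node (.word [6,2,3,5,6,3,4,1,2]) (.word [3,6,3]))) (.node (.node (.word [6,5,2,3,1,2]) (.word [2,3,5,2,3,4,1,2,0])) (.node (.word [5,2,3,6,4,3]) (.word [4,2,3,5,1,2,1])))) (.node (.node (.node (.word [5,3,4,2,3,1,2,1]) (.word [4,1,2,3,2,3,6,3])) (.node (.word [6,1,2,3,2]) (.word [5,3,1,2,3,5,2,1]))) (.node (.node (.word [1,2,3,2]) (.word [3,6,4,1,2,3,2,0]))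 (.node (.word [6,4,3,1,2,0,1]) (.word [5,3,2,3,6,3,0]))))) (.node (.node (.node (.node (.word [2,3,2,3,1,2,0,1]) (.word [2,3,6,5,2,3,1,2,0])) (.node (.word [6,3,5,1,2,3,0,1]) (.word [6,3,4,2,3,6,4,3]))) (.node (.node (.word [5,3,2,3,4,1,2,0]) (.word [1,2,3,5,6,2,3,1,2,1])) (.node (.word [3,6,3,2]) (.word [6,1,2,3,2,3,6,3,0])))) (.node (.node (.node (.word [5,2,3,6,4,1,2,3]) (.word [3,4,2,3,6,3,0])) (.node (.word [3,6,5,2,3,1,2,0]) (.word [3,2,3,6,4,3,2,1]))) (.node (.node (.word [6,5,2,0]) (.word [3,5,3,4,2])) (.node (.word [5,1,2,3,1]) (.word [6,3,4,1,2,3,5,4,2])))))) (.node (.node (.node (.node (.node (.word [2,3,4,2,3,0,1,2]) (.word [5,4,1,2])) (.node (.word [5,4,3,2,1])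 (.word [5,6,3,5,2,3]))) (.node (.node (.word [6,4,2,3,0]) (.word [5,3,2,3,5,4,1,2,0])) (.node (.word [5,6,3,0]) (.word [5,6,3,2,3,2,3])))) (.node (.node (.node (.word [3,5]) (.word [3,5,3,6,2,3])) (.node (.word [3,5,3,4,3,1,2]) (.word [3,6,1,2,3,4]))) (.node (.node (.word [3,6,5,2,3,1,2]) (.word [6,3,2,3,2])) (.node (.word [2,3,5,6,2,3,4,1,2]) (.word [1,2,3,5,1,2,1]))))) (.node (.node (.node (.node (.word [3,5,0]) (.word [3,5,2,3,1])) (.node (.word [5,6,3,0,1,2]) (.word [2,3,5,3,2,3,0]))) (.node (.node (.word [3,5,6,3,1,2,1]) (.word [6,3,2,3,6,2,0])) (.node (.word [3,5,2,3,4,1,2]) (.word [6,3,2,3,5,6,3,1])))) (.node (.node (.node (.word [3,6,5,2,3,2,3,1,2,0,1]) (.word [2,3,5,2,3]))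 (.node (.word [3,5,2,3,1,2,3,2]) (.word [3,1,2,3,5,3,4,1,2]))) (.node (.node (.word [6,2,3,0]) (.word [2,3,4,2,3,5,3,1,2])) (.node (.word [4,3,6,5,2,3,0,1,2]) (.word [3,2,3,5,3,2,3,2]))))))))

/-- A subtree. -/
def sub14 : WTree :=
  (.node (.node sub10 sub11) (.node sub12 sub13))

/-- A subtree. -/
def sub15 : WTree :=
  (.node (.node (.node (.node (.node (.node (.node (.node (.word [3,2,3,6,1,2,3,5,0]) (.word [4,1,2,3,5,3,4,2])) (.word [3,5,6,2,3,0,1,2,0])) (.node (.word [6,2,3,2,3,5,3,0]) (.word [3,1,2,3,6,3,5,3]))) (.node (.node (.word [6,3,4,2,3,6,1,2,3,5,3]) (.word [4,2,3,6,4,3,2])) (.node (.word [6,5,2,3]) (.word [1,2,3,6,3,5,1,2,3,1])))) (.node (.node (.node (.word [5,3,6,4,2,3,0])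 (.word [4,3])) (.node (.word [2,3,5,1,2,0]) (.word [4,3,1,2,3,6,3,0]))) (.node (.node (.word [6,1,2,3,1]) (.word [4,2,3,1,2,3,2,3,5,1])) (.node (.word [4,3,5,4,1,2,3]) (.word [1,2,3,5,2,3,2,3,0]))))) (.node (.node (.node (.node (.word [6,1,2,3,2,3,0,1,2,0]) (.word [2,3,5,3,1,2])) (.node (.word [5,6,3,1,2,1]) (.word [3,2,3,6,3]))) (.node (.node (.word [5,3,6,1,2,3,1]) (.word [3,5,3,6,1,2,3])) (.node (.word [5,6,3,5,4,3,2,1]) (.word [4,3,2,3,6,4,3,2])))) (.node (.node (.node (.word [5,3,6,4,2,3]) (.word [4,3,6,0])) (.node (.word [6,3,1,2,3,2,0]) (.word [2,3,5,1,2,3,4,1,2]))) (.node (.node (.word [5,6,2,3,1,2,0]) (.word [6,2,3,1,2,3,2])) (.node (.word [1,2,3,5,6,1,2,3,1,2,0]) (.word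 [6,2,3,5,6,2,3,0])))))) (.node (.node (.node (.node (.node (.word [5,3,2,3,4,2,3,1,2]) (.word [2,3,6,5,1,2,3,1,2])) (.node (.word [3,5,6,3,4,1,2,0]) (.word [3,4,2,3,6,3]))) (.node (.node (.word [6,3,5,3]) (.word [6,3,5,6,1,2,3,0])) (.node (.word [5,3,6,2,3]) (.word [2,3,4,3])))) (.node (.node (.node (.word [3,6,4,1,2,3,0]) (.word [3,2,3,6,5,3,0])) (.node (.word [3,5,1,2,3,1,2]) (.word [2,3,5,6,2,3,0]))) (.node (.node (.word [5,6,1,2,3,1,2]) (.word [6,3,4,3,2,3,5,1,2,1])) (.node (.word [2,3,6,2,3,1,2,1]) (.word [1,2,3,5,4,1,2,0]))))) (.node (.node (.node (.node (.word [3,2,3,1,2,3,5,1]) (.word [5,6,3,5,6,3,1,2])) (.node (.word [6,3,4,3,1,2,3,2]) (.word [3,2,3,5,3,2,1]))) (.node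 (.node (.word [5,6,3,2,3,4,1,2,0]) (.word [5,2,3,6,5,1,2,0])) (.node (.word [6,3,5,2,3,0]) (.word [6,2,3,4,3])))) (.node (.node (.node (.word [6,1,2,3,1,2,3,5,3]) (.word [4,3,5,4,3,6,2])) (.node (.word [6,3,5,6,3,1,2]) (.word [3,5,6,3,5,4,1,2]))) (.node (.node (.word [2,3,6,5,3,0,1]) (.word [4,2,3,5,4,3,2])) (.node (.word [6,3,5,1,2,3,2]) (.word [1,2,3,6,3,5,2,3,1]))))))) (.node (.node (.node (.node (.node (.node (.word [1,2,3,4,2,3,1,2]) (.word [5,3,1,2,3,2])) (.node (.word [2,3,6,2]) (.word [3,6,2,3,4,3]))) (.node (.node (.word [1,2,3,1,2,0]) (.word [3,6,4,2,3,2,0])) (.node (.word [6,5,1,2,0]) (.word [3,1,2,3,6,4,3,2,0,1])))) (.node (.node (.node (.word [1,2,3,6,2,3,0,1])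 (.word [5,6,2,3])) (.node (.word [5,0,1,2,3,1,2]) (.word [2,3,1,2,3,5,2,1]))) (.node (.node (.word [6,1,2,3,0,1,2,0]) (.word [6,3,5,1,2,3,0,1,2])) (.node (.word [5,3,2,1]) (.word [1,2,3,5,3,6,2,3]))))) (.node (.node (.node (.node (.word [5,6,1,2,3,5]) (.word [2,3,5,3,0,1,2])) (.node (.word [3,2,0,1]) (.word [4,1,2,3,5,6,3]))) (.node (.node (.word [1,2,3,1,2,3,5,3,0]) (.word [3,2,3,5,2,3,1,2,1])) (.node (.word [2,3,1]) (.word [3,1,2,3,6,5,3])))) (.node (.node (.node (.word [2,3,6,2,3,0,1]) (.word [2,3,5,2,3,0])) (.node (.word [4,3,5,6,2,3,1,2]) (.word [5,3,1,2,3,5,4,1,2,0]))) (.node (.node (.word [6,4,2,3]) (.word [4,3,2,3,2,0])) (.node (.word [6,5,1,2,3,1]) (.word [3,1,2,3,5,4,1,2,0]))))))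 (.node (.node (.node (.node (.node (.word [3,2,3,2,3,4,3,1,2]) (.word [6,3,4,2])) (.node (.word [2,3,5,3,2,3,4,3,1,2]) (.word [4,3,2,3,5,2,3,0]))) (.node (.node (.word [3,6,5,3,0,1]) (.word [3,5,4,1,2,3])) (.node (.word [3,5,4,2,0]) (.word [3,0,1,2,3,5,3,4,1,2])))) (.node (.node (.node (.word [3,1,2,3,1,2,0]) (.word [3,4,2,3,6,4,3])) (.node (.word [6,3,4,3,2]) (.word [3,6,2,3,5,2,3,2]))) (.node (.node (.word [3,5,4,3,1,2]) (.word [3,2,3,4,0])) (.node (.word [5,3,6,3,2,3,1,2,1]) (.word [3,5,2,3,2,3]))))) (.node (.node (.node (.node (.word [6,2,3,2,3,0,1,2,0]) (.word [5,2,3,6,4,3,0])) (.node (.word [5,1,2,3,0,1,2]) (.word [4,3,5,3,2,1]))) (.node (.node (.word [6,5,2,3,1,2,1])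 (.word [5,3,1,2,3,6,5,1,2,0])) (.node (.word [5,1,2,3,4,1,2]) (.word [4,1,2,3,2,3,2])))) (.node (.node (.node (.word [6,4,2,3,1,2,1]) (.word [3,5,1,2,3,1,2,3,0])) (.node (.word [5,4,3,1]) (.word [6,3,1,2,3,5,3,4,1,2,0]))) (.node (.node (.word [6,5,3,0]) (.word [6,3,5,4,3,1,2,0])) (.node (.word [4,2,3,5,1,2]) (.word [6,5,2,3,2,3]))))))))

/-- A subtree. -/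
def sub16 : WTree :=
  (.node (.node (.node (.node (.node (.node (.node (.word [5,2,3,1,2,3,4,2,3,1,2]) (.word [3,2,3,4])) (.node (.word [5,3,6,3,2]) (.word [4,1,2,3,6,4,3,0]))) (.node (.node (.word [5,4,2,3,0,1,2]) (.word [5,6,3,5,2,3,2])) (.node (.word [5,3,6,2,0]) (.word [5,3,0,1,2,3])))) (.node (.node (.node (.word [1,2,3,6,4,2,3]) (.word [2,3,4,2,3,6,3])) (.node (.word [5,3,0,1,2,0]) (.word [3,5,6,3,2,3,4]))) (.node (.node (.word [4,3,6,2]) (.word [3,1,2,3])) (.node (.word [5,6,3,4,1,2,3,2]) (.word [5,3,1,2,3,6,3]))))) (.node (.node (.node (.node (.word [2,3,5,0]) (.word [3,2,3,6,4,3,1,2])) (.node (.word [2,3,5,4,2,3,1,2,1]) (.word [4,3,5,4,1,2]))) (.node (.node (.word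 [4,3,6,2,3,5,3]) (.word [2,3,5,3,1,2,1])) (.node (.word [4,2,3,2,3,5,2,1]) (.word [4,1,2,3,5,4,1,2])))) (.node (.node (.node (.word [3,4,2,3,5,0]) (.word [2,3,5,4,2,0])) (.node (.word [5,4,3,1,2,0]) (.word [0,1,2,3,5,2,3,4,1,2,0]))) (.node (.node (.word [5,3,1]) (.word [1,2,3,6,4,3,2,1])) (.node (.word [6,3,4,3,2,3,2]) (.word [5,6,2,3,2,3,2])))))) (.node (.node (.node (.node (.node (.word [5,3,6,2,3,5,0]) (.word [5,2,3,4,2])) (.node (.word [3,5,3,2,3,4,1,2,0]) (.word [5,3,2,3,6,5,2,0]))) (.node (.node (.word [3,6,4,2,3]) (.word [1,2,3,5,2,3,4,3,1,2])) (.node (.word [4,3,0,1]) (.word [4,3,2,3,5,6,3,0])))) (.node (.node (.node (.word [6,3,2,3,6,1,2,3,5,3,0]) (.word [1,2,3,6,4,3,1]))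 (.node (.word [6,5,1,2,3,1,2,0]) (.word [6,4,2,3,2,3,2]))) (.node (.node (.word [5,4,3,2]) (.word [4,3,2,3,6,2,0])) (.node (.word [2,3,5,6,2,3,1,2,1]) (.word [6,2,3,2,3,0]))))) (.node (.node (.node (.node (.word [3,2,3,4,2,3,6,1,2,3,5,3]) (.word [2,3,6,5,3])) (.node (.word [5,4,1,2,3,0]) (.word [6,3,4,3,0]))) (.node (.node (.word [5,4,3,1,2,1]) (.word [6,3,5,3,6,2,3])) (.node (.word [3,6,2,3]) (.word [5,3,2,3])))) (.node (.node (.node (.word [5,2,3,2,3,4,1,2,0]) (.word [6,1,2,3,2,3,5,2,1])) (.node (.word [1,2,3,5,6,3,5]) (.word [6,2,3,4,1,2,3,5,4,2]))) (.node (.node (.word [3,5,2,0]) (.word [5,6,3,1,2,3])) (.node (.word [3,5,3,0,1,2]) (.word [3,1,2,3,5,3,4,2]))))))) (.node (.node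 (.node (.node (.node (.node (.word [5,2,3,6,1,2,3,5]) (.word [3,5,3,1,2,3,1,2])) (.node (.word [6,3,5,6,3,4,2]) (.word [3,4,3]))) (.node (.node (.word [6,2,3,1,2]) (.word [3,5,1,2,3,4,1,2])) (.node (.word [3,6,4,3]) (.word [3,4,1,2,3,5,1,2,1])))) (.node (.node (.node (.word [4,2,3,1,2,1]) (.word [4,3,5,2,3,2])) (.node (.word [3,1,2,3,2]) (.word [3,0,1,2,3,5,2,1]))) (.node (.node (.word [4,2,3,2]) (.word [5,6,2,3,5,1,2])) (.node (.word [6,5,3,4,1,2,0]) (.word [6,1,2,3,4,3,0]))))) (.node (.node (.node (.node (.word [3,2,3,6,1,2,3,0,1]) (.word [5,3,6,3,5,2,3,1,2])) (.node (.word [2,3,5,3,2,3,1,2,0,1]) (.word [4,3,6,2,3,4,3,0]))) (.node (.node (.word [6,3,2,3,5,3]) (.word [5,2,3,1,2,3,2,3,5,1]))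 (.node (.word [1,2,3,6,3,2]) (.word [3,4,1,2,3,6,4,3,0])))) (.node (.node (.node (.word [3,1,2,3,5,3]) (.word [5,3,6,2,3,2,3])) (.node (.word [3,5,3,1,2,0]) (.word [6,2,3,1,2,3]))) (.node (.node (.word [4,3,6,3,5,3,0]) (.word [6,3,5,4,3,2,0])) (.node (.word [5,6,1,2,3]) (.word [3,0,1,2,3,5,3,1,2,1])))))) (.node (.node (.node (.node (.node (.word [1,2,3,6,4,1,2,3,0]) (.word [6,3,5,4,3,2])) (.node (.word [4,3,2,0,1]) (.word [6,2,3,5,2,3]))) (.node (.node (.word [2,3,5,6,3,2,1]) (.word [6,3,2,3,5,3,1,2,1])) (.node (.word [3,5,2,3,0]) (.word [5,1,2,3,1,2,3])))) (.node (.node (.node (.word [6,3,5,1]) (.word [4,3,2,3,6,5,3,0])) (.node (.word [5,3,4,1,2]) (.word [2,3,6,4,2,3,2,0])))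 (.node (.node (.word [3,6,2,3,1,2]) (.word [2,3,2,3,2])) (.node (.word [3,5,6,2,3,1,2,0,1]) (.word [6,4,2,3,5,2,3,1,2,3,0]))))) (.node (.node (.node (.node (.word [6,4,3,5,0]) (.word [6,4,3,1])) (.node (.word [6,3,0,1,2]) (.word [3,2,3,6,0]))) (.node (.node (.word [6,4,3,5,1,2,3,1]) (.word [5,6,3,2,3,6,2])) (.node (.word [6,3,5,4,1,2,3,0]) (.word [2,3,5,6,2,3])))) (.node (.node (.node (.word [2,3,5,6,3,1,2,1]) (.word [4,1,2,3,2,3,5,2,3])) (.node (.word [5,4,3]) (.word [3,1,2,3,5,2,3,4,1,2]))) (.node (.node (.word [2,3,2,3,5,2,1]) (.word [3,2,3,5,2,3,4,1,2])) (.node (.word [5,3,6,5,2,3,0,1,2]) (.word [5,3,1,2,3,6,3,0]))))))))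

/-- A subtree. -/
def sub17 : WTree :=
  (.node (.node (.node (.node (.node (.node (.node (.node (.word [6,3,2,3,6,1,2,3,5,0]) (.word [3,1,2,3,5,3,4,2,0])) (.word [5,0,1,2,3,2])) (.node (.word [6,0,1,2,3,2,0]) (.word [2,3,5,3,2,3,2,3]))) (.node (.node (.word [6,2,3,4,2,3,6,1,2,3,5,3]) (.word [2,3,2,3,6,3,2])) (.node (.word [6,0,1,2,3,2]) (.word [5,2,3,1,2,3,6,5,3])))) (.node (.node (.node (.word [1,2,3,5,1]) (.word [5,4,2,3])) (.node (.word [6,5,0,1,2,3,1,2]) (.word [5,4,3,2,3,6,3,0]))) (.node (.node (.word [0,1,2,3,2,0]) (.word [1,2,3,2,3,6,5,3])) (.node (.word [1,2,3,5,3,2,3,4,3,1,2]) (.word [3,1,2,3,6,3]))))) (.node (.node (.node (.node (.word [5,3,6,2,3,5]) (.word [4,2,3,1,2,3,2,0]))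 (.node (.word [5,3,2,3,1,2,1]) (.word [6,3,5,2,3,6,4,3]))) (.node (.node (.word [5,2,3,6,2]) (.word [3,5,3,2,1])) (.node (.word [5,6,3,2,1]) (.word [5,6,3,2,3])))) (.node (.node (.node (.word [4,3,5,3,0]) (.word [3,5,4,1,2,0])) (.node (.word [2,3,6,4,3,1,2]) (.word [1,2,3,5,2,3,4,1,2]))) (.node (.node (.word [5,1]) (.word [2,3,6,5,1,2,3,1])) (.node (.word [2,3,5,6,2,3,1,2,0]) (.word [6,1,2,3,2,3,6,3,2])))))) (.node (.node (.node (.node (.node (.word [1,2,3,2,3,6,1,2,3,0,1]) (.word [4,3,1,2,3,2,0])) (.node (.word [3,4,1,2,0]) (.word [3,5,6,3,5,4,2]))) (.node (.node (.word [5]) (.word [6,3,5,2,3,4,1,2])) (.node (.word [5,1,2,3,0,1]) (.word [3,2,3,5,3,4,2])))) (.node (.node (.node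 (.word [3,2,3,4,1,2,3,5,0]) (.word [5,3,6,5,2,0])) (.node (.word [2,3,2,0]) (.word [1,2,3,5,2,3]))) (.node (.node (.word [6,1,2,3,1,2,0]) (.word [5,6,3,5,0,1,2])) (.node (.word [2,3,5,6,2,3,1,2,3]) (.word [4,2,3,5,3,2,1]))))) (.node (.node (.node (.node (.word [2,3,2,3,4,1,2,3,5,0]) (.word [6,3,5,6,3,2])) (.node (.word [5,6,1,2,3,0]) (.word [6,3,2,3]))) (.node (.node (.word [3,6,5,2,3,2,3,4,1,2,0]) (.word [1,2,3,5,6,2,3,4,1,2])) (.node (.word [3,5,6,3,2,0]) (.word [3,5,2,3,6,5,2,0])))) (.node (.node (.node (.word [3,2,3,4,1,2,0]) (.word [5,6,3,4,2,0])) (.node (.word [3,6,5,3]) (.word [3,1,2,3,5,3,4,1,2,0]))) (.node (.node (.word [5,2,3,0,1]) (.word [3,5,4,1,2])) (.node (.word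 [5,4,3,6,2,0]) (.word [1,2,3,5,6,1,2,3]))))))) (.node (.node (.node (.node (.node (.node (.word [3,6,2,3,5,0]) (.word [3,6,5,1,2,3,1])) (.node (.word [5,6,3,2,0]) (.word [3,5,6,3,1]))) (.node (.node (.word [5,4,3,1,2]) (.word [2,3,1,2,3,2,3,5,3])) (.node (.word [3,1,2,3,6,3,4,3]) (.word [3,2,3,5,1,2,1])))) (.node (.node (.node (.word [2,3,2,3,4,1,2,0]) (.word [3,5,3,6,3,2,0])) (.node (.word [2,3,2]) (.word [6,4,3,5,2,3,1,2,3,0]))) (.node (.node (.word [6,2,3,0,1,2,0]) (.word [4,3,5,3,0,1,2])) (.node (.word [5,1,2,1]) (.word [6,3,1,2,3,5,6,3]))))) (.node (.node (.node (.node (.word [5,1,2,3,6,2,3,1]) (.word [6,3,2,3,6,5,1,2,0])) (.node (.word [3,5,2,3,1,2,0,1]) (.word [3,1,2,3,5,6,3])))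 (.node (.node (.word [4,2,3,6,1,2,3,5,3]) (.word [0,1,2,3,5,2,3,1,2,0,1])) (.node (.word [2,3,1,2,3,5,2,3]) (.word [6,3,2,3,6,5,3])))) (.node (.node (.node (.word [3,1,2,3,6,2,3,1]) (.word [6,3,5,3,1,2,3,0])) (.node (.word [3,6,3,5,2,3,1,2]) (.word [5,6,3,2,3,4]))) (.node (.node (.word [3,6,5,2,3,2,0]) (.word [6,5,3,1,2,3,2,0])) (.node (.word [3,5,1,2,3,0]) (.word [3,6,2,3,1,2,3])))))) (.node (.node (.node (.node (.node (.word [5,1,2,3,4,2,3,1,2,1]) (.word [6,5,3,4,2])) (.node (.word [3,5,6,3,4,1,2]) (.word [3,2,3,5,6,3,1]))) (.node (.node (.word [0]) (.word [5,3,6,1,2,3,4,1,2])) (.node (.word [2,3,0]) (.word [5,4,3,2,3,2,0])))) (.node (.node (.node (.word [6,4,2,3,1,2]) (.word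 [2,3,5,6,3])) (.node (.word [3,5,4,3,2]) (.word [3,4,2,3,6]))) (.node (.node (.word [4,3,1,2,0]) (.word [4,3,2,3,4])) (.node (.word [6,5,3,1,2,0,1]) (.word [4,2,3,5,3,2,3]))))) (.node (.node (.node (.node (.word [6,2,3,5,1]) (.word [4,2,3,6,5,3])) (.node (.word [3,6,2]) (.word [5,3,2,3,0]))) (.node (.node (.word [3,5,3,2,3,1,2,0,1]) (.word [2,3,6,5,2,3,4,1,2,0])) (.node (.word [3,6,2,3,4,1,2,0]) (.word [5,3,1,2,3,6,5,2,0])))) (.node (.node (.node (.word [3,5,3,4,2,3,1,2,1]) (.word [4,2,3,1])) (.node (.word [4]) (.word [6,2,3,5,3,6,2,3]))) (.node (.node (.word [3,5,6,3,2,1]) (.word [4,1,2,3,6,5,2,3,1,2])) (.node (.word [2,3,5,3,1,2,0]) (.word [2,3,1,2,3,5,6,3,0]))))))))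

/-- A subtree. -/
def sub18 : WTree :=
  (.node (.node (.node (.node (.node (.node (.node (.word [3,1,2,3,4,2,3,1,2,1]) (.word [3,6,4,2,3,2])) (.node (.word [2,3,6,3,2]) (.word [3,4,2,3,6,4,3,0]))) (.node (.node (.word [4,1,2,3,2]) (.word [5,3,2,3,4,0])) (.node (.word [1,2,3,6,3,5,3,0]) (.word [2,3,1,2,3])))) (.node (.node (.node (.word [5,1,2,3,6,4,1,2,3]) (.word [3,2,3,6,5,2,0])) (.node (.word [2,3,6,2,0]) (.word [3,5,6,3,5,2,1]))) (.node (.node (.word [3,2,3,0,1,2]) (.word [2,3,1,2,3,6,2])) (.node (.word [5,0,1,2,3,0]) (.word [0,1,2,3,5,4,2]))))) (.node (.node (.node (.node (.word [4,1,2,3,5,0]) (.word [4,3,5,0,1,2])) (.node (.word [4,3,5,1,2,3,1]) (.word [4,2,3,5,4,2])))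 (.node (.node (.word [2,3,1,2,3,6,2,3,1]) (.word [3,5,4,3,1,2,0,1])) (.node (.word [3,6,2,3,0]) (.word [2,3,1,2,3,6,3,5,3])))) (.node (.node (.node (.word [5,3,6,4,1,2,3,0]) (.word [3,4,3,0])) (.node (.word [2,3,5,2,3,1,2]) (.word [4,3,2,3,5,3,0,1,2]))) (.node (.node (.word [5,3]) (.word [6,3,5,4,1,2])) (.node (.word [2,3,1,2,3,2,3,5,1]) (.word [1,2,3,5,1,2,3,4,1,2])))))) (.node (.node (.node (.node (.node (.word [6,1,2,3,5]) (.word [5,3,4,2,0])) (.node (.word [3,5,2,3,4,3,1,2]) (.word [4,2,3,2,3,6,5,3]))) (.node (.node (.word [3,6,3,5,3,0]) (.word [4,3,5,1,2,3,4,1,2])) (.node (.word [5,4,1,2,0]) (.word [6,2,3,5,4,1,2])))) (.node (.node (.node (.word [4,2,3,0,1,2]) (.word [0,1,2,3,6,5,3,0]))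 (.node (.word [6,4,3,2,0]) (.word [2,3,5,2,3,2]))) (.node (.node (.word [6,3,4,3,1,2]) (.word [3,5,0,1,2,3,2])) (.node (.word [3,5,1,2,3,1]) (.word [3,5,6,2,3,2,3]))))) (.node (.node (.node (.node (.word [3,4,1,2,3,1,2]) (.word [1,2,3,6,4,3,0])) (.node (.word [6,5,1,2,3]) (.word [5,6,3,5,2,1]))) (.node (.node (.word [6,2,3,1,2,1]) (.word [5,6,3,1,2,3,6,2])) (.node (.word [5,6,3,4,1,2,0]) (.word [6,3,5,3,2,3])))) (.node (.node (.node (.word [3,6,1,2,3,0,1]) (.word [5,3,2,3,5,2,1])) (.node (.word [5,3,6,5,3]) (.word [6,1,2,3,5,3,2,3,1,2,1]))) (.node (.node (.word [3,0]) (.word [2,3,2,3,5,4,1,2,0])) (.node (.word [3,6,4,3,0,1,2,0]) (.word [1,2,3,5,4,1,2]))))))) (.node (.node (.node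 (.node (.node (.node (.word [3,1,2,3,6,4,1,2,3,0]) (.word [6,3,5,0,1,2])) (.node (.word [3,1,2,3,1,2,3,5,3,0]) (.word [4,3,5,2,3]))) (.node (.node (.word [5,2,3,1,2,0]) (.word [3,5,6,2,3,4,1,2,0])) (.node (.word [5,3,2,3,5,6,3]) (.word [3,4,2,3,6,0])))) (.node (.node (.node (.word [5,2,3,2,3,1,2,0,1]) (.word [4,3,2,3,6,3])) (.node (.word [6,5,1,2,3,2]) (.word [2,3,5,3,2,1]))) (.node (.node (.word [6,4,1,2,3,2]) (.word [5,4,3,6,5,2,3,0,1,2])) (.node (.word [3,6,3,2,3,1,2,1]) (.word [1,2,3,6,5,2,3,1]))))) (.node (.node (.node (.node (.word [6,2,3,4,2,3,1,2,1]) (.word [5,3,6,5,2,3,1,2,0])) (.node (.word [1,2,3,5,3,4,2,3,1,2,1]) (.word [3,6,1,2,3,4,3,0]))) (.node (.node (.word [2,3,4,1,2])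 (.word [6,4,3,2,3,2])) (.node (.word [3,5,3,6,2]) (.word [1,2,3,1,2,3,6,3,0])))) (.node (.node (.node (.word [2,3,5,6,1,2,3,2,0]) (.word [2,3,5,4,3,2,1])) (.node (.word [6,3,5,6,3,0,1,2]) (.word [1,2,3,5,3,1,2,1]))) (.node (.node (.word [0,1]) (.word [4,3,5,3,4,3,2])) (.node (.word [2,3,0,1,2,3,2,0]) (.word [0,1,2,3,5,3,4,1,2])))))) (.node (.node (.node (.node (.node (.word [3,4,2,3,1,2]) (.word [3,5,6,3,1,2,3])) (.node (.word [1,2,1]) (.word [1,2,3,2,3,6,3]))) (.node (.node (.word [2,3,2,3,5,3,0]) (.word [6,2,3,5,4,2,3])) (.node (.word [6,3,5,4,3,1,2,1]) (.word [6,4,3,2,3,2,3])))) (.node (.node (.node (.word [2,3,5,1]) (.word [4,2,3,5,6,3,0])) (.node (.word [3,6,3,4,3,1,2])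 (.word [5,3,6,2,3,4]))) (.node (.node (.word [1,2,0]) (.word [3,6,5,2,3,1])) (.node (.word [6,3,5,2,3,0,1]) (.word [3,2,3,5,3,2,3,2,0]))))) (.node (.node (.node (.node (.word [4,2,3,5,0]) (.word [4,3,1])) (.node (.word [4,3,0,1,2,0]) (.word [4,3,5,3,2,3,0]))) (.node (.node (.word [3,6,2,3,5,6,3,1,2,1]) (.word [2,3,6,3,5,1,2,3,1])) (.node (.word [2,3,5,2,3,4,3,1,2]) (.word [4,2,3,5,3,2,3,2])))) (.node (.node (.node (.word [3,6,1,2,3,1]) (.word [4,2,3,1,2,3,5,2,3])) (.node (.word [3,5,6,3,2,0,1]) (.word [6,3,1,2,3,4,0]))) (.node (.node (.word [4,2,3,0]) (.word [2,3,2,3,5,3,4,1,2])) (.node (.word [3,6,3,2,0]) (.word [1,2,3,5,6,2,3]))))))))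

/-- A subtree. -/
def sub19 : WTree :=
  (.node (.node sub15 sub16) (.node sub17 sub18))

/-- Points. -/
def levX0pts0 : List ℕ := [0,1,2,3,4,5,6,7,8,9,10,11,12,13,14,15,16,17,18,19,20,21,22,23,24,25,26,27,28,29,30,31,32,33,34,35,36,37,38,39,40,41,42,43,44,45,46,47,48,49,50,51,52,53,54,55,56,57,58,59,60,61,62,63,64,65,66,67,68,69,70,71,72,73,74,75,76,77,78,79,80,81,82,83,84,85,86,87,88,89,90,91,92,93,94,95,96,97,98,99,100,101,102,103,104,105,106,107,108,109,110,111,112,113,114,115,116,117,118,119,120,121,122,123,124,125,126,127,128,129,130,131,132,133,134,135,136,137,138,139,140,141,142,143,144,145,146,147,148,149,150,151,152,153,154,155,156,157,158,159,160,161,162,163,164,165,166,167,168,169,170,171,172,173,174,175,176,177,178,179,180,181,182,183,184,185,186,187,188,189,190,191,192,193,194,195,196,197,198,199]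

/-- Points. -/
def levX0pts1 : List ℕ := [200,201,202,203,204,205,206,207,208,209,210,211,212,213,214,215,216,217,218,219,220,221,222,223,224,225,226,227,228,229,230,231,232,233,234,235,236,237,238,239,240,241,242,243,244,245,246,247,248,249,250,251,252,253,254,255,256,257,258,259,260,261,262,263,264,265,266,267,268,269,270,271,272,273,274,275,276,277,278,279,280,281,282,283,284,285,286,287,288,289,290,291,292,293,294,295,296,297,298,299,300,301,302,303,304,305,306,307,308,309,310,311,312,313,314,315,316,317,318,319,320,321,322,323,324,325,326,327,328,329,330,331,332,333,334,335,336,337,338,339,340,341,342,343,344,345,346,347,348,349,350,351,352,353,354,355,356,357,358,359,360,361,362,363,364,365,366,367,368,369,370,371,372,373,374,375,376,377,378,379,380,381,382,383,384,385,386,387,388,389,390,391,392,393,394,395,396,397,398,399]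

/-- Points. -/
def levX0pts2 : List ℕ := [400,401,402,403,404,405,406,407,408,409,410,411,412,413,414,415,416,417,418,419,420,421,422,423,424,425,426,427,428,429,430,431,432,433,434,435,436,437,438,439,440,441,442,443,444,445,446,447,448,449,450,451,452,453,454,455,456,457,458,459,460,461,462,463,464,465,466,467,468,469,470,471,472,473,474,475,476,477,478,479,480,481,482,483,484,485,486,487,488,489,490,491,492,493,494,495,496,497,498,499,500,501,502,503,504,505,506,507,508,509,510,511,512,513,514,515,516,517,518,519,520,521,522,523,524,525,526,527,528,529,530,531,532,533,534,535,536,537,538,539,540,541,542,543,544,545,546,547,548,549,550,551,552,553,554,555,556,557,558,559,560,561,562,563,564,565,566,567,568,569,570,571,572,573,574,575,576,577,578,579,580,581,582,583,584,585,586,587,588,589,590,591,592,593,594,595,596,597,598,599]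

/-- Points. -/
def levX0pts3 : List ℕ := [600,601,602,603,604,605,606,607,608,609,610,611,612,613,614,615,616,617,618,619,620,621,622,623,624,625,626,627,628,629,630,631,632,633,634,635,636,637,638,639,640,641,642,643,644,645,646,647,648,649,650,651,652,653,654,655,656,657,658,659,660,661,662,663,664,665,666,667,668,669,670,671,672,673,674,675,676,677,678,679,680,681,682,683,684,685,686,687,688,689,690,691,692,693,694,695,696,697,698,699,700,701,702,703,704,705,706,707,708,709,710,711,712,713,714,715,716,717,718,719,720,721,722,723,724,725,726,727,728,729,730,731,732,733,734,735,736,737,738,739,740,741,742,743,744,745,746,747,748,749,750,751,752,753,754,755,756,757,758,759,760,761,762,763,764,765,766,767,768,769,770,771,772,773,774,775,776,777,778,779,780,781,782,783,784,785,786,787,788,789,790,791,792,793,794,795,796,797,798,799]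

/-- Points. -/
def levX0pts4 : List ℕ := [800,801,802,803,804,805,806,807,808,809,810,811,812,813,814,815,816,817,818,819,820,821,822,823,824,825,826,827,828,829,830,831,832,833,834,835,836,837,838,839,840,841,842,843,844,845,846,847,848,849,850,851,852,853,854,855,856,857,858,859,860,861,862,863,864,865,866,867,868,869,870,871,872,873,874,875,876,877,878,879,880,881,882,883,884,885,886,887,888,889,890,891,892,893,894,895,896,897,898,899,900,901,902,903,904,905,906,907,908,909,910,911,912,913,914,915,916,917,918,919,920,921,922,923,924,925,926,927,928,929,930,931,932,933,934,935,936,937,938,939,940,941,942,943,944,945,946,947,948,949,950,951,952,953,954,955,956,957,958,959,960,961,962,963,964,965,966,967,968,969,970,971,972,973,974,975,976,977,978,979,980,981,982,983,984,985,986,987,988,989,990,991,992,993,994,995,996,997,998,999]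

/-- Points. -/
def levX0pts5 : List ℕ := [1000,1001,1002,1003,1004,1005,1006,1007,1008,1009,1010,1011,1012,1013,1014,1015,1016,1017,1018,1019,1020,1021,1022,1023,1024,1025,1026,1027,1028,1029,1030,1031,1032,1033,1034,1035,1036,1037,1038,1039,1040,1041,1042,1043,1044,1045,1046,1047,1048,1049,1050,1051,1052,1053,1054,1055,1056,1057,1058,1059,1060,1061,1062,1063,1064,1065,1066,1067,1068,1069,1070,1071,1072,1073,1074,1075,1076,1077,1078,1079,1080,1081,1082,1083,1084,1085,1086,1087,1088,1089,1090,1091,1092,1093,1094,1095,1096,1097,1098,1099,1100,1101,1102,1103,1104,1105,1106,1107,1108,1109,1110,1111,1112,1113,1114,1115,1116,1117,1118,1119,1120,1121,1122,1123,1124,1125,1126,1127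,1128,1129,1130,1131,1132,1133,1134,1135,1136,1137,1138,1139,1140,1141,1142,1143,1144,1145,1146,1147,1148,1149,1150,1151,1152,1153,1154,1155,1156,1157,1158,1159,1160,1161,1162,1163,1164,1165,1166,1167,1168,1169,1170,1171,1172,1173,1174,1175,1176,1177,1178,1179,1180,1181,1182,1183,1184,1185,1186,1187,1188,1189,1190,1191,1192,1193,1194,1195,1196,1197,1198,1199]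

/-- Points. -/
def levX0pts6 : List ℕ := [1200,1201,1202,1203,1204,1205,1206,1207,1208,1209,1210,1211,1212,1213,1214,1215,1216,1217,1218,1219,1220,1221,1222,1223,1224,1225,1226,1227,1228,1229,1230,1231,1232,1233,1234,1235,1236,1237,1238,1239,1240,1241,1242,1243,1244,1245,1246,1247,1248,1249,1250,1251,1252,1253,1254,1255,1256,1257,1258,1259,1260,1261,1262,1263,1264,1265,1266,1267,1268,1269,1270,1271,1272,1273,1274,1275,1276,1277,1278,1279,1280,1281,1282,1283,1284,1285,1286,1287,1288,1289,1290,1291,1292,1293,1294,1295,1296,1297,1298,1299,1300,1301,1302,1303,1304,1305,1306,1307,1308,1309,1310,1311,1312,1313,1314,1315,1316,1317,1318,1319,1320,1321,1322,1323,1324,1325,1326,1327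,1328,1329,1330,1331,1332,1333,1334,1335,1336,1337,1338,1339,1340,1341,1342,1343,1344,1345,1346,1347,1348,1349,1350,1351,1352,1353,1354,1355,1356,1357,1358,1359,1360,1361,1362,1363,1364,1365,1366,1367,1368,1369,1370,1371,1372,1373,1374,1375,1376,1377,1378,1379,1380,1381,1382,1383,1384,1385,1386,1387,1388,1389,1390,1391,1392,1393,1394,1395,1396,1397,1398,1399]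

/-- Points. -/
def levX0pts7 : List ℕ := [1400,1401,1402,1403,1404,1405,1406,1407,1408,1409,1410,1411,1412,1413,1414,1415,1416,1417,1418,1419,1420,1421,1422,1423,1424,1425,1426,1427,1428,1429,1430,1431,1432,1433,1434,1435,1436,1437,1438,1439,1440,1441,1442,1443,1444,1445,1446,1447,1448,1449,1450,1451,1452,1453,1454,1455,1456,1457,1458,1459,1460,1461,1462,1463,1464,1465,1466,1467,1468,1469,1470,1471,1472,1473,1474,1475,1476,1477,1478,1479,1480,1481,1482,1483,1484,1485,1486,1487,1488,1489,1490,1491,1492,1493,1494,1495,1496,1497,1498,1499,1500,1501,1502,1503,1504,1505,1506,1507,1508,1509,1510,1511,1512,1513,1514,1515,1516,1517,1518,1519,1520,1521,1522,1523,1524,1525,1526,1527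,1528,1529,1530,1531,1532,1533,1534,1535,1536,1537,1538,1539,1540,1541,1542,1543,1544,1545,1546,1547,1548,1549,1550,1551,1552,1553,1554,1555,1556,1557,1558,1559,1560,1561,1562,1563,1564,1565,1566,1567,1568,1569,1570,1571,1572,1573,1574,1575,1576,1577,1578,1579,1580,1581,1582,1583,1584,1585,1586,1587,1588,1589,1590,1591,1592,1593,1594,1595,1596,1597,1598,1599]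

/-- Points. -/
def levX0pts8 : List ℕ := [1600,1601,1602,1603,1604,1605,1606,1607,1608,1609,1610,1611,1612,1613,1614,1615,1616,1617,1618,1619,1620,1621,1622,1623,1624,1625,1626,1627,1628,1629,1630,1631,1632,1633,1634,1635,1636,1637,1638,1639,1640,1641,1642,1643,1644,1645,1646,1647,1648,1649,1650,1651,1652,1653,1654,1655,1656,1657,1658,1659,1660,1661,1662,1663,1664,1665,1666,1667,1668,1669,1670,1671,1672,1673,1674,1675,1676,1677,1678,1679,1680,1681,1682,1683,1684,1685,1686,1687,1688,1689,1690,1691,1692,1693,1694,1695,1696,1697,1698,1699,1700,1701,1702,1703,1704,1705,1706,1707,1708,1709,1710,1711,1712,1713,1714,1715,1716,1717,1718,1719,1720,1721,1722,1723,1724,1725,1726,1727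,1728,1729,1730,1731,1732,1733,1734,1735,1736,1737,1738,1739,1740,1741,1742,1743,1744,1745,1746,1747,1748,1749,1750,1751,1752,1753,1754,1755,1756,1757,1758,1759,1760,1761,1762,1763,1764,1765,1766,1767,1768,1769,1770,1771,1772,1773,1774,1775,1776,1777,1778,1779,1780,1781,1782,1783,1784,1785,1786,1787,1788,1789,1790,1791,1792,1793,1794,1795,1796,1797,1798,1799]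

/-- Points. -/
def levX0pts9 : List ℕ := [1800,1801,1802,1803,1804,1805,1806,1807,1808,1809,1810,1811,1812,1813,1814,1815,1816,1817,1818,1819,1820,1821,1822,1823,1824,1825,1826,1827,1828,1829,1830,1831,1832,1833,1834,1835,1836,1837,1838,1839,1840,1841,1842,1843,1844,1845,1846,1847,1848,1849,1850,1851,1852,1853,1854,1855,1856,1857,1858,1859,1860,1861,1862,1863,1864,1865,1866,1867,1868,1869,1870,1871,1872,1873,1874,1875,1876,1877,1878,1879,1880,1881,1882,1883,1884,1885,1886,1887,1888,1889,1890,1891,1892,1893,1894,1895,1896,1897,1898,1899,1900,1901,1902,1903,1904,1905,1906,1907,1908,1909,1910,1911,1912,1913,1914,1915,1916,1917,1918,1919,1920,1921,1922,1923,1924,1925,1926,1927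,1928,1929,1930,1931,1932,1933,1934,1935,1936,1937,1938,1939,1940,1941,1942,1943,1944,1945,1946,1947,1948,1949,1950,1951,1952,1953,1954,1955,1956,1957,1958,1959,1960,1961,1962,1963,1964,1965,1966,1967,1968,1969,1970,1971,1972,1973,1974,1975,1976,1977,1978,1979,1980,1981,1982,1983,1984,1985,1986,1987,1988,1989,1990,1991,1992,1993,1994,1995,1996,1997,1998,1999]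

/-- Points. -/
def levX0pts10 : List ℕ := [2000,2001,2002,2003,2004,2005,2006,2007,2008,2009,2010,2011,2012,2013,2014,2015,2016,2017,2018,2019,2020,2021,2022,2023,2024,2025,2026,2027,2028,2029,2030,2031,2032,2033,2034,2035,2036,2037,2038,2039,2040,2041,2042,2043,2044,2045,2046,2047,2048,2049,2050,2051,2052,2053,2054,2055,2056,2057]

/-- A level. -/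
def levX0 : Level :=
  ⟨462, (.node (.node sub4 sub9) (.node sub14 sub19)), levX0pts0 ++ levX0pts1 ++ levX0pts2 ++ levX0pts3 ++ levX0pts4 ++ levX0pts5 ++ levX0pts6 ++ levX0pts7 ++ levX0pts8 ++ levX0pts9 ++ levX0pts10⟩

/-- A subtree. -/
def sub20 : WTree :=
  (.node (.node (.node (.node (.node (.node (.node (.node (.word [5,6,3,4,1,2,3,6,3,4,3,2,3,5,0,1,2,3,5,3,2,1,0,3,5,6,3,2,3,6,4,3,2,3,1,2,3,5,6,3,4,1,2,3,5,3,2,1,0,3,5,6,3,2,3,6,4,3,2,3,1,2,3,5,6,3,4,0,1,3,2,3,5,6,3,2,3,5,6,3,4,1,2,3,6,1,0]) (.word [1,5,3,2,4,3,2,1,3,5,6,3,4,2,3,5,3,1,2,3,4,2,3,2,1,3,2,3,5,6,3,2,3,5,6,3,4,1,2,3,6,1,0,5,6,3,2,1,4,3,6,2,3,2,3,6,2,3,4,1,2,4,1,2,3,6,3,4,3,2,3,5,0,5,6,3,4,1,2,3,6,3,4,3,2,3,5,0]))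 .none) (.node .none (.word [5,6,3,4,1,2,3,6,3,4,3,2,3,5,0,2,1,6,3,2,3,1,2,3,4,2,3,6,1,2,3,5,6,3,2,0,1,2,3,5,3,2,1,0,3,5,6,3,2,3,6,4,3,2,3,1,2,3,5,6,3,4,1,2,3,5,3,2,1,0,3,5,6,3,2,3,6,4,3,2,3,1,2,3,5,6,3,4,5,6,3,4,1,2,3,6,3,4,3,2,3,5,0]))) (.node (.word [2,1,6,3,2,3,1,2,3,4,2,3,6,1,2,3,5,6,3,2,1,3,2,3,5,6,3,2,3,5,6,3,4,1,2,3,6,1,0,5,6,3,4,1,2,3,6,3,4,3,2,3,5,0,5,6,3,4,1,2,3,6,3,4,3,2,3,5,0,5,6,3,4,1,2,3,6,3,4,3,2,3,5,0]) (.node .none (.word [0,1,3,2,3,5,6,3,2,3,5,6,3,4,1,2,3,6,1,0,5,6,3,2,1,4,3,6,2,3,2,3,6,2,3,4,1,2,3,6,5,0,1,3,2,3,5,6,3,2,3,5,6,3,4,1,2,3,6,1,0,1,5,3,2,4,3,2,1,3,5,6,3,4,2,3,5,3,1,2,3,4,2,3,2,0,5,6,3,4,1,2,3,6,3,4,3,2,3,5,0,5,6,3,4,1,2,3,6,3,4,3,2,3,5,0])))) (.node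 (.node (.node (.word [5,6,3,4,1,2,3,6,3,4,3,2,3,5,0,1,5,3,2,4,3,2,1,3,5,6,3,4,2,3,5,3,1,2,3,4,2,3,2,0,5,6,3,4,1,2,3,6,3,4,3,2,3,5,1,3,2,3,5,6,3,2,3,5,6,3,4,1,2,3,6,1,0]) (.word [0,1,3,2,3,5,6,3,2,3,5,6,3,4,1,2,3,6,1,0])) (.node (.word [5,6,3,4,1,2,3,6,3,4,3,2,3,5,0,1,2,3,5,3,2,1,0,3,5,6,3,2,3,6,4,3,2,3,1,2,3,5,6,3,4,0,1,3,2,3,5,6,3,2,3,5,6,3,4,1,2,3,6,1,0,1,5,3,2,4,3,2,1,3,5,6,3,4,2,3,5,3,1,2,3,4,2,3,2,1,3,2,3,5,6,3,2,3,5,6,3,4,1,2,3,6,1,0]) (.word [1,2,3,5,3,2,1,0,3,5,6,3,2,3,6,4,3,2,3,1,2,3,5,6,3,4,5,6,3,4,1,2,3,6,3,4,3,2,3,5,0,5,6,3,2,1,4,3,6,2,3,2,3,6,2,3,4,1,2,3,6,5,1,3,2,1,6,3,2,1,3,2,3,5,4,2,3,1,2,3,6,4,2,3,5,1,5,6,3,4,1,2,3,6,3,4,3,2,3,5,0]))) (.node (.node (.word [5,6,3,4,1,2,3,6,3,4,3,2,3,5,0,1,3,2,1,6,3,2,1,3,2,3,5,4,2,3,1,2,3,6,4,2,3,5,1,5,6,3,2,1,4,3,6,2,3,2,3,6,2,3,4,1,2,4,1,2,3,6,3,4,3,2,3,5,0,5,6,3,4,1,2,3,6,3,4,3,2,3,5,0])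 (.word [5,6,3,4,1,2,3,6,3,4,3,2,3,5,0,5,6,3,4,1,2,3,6,3,4,3,2,3,5,0,1,2,3,5,3,2,1,0,3,5,6,3,2,3,6,4,3,2,3,1,2,3,5,6,3,4,5,6,3,4,1,2,3,6,3,4,3,2,3,5,0,5,6,3,4,1,2,3,6,3,4,3,2,3,5,0])) (.node (.word [5,6,3,2,1,4,3,6,2,3,2,3,6,2,3,4,1,2,4,1,2,3,6,3,4,3,2,3,5,1,3,2,3,5,6,3,2,3,5,6,3,4,1,2,3,6,1,0,5,6,3,2,1,4,3,6,2,3,2,3,6,2,3,4,1,2,4,1,2,3,6,3,4,3,2,3,5,0,5,6,3,4,1,2,3,6,3,4,3,2,3,5,0]) (.word [2,1,6,3,2,3,1,2,3,4,2,3,6,1,2,3,5,6,3,2,0,1,5,3,2,4,3,2,1,3,5,6,3,4,2,3,5,3,1,2,3,4,2,3,2,0,1,5,3,2,4,3,2,1,3,5,6,3,4,2,3,5,3,1,2,3,4,2,3,2,0,5,6,3,4,1,2,3,6,3,4,3,2,3,5,0,5,6,3,4,1,2,3,6,3,4,3,2,3,5,0]))))) (.node (.node (.node (.node (.word [2,1,6,3,2,3,1,2,3,4,2,3,6,1,2,3,5,6,3,2,0,1,2,3,5,3,2,1,0,3,5,6,3,2,3,6,4,3,2,3,1,2,3,5,6,3,4,5,6,3,4,1,2,3,6,3,4,3,2,3,5,0,1,3,2,1,6,3,2,1,3,2,3,5,4,2,3,1,2,3,6,4,2,3,5,1,0,1,3,2,3,5,6,3,2,3,5,6,3,4,1,2,3,6,1,0])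 (.word [1,3,2,1,6,3,2,1,3,2,3,5,4,2,3,1,2,3,6,4,2,3,5,1,0,1,3,2,3,5,6,3,2,3,5,6,3,4,1,2,3,6,1,0,2,1,6,3,2,3,1,2,3,4,2,3,6,1,2,3,5,6,3,2,0,5,6,3,2,1,4,3,6,2,3,2,3,6,2,3,4,1,2,4,1,2,3,6,3,4,3,2,3,5,0])) (.node .none (.word [1,2,3,5,3,2,1,0,3,5,6,3,2,3,6,4,3,2,3,1,2,3,5,6,3,4,5,6,3,4,1,2,3,6,3,4,3,2,3,5,0,5,6,3,4,1,2,3,6,3,4,3,2,3,5,0]))) (.node .none (.node (.word [1,2,3,5,3,2,1,0,3,5,6,3,2,3,6,4,3,2,3,1,2,3,5,6,3,4,0,1,3,2,3,5,6,3,2,3,5,6,3,4,1,2,3,6,3,2,3,5,6,3,2,3,5,6,3,4,1,2,3,6,1,0,1,2,3,5,3,2,1,0,3,5,6,3,2,3,6,4,3,2,3,1,2,3,5,6,3,4,0,1,3,2,3,5,6,3,2,3,5,6,3,4,1,2,3,6,1,0]) (.word [2,1,6,3,2,3,1,2,3,4,2,3,6,1,2,3,5,6,3,2,0,1,5,3,2,4,3,2,1,3,5,6,3,4,2,3,5,3,1,2,3,4,2,3,2,0,5,6,3,4,1,2,3,6,3,4,3,2,3,5,0]))))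 (.node (.node (.node .none (.word [2,1,6,3,2,3,1,2,3,4,2,3,6,1,2,3,5,6,3,2,0,5,6,3,4,1,2,3,6,3,4,3,2,3,5,0,5,6,3,4,1,2,3,6,3,4,3,2,3,5,1,3,2,3,5,6,3,2,3,5,6,3,4,1,2,3,6,1,0])) (.node (.word [1,2,3,5,3,2,1,0,3,5,6,3,2,3,6,4,3,2,3,1,2,3,5,6,3,4,1,2,3,5,3,2,1,0,3,5,6,3,2,3,6,4,3,2,3,1,2,3,5,6,3,4,0,1,3,2,3,5,6,3,2,3,5,6,3,4,1,2,3,6,1,0,5,6,3,2,1,4,3,6,2,3,2,3,6,2,3,4,1,2,4,1,2,3,6,3,4,3,2,3,5,0]) (.word [1,5,3,2,4,3,2,1,3,5,6,3,4,2,3,5,3,1,2,3,4,2,3,2,0,5,6,3,4,1,2,3,6,3,4,3,2,3,5,0,5,6,3,4,1,2,3,6,3,4,3,2,3,5,0,1,2,3,5,3,2,1,0,3,5,6,3,2,3,6,4,3,2,3,1,2,3,5,6,3,4,0,1,3,2,3,5,6,3,2,3,5,6,3,4,1,2,3,6,1,0]))) (.node .none (.node (.word [0,1,3,2,3,5,6,3,2,3,5,6,3,4,1,2,3,6,1,0,2,1,6,3,2,3,1,2,3,4,2,3,6,1,2,3,5,6,3,2,0,1,5,3,2,4,3,2,1,3,5,6,3,4,2,3,5,3,1,2,3,4,2,3,2,0,5,6,3,4,1,2,3,6,3,4,3,2,3,5,0,5,6,3,4,1,2,3,6,3,4,3,2,3,5,0])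 (.word [0,1,3,2,3,5,6,3,2,3,5,6,3,4,1,2,3,6,1,0,1,3,2,1,6,3,2,1,3,2,3,5,4,2,3,1,2,3,6,4,2,3,5,1,5,6,3,4,1,2,3,6,3,4,3,2,3,5,0,5,6,3,2,1,4,3,6,2,3,2,3,6,2,3,4,1,2,4,1,2,3,6,3,4,3,2,3,5,0])))))) (.node (.node (.node (.node (.word [0,1,3,2,3,5,6,3,2,3,5,6,3,4,1,2,3,6,1,0,5,6,3,4,1,2,3,6,3,4,3,2,3,5,0,1,2,3,5,3,2,1,0,3,5,6,3,2,3,6,4,3,2,3,1,2,3,5,6,3,4,5,6,3,4,1,2,3,6,3,4,3,2,3,5,0]) (.node (.word [5,6,3,4,1,2,3,6,3,4,3,2,3,5,0,1,3,2,1,6,3,2,1,3,2,3,5,4,2,3,1,2,3,6,4,2,3,5,1,5,6,3,2,1,4,3,6,2,3,2,3,6,2,3,4,1,2,3,6,5,0,1,3,2,3,5,6,3,2,3,5,6,3,4,1,2,3,6,1,0,5,6,3,4,1,2,3,6,3,4,3,2,3,5,0]) (.word [5,6,3,2,1,4,3,6,2,3,2,3,6,2,3,4,1,2,4,1,2,3,6,3,4,3,2,3,5,0,1,5,3,2,4,3,2,1,3,5,6,3,4,2,3,5,3,1,2,3,4,2,3,2,0,1,3,2,1,6,3,2,1,3,2,3,5,4,2,3,1,2,3,6,4,2,3,5,1,5,6,3,4,1,2,3,6,3,4,3,2,3,5,0])))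 (.node (.node .none (.word [0,1,3,2,3,5,6,3,2,3,5,6,3,4,1,2,3,6,1,0,5,6,3,4,1,2,3,6,3,4,3,2,3,5,1,3,2,3,5,6,3,2,3,5,6,3,4,1,2,3,6,3,2,3,5,6,3,2,3,5,6,3,4,1,2,3,6,1,0])) (.node (.word [0,1,3,2,3,5,6,3,2,3,5,6,3,4,1,2,3,6,1,0,5,6,3,4,1,2,3,6,3,4,3,2,3,5,1,3,2,3,5,6,3,2,3,5,6,3,4,1,2,3,6,3,2,3,5,6,3,2,3,5,6,3,4,1,2,3,6,1,0,5,6,3,4,1,2,3,6,3,4,3,2,3,5,0]) (.word [1,2,3,5,3,2,1,0,3,5,6,3,2,3,6,4,3,2,3,1,2,3,5,6,3,4,5,6,3,4,1,2,3,6,3,4,3,2,3,5,1,3,2,3,5,6,3,2,3,5,6,3,4,1,2,3,6,1,0,5,6,3,4,1,2,3,6,3,4,3,2,3,5,0])))) (.node (.word [0,1,3,2,3,5,6,3,2,3,5,6,3,4,1,2,3,6,1,0,2,1,6,3,2,3,1,2,3,4,2,3,6,1,2,3,5,6,3,2,1,3,2,3,5,6,3,2,3,5,6,3,4,1,2,3,6,1,0,5,6,3,4,1,2,3,6,3,4,3,2,3,5,0]) (.node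 (.node .none (.word [0,1,3,2,3,5,6,3,2,3,5,6,3,4,1,2,3,6,1,0,1,2,3,5,3,2,1,0,3,5,6,3,2,3,6,4,3,2,3,1,2,3,5,6,3,4,5,6,3,4,1,2,3,6,3,4,3,2,3,5,1,3,2,3,5,6,3,2,3,5,6,3,4,1,2,3,6,3,2,3,5,6,3,2,3,5,6,3,4,1,2,3,6,1,0])) (.node .none (.word [1,2,3,5,3,2,1,0,3,5,6,3,2,3,6,4,3,2,3,1,2,3,5,6,3,4,2,1,6,3,2,3,1,2,3,4,2,3,6,1,2,3,5,6,3,2,1,3,2,3,5,6,3,2,3,5,6,3,4,1,2,3,6,1,0,2,1,6,3,2,3,1,2,3,4,2,3,6,1,2,3,5,6,3,2,1,3,2,3,5,6,3,2,3,5,6,3,4,1,2,3,6,1,0]))))) (.node (.node (.node (.node .none (.word [1,5,3,2,4,3,2,1,3,5,6,3,4,2,3,5,3,1,2,3,4,2,3,2,0,5,6,3,4,1,2,3,6,3,4,3,2,3,5,1,3,2,3,5,6,3,2,3,5,6,3,4,1,2,3,6,3,2,3,5,6,3,2,3,5,6,3,4,1,2,3,6,1,0,5,6,3,4,1,2,3,6,3,4,3,2,3,5,0,5,6,3,4,1,2,3,6,3,4,3,2,3,5,0]))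 (.word [1,5,3,2,4,3,2,1,3,5,6,3,4,2,3,5,3,1,2,3,4,2,3,2,0,1,3,2,1,6,3,2,1,3,2,3,5,4,2,3,1,2,3,6,4,2,3,5,1,5,6,3,4,1,2,3,6,3,4,3,2,3,5,1,3,2,3,5,6,3,2,3,5,6,3,4,1,2,3,6,3,2,3,5,6,3,2,3,5,6,3,4,1,2,3,6,1,0])) (.node .none (.node (.word [1,5,3,2,4,3,2,1,3,5,6,3,4,2,3,5,3,1,2,3,4,2,3,2,0,1,2,3,5,3,2,1,0,3,5,6,3,2,3,6,4,3,2,3,1,2,3,5,6,3,4,1,2,3,5,3,2,1,0,3,5,6,3,2,3,6,4,3,2,3,1,2,3,5,6,3,4,5,6,3,4,1,2,3,6,3,4,3,2,3,5,0,5,6,3,4,1,2,3,6,3,4,3,2,3,5,0]) (.word [0,1,3,2,3,5,6,3,2,3,5,6,3,4,1,2,3,6,1,0,5,6,3,4,1,2,3,6,3,4,3,2,3,5,0,1,3,2,1,6,3,2,1,3,2,3,5,4,2,3,1,2,3,6,4,2,3,5,1,0,1,3,2,3,5,6,3,2,3,5,6,3,4,1,2,3,6,1,0])))) (.node (.node (.node (.word [1,5,3,2,4,3,2,1,3,5,6,3,4,2,3,5,3,1,2,3,4,2,3,2,0,2,1,6,3,2,3,1,2,3,4,2,3,6,1,2,3,5,6,3,2,0,1,2,3,5,3,2,1,0,3,5,6,3,2,3,6,4,3,2,3,1,2,3,5,6,3,4,5,6,3,4,1,2,3,6,3,4,3,2,3,5,0,5,6,3,4,1,2,3,6,3,4,3,2,3,5,0])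 (.word [1,2,3,5,3,2,1,0,3,5,6,3,2,3,6,4,3,2,3,1,2,3,5,6,3,4,5,6,3,4,1,2,3,6,3,4,3,2,3,5,0,5,6,3,2,1,4,3,6,2,3,2,3,6,2,3,4,1,2,3,6,5,0,1,3,2,3,5,6,3,2,3,5,6,3,4,1,2,3,6,1,0,5,6,3,4,1,2,3,6,3,4,3,2,3,5,0])) (.node (.word [5,6,3,4,1,2,3,6,3,4,3,2,3,5,0,1,5,3,2,4,3,2,1,3,5,6,3,4,2,3,5,3,1,2,3,4,2,3,2,0,1,5,3,2,4,3,2,1,3,5,6,3,4,2,3,5,3,1,2,3,4,2,3,2,1,3,2,3,5,6,3,2,3,5,6,3,4,1,2,3,6,1,0,1,2,3,5,3,2,1,0,3,5,6,3,2,3,6,4,3,2,3,1,2,3,5,6,3,4,5,6,3,4,1,2,3,6,3,4,3,2,3,5,0]) (.word [2,1,6,3,2,3,1,2,3,4,2,3,6,1,2,3,5,6,3,2,0,1,3,2,1,6,3,2,1,3,2,3,5,4,2,3,1,2,3,6,4,2,3,5,1,5,6,3,4,1,2,3,6,3,4,3,2,3,5,0,5,6,3,2,1,4,3,6,2,3,2,3,6,2,3,4,1,2,3,6,5,0,1,3,2,3,5,6,3,2,3,5,6,3,4,1,2,3,6,1,0,5,6,3,4,1,2,3,6,3,4,3,2,3,5,0])))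 (.node (.word [5,6,3,4,1,2,3,6,3,4,3,2,3,5,0,1,2,3,5,3,2,1,0,3,5,6,3,2,3,6,4,3,2,3,1,2,3,5,6,3,4,0,1,3,2,3,5,6,3,2,3,5,6,3,4,1,2,3,6,3,2,3,5,6,3,2,3,5,6,3,4,1,2,3,6,1,0]) (.node (.word [1,3,2,1,6,3,2,1,3,2,3,5,4,2,3,1,2,3,6,3,2,1,3,5,6,3,4,2,3,5,3,1,2,3,4,2,3,2,0,5,6,3,4,1,2,3,6,3,4,3,2,3,5,0,5,6,3,4,1,2,3,6,3,4,3,2,3,5,0]) (.word [2,1,6,3,2,3,1,2,3,4,2,3,6,1,2,3,5,6,3,2,1,3,2,3,5,6,3,2,3,5,6,3,4,1,2,3,6,1,0,1,5,3,2,4,3,2,1,3,5,6,3,4,2,3,5,3,1,2,3,4,2,3,2,0,1,2,3,5,3,2,1,0,3,5,6,3,2,3,6,4,3,2,3,1,2,3,5,6,3,4,0,1,3,2,3,5,6,3,2,3,5,6,3,4,1,2,3,6,1,0]))))))) (.node (.node (.node (.node (.node .none (.node (.word [5,6,3,2,1,4,3,6,2,3,2,3,6,2,3,4,1,2,4,1,2,3,6,3,4,3,2,3,5,0,5,6,3,4,1,2,3,6,3,4,3,2,3,5,0,5,6,3,2,1,4,3,6,2,3,2,3,6,2,3,4,1,2,4,1,2,3,6,3,4,3,2,3,5,0])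 (.word [5,6,3,4,1,2,3,6,3,4,3,2,3,5,0,1,2,3,5,3,2,1,0,3,5,6,3,2,3,6,4,3,2,3,1,2,3,5,6,3,4,0,1,3,2,3,5,6,3,2,3,5,6,3,4,1,2,3,6,1,0,1,5,3,2,4,3,2,1,3,5,6,3,4,2,3,5,3,1,2,3,4,2,3,2,0,5,6,3,4,1,2,3,6,3,4,3,2,3,5,0]))) (.node (.node (.word [5,6,3,2,1,4,3,6,2,3,2,3,6,2,3,4,1,2,3,6,5,0,1,3,2,3,5,6,3,2,3,5,6,3,4,1,2,3,6,1,0,1,2,3,5,3,2,1,0,3,5,6,3,2,3,6,4,3,2,3,1,2,3,5,6,3,4,1,2,3,5,3,2,1,0,3,5,6,3,2,3,6,4,3,2,3,1,2,3,5,6,3,4,0,1,3,2,3,5,6,3,2,3,5,6,3,4,1,2,3,6,1,0,5,6,3,4,1,2,3,6,3,4,3,2,3,5,0]) (.word [0,1,3,2,3,5,6,3,2,3,5,6,3,4,1,2,3,6,3,2,3,5,6,3,2,3,5,6,3,4,1,2,3,6,1,0,1,2,3,5,3,2,1,0,3,5,6,3,2,3,6,4,3,2,3,1,2,3,5,6,3,4,5,6,3,4,1,2,3,6,3,4,3,2,3,5,0])) .none)) (.node (.node (.node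 (.word [2,1,6,3,2,3,1,2,3,4,2,3,6,1,2,3,5,6,3,2,0,1,5,3,2,4,3,2,1,3,5,6,3,4,2,3,5,3,1,2,3,4,2,3,2,0,5,6,3,4,1,2,3,6,3,4,3,2,3,5,0,1,3,2,1,6,3,2,1,3,2,3,5,4,2,3,1,2,3,6,4,2,3,5,1,0,1,3,2,3,5,6,3,2,3,5,6,3,4,1,2,3,6,1,0]) (.word [1,3,2,1,6,3,2,1,3,2,3,5,4,2,3,1,2,3,6,3,2,1,3,5,6,3,4,2,3,5,3,1,2,3,4,2,3,2,1,3,2,3,5,6,3,2,3,5,6,3,4,1,2,3,6,1,0,1,3,2,1,6,3,2,1,3,2,3,5,4,2,3,1,2,3,6,4,2,3,5,2,3,5,3,2,1,0,3,5,6,3,2,3,6,4,3,2,3,1,2,3,5,6,3,4,5,6,3,4,1,2,3,6,3,4,3,2,3,5,0])) (.node .none (.word [1,5,3,2,4,3,2,1,3,5,6,3,4,2,3,5,3,1,2,3,4,2,3,2,0,1,2,3,5,3,2,1,0,3,5,6,3,2,3,6,4,3,2,3,1,2,3,5,6,3,4,1,5,3,2,4,3,2,1,3,5,6,3,4,2,3,5,3,1,2,3,4,2,3,2,0,5,6,3,4,1,2,3,6,3,4,3,2,3,5,0]))) (.node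 (.word [0,1,3,2,3,5,6,3,2,3,5,6,3,4,1,2,3,6,3,2,3,5,6,3,2,3,5,6,3,4,1,2,3,6,1,0,1,3,2,1,6,3,2,1,3,2,3,5,4,2,3,1,2,3,6,4,2,3,5,1,0,1,3,2,3,5,6,3,2,3,5,6,3,4,1,2,3,6,1,0]) (.word [0,1,3,2,3,5,6,3,2,3,5,6,3,4,1,2,3,6,1,0,5,6,3,2,1,4,3,6,2,3,2,3,6,2,3,4,1,2,4,1,2,3,6,3,4,3,2,3,5,0])))) (.node (.node (.node .none (.word [5,6,3,4,1,2,3,6,3,4,3,2,3,5,1,3,2,3,5,6,3,2,3,5,6,3,4,1,2,3,6,1,0,1,2,3,5,3,2,1,0,3,5,6,3,2,3,6,4,3,2,3,1,2,3,5,6,3,4,0,1,3,2,3,5,6,3,2,3,5,6,3,4,1,2,3,6,3,2,3,5,6,3,2,3,5,6,3,4,1,2,3,6,1,0])) (.node (.word [0,1,3,2,3,5,6,3,2,3,5,6,3,4,1,2,3,6,3,2,3,5,6,3,2,3,5,6,3,4,1,2,3,6,1,0,1,3,2,1,6,3,2,1,3,2,3,5,4,2,3,1,2,3,6,4,2,3,5,1,0,1,3,2,3,5,6,3,2,3,5,6,3,4,1,2,3,6,3,2,3,5,6,3,2,3,5,6,3,4,1,2,3,6,1,0])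 (.node .none (.word [1,2,3,5,3,2,1,0,3,5,6,3,2,3,6,4,3,2,3,1,2,3,5,6,3,4,5,6,3,2,1,4,3,6,2,3,2,3,6,2,3,4,1,2,3,6,5,1,2,3,5,3,2,1,0,3,5,6,3,2,3,6,4,3,2,3,1,2,3,5,6,3,4,1,3,2,1,6,3,2,1,3,2,3,5,4,2,3,1,2,3,6,4,2,3,5,1,0,1,3,2,3,5,6,3,2,3,5,6,3,4,1,2,3,6,1,0,5,6,3,4,1,2,3,6,3,4,3,2,3,5,0])))) (.node (.node (.word [5,6,3,4,1,2,3,6,3,4,3,2,3,5,0,1,2,3,5,3,2,1,0,3,5,6,3,2,3,6,4,3,2,3,1,2,3,5,6,3,4,5,6,3,2,1,4,3,6,2,3,2,3,6,2,3,4,1,2,3,6,5,1,3,2,1,6,3,2,1,3,2,3,5,4,2,3,1,2,3,6,4,2,3,5,1,5,6,3,4,1,2,3,6,3,4,3,2,3,5,0]) (.node (.word [5,6,3,4,1,2,3,6,3,4,3,2,3,5,0,5,6,3,4,1,2,3,6,3,4,3,2,3,5,0,5,6,3,4,1,2,3,6,3,4,3,2,3,5,0,1,5,3,2,4,3,2,1,3,5,6,3,4,2,3,5,3,1,2,3,4,2,3,2,0,5,6,3,4,1,2,3,6,3,4,3,2,3,5,0])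 (.word [1,2,3,5,3,2,1,0,3,5,6,3,2,3,6,4,3,2,3,1,2,3,5,6,3,4,5,6,3,4,1,2,3,6,3,4,3,2,3,5,0,2,1,6,3,2,3,1,2,3,4,2,3,6,1,2,3,5,6,3,2,1,3,2,3,5,6,3,2,3,5,6,3,4,1,2,3,6,3,2,3,5,6,3,2,3,5,6,3,4,1,2,3,6,1,0]))) (.node (.node (.word [1,3,2,1,6,3,2,1,3,2,3,5,4,2,3,1,2,3,6,4,2,3,5,1,5,6,3,2,1,4,3,6,2,3,2,3,6,2,3,4,1,2,3,6,5,1,5,3,2,4,3,2,1,3,5,6,3,4,2,3,5,3,1,2,3,4,2,3,2,1,3,2,3,5,6,3,2,3,5,6,3,4,1,2,3,6,3,2,3,5,6,3,2,3,5,6,3,4,1,2,3,6,1,0]) (.word [1,3,2,1,6,3,2,1,3,2,3,5,4,2,3,1,2,3,6,4,2,3,5,1,0,1,3,2,3,5,6,3,2,3,5,6,3,4,1,2,3,6,1,0,2,1,6,3,2,3,1,2,3,4,2,3,6,1,2,3,5,6,3,2,1,3,2,3,5,6,3,2,3,5,6,3,4,1,2,3,6,1,0])) (.word [5,6,3,2,1,4,3,6,2,3,2,3,6,2,3,4,1,2,3,6,5,0,1,3,2,3,5,6,3,2,3,5,6,3,4,1,2,3,6,3,2,3,5,6,3,2,3,5,6,3,4,1,2,3,6,1,0,1,5,3,2,4,3,2,1,3,5,6,3,4,2,3,5,3,1,2,3,4,2,3,2,1,3,2,3,5,6,3,2,3,5,6,3,4,1,2,3,6,1,0])))))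 (.node (.node (.node (.node (.word [5,6,3,2,1,4,3,6,2,3,2,3,6,2,3,4,1,2,3,6,5,1,3,2,1,6,3,2,1,3,2,3,5,4,2,3,1,2,3,6,4,2,3,5,1,0,1,3,2,3,5,6,3,2,3,5,6,3,4,1,2,3,6,1,0,1,3,2,1,6,3,2,1,3,2,3,5,4,2,3,1,2,3,6,4,2,3,5,1,0,1,3,2,3,5,6,3,2,3,5,6,3,4,1,2,3,6,1,0,5,6,3,4,1,2,3,6,3,4,3,2,3,5,0]) (.node .none (.word [2,1,6,3,2,3,1,2,3,4,2,3,6,1,2,3,5,6,3,2,0,1,2,3,5,3,2,1,0,3,5,6,3,2,3,6,4,3,2,3,1,2,3,5,6,3,4,0,1,3,2,3,5,6,3,2,3,5,6,3,4,1,2,3,6,1,0,5,6,3,4,1,2,3,6,3,4,3,2,3,5,0]))) (.node .none (.word [5,6,3,4,1,2,3,6,3,4,3,2,3,5,0,5,6,3,2,1,4,3,6,2,3,2,3,6,2,3,4,1,2,3,6,5,0,1,3,2,3,5,6,3,2,3,5,6,3,4,1,2,3,6,3,2,3,5,6,3,2,3,5,6,3,4,1,2,3,6,1,0]))) (.node (.node (.node .none (.word [1,2,3,5,3,2,1,0,3,5,6,3,2,3,6,4,3,2,3,1,2,3,5,6,3,4,1,3,2,1,6,3,2,1,3,2,3,5,4,2,3,1,2,3,6,4,2,3,5,1,0,1,3,2,3,5,6,3,2,3,5,6,3,4,1,2,3,6,1,0,5,6,3,4,1,2,3,6,3,4,3,2,3,5,0]))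 (.word [1,2,3,5,3,2,1,0,3,5,6,3,2,3,6,4,3,2,3,1,2,3,5,6,3,4,5,6,3,2,1,4,3,6,2,3,2,3,6,2,3,4,1,2,3,6,5,1,5,3,2,4,3,2,1,3,5,6,3,4,2,3,5,3,1,2,3,4,2,3,2,0,1,5,3,2,4,3,2,1,3,5,6,3,4,2,3,5,3,1,2,3,4,2,3,2,0,5,6,3,4,1,2,3,6,3,4,3,2,3,5,0])) (.node (.word [5,6,3,2,1,4,3,6,2,3,2,3,6,2,3,4,1,2,3,6,5,0,1,3,2,3,5,6,3,2,3,5,6,3,4,1,2,3,6,1,0,1,2,3,5,3,2,1,0,3,5,6,3,2,3,6,4,3,2,3,1,2,3,5,6,3,4,0,1,3,2,3,5,6,3,2,3,5,6,3,4,1,2,3,6,1,0]) (.node (.word [1,5,3,2,4,3,2,1,3,5,6,3,4,2,3,5,3,1,2,3,4,2,3,2,0,5,6,3,4,1,2,3,6,3,4,3,2,3,5,0,5,6,3,4,1,2,3,6,3,4,3,2,3,5,0,1,3,2,1,6,3,2,1,3,2,3,5,4,2,3,1,2,3,6,4,2,3,5,1,5,6,3,4,1,2,3,6,3,4,3,2,3,5,0]) (.word [5,6,3,2,1,4,3,6,2,3,2,3,6,2,3,4,1,2,3,6,5,1,5,3,2,4,3,2,1,3,5,6,3,4,2,3,5,3,1,2,3,4,2,3,2,0,1,5,3,2,4,3,2,1,3,5,6,3,4,2,3,5,3,1,2,3,4,2,3,2,0,5,6,3,4,1,2,3,6,3,4,3,2,3,5,0])))))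 (.node (.node (.node (.node (.word [2,1,6,3,2,3,1,2,3,4,2,3,6,1,2,3,5,6,3,2,0,5,6,3,4,1,2,3,6,3,4,3,2,3,5,0,1,5,3,2,4,3,2,1,3,5,6,3,4,2,3,5,3,1,2,3,4,2,3,2,1,3,2,3,5,6,3,2,3,5,6,3,4,1,2,3,6,1,0,5,6,3,4,1,2,3,6,3,4,3,2,3,5,0]) (.word [1,2,3,5,3,2,1,0,3,5,6,3,2,3,6,4,3,2,3,1,2,3,5,6,3,4,5,6,3,4,1,2,3,6,3,4,3,2,3,5,0,1,2,3,5,3,2,1,0,3,5,6,3,2,3,6,4,3,2,3,1,2,3,5,6,3,4,0,1,3,2,3,5,6,3,2,3,5,6,3,4,1,2,3,6,1,0,5,6,3,4,1,2,3,6,3,4,3,2,3,5,0])) (.node (.word [1,5,3,2,4,3,2,1,3,5,6,3,4,2,3,5,3,1,2,3,4,2,3,2,1,3,2,3,5,6,3,2,3,5,6,3,4,1,2,3,6,1,0,1,2,3,5,3,2,1,0,3,5,6,3,2,3,6,4,3,2,3,1,2,3,5,6,3,4,0,1,3,2,3,5,6,3,2,3,5,6,3,4,1,2,3,6,1,0]) (.word [5,6,3,4,1,2,3,6,3,4,3,2,3,5,0,1,5,3,2,4,3,2,1,3,5,6,3,4,2,3,5,3,1,2,3,4,2,3,2,0,5,6,3,4,1,2,3,6,3,4,3,2,3,5,0,1,5,3,2,4,3,2,1,3,5,6,3,4,2,3,5,3,1,2,3,4,2,3,2,0,5,6,3,4,1,2,3,6,3,4,3,2,3,5,0])))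 (.node (.node .none (.word [1,5,3,2,4,3,2,1,3,5,6,3,4,2,3,5,3,1,2,3,4,2,3,2,0,1,3,2,1,6,3,2,1,3,2,3,5,4,2,3,1,2,3,6,4,2,3,5,1,5,6,3,2,1,4,3,6,2,3,2,3,6,2,3,4,1,2,3,6,5,1,3,2,1,6,3,2,1,3,2,3,5,4,2,3,1,2,3,6,4,2,3,5,1,5,6,3,4,1,2,3,6,3,4,3,2,3,5,0,5,6,3,4,1,2,3,6,3,4,3,2,3,5,0])) (.word [5,6,3,4,1,2,3,6,3,4,3,2,3,5,0,5,6,3,2,1,4,3,6,2,3,2,3,6,2,3,4,1,2,4,1,2,3,6,3,4,3,2,3,5,0,1,2,3,5,3,2,1,0,3,5,6,3,2,3,6,4,3,2,3,1,2,3,5,6,3,4,5,6,3,4,1,2,3,6,3,4,3,2,3,5,0]))) (.node (.node (.node (.word [0,1,3,2,3,5,6,3,2,3,5,6,3,4,1,2,3,6,1,0,1,5,3,2,4,3,2,1,3,5,6,3,4,2,3,5,3,1,2,3,4,2,3,2,0,1,2,3,5,3,2,1,0,3,5,6,3,2,3,6,4,3,2,3,1,2,3,5,6,3,4,1,2,3,5,3,2,1,0,3,5,6,3,2,3,6,4,3,2,3,1,2,3,5,6,3,4,0,1,3,2,3,5,6,3,2,3,5,6,3,4,1,2,3,6,1,0,5,6,3,4,1,2,3,6,3,4,3,2,3,5,0])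 (.word [5,6,3,4,1,2,3,6,3,4,3,2,3,5,0,1,2,3,5,3,2,1,0,3,5,6,3,2,3,6,4,3,2,3,1,2,3,5,6,3,4,5,6,3,4,1,2,3,6,3,4,3,2,3,5,0,5,6,3,4,1,2,3,6,3,4,3,2,3,5,0])) (.node .none (.word [5,6,3,4,1,2,3,6,3,4,3,2,3,5,1,3,2,3,5,6,3,2,3,5,6,3,4,1,2,3,6,3,2,3,5,6,3,2,3,5,6,3,4,1,2,3,6,1,0,5,6,3,4,1,2,3,6,3,4,3,2,3,5,0,5,6,3,4,1,2,3,6,3,4,3,2,3,5,0]))) (.node .none (.node (.word [1,2,3,5,3,2,1,0,3,5,6,3,2,3,6,4,3,2,3,1,2,3,5,6,3,4,1,5,3,2,4,3,2,1,3,5,6,3,4,2,3,5,3,1,2,3,4,2,3,2,1,3,2,3,5,6,3,2,3,5,6,3,4,1,2,3,6,1,0,5,6,3,4,1,2,3,6,3,4,3,2,3,5,0]) (.word [1,2,3,5,3,2,1,0,3,5,6,3,2,3,6,4,3,2,3,1,2,3,5,6,3,4,0,1,3,2,3,5,6,3,2,3,5,6,3,4,1,2,3,6,1,0,1,3,2,1,6,3,2,1,3,2,3,5,4,2,3,1,2,3,6,4,2,3,5,1,5,6,3,4,1,2,3,6,3,4,3,2,3,5,0]))))))))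

/-- A subtree. -/
def sub21 : WTree :=
  (.node (.node (.node (.node (.node (.node (.node (.node .none (.word [2,1,6,3,2,3,1,2,3,4,2,3,6,1,2,3,5,6,3,2,0,1,2,3,5,3,2,1,0,3,5,6,3,2,3,6,4,3,2,3,1,2,3,5,6,3,4,0,1,3,2,3,5,6,3,2,3,5,6,3,4,1,2,3,6,1,0])) (.word [2,1,6,3,2,3,1,2,3,4,2,3,6,1,2,3,5,6,3,2,0,5,6,3,4,1,2,3,6,3,4,3,2,3,5,0,5,6,3,2,1,4,3,6,2,3,2,3,6,2,3,4,1,2,3,6,5,0,1,3,2,3,5,6,3,2,3,5,6,3,4,1,2,3,6,1,0,5,6,3,4,1,2,3,6,3,4,3,2,3,5,0])) (.node (.word [1,2,3,5,3,2,1,0,3,5,6,3,2,3,6,4,3,2,3,1,2,3,5,6,3,4,0,1,3,2,3,5,6,3,2,3,5,6,3,4,1,2,3,6,1,0,1,5,3,2,4,3,2,1,3,5,6,3,4,2,3,5,3,1,2,3,4,2,3,2,1,3,2,3,5,6,3,2,3,5,6,3,4,1,2,3,6,1,0,5,6,3,4,1,2,3,6,3,4,3,2,3,5,0,5,6,3,4,1,2,3,6,3,4,3,2,3,5,0])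 (.word [1,2,3,5,3,2,1,0,3,5,6,3,2,3,6,4,3,2,3,1,2,3,5,6,3,4,2,1,6,3,2,3,1,2,3,4,2,3,6,1,2,3,5,6,3,2,0,1,2,3,5,3,2,1,0,3,5,6,3,2,3,6,4,3,2,3,1,2,3,5,6,3,4,5,6,3,4,1,2,3,6,3,4,3,2,3,5,0,5,6,3,4,1,2,3,6,3,4,3,2,3,5,0]))) (.node (.node (.word [0,1,3,2,3,5,6,3,2,3,5,6,3,4,1,2,3,6,1,0,5,6,3,4,1,2,3,6,3,4,3,2,3,5,0,2,1,6,3,2,3,1,2,3,4,2,3,6,1,2,3,5,6,3,2,1,3,2,3,5,6,3,2,3,5,6,3,4,1,2,3,6,1,0,5,6,3,4,1,2,3,6,3,4,3,2,3,5,0]) (.word [5,6,3,4,1,2,3,6,3,4,3,2,3,5,0,5,6,3,4,1,2,3,6,3,4,3,2,3,5,0,5,6,3,4,1,2,3,6,3,4,3,2,3,5,1,3,2,3,5,6,3,2,3,5,6,3,4,1,2,3,6,1,0,5,6,3,4,1,2,3,6,3,4,3,2,3,5,0])) (.node (.word [5,6,3,4,1,2,3,6,3,4,3,2,3,5,1,3,2,3,5,6,3,2,3,5,6,3,4,1,2,3,6,1,0,5,6,3,4,1,2,3,6,3,4,3,2,3,5,0,5,6,3,2,1,4,3,6,2,3,2,3,6,2,3,4,1,2,4,1,2,3,6,3,4,3,2,3,5,0])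 (.word [1,5,3,2,4,3,2,1,3,5,6,3,4,2,3,5,3,1,2,3,4,2,3,2,0,5,6,3,4,1,2,3,6,3,4,3,2,3,5,1,3,2,3,5,6,3,2,3,5,6,3,4,1,2,3,6,1,0,5,6,3,4,1,2,3,6,3,4,3,2,3,5,0])))) (.node (.node (.node (.word [5,6,3,4,1,2,3,6,3,4,3,2,3,5,0,2,1,6,3,2,3,1,2,3,4,2,3,6,1,2,3,5,6,3,2,0,1,3,2,1,6,3,2,1,3,2,3,5,4,2,3,1,2,3,6,4,2,3,5,1,0,1,3,2,3,5,6,3,2,3,5,6,3,4,1,2,3,6,1,0,5,6,3,4,1,2,3,6,3,4,3,2,3,5,0]) (.word [1,5,3,2,4,3,2,1,3,5,6,3,4,2,3,5,3,1,2,3,4,2,3,2,1,3,2,3,5,6,3,2,3,5,6,3,4,1,2,3,6,1,0,1,5,3,2,4,3,2,1,3,5,6,3,4,2,3,5,3,1,2,3,4,2,3,2,1,3,2,3,5,6,3,2,3,5,6,3,4,1,2,3,6,1,0])) (.node .none (.word [0,1,3,2,3,5,6,3,2,3,5,6,3,4,1,2,3,6,1,0,5,6,3,4,1,2,3,6,3,4,3,2,3,5,0,5,6,3,4,1,2,3,6,3,4,3,2,3,5,0,5,6,3,2,1,4,3,6,2,3,2,3,6,2,3,4,1,2,3,6,5,0,1,3,2,3,5,6,3,2,3,5,6,3,4,1,2,3,6,1,0,5,6,3,4,1,2,3,6,3,4,3,2,3,5,0])))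 (.node .none (.node (.word [5,6,3,4,1,2,3,6,3,4,3,2,3,5,0,5,6,3,2,1,4,3,6,2,3,2,3,6,2,3,4,1,2,3,6,5,1,5,3,2,4,3,2,1,3,5,6,3,4,2,3,5,3,1,2,3,4,2,3,2,0,5,6,3,4,1,2,3,6,3,4,3,2,3,5,0,5,6,3,4,1,2,3,6,3,4,3,2,3,5,0]) (.word [1,2,3,5,3,2,1,0,3,5,6,3,2,3,6,4,3,2,3,1,2,3,5,6,3,4,5,6,3,2,1,4,3,6,2,3,2,3,6,2,3,4,1,2,4,1,2,3,6,3,4,3,2,3,5,0,5,6,3,4,1,2,3,6,3,4,3,2,3,5,0]))))) (.node (.node (.node (.node (.word [5,6,3,4,1,2,3,6,3,4,3,2,3,5,0,1,5,3,2,4,3,2,1,3,5,6,3,4,2,3,5,3,1,2,3,4,2,3,2,0,1,5,3,2,4,3,2,1,3,5,6,3,4,2,3,5,3,1,2,3,4,2,3,2,1,3,2,3,5,6,3,2,3,5,6,3,4,1,2,3,6,1,0]) (.word [1,3,2,1,6,3,2,1,3,2,3,5,4,2,3,1,2,3,6,3,2,1,3,5,6,3,4,2,3,5,3,1,2,3,4,2,3,2,0,1,5,3,2,4,3,2,1,3,5,6,3,4,2,3,5,3,1,2,3,4,2,3,2,1,3,2,3,5,6,3,2,3,5,6,3,4,1,2,3,6,1,0]))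 (.node .none (.word [2,1,6,3,2,3,1,2,3,4,2,3,6,1,2,3,5,6,3,2,1,3,2,3,5,6,3,2,3,5,6,3,4,1,2,3,6,1,0,1,5,3,2,4,3,2,1,3,5,6,3,4,2,3,5,3,1,2,3,4,2,3,2,0,1,3,2,1,6,3,2,1,3,2,3,5,4,2,3,1,2,3,6,4,2,3,5,1,5,6,3,4,1,2,3,6,3,4,3,2,3,5,0]))) (.node (.node (.word [1,2,3,5,3,2,1,0,3,5,6,3,2,3,6,4,3,2,3,1,2,3,5,6,3,4,0,1,3,2,3,5,6,3,2,3,5,6,3,4,1,2,3,6,1,0,5,6,3,4,1,2,3,6,3,4,3,2,3,5,1,3,2,3,5,6,3,2,3,5,6,3,4,1,2,3,6,3,2,3,5,6,3,2,3,5,6,3,4,1,2,3,6,1,0,5,6,3,4,1,2,3,6,3,4,3,2,3,5,0]) (.word [5,6,3,4,1,2,3,6,3,4,3,2,3,5,0,1,5,3,2,4,3,2,1,3,5,6,3,4,2,3,5,3,1,2,3,4,2,3,2,1,3,2,3,5,6,3,2,3,5,6,3,4,1,2,3,6,1,0,1,2,3,5,3,2,1,0,3,5,6,3,2,3,6,4,3,2,3,1,2,3,5,6,3,4,0,1,3,2,3,5,6,3,2,3,5,6,3,4,1,2,3,6,1,0]))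 (.word [5,6,3,4,1,2,3,6,3,4,3,2,3,5,0,5,6,3,4,1,2,3,6,3,4,3,2,3,5,0,1,2,3,5,3,2,1,0,3,5,6,3,2,3,6,4,3,2,3,1,2,3,5,6,3,4,0,1,3,2,3,5,6,3,2,3,5,6,3,4,1,2,3,6,1,0,5,6,3,4,1,2,3,6,3,4,3,2,3,5,0]))) (.node (.node .none (.node .none (.word [1,5,3,2,4,3,2,1,3,5,6,3,4,2,3,5,3,1,2,3,4,2,3,2,0,5,6,3,4,1,2,3,6,3,4,3,2,3,5,0,1,3,2,1,6,3,2,1,3,2,3,5,4,2,3,1,2,3,6,4,2,3,5,1,0,1,3,2,3,5,6,3,2,3,5,6,3,4,1,2,3,6,1,0,5,6,3,4,1,2,3,6,3,4,3,2,3,5,0]))) (.node (.node (.word [0,1,3,2,3,5,6,3,2,3,5,6,3,4,1,2,3,6,1,0,5,6,3,2,1,4,3,6,2,3,2,3,6,2,3,4,1,2,4,1,2,3,6,3,4,3,2,3,5,0,1,5,3,2,4,3,2,1,3,5,6,3,4,2,3,5,3,1,2,3,4,2,3,2,1,3,2,3,5,6,3,2,3,5,6,3,4,1,2,3,6,1,0]) (.word [1,2,3,5,3,2,1,0,3,5,6,3,2,3,6,4,3,2,3,1,2,3,5,6,3,4,1,2,3,5,3,2,1,0,3,5,6,3,2,3,6,4,3,2,3,1,2,3,5,6,3,4,1,2,3,5,3,2,1,0,3,5,6,3,2,3,6,4,3,2,3,1,2,3,5,6,3,4,5,6,3,4,1,2,3,6,3,4,3,2,3,5,0]))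 (.node (.word [5,6,3,4,1,2,3,6,3,4,3,2,3,5,0,1,5,3,2,4,3,2,1,3,5,6,3,4,2,3,5,3,1,2,3,4,2,3,2,0,1,2,3,5,3,2,1,0,3,5,6,3,2,3,6,4,3,2,3,1,2,3,5,6,3,4,5,6,3,4,1,2,3,6,3,4,3,2,3,5,0,5,6,3,4,1,2,3,6,3,4,3,2,3,5,0]) (.word [1,3,2,1,6,3,2,1,3,2,3,5,4,2,3,1,2,3,6,4,2,3,5,1,0,1,3,2,3,5,6,3,2,3,5,6,3,4,1,2,3,6,1,0,5,6,3,2,1,4,3,6,2,3,2,3,6,2,3,4,1,2,3,6,5,0,1,3,2,3,5,6,3,2,3,5,6,3,4,1,2,3,6,3,2,3,5,6,3,2,3,5,6,3,4,1,2,3,6,1,0])))))) (.node (.node (.node (.node (.node .none (.word [1,3,2,1,6,3,2,1,3,2,3,5,4,2,3,1,2,3,6,4,2,3,5,1,0,1,3,2,3,5,6,3,2,3,5,6,3,4,1,2,3,6,1,0,5,6,3,4,1,2,3,6,3,4,3,2,3,5,1,3,2,3,5,6,3,2,3,5,6,3,4,1,2,3,6,1,0,5,6,3,4,1,2,3,6,3,4,3,2,3,5,0])) .none) (.node (.node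 (.word [1,5,3,2,4,3,2,1,3,5,6,3,4,2,3,5,3,1,2,3,4,2,3,2,0,1,5,3,2,4,3,2,1,3,5,6,3,4,2,3,5,3,1,2,3,4,2,3,2,0,1,2,3,5,3,2,1,0,3,5,6,3,2,3,6,4,3,2,3,1,2,3,5,6,3,4,0,1,3,2,3,5,6,3,2,3,5,6,3,4,1,2,3,6,1,0,5,6,3,4,1,2,3,6,3,4,3,2,3,5,0]) (.word [0,1,3,2,3,5,6,3,2,3,5,6,3,4,1,2,3,6,1,0,5,6,3,4,1,2,3,6,3,4,3,2,3,5,0,5,6,3,4,1,2,3,6,3,4,3,2,3,5,0])) .none)) (.node (.node .none (.node .none (.word [1,5,3,2,4,3,2,1,3,5,6,3,4,2,3,5,3,1,2,3,4,2,3,2,0,2,1,6,3,2,3,1,2,3,4,2,3,6,1,2,3,5,6,3,2,1,3,2,3,5,6,3,2,3,5,6,3,4,1,2,3,6,1,0,5,6,3,4,1,2,3,6,3,4,3,2,3,5,0]))) (.node (.word [0,1,3,2,3,5,6,3,2,3,5,6,3,4,1,2,3,6,1,0,1,5,3,2,4,3,2,1,3,5,6,3,4,2,3,5,3,1,2,3,4,2,3,2,0,1,2,3,5,3,2,1,0,3,5,6,3,2,3,6,4,3,2,3,1,2,3,5,6,3,4,0,1,3,2,3,5,6,3,2,3,5,6,3,4,1,2,3,6,1,0,5,6,3,4,1,2,3,6,3,4,3,2,3,5,0])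 (.node (.word [1,5,3,2,4,3,2,1,3,5,6,3,4,2,3,5,3,1,2,3,4,2,3,2,0,1,2,3,5,3,2,1,0,3,5,6,3,2,3,6,4,3,2,3,1,2,3,5,6,3,4,0,1,3,2,3,5,6,3,2,3,5,6,3,4,1,2,3,6,1,0,2,1,6,3,2,3,1,2,3,4,2,3,6,1,2,3,5,6,3,2,1,3,2,3,5,6,3,2,3,5,6,3,4,1,2,3,6,1,0]) (.word [1,5,3,2,4,3,2,1,3,5,6,3,4,2,3,5,3,1,2,3,4,2,3,2,0,1,2,3,5,3,2,1,0,3,5,6,3,2,3,6,4,3,2,3,1,2,3,5,6,3,4,0,1,3,2,3,5,6,3,2,3,5,6,3,4,1,2,3,6,1,0,1,3,2,1,6,3,2,1,3,2,3,5,4,2,3,1,2,3,6,4,2,3,5,1,5,6,3,4,1,2,3,6,3,4,3,2,3,5,0]))))) (.node (.node (.node (.node .none (.word [0,1,3,2,3,5,6,3,2,3,5,6,3,4,1,2,3,6,1,0,2,1,6,3,2,3,1,2,3,4,2,3,6,1,2,3,5,6,3,2,0,5,6,3,2,1,4,3,6,2,3,2,3,6,2,3,4,1,2,3,6,5,0,1,3,2,3,5,6,3,2,3,5,6,3,4,1,2,3,6,3,2,3,5,6,3,2,3,5,6,3,4,1,2,3,6,1,0]))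 (.word [1,2,3,5,3,2,1,0,3,5,6,3,2,3,6,4,3,2,3,1,2,3,5,6,3,4,1,5,3,2,4,3,2,1,3,5,6,3,4,2,3,5,3,1,2,3,4,2,3,2,0,5,6,3,4,1,2,3,6,3,4,3,2,3,5,1,3,2,3,5,6,3,2,3,5,6,3,4,1,2,3,6,3,2,3,5,6,3,2,3,5,6,3,4,1,2,3,6,1,0])) (.node (.word [0,1,3,2,3,5,6,3,2,3,5,6,3,4,1,2,3,6,1,0,1,5,3,2,4,3,2,1,3,5,6,3,4,2,3,5,3,1,2,3,4,2,3,2,1,3,2,3,5,6,3,2,3,5,6,3,4,1,2,3,6,1,0,1,3,2,1,6,3,2,1,3,2,3,5,4,2,3,1,2,3,6,4,2,3,5,1,5,6,3,4,1,2,3,6,3,4,3,2,3,5,0]) (.word [1,2,3,5,3,2,1,0,3,5,6,3,2,3,6,4,3,2,3,1,2,3,5,6,3,4,5,6,3,4,1,2,3,6,3,4,3,2,3,5,0,5,6,3,2,1,4,3,6,2,3,2,3,6,2,3,4,1,2,4,1,2,3,6,3,4,3,2,3,5,0]))) (.node (.node (.node .none (.word [5,6,3,4,1,2,3,6,3,4,3,2,3,5,0,1,2,3,5,3,2,1,0,3,5,6,3,2,3,6,4,3,2,3,1,2,3,5,6,3,4,5,6,3,4,1,2,3,6,3,4,3,2,3,5,0,2,1,6,3,2,3,1,2,3,4,2,3,6,1,2,3,5,6,3,2,1,3,2,3,5,6,3,2,3,5,6,3,4,1,2,3,6,1,0]))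 (.node (.word [1,5,3,2,4,3,2,1,3,5,6,3,4,2,3,5,3,1,2,3,4,2,3,2,1,3,2,3,5,6,3,2,3,5,6,3,4,1,2,3,6,1,0,1,2,3,5,3,2,1,0,3,5,6,3,2,3,6,4,3,2,3,1,2,3,5,6,3,4,0,1,3,2,3,5,6,3,2,3,5,6,3,4,1,2,3,6,1,0,5,6,3,4,1,2,3,6,3,4,3,2,3,5,0]) (.word [1,5,3,2,4,3,2,1,3,5,6,3,4,2,3,5,3,1,2,3,4,2,3,2,0,1,3,2,1,6,3,2,1,3,2,3,5,4,2,3,1,2,3,6,4,2,3,5,1,5,6,3,4,1,2,3,6,3,4,3,2,3,5,1,3,2,3,5,6,3,2,3,5,6,3,4,1,2,3,6,1,0,5,6,3,4,1,2,3,6,3,4,3,2,3,5,0]))) (.node (.node .none (.word [5,6,3,2,1,4,3,6,2,3,2,3,6,2,3,4,1,2,3,6,5,0,1,3,2,3,5,6,3,2,3,5,6,3,4,1,2,3,6,3,2,3,5,6,3,2,3,5,6,3,4,1,2,3,6,1,0])) (.word [1,5,3,2,4,3,2,1,3,5,6,3,4,2,3,5,3,1,2,3,4,2,3,2,0,1,3,2,1,6,3,2,1,3,2,3,5,4,2,3,1,2,3,6,4,2,3,5,1,5,6,3,4,1,2,3,6,3,4,3,2,3,5,0,1,2,3,5,3,2,1,0,3,5,6,3,2,3,6,4,3,2,3,1,2,3,5,6,3,4,0,1,3,2,3,5,6,3,2,3,5,6,3,4,1,2,3,6,1,0]))))))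 (.node (.node (.node (.node (.node .none (.node (.word [0,1,3,2,3,5,6,3,2,3,5,6,3,4,1,2,3,6,1,0,5,6,3,2,1,4,3,6,2,3,2,3,6,2,3,4,1,2,3,6,5,1,2,3,5,3,2,1,0,3,5,6,3,2,3,6,4,3,2,3,1,2,3,5,6,3,4,5,6,3,4,1,2,3,6,3,4,3,2,3,5,0,5,6,3,4,1,2,3,6,3,4,3,2,3,5,0]) (.word [0,1,3,2,3,5,6,3,2,3,5,6,3,4,1,2,3,6,1,0,1,2,3,5,3,2,1,0,3,5,6,3,2,3,6,4,3,2,3,1,2,3,5,6,3,4,5,6,3,4,1,2,3,6,3,4,3,2,3,5,0,1,3,2,1,6,3,2,1,3,2,3,5,4,2,3,1,2,3,6,4,2,3,5,1,5,6,3,4,1,2,3,6,3,4,3,2,3,5,0]))) (.node (.node (.word [5,6,3,2,1,4,3,6,2,3,2,3,6,2,3,4,1,2,3,6,5,1,2,3,5,3,2,1,0,3,5,6,3,2,3,6,4,3,2,3,1,2,3,5,6,3,4,1,5,3,2,4,3,2,1,3,5,6,3,4,2,3,5,3,1,2,3,4,2,3,2,0,5,6,3,4,1,2,3,6,3,4,3,2,3,5,0,5,6,3,4,1,2,3,6,3,4,3,2,3,5,0])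 (.word [1,2,3,5,3,2,1,0,3,5,6,3,2,3,6,4,3,2,3,1,2,3,5,6,3,4,5,6,3,2,1,4,3,6,2,3,2,3,6,2,3,4,1,2,3,6,5,0,1,3,2,3,5,6,3,2,3,5,6,3,4,1,2,3,6,3,2,3,5,6,3,2,3,5,6,3,4,1,2,3,6,1,0])) (.word [1,3,2,1,6,3,2,1,3,2,3,5,4,2,3,1,2,3,6,3,2,1,3,5,6,3,4,2,3,5,3,1,2,3,4,2,3,2,0,1,5,3,2,4,3,2,1,3,5,6,3,4,2,3,5,3,1,2,3,4,2,3,2,0,5,6,3,4,1,2,3,6,3,4,3,2,3,5,0]))) (.node (.node (.node (.word [1,2,3,5,3,2,1,0,3,5,6,3,2,3,6,4,3,2,3,1,2,3,5,6,3,4,1,5,3,2,4,3,2,1,3,5,6,3,4,2,3,5,3,1,2,3,4,2,3,2,1,3,2,3,5,6,3,2,3,5,6,3,4,1,2,3,6,1,0,1,3,2,1,6,3,2,1,3,2,3,5,4,2,3,1,2,3,6,4,2,3,5,1,0,1,3,2,3,5,6,3,2,3,5,6,3,4,1,2,3,6,1,0]) (.word [1,3,2,1,6,3,2,1,3,2,3,5,4,2,3,1,2,3,6,4,2,3,5,1,5,6,3,4,1,2,3,6,3,4,3,2,3,5,0,5,6,3,4,1,2,3,6,3,4,3,2,3,5,1,3,2,3,5,6,3,2,3,5,6,3,4,1,2,3,6,1,0,5,6,3,4,1,2,3,6,3,4,3,2,3,5,0]))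 (.node (.word [5,6,3,4,1,2,3,6,3,4,3,2,3,5,1,3,2,3,5,6,3,2,3,5,6,3,4,1,2,3,6,1,0,1,3,2,1,6,3,2,1,3,2,3,5,4,2,3,1,2,3,6,3,2,1,3,5,6,3,4,2,3,5,3,1,2,3,4,2,3,2,1,3,2,3,5,6,3,2,3,5,6,3,4,1,2,3,6,1,0,5,6,3,4,1,2,3,6,3,4,3,2,3,5,0]) (.word [0,1,3,2,3,5,6,3,2,3,5,6,3,4,1,2,3,6,1,0,1,5,3,2,4,3,2,1,3,5,6,3,4,2,3,5,3,1,2,3,4,2,3,2,0,1,5,3,2,4,3,2,1,3,5,6,3,4,2,3,5,3,1,2,3,4,2,3,2,0,5,6,3,4,1,2,3,6,3,4,3,2,3,5,0,5,6,3,4,1,2,3,6,3,4,3,2,3,5,0]))) (.node (.node .none (.word [1,5,3,2,4,3,2,1,3,5,6,3,4,2,3,5,3,1,2,3,4,2,3,2,0,1,5,3,2,4,3,2,1,3,5,6,3,4,2,3,5,3,1,2,3,4,2,3,2,0,2,1,6,3,2,3,1,2,3,4,2,3,6,1,2,3,5,6,3,2,1,3,2,3,5,6,3,2,3,5,6,3,4,1,2,3,6,1,0,5,6,3,4,1,2,3,6,3,4,3,2,3,5,0])) (.word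 [1,3,2,1,6,3,2,1,3,2,3,5,4,2,3,1,2,3,6,4,2,3,5,1,5,6,3,2,1,4,3,6,2,3,2,3,6,2,3,4,1,2,4,1,2,3,6,3,4,3,2,3,5,1,3,2,3,5,6,3,2,3,5,6,3,4,1,2,3,6,1,0,5,6,3,4,1,2,3,6,3,4,3,2,3,5,0,5,6,3,4,1,2,3,6,3,4,3,2,3,5,0])))) (.node (.node (.node (.node .none (.word [1,5,3,2,4,3,2,1,3,5,6,3,4,2,3,5,3,1,2,3,4,2,3,2,0,1,5,3,2,4,3,2,1,3,5,6,3,4,2,3,5,3,1,2,3,4,2,3,2,0,5,6,3,4,1,2,3,6,3,4,3,2,3,5,0,5,6,3,4,1,2,3,6,3,4,3,2,3,5,0])) (.node (.word [5,6,3,4,1,2,3,6,3,4,3,2,3,5,0,1,3,2,1,6,3,2,1,3,2,3,5,4,2,3,1,2,3,6,4,2,3,5,1,0,1,3,2,3,5,6,3,2,3,5,6,3,4,1,2,3,6,3,2,3,5,6,3,2,3,5,6,3,4,1,2,3,6,1,0]) (.word [1,2,3,5,3,2,1,0,3,5,6,3,2,3,6,4,3,2,3,1,2,3,5,6,3,4,1,5,3,2,4,3,2,1,3,5,6,3,4,2,3,5,3,1,2,3,4,2,3,2,0,1,5,3,2,4,3,2,1,3,5,6,3,4,2,3,5,3,1,2,3,4,2,3,2,0,5,6,3,4,1,2,3,6,3,4,3,2,3,5,0,5,6,3,4,1,2,3,6,3,4,3,2,3,5,0])))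 (.node (.node (.word [0,1,3,2,3,5,6,3,2,3,5,6,3,4,1,2,3,6,3,2,3,5,6,3,2,3,5,6,3,4,1,2,3,6,1,0,1,3,2,1,6,3,2,1,3,2,3,5,4,2,3,1,2,3,6,4,2,3,5,1,5,6,3,4,1,2,3,6,3,4,3,2,3,5,1,3,2,3,5,6,3,2,3,5,6,3,4,1,2,3,6,1,0]) (.word [1,5,3,2,4,3,2,1,3,5,6,3,4,2,3,5,3,1,2,3,4,2,3,2,0,1,3,2,1,6,3,2,1,3,2,3,5,4,2,3,1,2,3,6,4,2,3,5,1,5,6,3,4,1,2,3,6,3,4,3,2,3,5,0])) (.node .none (.word [0,1,3,2,3,5,6,3,2,3,5,6,3,4,1,2,3,6,1,0,1,2,3,5,3,2,1,0,3,5,6,3,2,3,6,4,3,2,3,1,2,3,5,6,3,4,1,5,3,2,4,3,2,1,3,5,6,3,4,2,3,5,3,1,2,3,4,2,3,2,0,5,6,3,4,1,2,3,6,3,4,3,2,3,5,0,5,6,3,4,1,2,3,6,3,4,3,2,3,5,0])))) (.node (.node (.node (.word [1,3,2,1,6,3,2,1,3,2,3,5,4,2,3,1,2,3,6,4,2,3,5,1,5,6,3,4,1,2,3,6,3,4,3,2,3,5,0,1,3,2,1,6,3,2,1,3,2,3,5,4,2,3,1,2,3,6,4,2,3,5,1,5,6,3,4,1,2,3,6,3,4,3,2,3,5,0,5,6,3,4,1,2,3,6,3,4,3,2,3,5,0])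 (.word [5,6,3,4,1,2,3,6,3,4,3,2,3,5,0,5,6,3,4,1,2,3,6,3,4,3,2,3,5,0,1,3,2,1,6,3,2,1,3,2,3,5,4,2,3,1,2,3,6,4,2,3,5,2,3,5,3,2,1,0,3,5,6,3,2,3,6,4,3,2,3,1,2,3,5,6,3,4,5,6,3,4,1,2,3,6,3,4,3,2,3,5,0])) (.node .none (.word [1,5,3,2,4,3,2,1,3,5,6,3,4,2,3,5,3,1,2,3,4,2,3,2,0,5,6,3,4,1,2,3,6,3,4,3,2,3,5,0,1,3,2,1,6,3,2,1,3,2,3,5,4,2,3,1,2,3,6,4,2,3,5,1,0,1,3,2,3,5,6,3,2,3,5,6,3,4,1,2,3,6,1,0]))) (.node .none (.node (.word [5,6,3,4,1,2,3,6,3,4,3,2,3,5,0,1,5,3,2,4,3,2,1,3,5,6,3,4,2,3,5,3,1,2,3,4,2,3,2,0,1,5,3,2,4,3,2,1,3,5,6,3,4,2,3,5,3,1,2,3,4,2,3,2,0,5,6,3,4,1,2,3,6,3,4,3,2,3,5,1,3,2,3,5,6,3,2,3,5,6,3,4,1,2,3,6,1,0]) (.word [1,3,2,1,6,3,2,1,3,2,3,5,4,2,3,1,2,3,6,4,2,3,5,1,5,6,3,2,1,4,3,6,2,3,2,3,6,2,3,4,1,2,3,6,5,0,1,3,2,3,5,6,3,2,3,5,6,3,4,1,2,3,6,1,0,1,5,3,2,4,3,2,1,3,5,6,3,4,2,3,5,3,1,2,3,4,2,3,2,1,3,2,3,5,6,3,2,3,5,6,3,4,1,2,3,6,1,0,5,6,3,4,1,2,3,6,3,4,3,2,3,5,0]))))))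 (.node (.node (.node (.node .none (.node (.word [2,1,6,3,2,3,1,2,3,4,2,3,6,1,2,3,5,6,3,2,0,1,5,3,2,4,3,2,1,3,5,6,3,4,2,3,5,3,1,2,3,4,2,3,2,1,3,2,3,5,6,3,2,3,5,6,3,4,1,2,3,6,1,0,1,3,2,1,6,3,2,1,3,2,3,5,4,2,3,1,2,3,6,4,2,3,5,1,5,6,3,4,1,2,3,6,3,4,3,2,3,5,0]) (.word [0,1,3,2,3,5,6,3,2,3,5,6,3,4,1,2,3,6,1,0,1,5,3,2,4,3,2,1,3,5,6,3,4,2,3,5,3,1,2,3,4,2,3,2,0,5,6,3,2,1,4,3,6,2,3,2,3,6,2,3,4,1,2,3,6,5,1,2,3,5,3,2,1,0,3,5,6,3,2,3,6,4,3,2,3,1,2,3,5,6,3,4,0,1,3,2,3,5,6,3,2,3,5,6,3,4,1,2,3,6,1,0,5,6,3,4,1,2,3,6,3,4,3,2,3,5,0]))) (.node (.word [1,5,3,2,4,3,2,1,3,5,6,3,4,2,3,5,3,1,2,3,4,2,3,2,1,3,2,3,5,6,3,2,3,5,6,3,4,1,2,3,6,1,0,5,6,3,2,1,4,3,6,2,3,2,3,6,2,3,4,1,2,3,6,5,1,2,3,5,3,2,1,0,3,5,6,3,2,3,6,4,3,2,3,1,2,3,5,6,3,4,0,1,3,2,3,5,6,3,2,3,5,6,3,4,1,2,3,6,1,0])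 (.word [5,6,3,2,1,4,3,6,2,3,2,3,6,2,3,4,1,2,3,6,5,0,1,3,2,3,5,6,3,2,3,5,6,3,4,1,2,3,6,1,0,5,6,3,4,1,2,3,6,3,4,3,2,3,5,0,5,6,3,2,1,4,3,6,2,3,2,3,6,2,3,4,1,2,4,1,2,3,6,3,4,3,2,3,5,0]))) (.node (.node (.node (.word [1,3,2,1,6,3,2,1,3,2,3,5,4,2,3,1,2,3,6,4,2,3,5,2,3,5,3,2,1,0,3,5,6,3,2,3,6,4,3,2,3,1,2,3,5,6,3,4,5,6,3,2,1,4,3,6,2,3,2,3,6,2,3,4,1,2,3,6,5,0,1,3,2,3,5,6,3,2,3,5,6,3,4,1,2,3,6,3,2,3,5,6,3,2,3,5,6,3,4,1,2,3,6,1,0]) (.word [5,6,3,4,1,2,3,6,3,4,3,2,3,5,0,1,5,3,2,4,3,2,1,3,5,6,3,4,2,3,5,3,1,2,3,4,2,3,2,0,2,1,6,3,2,3,1,2,3,4,2,3,6,1,2,3,5,6,3,2,1,3,2,3,5,6,3,2,3,5,6,3,4,1,2,3,6,1,0,1,5,3,2,4,3,2,1,3,5,6,3,4,2,3,5,3,1,2,3,4,2,3,2,0,5,6,3,4,1,2,3,6,3,4,3,2,3,5,0])) (.node (.word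 [5,6,3,2,1,4,3,6,2,3,2,3,6,2,3,4,1,2,4,1,2,3,6,3,4,3,2,3,5,0,2,1,6,3,2,3,1,2,3,4,2,3,6,1,2,3,5,6,3,2,0,5,6,3,4,1,2,3,6,3,4,3,2,3,5,0]) (.word [1,3,2,1,6,3,2,1,3,2,3,5,4,2,3,1,2,3,6,4,2,3,5,1,0,1,3,2,3,5,6,3,2,3,5,6,3,4,1,2,3,6,1,0,1,3,2,1,6,3,2,1,3,2,3,5,4,2,3,1,2,3,6,4,2,3,5,1,5,6,3,4,1,2,3,6,3,4,3,2,3,5,0,5,6,3,4,1,2,3,6,3,4,3,2,3,5,0]))) (.node (.node .none (.word [5,6,3,2,1,4,3,6,2,3,2,3,6,2,3,4,1,2,3,6,5,0,1,3,2,3,5,6,3,2,3,5,6,3,4,1,2,3,6,1,0,5,6,3,2,1,4,3,6,2,3,2,3,6,2,3,4,1,2,3,6,5,0,1,3,2,3,5,6,3,2,3,5,6,3,4,1,2,3,6,1,0,5,6,3,4,1,2,3,6,3,4,3,2,3,5,0])) (.node .none (.word [5,6,3,4,1,2,3,6,3,4,3,2,3,5,1,3,2,3,5,6,3,2,3,5,6,3,4,1,2,3,6,1,0,1,2,3,5,3,2,1,0,3,5,6,3,2,3,6,4,3,2,3,1,2,3,5,6,3,4,0,1,3,2,3,5,6,3,2,3,5,6,3,4,1,2,3,6,1,0])))))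 (.node (.node (.node (.word [0,1,3,2,3,5,6,3,2,3,5,6,3,4,1,2,3,6,1,0,1,5,3,2,4,3,2,1,3,5,6,3,4,2,3,5,3,1,2,3,4,2,3,2,0,5,6,3,4,1,2,3,6,3,4,3,2,3,5,0]) (.node (.word [5,6,3,4,1,2,3,6,3,4,3,2,3,5,0,5,6,3,4,1,2,3,6,3,4,3,2,3,5,1,3,2,3,5,6,3,2,3,5,6,3,4,1,2,3,6,1,0,5,6,3,4,1,2,3,6,3,4,3,2,3,5,0,5,6,3,4,1,2,3,6,3,4,3,2,3,5,0]) (.word [1,2,3,5,3,2,1,0,3,5,6,3,2,3,6,4,3,2,3,1,2,3,5,6,3,4,5,6,3,2,1,4,3,6,2,3,2,3,6,2,3,4,1,2,3,6,5,1,5,3,2,4,3,2,1,3,5,6,3,4,2,3,5,3,1,2,3,4,2,3,2,0,5,6,3,4,1,2,3,6,3,4,3,2,3,5,0,5,6,3,4,1,2,3,6,3,4,3,2,3,5,0]))) (.node (.node (.word [0,1,3,2,3,5,6,3,2,3,5,6,3,4,1,2,3,6,1,0,5,6,3,4,1,2,3,6,3,4,3,2,3,5,0,1,5,3,2,4,3,2,1,3,5,6,3,4,2,3,5,3,1,2,3,4,2,3,2,0,1,2,3,5,3,2,1,0,3,5,6,3,2,3,6,4,3,2,3,1,2,3,5,6,3,4,5,6,3,4,1,2,3,6,3,4,3,2,3,5,0])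 (.word [0,1,3,2,3,5,6,3,2,3,5,6,3,4,1,2,3,6,1,0,1,3,2,1,6,3,2,1,3,2,3,5,4,2,3,1,2,3,6,4,2,3,5,1,0,1,3,2,3,5,6,3,2,3,5,6,3,4,1,2,3,6,1,0])) (.node .none (.word [0,1,3,2,3,5,6,3,2,3,5,6,3,4,1,2,3,6,3,2,3,5,6,3,2,3,5,6,3,4,1,2,3,6,1,0,1,3,2,1,6,3,2,1,3,2,3,5,4,2,3,1,2,3,6,3,2,1,3,5,6,3,4,2,3,5,3,1,2,3,4,2,3,2,0,5,6,3,4,1,2,3,6,3,4,3,2,3,5,0])))) (.node (.node (.node (.word [5,6,3,4,1,2,3,6,3,4,3,2,3,5,1,3,2,3,5,6,3,2,3,5,6,3,4,1,2,3,6,1,0,1,2,3,5,3,2,1,0,3,5,6,3,2,3,6,4,3,2,3,1,2,3,5,6,3,4,5,6,3,4,1,2,3,6,3,4,3,2,3,5,0]) (.word [1,2,3,5,3,2,1,0,3,5,6,3,2,3,6,4,3,2,3,1,2,3,5,6,3,4,5,6,3,4,1,2,3,6,3,4,3,2,3,5,1,3,2,3,5,6,3,2,3,5,6,3,4,1,2,3,6,3,2,3,5,6,3,2,3,5,6,3,4,1,2,3,6,1,0,1,2,3,5,3,2,1,0,3,5,6,3,2,3,6,4,3,2,3,1,2,3,5,6,3,4,5,6,3,4,1,2,3,6,3,4,3,2,3,5,0]))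 (.node (.word [0,1,3,2,3,5,6,3,2,3,5,6,3,4,1,2,3,6,1,0,5,6,3,4,1,2,3,6,3,4,3,2,3,5,0,1,2,3,5,3,2,1,0,3,5,6,3,2,3,6,4,3,2,3,1,2,3,5,6,3,4,5,6,3,2,1,4,3,6,2,3,2,3,6,2,3,4,1,2,4,1,2,3,6,3,4,3,2,3,5,0]) (.word [5,6,3,2,1,4,3,6,2,3,2,3,6,2,3,4,1,2,3,6,5,1,5,3,2,4,3,2,1,3,5,6,3,4,2,3,5,3,1,2,3,4,2,3,2,0,5,6,3,2,1,4,3,6,2,3,2,3,6,2,3,4,1,2,4,1,2,3,6,3,4,3,2,3,5,0,5,6,3,4,1,2,3,6,3,4,3,2,3,5,0]))) (.node (.node (.word [1,5,3,2,4,3,2,1,3,5,6,3,4,2,3,5,3,1,2,3,4,2,3,2,1,3,2,3,5,6,3,2,3,5,6,3,4,1,2,3,6,1,0,5,6,3,4,1,2,3,6,3,4,3,2,3,5,0]) (.word [0,1,3,2,3,5,6,3,2,3,5,6,3,4,1,2,3,6,3,2,3,5,6,3,2,3,5,6,3,4,1,2,3,6,1,0,5,6,3,4,1,2,3,6,3,4,3,2,3,5,0,5,6,3,4,1,2,3,6,3,4,3,2,3,5,0,5,6,3,4,1,2,3,6,3,4,3,2,3,5,0]))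 .none))))))

/-- A subtree. -/
def sub22 : WTree :=
  (.node (.node (.node (.node (.node (.node (.node (.node (.word [1,3,2,1,6,3,2,1,3,2,3,5,4,2,3,1,2,3,6,4,2,3,5,1,0,1,3,2,3,5,6,3,2,3,5,6,3,4,1,2,3,6,1,0,1,3,2,1,6,3,2,1,3,2,3,5,4,2,3,1,2,3,6,4,2,3,5,1,0,1,3,2,3,5,6,3,2,3,5,6,3,4,1,2,3,6,3,2,3,5,6,3,2,3,5,6,3,4,1,2,3,6,1,0]) (.word [2,1,6,3,2,3,1,2,3,4,2,3,6,1,2,3,5,6,3,2,0,5,6,3,4,1,2,3,6,3,4,3,2,3,5,0,1,3,2,1,6,3,2,1,3,2,3,5,4,2,3,1,2,3,6,4,2,3,5,1,5,6,3,4,1,2,3,6,3,4,3,2,3,5,0,5,6,3,4,1,2,3,6,3,4,3,2,3,5,0])) (.word [0,1,3,2,3,5,6,3,2,3,5,6,3,4,1,2,3,6,1,0,5,6,3,4,1,2,3,6,3,4,3,2,3,5,0,5,6,3,2,1,4,3,6,2,3,2,3,6,2,3,4,1,2,4,1,2,3,6,3,4,3,2,3,5,0])) (.node .none (.word [1,3,2,1,6,3,2,1,3,2,3,5,4,2,3,1,2,3,6,4,2,3,5,2,3,5,3,2,1,0,3,5,6,3,2,3,6,4,3,2,3,1,2,3,5,6,3,4,1,2,3,5,3,2,1,0,3,5,6,3,2,3,6,4,3,2,3,1,2,3,5,6,3,4,0,1,3,2,3,5,6,3,2,3,5,6,3,4,1,2,3,6,1,0,5,6,3,4,1,2,3,6,3,4,3,2,3,5,0])))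 (.node (.word [1,2,3,5,3,2,1,0,3,5,6,3,2,3,6,4,3,2,3,1,2,3,5,6,3,4,0,1,3,2,3,5,6,3,2,3,5,6,3,4,1,2,3,6,3,2,3,5,6,3,2,3,5,6,3,4,1,2,3,6,1,0,1,2,3,5,3,2,1,0,3,5,6,3,2,3,6,4,3,2,3,1,2,3,5,6,3,4,5,6,3,4,1,2,3,6,3,4,3,2,3,5,0,5,6,3,4,1,2,3,6,3,4,3,2,3,5,0]) (.node .none (.word [2,1,6,3,2,3,1,2,3,4,2,3,6,1,2,3,5,6,3,2,0,1,2,3,5,3,2,1,0,3,5,6,3,2,3,6,4,3,2,3,1,2,3,5,6,3,4,5,6,3,2,1,4,3,6,2,3,2,3,6,2,3,4,1,2,4,1,2,3,6,3,4,3,2,3,5,0,5,6,3,4,1,2,3,6,3,4,3,2,3,5,0])))) (.node (.node (.node .none (.word [2,1,6,3,2,3,1,2,3,4,2,3,6,1,2,3,5,6,3,2,0,1,2,3,5,3,2,1,0,3,5,6,3,2,3,6,4,3,2,3,1,2,3,5,6,3,4,1,2,3,5,3,2,1,0,3,5,6,3,2,3,6,4,3,2,3,1,2,3,5,6,3,4,0,1,3,2,3,5,6,3,2,3,5,6,3,4,1,2,3,6,1,0,5,6,3,4,1,2,3,6,3,4,3,2,3,5,0]))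 (.node (.word [1,2,3,5,3,2,1,0,3,5,6,3,2,3,6,4,3,2,3,1,2,3,5,6,3,4,1,2,3,5,3,2,1,0,3,5,6,3,2,3,6,4,3,2,3,1,2,3,5,6,3,4,0,1,3,2,3,5,6,3,2,3,5,6,3,4,1,2,3,6,1,0,2,1,6,3,2,3,1,2,3,4,2,3,6,1,2,3,5,6,3,2,1,3,2,3,5,6,3,2,3,5,6,3,4,1,2,3,6,1,0]) (.word [1,2,3,5,3,2,1,0,3,5,6,3,2,3,6,4,3,2,3,1,2,3,5,6,3,4,0,1,3,2,3,5,6,3,2,3,5,6,3,4,1,2,3,6,1,0,1,3,2,1,6,3,2,1,3,2,3,5,4,2,3,1,2,3,6,4,2,3,5,1,0,1,3,2,3,5,6,3,2,3,5,6,3,4,1,2,3,6,1,0]))) (.node (.node (.word [5,6,3,2,1,4,3,6,2,3,2,3,6,2,3,4,1,2,3,6,5,0,1,3,2,3,5,6,3,2,3,5,6,3,4,1,2,3,6,1,0,2,1,6,3,2,3,1,2,3,4,2,3,6,1,2,3,5,6,3,2,1,3,2,3,5,6,3,2,3,5,6,3,4,1,2,3,6,3,2,3,5,6,3,2,3,5,6,3,4,1,2,3,6,1,0]) (.word [2,1,6,3,2,3,1,2,3,4,2,3,6,1,2,3,5,6,3,2,0,1,2,3,5,3,2,1,0,3,5,6,3,2,3,6,4,3,2,3,1,2,3,5,6,3,4,1,2,3,5,3,2,1,0,3,5,6,3,2,3,6,4,3,2,3,1,2,3,5,6,3,4,1,5,3,2,4,3,2,1,3,5,6,3,4,2,3,5,3,1,2,3,4,2,3,2,1,3,2,3,5,6,3,2,3,5,6,3,4,1,2,3,6,1,0,5,6,3,4,1,2,3,6,3,4,3,2,3,5,0]))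 (.node (.word [2,1,6,3,2,3,1,2,3,4,2,3,6,1,2,3,5,6,3,2,0,1,3,2,1,6,3,2,1,3,2,3,5,4,2,3,1,2,3,6,4,2,3,5,1,5,6,3,4,1,2,3,6,3,4,3,2,3,5,0,1,2,3,5,3,2,1,0,3,5,6,3,2,3,6,4,3,2,3,1,2,3,5,6,3,4,5,6,3,4,1,2,3,6,3,4,3,2,3,5,0]) (.word [0,1,3,2,3,5,6,3,2,3,5,6,3,4,1,2,3,6,1,0,5,6,3,4,1,2,3,6,3,4,3,2,3,5,1,3,2,3,5,6,3,2,3,5,6,3,4,1,2,3,6,1,0,1,5,3,2,4,3,2,1,3,5,6,3,4,2,3,5,3,1,2,3,4,2,3,2,0,5,6,3,4,1,2,3,6,3,4,3,2,3,5,0]))))) (.node (.node (.node (.node (.word [5,6,3,4,1,2,3,6,3,4,3,2,3,5,0,1,5,3,2,4,3,2,1,3,5,6,3,4,2,3,5,3,1,2,3,4,2,3,2,0,1,3,2,1,6,3,2,1,3,2,3,5,4,2,3,1,2,3,6,4,2,3,5,1,5,6,3,4,1,2,3,6,3,4,3,2,3,5,0]) (.word [0,1,3,2,3,5,6,3,2,3,5,6,3,4,1,2,3,6,1,0,5,6,3,2,1,4,3,6,2,3,2,3,6,2,3,4,1,2,3,6,5,1,3,2,1,6,3,2,1,3,2,3,5,4,2,3,1,2,3,6,4,2,3,5,1,5,6,3,4,1,2,3,6,3,4,3,2,3,5,0,5,6,3,4,1,2,3,6,3,4,3,2,3,5,0]))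 (.word [5,6,3,4,1,2,3,6,3,4,3,2,3,5,0,5,6,3,4,1,2,3,6,3,4,3,2,3,5,1,3,2,3,5,6,3,2,3,5,6,3,4,1,2,3,6,3,2,3,5,6,3,2,3,5,6,3,4,1,2,3,6,1,0,5,6,3,4,1,2,3,6,3,4,3,2,3,5,0,5,6,3,4,1,2,3,6,3,4,3,2,3,5,0])) (.node (.word [5,6,3,2,1,4,3,6,2,3,2,3,6,2,3,4,1,2,3,6,5,1,5,3,2,4,3,2,1,3,5,6,3,4,2,3,5,3,1,2,3,4,2,3,2,0,5,6,3,2,1,4,3,6,2,3,2,3,6,2,3,4,1,2,3,6,5,0,1,3,2,3,5,6,3,2,3,5,6,3,4,1,2,3,6,3,2,3,5,6,3,2,3,5,6,3,4,1,2,3,6,1,0]) (.node (.word [2,1,6,3,2,3,1,2,3,4,2,3,6,1,2,3,5,6,3,2,0,1,3,2,1,6,3,2,1,3,2,3,5,4,2,3,1,2,3,6,4,2,3,5,2,3,5,3,2,1,0,3,5,6,3,2,3,6,4,3,2,3,1,2,3,5,6,3,4,1,5,3,2,4,3,2,1,3,5,6,3,4,2,3,5,3,1,2,3,4,2,3,2,0,5,6,3,4,1,2,3,6,3,4,3,2,3,5,0,5,6,3,4,1,2,3,6,3,4,3,2,3,5,0])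 (.word [1,5,3,2,4,3,2,1,3,5,6,3,4,2,3,5,3,1,2,3,4,2,3,2,0,5,6,3,2,1,4,3,6,2,3,2,3,6,2,3,4,1,2,3,6,5,0,1,3,2,3,5,6,3,2,3,5,6,3,4,1,2,3,6,3,2,3,5,6,3,2,3,5,6,3,4,1,2,3,6,1,0])))) (.node (.node .none (.node .none (.word [2,1,6,3,2,3,1,2,3,4,2,3,6,1,2,3,5,6,3,2,0,1,3,2,1,6,3,2,1,3,2,3,5,4,2,3,1,2,3,6,4,2,3,5,2,3,5,3,2,1,0,3,5,6,3,2,3,6,4,3,2,3,1,2,3,5,6,3,4,0,1,3,2,3,5,6,3,2,3,5,6,3,4,1,2,3,6,1,0,5,6,3,4,1,2,3,6,3,4,3,2,3,5,0]))) (.node (.word [5,6,3,4,1,2,3,6,3,4,3,2,3,5,0,1,3,2,1,6,3,2,1,3,2,3,5,4,2,3,1,2,3,6,4,2,3,5,1,0,1,3,2,3,5,6,3,2,3,5,6,3,4,1,2,3,6,1,0,5,6,3,4,1,2,3,6,3,4,3,2,3,5,0,5,6,3,4,1,2,3,6,3,4,3,2,3,5,0]) (.word [1,2,3,5,3,2,1,0,3,5,6,3,2,3,6,4,3,2,3,1,2,3,5,6,3,4,2,1,6,3,2,3,1,2,3,4,2,3,6,1,2,3,5,6,3,2,0,5,6,3,4,1,2,3,6,3,4,3,2,3,5,0,2,1,6,3,2,3,1,2,3,4,2,3,6,1,2,3,5,6,3,2,0,5,6,3,4,1,2,3,6,3,4,3,2,3,5,0])))))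 (.node (.node (.node (.node (.node (.word [1,5,3,2,4,3,2,1,3,5,6,3,4,2,3,5,3,1,2,3,4,2,3,2,0,1,3,2,1,6,3,2,1,3,2,3,5,4,2,3,1,2,3,6,3,2,1,3,5,6,3,4,2,3,5,3,1,2,3,4,2,3,2,0,1,2,3,5,3,2,1,0,3,5,6,3,2,3,6,4,3,2,3,1,2,3,5,6,3,4,5,6,3,4,1,2,3,6,3,4,3,2,3,5,0,5,6,3,4,1,2,3,6,3,4,3,2,3,5,0]) (.word [5,6,3,4,1,2,3,6,3,4,3,2,3,5,1,3,2,3,5,6,3,2,3,5,6,3,4,1,2,3,6,1,0,5,6,3,2,1,4,3,6,2,3,2,3,6,2,3,4,1,2,4,1,2,3,6,3,4,3,2,3,5,0,5,6,3,4,1,2,3,6,3,4,3,2,3,5,0])) (.node .none (.word [5,6,3,4,1,2,3,6,3,4,3,2,3,5,1,3,2,3,5,6,3,2,3,5,6,3,4,1,2,3,6,1,0]))) (.node (.node (.word [2,1,6,3,2,3,1,2,3,4,2,3,6,1,2,3,5,6,3,2,1,3,2,3,5,6,3,2,3,5,6,3,4,1,2,3,6,1,0,1,3,2,1,6,3,2,1,3,2,3,5,4,2,3,1,2,3,6,4,2,3,5,2,3,5,3,2,1,0,3,5,6,3,2,3,6,4,3,2,3,1,2,3,5,6,3,4,5,6,3,4,1,2,3,6,3,4,3,2,3,5,0])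 (.word [1,2,3,5,3,2,1,0,3,5,6,3,2,3,6,4,3,2,3,1,2,3,5,6,3,4,1,2,3,5,3,2,1,0,3,5,6,3,2,3,6,4,3,2,3,1,2,3,5,6,3,4,0,1,3,2,3,5,6,3,2,3,5,6,3,4,1,2,3,6,1,0,1,2,3,5,3,2,1,0,3,5,6,3,2,3,6,4,3,2,3,1,2,3,5,6,3,4,0,1,3,2,3,5,6,3,2,3,5,6,3,4,1,2,3,6,1,0])) (.node (.word [5,6,3,2,1,4,3,6,2,3,2,3,6,2,3,4,1,2,3,6,5,1,5,3,2,4,3,2,1,3,5,6,3,4,2,3,5,3,1,2,3,4,2,3,2,0,1,3,2,1,6,3,2,1,3,2,3,5,4,2,3,1,2,3,6,4,2,3,5,1,0,1,3,2,3,5,6,3,2,3,5,6,3,4,1,2,3,6,1,0,5,6,3,4,1,2,3,6,3,4,3,2,3,5,0]) (.word [5,6,3,2,1,4,3,6,2,3,2,3,6,2,3,4,1,2,3,6,5,1,2,3,5,3,2,1,0,3,5,6,3,2,3,6,4,3,2,3,1,2,3,5,6,3,4,0,1,3,2,3,5,6,3,2,3,5,6,3,4,1,2,3,6,1,0,5,6,3,4,1,2,3,6,3,4,3,2,3,5,0])))) (.node (.node (.node (.word [1,2,3,5,3,2,1,0,3,5,6,3,2,3,6,4,3,2,3,1,2,3,5,6,3,4,5,6,3,4,1,2,3,6,3,4,3,2,3,5,1,3,2,3,5,6,3,2,3,5,6,3,4,1,2,3,6,1,0,1,3,2,1,6,3,2,1,3,2,3,5,4,2,3,1,2,3,6,4,2,3,5,1,5,6,3,4,1,2,3,6,3,4,3,2,3,5,0,5,6,3,4,1,2,3,6,3,4,3,2,3,5,0])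 (.word [2,1,6,3,2,3,1,2,3,4,2,3,6,1,2,3,5,6,3,2,0,5,6,3,4,1,2,3,6,3,4,3,2,3,5,0,1,2,3,5,3,2,1,0,3,5,6,3,2,3,6,4,3,2,3,1,2,3,5,6,3,4,1,2,3,5,3,2,1,0,3,5,6,3,2,3,6,4,3,2,3,1,2,3,5,6,3,4,5,6,3,4,1,2,3,6,3,4,3,2,3,5,0])) (.word [5,6,3,4,1,2,3,6,3,4,3,2,3,5,0,2,1,6,3,2,3,1,2,3,4,2,3,6,1,2,3,5,6,3,2,1,3,2,3,5,6,3,2,3,5,6,3,4,1,2,3,6,1,0,5,6,3,4,1,2,3,6,3,4,3,2,3,5,1,3,2,3,5,6,3,2,3,5,6,3,4,1,2,3,6,1,0])) (.node .none (.node .none (.word [2,1,6,3,2,3,1,2,3,4,2,3,6,1,2,3,5,6,3,2,1,3,2,3,5,6,3,2,3,5,6,3,4,1,2,3,6,1,0,1,2,3,5,3,2,1,0,3,5,6,3,2,3,6,4,3,2,3,1,2,3,5,6,3,4,0,1,3,2,3,5,6,3,2,3,5,6,3,4,1,2,3,6,1,0]))))) (.node (.node (.node (.node (.word [1,2,3,5,3,2,1,0,3,5,6,3,2,3,6,4,3,2,3,1,2,3,5,6,3,4,0,1,3,2,3,5,6,3,2,3,5,6,3,4,1,2,3,6,1,0,1,2,3,5,3,2,1,0,3,5,6,3,2,3,6,4,3,2,3,1,2,3,5,6,3,4,0,1,3,2,3,5,6,3,2,3,5,6,3,4,1,2,3,6,1,0])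 (.word [1,5,3,2,4,3,2,1,3,5,6,3,4,2,3,5,3,1,2,3,4,2,3,2,0,1,3,2,1,6,3,2,1,3,2,3,5,4,2,3,1,2,3,6,4,2,3,5,1,0,1,3,2,3,5,6,3,2,3,5,6,3,4,1,2,3,6,1,0,2,1,6,3,2,3,1,2,3,4,2,3,6,1,2,3,5,6,3,2,1,3,2,3,5,6,3,2,3,5,6,3,4,1,2,3,6,1,0])) (.node (.word [0,1,3,2,3,5,6,3,2,3,5,6,3,4,1,2,3,6,3,2,3,5,6,3,2,3,5,6,3,4,1,2,3,6,1,0,1,2,3,5,3,2,1,0,3,5,6,3,2,3,6,4,3,2,3,1,2,3,5,6,3,4,5,6,3,4,1,2,3,6,3,4,3,2,3,5,0,5,6,3,4,1,2,3,6,3,4,3,2,3,5,0]) (.word [0,1,3,2,3,5,6,3,2,3,5,6,3,4,1,2,3,6,1,0,2,1,6,3,2,3,1,2,3,4,2,3,6,1,2,3,5,6,3,2,1,3,2,3,5,6,3,2,3,5,6,3,4,1,2,3,6,1,0,1,3,2,1,6,3,2,1,3,2,3,5,4,2,3,1,2,3,6,4,2,3,5,1,0,1,3,2,3,5,6,3,2,3,5,6,3,4,1,2,3,6,1,0,5,6,3,4,1,2,3,6,3,4,3,2,3,5,0]))) (.node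 (.node .none (.word [5,6,3,2,1,4,3,6,2,3,2,3,6,2,3,4,1,2,4,1,2,3,6,3,4,3,2,3,5,0,2,1,6,3,2,3,1,2,3,4,2,3,6,1,2,3,5,6,3,2,1,3,2,3,5,6,3,2,3,5,6,3,4,1,2,3,6,1,0])) (.node .none (.word [0,1,3,2,3,5,6,3,2,3,5,6,3,4,1,2,3,6,1,0,5,6,3,4,1,2,3,6,3,4,3,2,3,5,0,5,6,3,4,1,2,3,6,3,4,3,2,3,5,0,1,5,3,2,4,3,2,1,3,5,6,3,4,2,3,5,3,1,2,3,4,2,3,2,0,5,6,3,4,1,2,3,6,3,4,3,2,3,5,0])))) (.node (.node .none (.node .none (.word [1,3,2,1,6,3,2,1,3,2,3,5,4,2,3,1,2,3,6,4,2,3,5,1,5,6,3,4,1,2,3,6,3,4,3,2,3,5,0,5,6,3,2,1,4,3,6,2,3,2,3,6,2,3,4,1,2,3,6,5,0,1,3,2,3,5,6,3,2,3,5,6,3,4,1,2,3,6,1,0,5,6,3,4,1,2,3,6,3,4,3,2,3,5,0]))) (.node (.word [1,2,3,5,3,2,1,0,3,5,6,3,2,3,6,4,3,2,3,1,2,3,5,6,3,4,5,6,3,4,1,2,3,6,3,4,3,2,3,5,1,3,2,3,5,6,3,2,3,5,6,3,4,1,2,3,6,1,0])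 (.word [2,1,6,3,2,3,1,2,3,4,2,3,6,1,2,3,5,6,3,2,1,3,2,3,5,6,3,2,3,5,6,3,4,1,2,3,6,1,0,1,3,2,1,6,3,2,1,3,2,3,5,4,2,3,1,2,3,6,4,2,3,5,1,0,1,3,2,3,5,6,3,2,3,5,6,3,4,1,2,3,6,1,0,5,6,3,4,1,2,3,6,3,4,3,2,3,5,0])))))) (.node (.node (.node (.node (.node (.node .none (.word [5,6,3,4,1,2,3,6,3,4,3,2,3,5,0,5,6,3,2,1,4,3,6,2,3,2,3,6,2,3,4,1,2,4,1,2,3,6,3,4,3,2,3,5,0,5,6,3,2,1,4,3,6,2,3,2,3,6,2,3,4,1,2,4,1,2,3,6,3,4,3,2,3,5,0,5,6,3,4,1,2,3,6,3,4,3,2,3,5,0])) (.node (.word [1,3,2,1,6,3,2,1,3,2,3,5,4,2,3,1,2,3,6,4,2,3,5,1,5,6,3,2,1,4,3,6,2,3,2,3,6,2,3,4,1,2,4,1,2,3,6,3,4,3,2,3,5,0,5,6,3,4,1,2,3,6,3,4,3,2,3,5,0]) (.word [5,6,3,4,1,2,3,6,3,4,3,2,3,5,0,1,2,3,5,3,2,1,0,3,5,6,3,2,3,6,4,3,2,3,1,2,3,5,6,3,4,1,2,3,5,3,2,1,0,3,5,6,3,2,3,6,4,3,2,3,1,2,3,5,6,3,4,5,6,3,4,1,2,3,6,3,4,3,2,3,5,0])))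 (.node (.node (.word [5,6,3,2,1,4,3,6,2,3,2,3,6,2,3,4,1,2,3,6,5,1,3,2,1,6,3,2,1,3,2,3,5,4,2,3,1,2,3,6,4,2,3,5,1,0,1,3,2,3,5,6,3,2,3,5,6,3,4,1,2,3,6,1,0,5,6,3,4,1,2,3,6,3,4,3,2,3,5,0,5,6,3,4,1,2,3,6,3,4,3,2,3,5,0]) (.word [5,6,3,4,1,2,3,6,3,4,3,2,3,5,0,1,5,3,2,4,3,2,1,3,5,6,3,4,2,3,5,3,1,2,3,4,2,3,2,1,3,2,3,5,6,3,2,3,5,6,3,4,1,2,3,6,1,0,5,6,3,4,1,2,3,6,3,4,3,2,3,5,0])) .none)) (.node (.node (.node (.word [0,1,3,2,3,5,6,3,2,3,5,6,3,4,1,2,3,6,3,2,3,5,6,3,2,3,5,6,3,4,1,2,3,6,1,0,5,6,3,2,1,4,3,6,2,3,2,3,6,2,3,4,1,2,4,1,2,3,6,3,4,3,2,3,5,0]) (.word [5,6,3,4,1,2,3,6,3,4,3,2,3,5,0,1,2,3,5,3,2,1,0,3,5,6,3,2,3,6,4,3,2,3,1,2,3,5,6,3,4,5,6,3,2,1,4,3,6,2,3,2,3,6,2,3,4,1,2,3,6,5,1,2,3,5,3,2,1,0,3,5,6,3,2,3,6,4,3,2,3,1,2,3,5,6,3,4,5,6,3,4,1,2,3,6,3,4,3,2,3,5,0]))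 (.node (.word [1,2,3,5,3,2,1,0,3,5,6,3,2,3,6,4,3,2,3,1,2,3,5,6,3,4,0,1,3,2,3,5,6,3,2,3,5,6,3,4,1,2,3,6,1,0,1,5,3,2,4,3,2,1,3,5,6,3,4,2,3,5,3,1,2,3,4,2,3,2,1,3,2,3,5,6,3,2,3,5,6,3,4,1,2,3,6,1,0]) (.word [5,6,3,4,1,2,3,6,3,4,3,2,3,5,0,5,6,3,2,1,4,3,6,2,3,2,3,6,2,3,4,1,2,3,6,5,1,3,2,1,6,3,2,1,3,2,3,5,4,2,3,1,2,3,6,4,2,3,5,1,0,1,3,2,3,5,6,3,2,3,5,6,3,4,1,2,3,6,1,0,5,6,3,4,1,2,3,6,3,4,3,2,3,5,0]))) (.node (.node (.word [5,6,3,4,1,2,3,6,3,4,3,2,3,5,0,1,5,3,2,4,3,2,1,3,5,6,3,4,2,3,5,3,1,2,3,4,2,3,2,1,3,2,3,5,6,3,2,3,5,6,3,4,1,2,3,6,1,0,2,1,6,3,2,3,1,2,3,4,2,3,6,1,2,3,5,6,3,2,0,5,6,3,4,1,2,3,6,3,4,3,2,3,5,0]) (.word [2,1,6,3,2,3,1,2,3,4,2,3,6,1,2,3,5,6,3,2,0,1,2,3,5,3,2,1,0,3,5,6,3,2,3,6,4,3,2,3,1,2,3,5,6,3,4,1,5,3,2,4,3,2,1,3,5,6,3,4,2,3,5,3,1,2,3,4,2,3,2,0,1,2,3,5,3,2,1,0,3,5,6,3,2,3,6,4,3,2,3,1,2,3,5,6,3,4,5,6,3,4,1,2,3,6,3,4,3,2,3,5,0,5,6,3,4,1,2,3,6,3,4,3,2,3,5,0]))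 (.node (.word [0,1,3,2,3,5,6,3,2,3,5,6,3,4,1,2,3,6,1,0,5,6,3,2,1,4,3,6,2,3,2,3,6,2,3,4,1,2,3,6,5,1,5,3,2,4,3,2,1,3,5,6,3,4,2,3,5,3,1,2,3,4,2,3,2,0,5,6,3,4,1,2,3,6,3,4,3,2,3,5,0]) (.word [5,6,3,4,1,2,3,6,3,4,3,2,3,5,1,3,2,3,5,6,3,2,3,5,6,3,4,1,2,3,6,1,0,5,6,3,4,1,2,3,6,3,4,3,2,3,5,0,5,6,3,4,1,2,3,6,3,4,3,2,3,5,1,3,2,3,5,6,3,2,3,5,6,3,4,1,2,3,6,1,0]))))) (.node (.node (.node .none (.node (.word [5,6,3,2,1,4,3,6,2,3,2,3,6,2,3,4,1,2,4,1,2,3,6,3,4,3,2,3,5,0,5,6,3,4,1,2,3,6,3,4,3,2,3,5,0,1,3,2,1,6,3,2,1,3,2,3,5,4,2,3,1,2,3,6,4,2,3,5,1,5,6,3,4,1,2,3,6,3,4,3,2,3,5,0]) (.word [1,2,3,5,3,2,1,0,3,5,6,3,2,3,6,4,3,2,3,1,2,3,5,6,3,4,2,1,6,3,2,3,1,2,3,4,2,3,6,1,2,3,5,6,3,2,1,3,2,3,5,6,3,2,3,5,6,3,4,1,2,3,6,1,0,1,5,3,2,4,3,2,1,3,5,6,3,4,2,3,5,3,1,2,3,4,2,3,2,0,5,6,3,4,1,2,3,6,3,4,3,2,3,5,0])))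 (.node (.node .none (.word [5,6,3,4,1,2,3,6,3,4,3,2,3,5,0,1,2,3,5,3,2,1,0,3,5,6,3,2,3,6,4,3,2,3,1,2,3,5,6,3,4,1,5,3,2,4,3,2,1,3,5,6,3,4,2,3,5,3,1,2,3,4,2,3,2,0,5,6,3,4,1,2,3,6,3,4,3,2,3,5,0,5,6,3,4,1,2,3,6,3,4,3,2,3,5,0,5,6,3,4,1,2,3,6,3,4,3,2,3,5,0])) (.node (.word [0,1,3,2,3,5,6,3,2,3,5,6,3,4,1,2,3,6,3,2,3,5,6,3,2,3,5,6,3,4,1,2,3,6,1,0,1,5,3,2,4,3,2,1,3,5,6,3,4,2,3,5,3,1,2,3,4,2,3,2,0,5,6,3,4,1,2,3,6,3,4,3,2,3,5,0]) (.word [5,6,3,4,1,2,3,6,3,4,3,2,3,5,0,5,6,3,2,1,4,3,6,2,3,2,3,6,2,3,4,1,2,4,1,2,3,6,3,4,3,2,3,5,0])))) (.node (.node (.node (.word [1,2,3,5,3,2,1,0,3,5,6,3,2,3,6,4,3,2,3,1,2,3,5,6,3,4,1,3,2,1,6,3,2,1,3,2,3,5,4,2,3,1,2,3,6,3,2,1,3,5,6,3,4,2,3,5,3,1,2,3,4,2,3,2,0,5,6,3,4,1,2,3,6,3,4,3,2,3,5,1,3,2,3,5,6,3,2,3,5,6,3,4,1,2,3,6,1,0,5,6,3,4,1,2,3,6,3,4,3,2,3,5,0])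 (.word [1,2,3,5,3,2,1,0,3,5,6,3,2,3,6,4,3,2,3,1,2,3,5,6,3,4,1,2,3,5,3,2,1,0,3,5,6,3,2,3,6,4,3,2,3,1,2,3,5,6,3,4,1,2,3,5,3,2,1,0,3,5,6,3,2,3,6,4,3,2,3,1,2,3,5,6,3,4,5,6,3,2,1,4,3,6,2,3,2,3,6,2,3,4,1,2,4,1,2,3,6,3,4,3,2,3,5,0,5,6,3,4,1,2,3,6,3,4,3,2,3,5,0])) (.node .none (.word [2,1,6,3,2,3,1,2,3,4,2,3,6,1,2,3,5,6,3,2,0,1,2,3,5,3,2,1,0,3,5,6,3,2,3,6,4,3,2,3,1,2,3,5,6,3,4,1,5,3,2,4,3,2,1,3,5,6,3,4,2,3,5,3,1,2,3,4,2,3,2,0,5,6,3,4,1,2,3,6,3,4,3,2,3,5,0,5,6,3,4,1,2,3,6,3,4,3,2,3,5,0]))) (.node (.node .none (.word [1,2,3,5,3,2,1,0,3,5,6,3,2,3,6,4,3,2,3,1,2,3,5,6,3,4,5,6,3,4,1,2,3,6,3,4,3,2,3,5,0,1,2,3,5,3,2,1,0,3,5,6,3,2,3,6,4,3,2,3,1,2,3,5,6,3,4,5,6,3,4,1,2,3,6,3,4,3,2,3,5,0])) .none))))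 (.node (.node (.node (.node (.node (.word [0,1,3,2,3,5,6,3,2,3,5,6,3,4,1,2,3,6,1,0,1,3,2,1,6,3,2,1,3,2,3,5,4,2,3,1,2,3,6,3,2,1,3,5,6,3,4,2,3,5,3,1,2,3,4,2,3,2,1,3,2,3,5,6,3,2,3,5,6,3,4,1,2,3,6,1,0,5,6,3,4,1,2,3,6,3,4,3,2,3,5,0]) (.word [2,1,6,3,2,3,1,2,3,4,2,3,6,1,2,3,5,6,3,2,0,5,6,3,4,1,2,3,6,3,4,3,2,3,5,0,1,3,2,1,6,3,2,1,3,2,3,5,4,2,3,1,2,3,6,4,2,3,5,1,0,1,3,2,3,5,6,3,2,3,5,6,3,4,1,2,3,6,1,0])) (.node .none (.word [1,3,2,1,6,3,2,1,3,2,3,5,4,2,3,1,2,3,6,3,2,1,3,5,6,3,4,2,3,5,3,1,2,3,4,2,3,2,0,5,6,3,4,1,2,3,6,3,4,3,2,3,5,0,5,6,3,4,1,2,3,6,3,4,3,2,3,5,0,5,6,3,4,1,2,3,6,3,4,3,2,3,5,0]))) (.node (.node (.word [0,1,3,2,3,5,6,3,2,3,5,6,3,4,1,2,3,6,3,2,3,5,6,3,2,3,5,6,3,4,1,2,3,6,1,0,5,6,3,2,1,4,3,6,2,3,2,3,6,2,3,4,1,2,3,6,5,0,1,3,2,3,5,6,3,2,3,5,6,3,4,1,2,3,6,1,0,5,6,3,4,1,2,3,6,3,4,3,2,3,5,0])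 (.word [5,6,3,4,1,2,3,6,3,4,3,2,3,5,0,1,2,3,5,3,2,1,0,3,5,6,3,2,3,6,4,3,2,3,1,2,3,5,6,3,4,0,1,3,2,3,5,6,3,2,3,5,6,3,4,1,2,3,6,1,0,5,6,3,4,1,2,3,6,3,4,3,2,3,5,0,5,6,3,4,1,2,3,6,3,4,3,2,3,5,0])) (.node .none (.word [1,5,3,2,4,3,2,1,3,5,6,3,4,2,3,5,3,1,2,3,4,2,3,2,0,1,3,2,1,6,3,2,1,3,2,3,5,4,2,3,1,2,3,6,4,2,3,5,2,3,5,3,2,1,0,3,5,6,3,2,3,6,4,3,2,3,1,2,3,5,6,3,4,1,3,2,1,6,3,2,1,3,2,3,5,4,2,3,1,2,3,6,4,2,3,5,1,0,1,3,2,3,5,6,3,2,3,5,6,3,4,1,2,3,6,1,0,5,6,3,4,1,2,3,6,3,4,3,2,3,5,0])))) (.node (.node (.node (.word [0,1,3,2,3,5,6,3,2,3,5,6,3,4,1,2,3,6,3,2,3,5,6,3,2,3,5,6,3,4,1,2,3,6,1,0,1,5,3,2,4,3,2,1,3,5,6,3,4,2,3,5,3,1,2,3,4,2,3,2,1,3,2,3,5,6,3,2,3,5,6,3,4,1,2,3,6,1,0]) (.word [1,3,2,1,6,3,2,1,3,2,3,5,4,2,3,1,2,3,6,4,2,3,5,1,5,6,3,4,1,2,3,6,3,4,3,2,3,5,0]))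 (.node .none (.word [1,3,2,1,6,3,2,1,3,2,3,5,4,2,3,1,2,3,6,4,2,3,5,1,5,6,3,4,1,2,3,6,3,4,3,2,3,5,0,1,5,3,2,4,3,2,1,3,5,6,3,4,2,3,5,3,1,2,3,4,2,3,2,0,1,2,3,5,3,2,1,0,3,5,6,3,2,3,6,4,3,2,3,1,2,3,5,6,3,4,0,1,3,2,3,5,6,3,2,3,5,6,3,4,1,2,3,6,1,0]))) (.node (.node (.word [5,6,3,4,1,2,3,6,3,4,3,2,3,5,0,5,6,3,4,1,2,3,6,3,4,3,2,3,5,0,5,6,3,2,1,4,3,6,2,3,2,3,6,2,3,4,1,2,4,1,2,3,6,3,4,3,2,3,5,0]) (.word [5,6,3,2,1,4,3,6,2,3,2,3,6,2,3,4,1,2,4,1,2,3,6,3,4,3,2,3,5,0,1,2,3,5,3,2,1,0,3,5,6,3,2,3,6,4,3,2,3,1,2,3,5,6,3,4,0,1,3,2,3,5,6,3,2,3,5,6,3,4,1,2,3,6,1,0])) (.word [5,6,3,4,1,2,3,6,3,4,3,2,3,5,0,5,6,3,4,1,2,3,6,3,4,3,2,3,5,0,1,3,2,1,6,3,2,1,3,2,3,5,4,2,3,1,2,3,6,4,2,3,5,1,5,6,3,4,1,2,3,6,3,4,3,2,3,5,0]))))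 (.node (.node (.node (.node .none (.word [1,2,3,5,3,2,1,0,3,5,6,3,2,3,6,4,3,2,3,1,2,3,5,6,3,4,1,5,3,2,4,3,2,1,3,5,6,3,4,2,3,5,3,1,2,3,4,2,3,2,0,1,5,3,2,4,3,2,1,3,5,6,3,4,2,3,5,3,1,2,3,4,2,3,2,1,3,2,3,5,6,3,2,3,5,6,3,4,1,2,3,6,1,0,5,6,3,4,1,2,3,6,3,4,3,2,3,5,0])) (.word [2,1,6,3,2,3,1,2,3,4,2,3,6,1,2,3,5,6,3,2,0,1,5,3,2,4,3,2,1,3,5,6,3,4,2,3,5,3,1,2,3,4,2,3,2,0,1,3,2,1,6,3,2,1,3,2,3,5,4,2,3,1,2,3,6,4,2,3,5,1,5,6,3,4,1,2,3,6,3,4,3,2,3,5,0,5,6,3,4,1,2,3,6,3,4,3,2,3,5,0])) (.node (.node .none (.word [1,5,3,2,4,3,2,1,3,5,6,3,4,2,3,5,3,1,2,3,4,2,3,2,0,1,5,3,2,4,3,2,1,3,5,6,3,4,2,3,5,3,1,2,3,4,2,3,2,0,1,3,2,1,6,3,2,1,3,2,3,5,4,2,3,1,2,3,6,4,2,3,5,1,5,6,3,4,1,2,3,6,3,4,3,2,3,5,0]))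 .none)) (.node (.node .none (.node .none (.word [2,1,6,3,2,3,1,2,3,4,2,3,6,1,2,3,5,6,3,2,0,1,2,3,5,3,2,1,0,3,5,6,3,2,3,6,4,3,2,3,1,2,3,5,6,3,4,1,5,3,2,4,3,2,1,3,5,6,3,4,2,3,5,3,1,2,3,4,2,3,2,0,5,6,3,4,1,2,3,6,3,4,3,2,3,5,1,3,2,3,5,6,3,2,3,5,6,3,4,1,2,3,6,1,0]))) (.node (.node .none (.word [5,6,3,4,1,2,3,6,3,4,3,2,3,5,0,5,6,3,2,1,4,3,6,2,3,2,3,6,2,3,4,1,2,3,6,5,1,2,3,5,3,2,1,0,3,5,6,3,2,3,6,4,3,2,3,1,2,3,5,6,3,4,5,6,3,4,1,2,3,6,3,4,3,2,3,5,0])) .none))))))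

/-- A subtree. -/
def sub23 : WTree :=
  (.node (.node (.node (.node (.node (.node .none (.node .none (.word [5,6,3,2,1,4,3,6,2,3,2,3,6,2,3,4,1,2,4,1,2,3,6,3,4,3,2,3,5,0]))) (.node (.node .none (.word [5,6,3,4,1,2,3,6,3,4,3,2,3,5,0,1,2,3,5,3,2,1,0,3,5,6,3,2,3,6,4,3,2,3,1,2,3,5,6,3,4,5,6,3,4,1,2,3,6,3,4,3,2,3,5,1,3,2,3,5,6,3,2,3,5,6,3,4,1,2,3,6,1,0])) (.node (.word [5,6,3,4,1,2,3,6,3,4,3,2,3,5,0,1,2,3,5,3,2,1,0,3,5,6,3,2,3,6,4,3,2,3,1,2,3,5,6,3,4,5,6,3,2,1,4,3,6,2,3,2,3,6,2,3,4,1,2,4,1,2,3,6,3,4,3,2,3,5,0]) (.word [1,2,3,5,3,2,1,0,3,5,6,3,2,3,6,4,3,2,3,1,2,3,5,6,3,4,5,6,3,4,1,2,3,6,3,4,3,2,3,5,0,1,2,3,5,3,2,1,0,3,5,6,3,2,3,6,4,3,2,3,1,2,3,5,6,3,4,5,6,3,2,1,4,3,6,2,3,2,3,6,2,3,4,1,2,4,1,2,3,6,3,4,3,2,3,5,0]))))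 (.node (.node (.word [2,1,6,3,2,3,1,2,3,4,2,3,6,1,2,3,5,6,3,2,0,1,5,3,2,4,3,2,1,3,5,6,3,4,2,3,5,3,1,2,3,4,2,3,2,0,1,2,3,5,3,2,1,0,3,5,6,3,2,3,6,4,3,2,3,1,2,3,5,6,3,4,5,6,3,4,1,2,3,6,3,4,3,2,3,5,0]) (.node (.word [1,3,2,1,6,3,2,1,3,2,3,5,4,2,3,1,2,3,6,4,2,3,5,1,5,6,3,4,1,2,3,6,3,4,3,2,3,5,0,1,2,3,5,3,2,1,0,3,5,6,3,2,3,6,4,3,2,3,1,2,3,5,6,3,4,0,1,3,2,3,5,6,3,2,3,5,6,3,4,1,2,3,6,3,2,3,5,6,3,2,3,5,6,3,4,1,2,3,6,1,0]) (.word [1,2,3,5,3,2,1,0,3,5,6,3,2,3,6,4,3,2,3,1,2,3,5,6,3,4,5,6,3,4,1,2,3,6,3,4,3,2,3,5,0,1,2,3,5,3,2,1,0,3,5,6,3,2,3,6,4,3,2,3,1,2,3,5,6,3,4,1,5,3,2,4,3,2,1,3,5,6,3,4,2,3,5,3,1,2,3,4,2,3,2,0,5,6,3,4,1,2,3,6,3,4,3,2,3,5,0]))) (.node .none (.word [5,6,3,2,1,4,3,6,2,3,2,3,6,2,3,4,1,2,3,6,5,1,3,2,1,6,3,2,1,3,2,3,5,4,2,3,1,2,3,6,4,2,3,5,1,5,6,3,4,1,2,3,6,3,4,3,2,3,5,0,5,6,3,4,1,2,3,6,3,4,3,2,3,5,0]))))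 (.node (.node (.node (.node (.word [0,1,3,2,3,5,6,3,2,3,5,6,3,4,1,2,3,6,1,0,5,6,3,4,1,2,3,6,3,4,3,2,3,5,0,5,6,3,4,1,2,3,6,3,4,3,2,3,5,1,3,2,3,5,6,3,2,3,5,6,3,4,1,2,3,6,1,0]) (.word [5,6,3,2,1,4,3,6,2,3,2,3,6,2,3,4,1,2,3,6,5,1,2,3,5,3,2,1,0,3,5,6,3,2,3,6,4,3,2,3,1,2,3,5,6,3,4,5,6,3,2,1,4,3,6,2,3,2,3,6,2,3,4,1,2,4,1,2,3,6,3,4,3,2,3,5,0])) (.node (.word [5,6,3,4,1,2,3,6,3,4,3,2,3,5,1,3,2,3,5,6,3,2,3,5,6,3,4,1,2,3,6,1,0,1,3,2,1,6,3,2,1,3,2,3,5,4,2,3,1,2,3,6,4,2,3,5,1,5,6,3,4,1,2,3,6,3,4,3,2,3,5,0,5,6,3,4,1,2,3,6,3,4,3,2,3,5,0]) (.word [2,1,6,3,2,3,1,2,3,4,2,3,6,1,2,3,5,6,3,2,0,5,6,3,4,1,2,3,6,3,4,3,2,3,5,0,5,6,3,2,1,4,3,6,2,3,2,3,6,2,3,4,1,2,4,1,2,3,6,3,4,3,2,3,5,0]))) (.node (.node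 .none (.word [1,3,2,1,6,3,2,1,3,2,3,5,4,2,3,1,2,3,6,4,2,3,5,1,5,6,3,4,1,2,3,6,3,4,3,2,3,5,0,5,6,3,4,1,2,3,6,3,4,3,2,3,5,0,5,6,3,2,1,4,3,6,2,3,2,3,6,2,3,4,1,2,4,1,2,3,6,3,4,3,2,3,5,0])) (.node .none (.word [5,6,3,4,1,2,3,6,3,4,3,2,3,5,0,1,3,2,1,6,3,2,1,3,2,3,5,4,2,3,1,2,3,6,4,2,3,5,1,5,6,3,4,1,2,3,6,3,4,3,2,3,5,0,1,5,3,2,4,3,2,1,3,5,6,3,4,2,3,5,3,1,2,3,4,2,3,2,0,5,6,3,4,1,2,3,6,3,4,3,2,3,5,0])))) (.node (.node (.node (.word [1,2,3,5,3,2,1,0,3,5,6,3,2,3,6,4,3,2,3,1,2,3,5,6,3,4,1,2,3,5,3,2,1,0,3,5,6,3,2,3,6,4,3,2,3,1,2,3,5,6,3,4,5,6,3,4,1,2,3,6,3,4,3,2,3,5,0,1,3,2,1,6,3,2,1,3,2,3,5,4,2,3,1,2,3,6,4,2,3,5,1,5,6,3,4,1,2,3,6,3,4,3,2,3,5,0]) (.word [5,6,3,4,1,2,3,6,3,4,3,2,3,5,0,1,3,2,1,6,3,2,1,3,2,3,5,4,2,3,1,2,3,6,4,2,3,5,1,5,6,3,4,1,2,3,6,3,4,3,2,3,5,0,1,2,3,5,3,2,1,0,3,5,6,3,2,3,6,4,3,2,3,1,2,3,5,6,3,4,5,6,3,4,1,2,3,6,3,4,3,2,3,5,0]))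 (.node .none (.word [0,1,3,2,3,5,6,3,2,3,5,6,3,4,1,2,3,6,3,2,3,5,6,3,2,3,5,6,3,4,1,2,3,6,1,0,5,6,3,4,1,2,3,6,3,4,3,2,3,5,0]))) (.node (.word [5,6,3,2,1,4,3,6,2,3,2,3,6,2,3,4,1,2,3,6,5,0,1,3,2,3,5,6,3,2,3,5,6,3,4,1,2,3,6,1,0,1,5,3,2,4,3,2,1,3,5,6,3,4,2,3,5,3,1,2,3,4,2,3,2,0,1,2,3,5,3,2,1,0,3,5,6,3,2,3,6,4,3,2,3,1,2,3,5,6,3,4,0,1,3,2,3,5,6,3,2,3,5,6,3,4,1,2,3,6,1,0,5,6,3,4,1,2,3,6,3,4,3,2,3,5,0]) (.word [5,6,3,4,1,2,3,6,3,4,3,2,3,5,0,1,3,2,1,6,3,2,1,3,2,3,5,4,2,3,1,2,3,6,4,2,3,5,1,0,1,3,2,3,5,6,3,2,3,5,6,3,4,1,2,3,6,1,0,2,1,6,3,2,3,1,2,3,4,2,3,6,1,2,3,5,6,3,2,0,5,6,3,4,1,2,3,6,3,4,3,2,3,5,0]))))) (.node (.node (.node (.node (.node .none (.word [1,3,2,1,6,3,2,1,3,2,3,5,4,2,3,1,2,3,6,4,2,3,5,1,5,6,3,4,1,2,3,6,3,4,3,2,3,5,0,5,6,3,4,1,2,3,6,3,4,3,2,3,5,0,1,2,3,5,3,2,1,0,3,5,6,3,2,3,6,4,3,2,3,1,2,3,5,6,3,4,5,6,3,4,1,2,3,6,3,4,3,2,3,5,0]))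 (.word [5,6,3,4,1,2,3,6,3,4,3,2,3,5,0,1,5,3,2,4,3,2,1,3,5,6,3,4,2,3,5,3,1,2,3,4,2,3,2,0,1,3,2,1,6,3,2,1,3,2,3,5,4,2,3,1,2,3,6,4,2,3,5,1,5,6,3,4,1,2,3,6,3,4,3,2,3,5,0,5,6,3,4,1,2,3,6,3,4,3,2,3,5,0])) (.node (.word [1,3,2,1,6,3,2,1,3,2,3,5,4,2,3,1,2,3,6,4,2,3,5,2,3,5,3,2,1,0,3,5,6,3,2,3,6,4,3,2,3,1,2,3,5,6,3,4,5,6,3,4,1,2,3,6,3,4,3,2,3,5,1,3,2,3,5,6,3,2,3,5,6,3,4,1,2,3,6,3,2,3,5,6,3,2,3,5,6,3,4,1,2,3,6,1,0,5,6,3,4,1,2,3,6,3,4,3,2,3,5,0]) (.word [5,6,3,4,1,2,3,6,3,4,3,2,3,5,0,1,5,3,2,4,3,2,1,3,5,6,3,4,2,3,5,3,1,2,3,4,2,3,2,0,1,2,3,5,3,2,1,0,3,5,6,3,2,3,6,4,3,2,3,1,2,3,5,6,3,4,5,6,3,4,1,2,3,6,3,4,3,2,3,5,0]))) (.node (.node (.word [0,1,3,2,3,5,6,3,2,3,5,6,3,4,1,2,3,6,1,0,1,3,2,1,6,3,2,1,3,2,3,5,4,2,3,1,2,3,6,4,2,3,5,1,5,6,3,4,1,2,3,6,3,4,3,2,3,5,0,1,2,3,5,3,2,1,0,3,5,6,3,2,3,6,4,3,2,3,1,2,3,5,6,3,4,5,6,3,4,1,2,3,6,3,4,3,2,3,5,0])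 (.node (.word [1,5,3,2,4,3,2,1,3,5,6,3,4,2,3,5,3,1,2,3,4,2,3,2,0,1,3,2,1,6,3,2,1,3,2,3,5,4,2,3,1,2,3,6,4,2,3,5,1,5,6,3,4,1,2,3,6,3,4,3,2,3,5,0,5,6,3,4,1,2,3,6,3,4,3,2,3,5,0]) (.word [1,2,3,5,3,2,1,0,3,5,6,3,2,3,6,4,3,2,3,1,2,3,5,6,3,4,5,6,3,4,1,2,3,6,3,4,3,2,3,5,0,1,2,3,5,3,2,1,0,3,5,6,3,2,3,6,4,3,2,3,1,2,3,5,6,3,4,0,1,3,2,3,5,6,3,2,3,5,6,3,4,1,2,3,6,1,0,5,6,3,4,1,2,3,6,3,4,3,2,3,5,0,5,6,3,4,1,2,3,6,3,4,3,2,3,5,0]))) (.node (.word [2,1,6,3,2,3,1,2,3,4,2,3,6,1,2,3,5,6,3,2,0,1,2,3,5,3,2,1,0,3,5,6,3,2,3,6,4,3,2,3,1,2,3,5,6,3,4,0,1,3,2,3,5,6,3,2,3,5,6,3,4,1,2,3,6,3,2,3,5,6,3,2,3,5,6,3,4,1,2,3,6,1,0]) (.node .none (.word [1,3,2,1,6,3,2,1,3,2,3,5,4,2,3,1,2,3,6,4,2,3,5,1,0,1,3,2,3,5,6,3,2,3,5,6,3,4,1,2,3,6,1,0,1,2,3,5,3,2,1,0,3,5,6,3,2,3,6,4,3,2,3,1,2,3,5,6,3,4,0,1,3,2,3,5,6,3,2,3,5,6,3,4,1,2,3,6,3,2,3,5,6,3,2,3,5,6,3,4,1,2,3,6,1,0])))))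 (.node (.node (.node (.node .none (.word [1,3,2,1,6,3,2,1,3,2,3,5,4,2,3,1,2,3,6,4,2,3,5,2,3,5,3,2,1,0,3,5,6,3,2,3,6,4,3,2,3,1,2,3,5,6,3,4,0,1,3,2,3,5,6,3,2,3,5,6,3,4,1,2,3,6,1,0,5,6,3,2,1,4,3,6,2,3,2,3,6,2,3,4,1,2,4,1,2,3,6,3,4,3,2,3,5,0])) (.node .none (.word [2,1,6,3,2,3,1,2,3,4,2,3,6,1,2,3,5,6,3,2,1,3,2,3,5,6,3,2,3,5,6,3,4,1,2,3,6,1,0,1,3,2,1,6,3,2,1,3,2,3,5,4,2,3,1,2,3,6,3,2,1,3,5,6,3,4,2,3,5,3,1,2,3,4,2,3,2,0,5,6,3,4,1,2,3,6,3,4,3,2,3,5,0,5,6,3,4,1,2,3,6,3,4,3,2,3,5,0]))) (.node (.word [1,5,3,2,4,3,2,1,3,5,6,3,4,2,3,5,3,1,2,3,4,2,3,2,0,1,2,3,5,3,2,1,0,3,5,6,3,2,3,6,4,3,2,3,1,2,3,5,6,3,4,1,3,2,1,6,3,2,1,3,2,3,5,4,2,3,1,2,3,6,4,2,3,5,1,5,6,3,4,1,2,3,6,3,4,3,2,3,5,1,3,2,3,5,6,3,2,3,5,6,3,4,1,2,3,6,1,0,5,6,3,4,1,2,3,6,3,4,3,2,3,5,0])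 (.node (.word [1,3,2,1,6,3,2,1,3,2,3,5,4,2,3,1,2,3,6,4,2,3,5,1,5,6,3,4,1,2,3,6,3,4,3,2,3,5,1,3,2,3,5,6,3,2,3,5,6,3,4,1,2,3,6,3,2,3,5,6,3,2,3,5,6,3,4,1,2,3,6,3,2,3,5,6,3,2,3,5,6,3,4,1,2,3,6,1,0]) (.word [1,2,3,5,3,2,1,0,3,5,6,3,2,3,6,4,3,2,3,1,2,3,5,6,3,4,1,2,3,5,3,2,1,0,3,5,6,3,2,3,6,4,3,2,3,1,2,3,5,6,3,4,5,6,3,4,1,2,3,6,3,4,3,2,3,5,1,3,2,3,5,6,3,2,3,5,6,3,4,1,2,3,6,1,0])))) (.node (.node (.node (.word [1,2,3,5,3,2,1,0,3,5,6,3,2,3,6,4,3,2,3,1,2,3,5,6,3,4,5,6,3,4,1,2,3,6,3,4,3,2,3,5,0,1,2,3,5,3,2,1,0,3,5,6,3,2,3,6,4,3,2,3,1,2,3,5,6,3,4,5,6,3,2,1,4,3,6,2,3,2,3,6,2,3,4,1,2,3,6,5,0,1,3,2,3,5,6,3,2,3,5,6,3,4,1,2,3,6,1,0,5,6,3,4,1,2,3,6,3,4,3,2,3,5,0]) (.word [1,2,3,5,3,2,1,0,3,5,6,3,2,3,6,4,3,2,3,1,2,3,5,6,3,4,5,6,3,4,1,2,3,6,3,4,3,2,3,5,0,5,6,3,2,1,4,3,6,2,3,2,3,6,2,3,4,1,2,3,6,5,0,1,3,2,3,5,6,3,2,3,5,6,3,4,1,2,3,6,3,2,3,5,6,3,2,3,5,6,3,4,1,2,3,6,1,0,5,6,3,4,1,2,3,6,3,4,3,2,3,5,0]))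 (.node .none (.word [1,5,3,2,4,3,2,1,3,5,6,3,4,2,3,5,3,1,2,3,4,2,3,2,1,3,2,3,5,6,3,2,3,5,6,3,4,1,2,3,6,1,0]))) (.node (.word [2,1,6,3,2,3,1,2,3,4,2,3,6,1,2,3,5,6,3,2,1,3,2,3,5,6,3,2,3,5,6,3,4,1,2,3,6,3,2,3,5,6,3,2,3,5,6,3,4,1,2,3,6,1,0,5,6,3,4,1,2,3,6,3,4,3,2,3,5,0]) (.word [0,1,3,2,3,5,6,3,2,3,5,6,3,4,1,2,3,6,1,0,1,3,2,1,6,3,2,1,3,2,3,5,4,2,3,1,2,3,6,4,2,3,5,1,5,6,3,4,1,2,3,6,3,4,3,2,3,5,0,5,6,3,4,1,2,3,6,3,4,3,2,3,5,0])))))) (.node (.node (.node (.node (.node (.node (.word [1,2,3,5,3,2,1,0,3,5,6,3,2,3,6,4,3,2,3,1,2,3,5,6,3,4,1,5,3,2,4,3,2,1,3,5,6,3,4,2,3,5,3,1,2,3,4,2,3,2,1,3,2,3,5,6,3,2,3,5,6,3,4,1,2,3,6,1,0]) (.word [0,1,3,2,3,5,6,3,2,3,5,6,3,4,1,2,3,6,1,0,2,1,6,3,2,3,1,2,3,4,2,3,6,1,2,3,5,6,3,2,0,5,6,3,4,1,2,3,6,3,4,3,2,3,5,0]))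 .none) (.node .none (.node .none (.word [1,5,3,2,4,3,2,1,3,5,6,3,4,2,3,5,3,1,2,3,4,2,3,2,1,3,2,3,5,6,3,2,3,5,6,3,4,1,2,3,6,1,0,1,3,2,1,6,3,2,1,3,2,3,5,4,2,3,1,2,3,6,4,2,3,5,1,5,6,3,4,1,2,3,6,3,4,3,2,3,5,1,3,2,3,5,6,3,2,3,5,6,3,4,1,2,3,6,1,0])))) (.node (.node (.word [0,1,3,2,3,5,6,3,2,3,5,6,3,4,1,2,3,6,1,0,5,6,3,4,1,2,3,6,3,4,3,2,3,5,0,1,5,3,2,4,3,2,1,3,5,6,3,4,2,3,5,3,1,2,3,4,2,3,2,0,1,3,2,1,6,3,2,1,3,2,3,5,4,2,3,1,2,3,6,4,2,3,5,1,5,6,3,4,1,2,3,6,3,4,3,2,3,5,0]) (.word [5,6,3,4,1,2,3,6,3,4,3,2,3,5,0,5,6,3,4,1,2,3,6,3,4,3,2,3,5,0,5,6,3,4,1,2,3,6,3,4,3,2,3,5,0])) (.node (.node (.word [5,6,3,4,1,2,3,6,3,4,3,2,3,5,1,3,2,3,5,6,3,2,3,5,6,3,4,1,2,3,6,1,0,1,2,3,5,3,2,1,0,3,5,6,3,2,3,6,4,3,2,3,1,2,3,5,6,3,4,5,6,3,4,1,2,3,6,3,4,3,2,3,5,0,5,6,3,4,1,2,3,6,3,4,3,2,3,5,0])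 (.word [5,6,3,4,1,2,3,6,3,4,3,2,3,5,0,5,6,3,4,1,2,3,6,3,4,3,2,3,5,0,2,1,6,3,2,3,1,2,3,4,2,3,6,1,2,3,5,6,3,2,1,3,2,3,5,6,3,2,3,5,6,3,4,1,2,3,6,1,0])) (.word [1,5,3,2,4,3,2,1,3,5,6,3,4,2,3,5,3,1,2,3,4,2,3,2,1,3,2,3,5,6,3,2,3,5,6,3,4,1,2,3,6,1,0,5,6,3,2,1,4,3,6,2,3,2,3,6,2,3,4,1,2,3,6,5,0,1,3,2,3,5,6,3,2,3,5,6,3,4,1,2,3,6,3,2,3,5,6,3,2,3,5,6,3,4,1,2,3,6,1,0])))) (.node (.node (.node (.word [2,1,6,3,2,3,1,2,3,4,2,3,6,1,2,3,5,6,3,2,0,1,2,3,5,3,2,1,0,3,5,6,3,2,3,6,4,3,2,3,1,2,3,5,6,3,4,5,6,3,4,1,2,3,6,3,4,3,2,3,5,0,1,5,3,2,4,3,2,1,3,5,6,3,4,2,3,5,3,1,2,3,4,2,3,2,1,3,2,3,5,6,3,2,3,5,6,3,4,1,2,3,6,1,0]) (.word [2,1,6,3,2,3,1,2,3,4,2,3,6,1,2,3,5,6,3,2,0,5,6,3,4,1,2,3,6,3,4,3,2,3,5,0,1,5,3,2,4,3,2,1,3,5,6,3,4,2,3,5,3,1,2,3,4,2,3,2,0,1,5,3,2,4,3,2,1,3,5,6,3,4,2,3,5,3,1,2,3,4,2,3,2,1,3,2,3,5,6,3,2,3,5,6,3,4,1,2,3,6,1,0]))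 (.node (.node (.word [0,1,3,2,3,5,6,3,2,3,5,6,3,4,1,2,3,6,1,0,5,6,3,4,1,2,3,6,3,4,3,2,3,5,0,1,2,3,5,3,2,1,0,3,5,6,3,2,3,6,4,3,2,3,1,2,3,5,6,3,4,1,2,3,5,3,2,1,0,3,5,6,3,2,3,6,4,3,2,3,1,2,3,5,6,3,4,0,1,3,2,3,5,6,3,2,3,5,6,3,4,1,2,3,6,1,0]) (.word [1,5,3,2,4,3,2,1,3,5,6,3,4,2,3,5,3,1,2,3,4,2,3,2,0,5,6,3,4,1,2,3,6,3,4,3,2,3,5,0,1,5,3,2,4,3,2,1,3,5,6,3,4,2,3,5,3,1,2,3,4,2,3,2,0,1,5,3,2,4,3,2,1,3,5,6,3,4,2,3,5,3,1,2,3,4,2,3,2,1,3,2,3,5,6,3,2,3,5,6,3,4,1,2,3,6,1,0])) (.node .none (.word [1,3,2,1,6,3,2,1,3,2,3,5,4,2,3,1,2,3,6,4,2,3,5,1,5,6,3,2,1,4,3,6,2,3,2,3,6,2,3,4,1,2,3,6,5,1,2,3,5,3,2,1,0,3,5,6,3,2,3,6,4,3,2,3,1,2,3,5,6,3,4,5,6,3,4,1,2,3,6,3,4,3,2,3,5,0])))) (.node (.node (.node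 (.word [1,5,3,2,4,3,2,1,3,5,6,3,4,2,3,5,3,1,2,3,4,2,3,2,0,2,1,6,3,2,3,1,2,3,4,2,3,6,1,2,3,5,6,3,2,0,5,6,3,4,1,2,3,6,3,4,3,2,3,5,0,1,5,3,2,4,3,2,1,3,5,6,3,4,2,3,5,3,1,2,3,4,2,3,2,0,5,6,3,4,1,2,3,6,3,4,3,2,3,5,0]) (.word [5,6,3,4,1,2,3,6,3,4,3,2,3,5,0,2,1,6,3,2,3,1,2,3,4,2,3,6,1,2,3,5,6,3,2,0,1,5,3,2,4,3,2,1,3,5,6,3,4,2,3,5,3,1,2,3,4,2,3,2,0,5,6,3,4,1,2,3,6,3,4,3,2,3,5,0])) .none) (.node (.word [1,5,3,2,4,3,2,1,3,5,6,3,4,2,3,5,3,1,2,3,4,2,3,2,1,3,2,3,5,6,3,2,3,5,6,3,4,1,2,3,6,1,0,5,6,3,4,1,2,3,6,3,4,3,2,3,5,0,1,2,3,5,3,2,1,0,3,5,6,3,2,3,6,4,3,2,3,1,2,3,5,6,3,4,5,6,3,2,1,4,3,6,2,3,2,3,6,2,3,4,1,2,4,1,2,3,6,3,4,3,2,3,5,0]) (.node (.word [1,3,2,1,6,3,2,1,3,2,3,5,4,2,3,1,2,3,6,4,2,3,5,1,5,6,3,4,1,2,3,6,3,4,3,2,3,5,0,1,2,3,5,3,2,1,0,3,5,6,3,2,3,6,4,3,2,3,1,2,3,5,6,3,4,0,1,3,2,3,5,6,3,2,3,5,6,3,4,1,2,3,6,1,0])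 (.word [1,2,3,5,3,2,1,0,3,5,6,3,2,3,6,4,3,2,3,1,2,3,5,6,3,4,1,5,3,2,4,3,2,1,3,5,6,3,4,2,3,5,3,1,2,3,4,2,3,2,0,5,6,3,4,1,2,3,6,3,4,3,2,3,5,1,3,2,3,5,6,3,2,3,5,6,3,4,1,2,3,6,1,0,5,6,3,4,1,2,3,6,3,4,3,2,3,5,0])))))) (.node (.node (.node (.node (.node .none (.word [1,5,3,2,4,3,2,1,3,5,6,3,4,2,3,5,3,1,2,3,4,2,3,2,0,5,6,3,4,1,2,3,6,3,4,3,2,3,5,0,5,6,3,4,1,2,3,6,3,4,3,2,3,5,0,5,6,3,4,1,2,3,6,3,4,3,2,3,5,0])) (.node (.word [1,2,3,5,3,2,1,0,3,5,6,3,2,3,6,4,3,2,3,1,2,3,5,6,3,4,1,3,2,1,6,3,2,1,3,2,3,5,4,2,3,1,2,3,6,4,2,3,5,1,0,1,3,2,3,5,6,3,2,3,5,6,3,4,1,2,3,6,3,2,3,5,6,3,2,3,5,6,3,4,1,2,3,6,1,0,1,2,3,5,3,2,1,0,3,5,6,3,2,3,6,4,3,2,3,1,2,3,5,6,3,4,5,6,3,4,1,2,3,6,3,4,3,2,3,5,0]) (.word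 [2,1,6,3,2,3,1,2,3,4,2,3,6,1,2,3,5,6,3,2,1,3,2,3,5,6,3,2,3,5,6,3,4,1,2,3,6,1,0,2,1,6,3,2,3,1,2,3,4,2,3,6,1,2,3,5,6,3,2,0,5,6,3,4,1,2,3,6,3,4,3,2,3,5,0]))) (.node (.word [1,2,3,5,3,2,1,0,3,5,6,3,2,3,6,4,3,2,3,1,2,3,5,6,3,4,0,1,3,2,3,5,6,3,2,3,5,6,3,4,1,2,3,6,3,2,3,5,6,3,2,3,5,6,3,4,1,2,3,6,3,2,3,5,6,3,2,3,5,6,3,4,1,2,3,6,1,0]) (.node .none (.word [1,3,2,1,6,3,2,1,3,2,3,5,4,2,3,1,2,3,6,3,2,1,3,5,6,3,4,2,3,5,3,1,2,3,4,2,3,2,0,1,5,3,2,4,3,2,1,3,5,6,3,4,2,3,5,3,1,2,3,4,2,3,2,0,5,6,3,4,1,2,3,6,3,4,3,2,3,5,0,5,6,3,4,1,2,3,6,3,4,3,2,3,5,0])))) (.node (.node (.node .none (.word [1,2,3,5,3,2,1,0,3,5,6,3,2,3,6,4,3,2,3,1,2,3,5,6,3,4,5,6,3,2,1,4,3,6,2,3,2,3,6,2,3,4,1,2,3,6,5,1,3,2,1,6,3,2,1,3,2,3,5,4,2,3,1,2,3,6,4,2,3,5,1,0,1,3,2,3,5,6,3,2,3,5,6,3,4,1,2,3,6,1,0,5,6,3,4,1,2,3,6,3,4,3,2,3,5,0]))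 .none) (.node (.word [1,2,3,5,3,2,1,0,3,5,6,3,2,3,6,4,3,2,3,1,2,3,5,6,3,4,1,5,3,2,4,3,2,1,3,5,6,3,4,2,3,5,3,1,2,3,4,2,3,2,0,5,6,3,4,1,2,3,6,3,4,3,2,3,5,0,1,5,3,2,4,3,2,1,3,5,6,3,4,2,3,5,3,1,2,3,4,2,3,2,0,1,2,3,5,3,2,1,0,3,5,6,3,2,3,6,4,3,2,3,1,2,3,5,6,3,4,5,6,3,4,1,2,3,6,3,4,3,2,3,5,0]) (.word [1,2,3,5,3,2,1,0,3,5,6,3,2,3,6,4,3,2,3,1,2,3,5,6,3,4,1,2,3,5,3,2,1,0,3,5,6,3,2,3,6,4,3,2,3,1,2,3,5,6,3,4,5,6,3,4,1,2,3,6,3,4,3,2,3,5,0])))) (.node (.node (.node (.node .none (.word [1,5,3,2,4,3,2,1,3,5,6,3,4,2,3,5,3,1,2,3,4,2,3,2,1,3,2,3,5,6,3,2,3,5,6,3,4,1,2,3,6,1,0,2,1,6,3,2,3,1,2,3,4,2,3,6,1,2,3,5,6,3,2,0,1,2,3,5,3,2,1,0,3,5,6,3,2,3,6,4,3,2,3,1,2,3,5,6,3,4,0,1,3,2,3,5,6,3,2,3,5,6,3,4,1,2,3,6,1,0]))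 (.node (.word [1,2,3,5,3,2,1,0,3,5,6,3,2,3,6,4,3,2,3,1,2,3,5,6,3,4,2,1,6,3,2,3,1,2,3,4,2,3,6,1,2,3,5,6,3,2,1,3,2,3,5,6,3,2,3,5,6,3,4,1,2,3,6,3,2,3,5,6,3,2,3,5,6,3,4,1,2,3,6,1,0]) (.word [1,3,2,1,6,3,2,1,3,2,3,5,4,2,3,1,2,3,6,4,2,3,5,1,5,6,3,4,1,2,3,6,3,4,3,2,3,5,0,5,6,3,4,1,2,3,6,3,4,3,2,3,5,0,1,3,2,1,6,3,2,1,3,2,3,5,4,2,3,1,2,3,6,4,2,3,5,1,5,6,3,4,1,2,3,6,3,4,3,2,3,5,0]))) (.node (.node (.word [5,6,3,4,1,2,3,6,3,4,3,2,3,5,0,5,6,3,2,1,4,3,6,2,3,2,3,6,2,3,4,1,2,3,6,5,0,1,3,2,3,5,6,3,2,3,5,6,3,4,1,2,3,6,3,2,3,5,6,3,2,3,5,6,3,4,1,2,3,6,1,0,5,6,3,4,1,2,3,6,3,4,3,2,3,5,0]) (.word [5,6,3,4,1,2,3,6,3,4,3,2,3,5,0,5,6,3,4,1,2,3,6,3,4,3,2,3,5,0,2,1,6,3,2,3,1,2,3,4,2,3,6,1,2,3,5,6,3,2,0,5,6,3,4,1,2,3,6,3,4,3,2,3,5,0]))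 .none)) (.node (.node (.word [1,5,3,2,4,3,2,1,3,5,6,3,4,2,3,5,3,1,2,3,4,2,3,2,0,5,6,3,2,1,4,3,6,2,3,2,3,6,2,3,4,1,2,3,6,5,0,1,3,2,3,5,6,3,2,3,5,6,3,4,1,2,3,6,1,0,1,5,3,2,4,3,2,1,3,5,6,3,4,2,3,5,3,1,2,3,4,2,3,2,1,3,2,3,5,6,3,2,3,5,6,3,4,1,2,3,6,1,0,5,6,3,4,1,2,3,6,3,4,3,2,3,5,0]) (.node (.word [1,2,3,5,3,2,1,0,3,5,6,3,2,3,6,4,3,2,3,1,2,3,5,6,3,4,1,2,3,5,3,2,1,0,3,5,6,3,2,3,6,4,3,2,3,1,2,3,5,6,3,4,0,1,3,2,3,5,6,3,2,3,5,6,3,4,1,2,3,6,1,0,1,3,2,1,6,3,2,1,3,2,3,5,4,2,3,1,2,3,6,4,2,3,5,1,5,6,3,4,1,2,3,6,3,4,3,2,3,5,0]) (.word [5,6,3,2,1,4,3,6,2,3,2,3,6,2,3,4,1,2,4,1,2,3,6,3,4,3,2,3,5,1,3,2,3,5,6,3,2,3,5,6,3,4,1,2,3,6,1,0]))) (.node .none (.word [5,6,3,4,1,2,3,6,3,4,3,2,3,5,0,1,5,3,2,4,3,2,1,3,5,6,3,4,2,3,5,3,1,2,3,4,2,3,2,1,3,2,3,5,6,3,2,3,5,6,3,4,1,2,3,6,1,0,1,5,3,2,4,3,2,1,3,5,6,3,4,2,3,5,3,1,2,3,4,2,3,2,0,5,6,3,4,1,2,3,6,3,4,3,2,3,5,0,5,6,3,4,1,2,3,6,3,4,3,2,3,5,0])))))))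

/-- A subtree. -/
def sub24 : WTree :=
  (.node (.node sub20 sub21) (.node sub22 sub23))

/-- A subtree. -/
def sub25 : WTree :=
  (.node (.node (.node (.node (.node (.node (.node (.node (.word [1,5,3,2,4,3,2,1,3,5,6,3,4,2,3,5,3,1,2,3,4,2,3,2,1,3,2,3,5,6,3,2,3,5,6,3,4,1,2,3,6,1,0,1,3,2,1,6,3,2,1,3,2,3,5,4,2,3,1,2,3,6,4,2,3,5,2,3,5,3,2,1,0,3,5,6,3,2,3,6,4,3,2,3,1,2,3,5,6,3,4,5,6,3,4,1,2,3,6,3,4,3,2,3,5,0]) (.word [1,2,3,5,3,2,1,0,3,5,6,3,2,3,6,4,3,2,3,1,2,3,5,6,3,4,5,6,3,4,1,2,3,6,3,4,3,2,3,5,0,1,3,2,1,6,3,2,1,3,2,3,5,4,2,3,1,2,3,6,4,2,3,5,1,0,1,3,2,3,5,6,3,2,3,5,6,3,4,1,2,3,6,1,0,5,6,3,4,1,2,3,6,3,4,3,2,3,5,0])) (.word [1,3,2,1,6,3,2,1,3,2,3,5,4,2,3,1,2,3,6,4,2,3,5,1,5,6,3,4,1,2,3,6,3,4,3,2,3,5,0,1,5,3,2,4,3,2,1,3,5,6,3,4,2,3,5,3,1,2,3,4,2,3,2,0,5,6,3,4,1,2,3,6,3,4,3,2,3,5,0]))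 (.word [2,1,6,3,2,3,1,2,3,4,2,3,6,1,2,3,5,6,3,2,0,5,6,3,4,1,2,3,6,3,4,3,2,3,5,0,1,2,3,5,3,2,1,0,3,5,6,3,2,3,6,4,3,2,3,1,2,3,5,6,3,4,5,6,3,2,1,4,3,6,2,3,2,3,6,2,3,4,1,2,4,1,2,3,6,3,4,3,2,3,5,0])) (.node (.node .none (.word [0,1,3,2,3,5,6,3,2,3,5,6,3,4,1,2,3,6,1,0,2,1,6,3,2,3,1,2,3,4,2,3,6,1,2,3,5,6,3,2,0,5,6,3,2,1,4,3,6,2,3,2,3,6,2,3,4,1,2,3,6,5,1,2,3,5,3,2,1,0,3,5,6,3,2,3,6,4,3,2,3,1,2,3,5,6,3,4,5,6,3,4,1,2,3,6,3,4,3,2,3,5,0,5,6,3,4,1,2,3,6,3,4,3,2,3,5,0])) (.node (.word [1,5,3,2,4,3,2,1,3,5,6,3,4,2,3,5,3,1,2,3,4,2,3,2,1,3,2,3,5,6,3,2,3,5,6,3,4,1,2,3,6,1,0,5,6,3,4,1,2,3,6,3,4,3,2,3,5,0,5,6,3,2,1,4,3,6,2,3,2,3,6,2,3,4,1,2,4,1,2,3,6,3,4,3,2,3,5,0]) (.word [5,6,3,4,1,2,3,6,3,4,3,2,3,5,0,1,2,3,5,3,2,1,0,3,5,6,3,2,3,6,4,3,2,3,1,2,3,5,6,3,4,1,3,2,1,6,3,2,1,3,2,3,5,4,2,3,1,2,3,6,4,2,3,5,1,5,6,3,4,1,2,3,6,3,4,3,2,3,5,0,5,6,3,4,1,2,3,6,3,4,3,2,3,5,0]))))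 (.node (.node (.node (.word [1,5,3,2,4,3,2,1,3,5,6,3,4,2,3,5,3,1,2,3,4,2,3,2,0,1,2,3,5,3,2,1,0,3,5,6,3,2,3,6,4,3,2,3,1,2,3,5,6,3,4,0,1,3,2,3,5,6,3,2,3,5,6,3,4,1,2,3,6,1,0,5,6,3,4,1,2,3,6,3,4,3,2,3,5,0]) (.word [2,1,6,3,2,3,1,2,3,4,2,3,6,1,2,3,5,6,3,2,0,1,3,2,1,6,3,2,1,3,2,3,5,4,2,3,1,2,3,6,4,2,3,5,1,5,6,3,4,1,2,3,6,3,4,3,2,3,5,0])) (.node (.word [0,1,3,2,3,5,6,3,2,3,5,6,3,4,1,2,3,6,3,2,3,5,6,3,2,3,5,6,3,4,1,2,3,6,3,2,3,5,6,3,2,3,5,6,3,4,1,2,3,6,1,0,5,6,3,4,1,2,3,6,3,4,3,2,3,5,0,5,6,3,4,1,2,3,6,3,4,3,2,3,5,0]) (.word [5,6,3,4,1,2,3,6,3,4,3,2,3,5,0,5,6,3,4,1,2,3,6,3,4,3,2,3,5,0,5,6,3,2,1,4,3,6,2,3,2,3,6,2,3,4,1,2,3,6,5,1,3,2,1,6,3,2,1,3,2,3,5,4,2,3,1,2,3,6,4,2,3,5,1,5,6,3,4,1,2,3,6,3,4,3,2,3,5,0])))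 (.word [5,6,3,2,1,4,3,6,2,3,2,3,6,2,3,4,1,2,3,6,5,1,2,3,5,3,2,1,0,3,5,6,3,2,3,6,4,3,2,3,1,2,3,5,6,3,4,5,6,3,4,1,2,3,6,3,4,3,2,3,5,0,1,5,3,2,4,3,2,1,3,5,6,3,4,2,3,5,3,1,2,3,4,2,3,2,1,3,2,3,5,6,3,2,3,5,6,3,4,1,2,3,6,1,0]))) (.node (.node (.node (.node .none (.word [1,3,2,1,6,3,2,1,3,2,3,5,4,2,3,1,2,3,6,4,2,3,5,1,5,6,3,4,1,2,3,6,3,4,3,2,3,5,0,1,3,2,1,6,3,2,1,3,2,3,5,4,2,3,1,2,3,6,4,2,3,5,1,0,1,3,2,3,5,6,3,2,3,5,6,3,4,1,2,3,6,1,0])) (.node .none (.word [2,1,6,3,2,3,1,2,3,4,2,3,6,1,2,3,5,6,3,2,0,5,6,3,4,1,2,3,6,3,4,3,2,3,5,1,3,2,3,5,6,3,2,3,5,6,3,4,1,2,3,6,1,0,5,6,3,2,1,4,3,6,2,3,2,3,6,2,3,4,1,2,4,1,2,3,6,3,4,3,2,3,5,0]))) (.node (.node (.word [5,6,3,4,1,2,3,6,3,4,3,2,3,5,1,3,2,3,5,6,3,2,3,5,6,3,4,1,2,3,6,3,2,3,5,6,3,2,3,5,6,3,4,1,2,3,6,1,0,1,2,3,5,3,2,1,0,3,5,6,3,2,3,6,4,3,2,3,1,2,3,5,6,3,4,5,6,3,4,1,2,3,6,3,4,3,2,3,5,0])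 (.word [5,6,3,4,1,2,3,6,3,4,3,2,3,5,0,1,5,3,2,4,3,2,1,3,5,6,3,4,2,3,5,3,1,2,3,4,2,3,2,1,3,2,3,5,6,3,2,3,5,6,3,4,1,2,3,6,1,0,1,2,3,5,3,2,1,0,3,5,6,3,2,3,6,4,3,2,3,1,2,3,5,6,3,4,0,1,3,2,3,5,6,3,2,3,5,6,3,4,1,2,3,6,1,0,5,6,3,4,1,2,3,6,3,4,3,2,3,5,0])) (.node .none (.word [1,3,2,1,6,3,2,1,3,2,3,5,4,2,3,1,2,3,6,4,2,3,5,2,3,5,3,2,1,0,3,5,6,3,2,3,6,4,3,2,3,1,2,3,5,6,3,4,5,6,3,2,1,4,3,6,2,3,2,3,6,2,3,4,1,2,3,6,5,1,5,3,2,4,3,2,1,3,5,6,3,4,2,3,5,3,1,2,3,4,2,3,2,1,3,2,3,5,6,3,2,3,5,6,3,4,1,2,3,6,1,0,5,6,3,4,1,2,3,6,3,4,3,2,3,5,0])))) (.node (.node (.node .none (.word [0,1,3,2,3,5,6,3,2,3,5,6,3,4,1,2,3,6,1,0,1,2,3,5,3,2,1,0,3,5,6,3,2,3,6,4,3,2,3,1,2,3,5,6,3,4,1,5,3,2,4,3,2,1,3,5,6,3,4,2,3,5,3,1,2,3,4,2,3,2,0,1,3,2,1,6,3,2,1,3,2,3,5,4,2,3,1,2,3,6,4,2,3,5,1,5,6,3,4,1,2,3,6,3,4,3,2,3,5,0,5,6,3,4,1,2,3,6,3,4,3,2,3,5,0]))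 (.node (.word [5,6,3,4,1,2,3,6,3,4,3,2,3,5,0,1,2,3,5,3,2,1,0,3,5,6,3,2,3,6,4,3,2,3,1,2,3,5,6,3,4,0,1,3,2,3,5,6,3,2,3,5,6,3,4,1,2,3,6,3,2,3,5,6,3,2,3,5,6,3,4,1,2,3,6,3,2,3,5,6,3,2,3,5,6,3,4,1,2,3,6,1,0]) (.word [5,6,3,4,1,2,3,6,3,4,3,2,3,5,0,1,5,3,2,4,3,2,1,3,5,6,3,4,2,3,5,3,1,2,3,4,2,3,2,0,1,2,3,5,3,2,1,0,3,5,6,3,2,3,6,4,3,2,3,1,2,3,5,6,3,4,0,1,3,2,3,5,6,3,2,3,5,6,3,4,1,2,3,6,1,0,5,6,3,4,1,2,3,6,3,4,3,2,3,5,0]))) (.node (.node .none (.word [2,1,6,3,2,3,1,2,3,4,2,3,6,1,2,3,5,6,3,2,0,1,2,3,5,3,2,1,0,3,5,6,3,2,3,6,4,3,2,3,1,2,3,5,6,3,4,5,6,3,4,1,2,3,6,3,4,3,2,3,5,0,5,6,3,4,1,2,3,6,3,4,3,2,3,5,0])) (.node .none (.word [1,5,3,2,4,3,2,1,3,5,6,3,4,2,3,5,3,1,2,3,4,2,3,2,0,1,2,3,5,3,2,1,0,3,5,6,3,2,3,6,4,3,2,3,1,2,3,5,6,3,4,1,2,3,5,3,2,1,0,3,5,6,3,2,3,6,4,3,2,3,1,2,3,5,6,3,4,0,1,3,2,3,5,6,3,2,3,5,6,3,4,1,2,3,6,3,2,3,5,6,3,2,3,5,6,3,4,1,2,3,6,1,0]))))))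 (.node (.node (.node (.node (.node .none (.word [1,3,2,1,6,3,2,1,3,2,3,5,4,2,3,1,2,3,6,4,2,3,5,1,0,1,3,2,3,5,6,3,2,3,5,6,3,4,1,2,3,6,1,0,1,5,3,2,4,3,2,1,3,5,6,3,4,2,3,5,3,1,2,3,4,2,3,2,0,5,6,3,4,1,2,3,6,3,4,3,2,3,5,0,5,6,3,4,1,2,3,6,3,4,3,2,3,5,0])) (.word [5,6,3,4,1,2,3,6,3,4,3,2,3,5,0,5,6,3,4,1,2,3,6,3,4,3,2,3,5,0,1,2,3,5,3,2,1,0,3,5,6,3,2,3,6,4,3,2,3,1,2,3,5,6,3,4,5,6,3,4,1,2,3,6,3,4,3,2,3,5,1,3,2,3,5,6,3,2,3,5,6,3,4,1,2,3,6,1,0])) (.node (.node (.word [1,5,3,2,4,3,2,1,3,5,6,3,4,2,3,5,3,1,2,3,4,2,3,2,1,3,2,3,5,6,3,2,3,5,6,3,4,1,2,3,6,1,0,2,1,6,3,2,3,1,2,3,4,2,3,6,1,2,3,5,6,3,2,1,3,2,3,5,6,3,2,3,5,6,3,4,1,2,3,6,1,0,5,6,3,4,1,2,3,6,3,4,3,2,3,5,0]) (.word [5,6,3,2,1,4,3,6,2,3,2,3,6,2,3,4,1,2,3,6,5,0,1,3,2,3,5,6,3,2,3,5,6,3,4,1,2,3,6,1,0,5,6,3,4,1,2,3,6,3,4,3,2,3,5,1,3,2,3,5,6,3,2,3,5,6,3,4,1,2,3,6,1,0]))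 (.word [5,6,3,2,1,4,3,6,2,3,2,3,6,2,3,4,1,2,3,6,5,1,3,2,1,6,3,2,1,3,2,3,5,4,2,3,1,2,3,6,4,2,3,5,2,3,5,3,2,1,0,3,5,6,3,2,3,6,4,3,2,3,1,2,3,5,6,3,4,5,6,3,4,1,2,3,6,3,4,3,2,3,5,0]))) (.node (.node (.word [2,1,6,3,2,3,1,2,3,4,2,3,6,1,2,3,5,6,3,2,1,3,2,3,5,6,3,2,3,5,6,3,4,1,2,3,6,1,0,5,6,3,4,1,2,3,6,3,4,3,2,3,5,1,3,2,3,5,6,3,2,3,5,6,3,4,1,2,3,6,1,0]) (.node (.word [1,2,3,5,3,2,1,0,3,5,6,3,2,3,6,4,3,2,3,1,2,3,5,6,3,4,5,6,3,4,1,2,3,6,3,4,3,2,3,5,0,5,6,3,2,1,4,3,6,2,3,2,3,6,2,3,4,1,2,3,6,5,0,1,3,2,3,5,6,3,2,3,5,6,3,4,1,2,3,6,3,2,3,5,6,3,2,3,5,6,3,4,1,2,3,6,1,0]) (.word [1,3,2,1,6,3,2,1,3,2,3,5,4,2,3,1,2,3,6,4,2,3,5,1,5,6,3,4,1,2,3,6,3,4,3,2,3,5,0,5,6,3,2,1,4,3,6,2,3,2,3,6,2,3,4,1,2,3,6,5,0,1,3,2,3,5,6,3,2,3,5,6,3,4,1,2,3,6,3,2,3,5,6,3,2,3,5,6,3,4,1,2,3,6,1,0])))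 (.node (.word [5,6,3,4,1,2,3,6,3,4,3,2,3,5,0,5,6,3,4,1,2,3,6,3,4,3,2,3,5,0,1,2,3,5,3,2,1,0,3,5,6,3,2,3,6,4,3,2,3,1,2,3,5,6,3,4,0,1,3,2,3,5,6,3,2,3,5,6,3,4,1,2,3,6,1,0,5,6,3,4,1,2,3,6,3,4,3,2,3,5,0,5,6,3,4,1,2,3,6,3,4,3,2,3,5,0]) (.node .none (.word [1,3,2,1,6,3,2,1,3,2,3,5,4,2,3,1,2,3,6,4,2,3,5,2,3,5,3,2,1,0,3,5,6,3,2,3,6,4,3,2,3,1,2,3,5,6,3,4,0,1,3,2,3,5,6,3,2,3,5,6,3,4,1,2,3,6,1,0,1,3,2,1,6,3,2,1,3,2,3,5,4,2,3,1,2,3,6,4,2,3,5,1,5,6,3,4,1,2,3,6,3,4,3,2,3,5,0]))))) (.node (.node (.node (.node (.word [1,3,2,1,6,3,2,1,3,2,3,5,4,2,3,1,2,3,6,4,2,3,5,1,0,1,3,2,3,5,6,3,2,3,5,6,3,4,1,2,3,6,1,0,1,3,2,1,6,3,2,1,3,2,3,5,4,2,3,1,2,3,6,4,2,3,5,1,0,1,3,2,3,5,6,3,2,3,5,6,3,4,1,2,3,6,1,0,5,6,3,4,1,2,3,6,3,4,3,2,3,5,0])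 (.word [2,1,6,3,2,3,1,2,3,4,2,3,6,1,2,3,5,6,3,2,0,5,6,3,2,1,4,3,6,2,3,2,3,6,2,3,4,1,2,3,6,5,1,2,3,5,3,2,1,0,3,5,6,3,2,3,6,4,3,2,3,1,2,3,5,6,3,4,5,6,3,4,1,2,3,6,3,4,3,2,3,5,0,5,6,3,4,1,2,3,6,3,4,3,2,3,5,0])) (.node (.word [1,2,3,5,3,2,1,0,3,5,6,3,2,3,6,4,3,2,3,1,2,3,5,6,3,4,1,2,3,5,3,2,1,0,3,5,6,3,2,3,6,4,3,2,3,1,2,3,5,6,3,4,5,6,3,2,1,4,3,6,2,3,2,3,6,2,3,4,1,2,3,6,5,0,1,3,2,3,5,6,3,2,3,5,6,3,4,1,2,3,6,1,0,5,6,3,4,1,2,3,6,3,4,3,2,3,5,0]) (.word [1,2,3,5,3,2,1,0,3,5,6,3,2,3,6,4,3,2,3,1,2,3,5,6,3,4,0,1,3,2,3,5,6,3,2,3,5,6,3,4,1,2,3,6,1,0,5,6,3,4,1,2,3,6,3,4,3,2,3,5,0,5,6,3,4,1,2,3,6,3,4,3,2,3,5,0]))) (.node .none (.node (.word [0,1,3,2,3,5,6,3,2,3,5,6,3,4,1,2,3,6,1,0,1,5,3,2,4,3,2,1,3,5,6,3,4,2,3,5,3,1,2,3,4,2,3,2,1,3,2,3,5,6,3,2,3,5,6,3,4,1,2,3,6,1,0,5,6,3,2,1,4,3,6,2,3,2,3,6,2,3,4,1,2,4,1,2,3,6,3,4,3,2,3,5,0])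 (.word [5,6,3,4,1,2,3,6,3,4,3,2,3,5,0,1,5,3,2,4,3,2,1,3,5,6,3,4,2,3,5,3,1,2,3,4,2,3,2,0,5,6,3,4,1,2,3,6,3,4,3,2,3,5,0,2,1,6,3,2,3,1,2,3,4,2,3,6,1,2,3,5,6,3,2,1,3,2,3,5,6,3,2,3,5,6,3,4,1,2,3,6,1,0])))) (.node (.node (.word [1,3,2,1,6,3,2,1,3,2,3,5,4,2,3,1,2,3,6,4,2,3,5,1,0,1,3,2,3,5,6,3,2,3,5,6,3,4,1,2,3,6,1,0,1,3,2,1,6,3,2,1,3,2,3,5,4,2,3,1,2,3,6,4,2,3,5,1,0,1,3,2,3,5,6,3,2,3,5,6,3,4,1,2,3,6,1,0]) (.word [1,3,2,1,6,3,2,1,3,2,3,5,4,2,3,1,2,3,6,4,2,3,5,1,0,1,3,2,3,5,6,3,2,3,5,6,3,4,1,2,3,6,1,0,1,5,3,2,4,3,2,1,3,5,6,3,4,2,3,5,3,1,2,3,4,2,3,2,0,1,2,3,5,3,2,1,0,3,5,6,3,2,3,6,4,3,2,3,1,2,3,5,6,3,4,0,1,3,2,3,5,6,3,2,3,5,6,3,4,1,2,3,6,1,0])) (.node (.node (.word [1,3,2,1,6,3,2,1,3,2,3,5,4,2,3,1,2,3,6,3,2,1,3,5,6,3,4,2,3,5,3,1,2,3,4,2,3,2,0,5,6,3,4,1,2,3,6,3,4,3,2,3,5,1,3,2,3,5,6,3,2,3,5,6,3,4,1,2,3,6,1,0,5,6,3,4,1,2,3,6,3,4,3,2,3,5,0])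 (.word [2,1,6,3,2,3,1,2,3,4,2,3,6,1,2,3,5,6,3,2,1,3,2,3,5,6,3,2,3,5,6,3,4,1,2,3,6,3,2,3,5,6,3,2,3,5,6,3,4,1,2,3,6,1,0])) (.node (.word [5,6,3,4,1,2,3,6,3,4,3,2,3,5,0,1,5,3,2,4,3,2,1,3,5,6,3,4,2,3,5,3,1,2,3,4,2,3,2,0,1,2,3,5,3,2,1,0,3,5,6,3,2,3,6,4,3,2,3,1,2,3,5,6,3,4,5,6,3,4,1,2,3,6,3,4,3,2,3,5,1,3,2,3,5,6,3,2,3,5,6,3,4,1,2,3,6,1,0]) (.word [1,5,3,2,4,3,2,1,3,5,6,3,4,2,3,5,3,1,2,3,4,2,3,2,0,1,2,3,5,3,2,1,0,3,5,6,3,2,3,6,4,3,2,3,1,2,3,5,6,3,4,1,2,3,5,3,2,1,0,3,5,6,3,2,3,6,4,3,2,3,1,2,3,5,6,3,4,5,6,3,4,1,2,3,6,3,4,3,2,3,5,0]))))))) (.node (.node (.node (.node (.node (.node .none (.word [5,6,3,4,1,2,3,6,3,4,3,2,3,5,0,5,6,3,2,1,4,3,6,2,3,2,3,6,2,3,4,1,2,3,6,5,1,2,3,5,3,2,1,0,3,5,6,3,2,3,6,4,3,2,3,1,2,3,5,6,3,4,5,6,3,4,1,2,3,6,3,4,3,2,3,5,0,1,2,3,5,3,2,1,0,3,5,6,3,2,3,6,4,3,2,3,1,2,3,5,6,3,4,5,6,3,4,1,2,3,6,3,4,3,2,3,5,0]))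 (.node .none (.word [5,6,3,4,1,2,3,6,3,4,3,2,3,5,0,1,5,3,2,4,3,2,1,3,5,6,3,4,2,3,5,3,1,2,3,4,2,3,2,1,3,2,3,5,6,3,2,3,5,6,3,4,1,2,3,6,1,0,1,2,3,5,3,2,1,0,3,5,6,3,2,3,6,4,3,2,3,1,2,3,5,6,3,4,5,6,3,4,1,2,3,6,3,4,3,2,3,5,0]))) (.node (.node .none (.word [0,1,3,2,3,5,6,3,2,3,5,6,3,4,1,2,3,6,1,0,1,5,3,2,4,3,2,1,3,5,6,3,4,2,3,5,3,1,2,3,4,2,3,2,0,5,6,3,4,1,2,3,6,3,4,3,2,3,5,0,5,6,3,2,1,4,3,6,2,3,2,3,6,2,3,4,1,2,4,1,2,3,6,3,4,3,2,3,5,0,5,6,3,4,1,2,3,6,3,4,3,2,3,5,0])) (.node (.word [5,6,3,4,1,2,3,6,3,4,3,2,3,5,0,1,5,3,2,4,3,2,1,3,5,6,3,4,2,3,5,3,1,2,3,4,2,3,2,1,3,2,3,5,6,3,2,3,5,6,3,4,1,2,3,6,3,2,3,5,6,3,2,3,5,6,3,4,1,2,3,6,1,0,5,6,3,4,1,2,3,6,3,4,3,2,3,5,0]) (.word [5,6,3,2,1,4,3,6,2,3,2,3,6,2,3,4,1,2,3,6,5,1,2,3,5,3,2,1,0,3,5,6,3,2,3,6,4,3,2,3,1,2,3,5,6,3,4,1,2,3,5,3,2,1,0,3,5,6,3,2,3,6,4,3,2,3,1,2,3,5,6,3,4,0,1,3,2,3,5,6,3,2,3,5,6,3,4,1,2,3,6,1,0,1,5,3,2,4,3,2,1,3,5,6,3,4,2,3,5,3,1,2,3,4,2,3,2,0,5,6,3,4,1,2,3,6,3,4,3,2,3,5,0]))))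 (.node (.node (.node (.word [2,1,6,3,2,3,1,2,3,4,2,3,6,1,2,3,5,6,3,2,1,3,2,3,5,6,3,2,3,5,6,3,4,1,2,3,6,1,0,1,2,3,5,3,2,1,0,3,5,6,3,2,3,6,4,3,2,3,1,2,3,5,6,3,4,5,6,3,4,1,2,3,6,3,4,3,2,3,5,0]) (.word [1,2,3,5,3,2,1,0,3,5,6,3,2,3,6,4,3,2,3,1,2,3,5,6,3,4,1,5,3,2,4,3,2,1,3,5,6,3,4,2,3,5,3,1,2,3,4,2,3,2,0,1,2,3,5,3,2,1,0,3,5,6,3,2,3,6,4,3,2,3,1,2,3,5,6,3,4,5,6,3,4,1,2,3,6,3,4,3,2,3,5,0])) (.node .none (.word [1,2,3,5,3,2,1,0,3,5,6,3,2,3,6,4,3,2,3,1,2,3,5,6,3,4,5,6,3,4,1,2,3,6,3,4,3,2,3,5,0,5,6,3,4,1,2,3,6,3,4,3,2,3,5,1,3,2,3,5,6,3,2,3,5,6,3,4,1,2,3,6,1,0]))) (.node (.word [1,2,3,5,3,2,1,0,3,5,6,3,2,3,6,4,3,2,3,1,2,3,5,6,3,4,0,1,3,2,3,5,6,3,2,3,5,6,3,4,1,2,3,6,1,0,1,2,3,5,3,2,1,0,3,5,6,3,2,3,6,4,3,2,3,1,2,3,5,6,3,4,5,6,3,2,1,4,3,6,2,3,2,3,6,2,3,4,1,2,4,1,2,3,6,3,4,3,2,3,5,0])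 (.word [5,6,3,4,1,2,3,6,3,4,3,2,3,5,1,3,2,3,5,6,3,2,3,5,6,3,4,1,2,3,6,1,0,1,5,3,2,4,3,2,1,3,5,6,3,4,2,3,5,3,1,2,3,4,2,3,2,0,5,6,3,4,1,2,3,6,3,4,3,2,3,5,1,3,2,3,5,6,3,2,3,5,6,3,4,1,2,3,6,1,0])))) (.node (.node (.node (.node .none (.word [5,6,3,4,1,2,3,6,3,4,3,2,3,5,1,3,2,3,5,6,3,2,3,5,6,3,4,1,2,3,6,3,2,3,5,6,3,2,3,5,6,3,4,1,2,3,6,1,0,5,6,3,4,1,2,3,6,3,4,3,2,3,5,0])) (.node (.word [5,6,3,4,1,2,3,6,3,4,3,2,3,5,0,1,2,3,5,3,2,1,0,3,5,6,3,2,3,6,4,3,2,3,1,2,3,5,6,3,4,1,5,3,2,4,3,2,1,3,5,6,3,4,2,3,5,3,1,2,3,4,2,3,2,0,1,2,3,5,3,2,1,0,3,5,6,3,2,3,6,4,3,2,3,1,2,3,5,6,3,4,5,6,3,4,1,2,3,6,3,4,3,2,3,5,0,5,6,3,4,1,2,3,6,3,4,3,2,3,5,0]) (.word [1,3,2,1,6,3,2,1,3,2,3,5,4,2,3,1,2,3,6,4,2,3,5,1,5,6,3,4,1,2,3,6,3,4,3,2,3,5,0,5,6,3,4,1,2,3,6,3,4,3,2,3,5,0,2,1,6,3,2,3,1,2,3,4,2,3,6,1,2,3,5,6,3,2,1,3,2,3,5,6,3,2,3,5,6,3,4,1,2,3,6,1,0])))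 (.node (.node .none (.word [1,5,3,2,4,3,2,1,3,5,6,3,4,2,3,5,3,1,2,3,4,2,3,2,0,5,6,3,4,1,2,3,6,3,4,3,2,3,5,1,3,2,3,5,6,3,2,3,5,6,3,4,1,2,3,6,1,0,5,6,3,4,1,2,3,6,3,4,3,2,3,5,0,5,6,3,4,1,2,3,6,3,4,3,2,3,5,0])) (.node .none (.word [2,1,6,3,2,3,1,2,3,4,2,3,6,1,2,3,5,6,3,2,0,5,6,3,2,1,4,3,6,2,3,2,3,6,2,3,4,1,2,3,6,5,1,3,2,1,6,3,2,1,3,2,3,5,4,2,3,1,2,3,6,4,2,3,5,1,0,1,3,2,3,5,6,3,2,3,5,6,3,4,1,2,3,6,1,0,5,6,3,4,1,2,3,6,3,4,3,2,3,5,0])))) (.node (.node (.node .none (.word [1,3,2,1,6,3,2,1,3,2,3,5,4,2,3,1,2,3,6,4,2,3,5,1,5,6,3,2,1,4,3,6,2,3,2,3,6,2,3,4,1,2,4,1,2,3,6,3,4,3,2,3,5,0])) (.node (.word [5,6,3,4,1,2,3,6,3,4,3,2,3,5,1,3,2,3,5,6,3,2,3,5,6,3,4,1,2,3,6,1,0,1,2,3,5,3,2,1,0,3,5,6,3,2,3,6,4,3,2,3,1,2,3,5,6,3,4,1,2,3,5,3,2,1,0,3,5,6,3,2,3,6,4,3,2,3,1,2,3,5,6,3,4,5,6,3,4,1,2,3,6,3,4,3,2,3,5,0])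 (.word [5,6,3,2,1,4,3,6,2,3,2,3,6,2,3,4,1,2,4,1,2,3,6,3,4,3,2,3,5,0,5,6,3,4,1,2,3,6,3,4,3,2,3,5,1,3,2,3,5,6,3,2,3,5,6,3,4,1,2,3,6,1,0,5,6,3,4,1,2,3,6,3,4,3,2,3,5,0,5,6,3,4,1,2,3,6,3,4,3,2,3,5,0]))) (.node (.node (.word [0,1,3,2,3,5,6,3,2,3,5,6,3,4,1,2,3,6,1,0,5,6,3,4,1,2,3,6,3,4,3,2,3,5,0,1,2,3,5,3,2,1,0,3,5,6,3,2,3,6,4,3,2,3,1,2,3,5,6,3,4,5,6,3,2,1,4,3,6,2,3,2,3,6,2,3,4,1,2,3,6,5,1,3,2,1,6,3,2,1,3,2,3,5,4,2,3,1,2,3,6,4,2,3,5,1,5,6,3,4,1,2,3,6,3,4,3,2,3,5,0]) (.word [5,6,3,2,1,4,3,6,2,3,2,3,6,2,3,4,1,2,3,6,5,0,1,3,2,3,5,6,3,2,3,5,6,3,4,1,2,3,6,1,0,5,6,3,2,1,4,3,6,2,3,2,3,6,2,3,4,1,2,4,1,2,3,6,3,4,3,2,3,5,0])) (.node (.word [1,3,2,1,6,3,2,1,3,2,3,5,4,2,3,1,2,3,6,4,2,3,5,2,3,5,3,2,1,0,3,5,6,3,2,3,6,4,3,2,3,1,2,3,5,6,3,4,0,1,3,2,3,5,6,3,2,3,5,6,3,4,1,2,3,6,3,2,3,5,6,3,2,3,5,6,3,4,1,2,3,6,3,2,3,5,6,3,2,3,5,6,3,4,1,2,3,6,1,0])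 (.word [5,6,3,4,1,2,3,6,3,4,3,2,3,5,0,2,1,6,3,2,3,1,2,3,4,2,3,6,1,2,3,5,6,3,2,1,3,2,3,5,6,3,2,3,5,6,3,4,1,2,3,6,1,0])))))) (.node (.node (.node (.node (.node (.word [5,6,3,2,1,4,3,6,2,3,2,3,6,2,3,4,1,2,3,6,5,0,1,3,2,3,5,6,3,2,3,5,6,3,4,1,2,3,6,3,2,3,5,6,3,2,3,5,6,3,4,1,2,3,6,1,0,5,6,3,4,1,2,3,6,3,4,3,2,3,5,0,5,6,3,4,1,2,3,6,3,4,3,2,3,5,0]) (.word [1,5,3,2,4,3,2,1,3,5,6,3,4,2,3,5,3,1,2,3,4,2,3,2,0,5,6,3,4,1,2,3,6,3,4,3,2,3,5,1,3,2,3,5,6,3,2,3,5,6,3,4,1,2,3,6,1,0,5,6,3,4,1,2,3,6,3,4,3,2,3,5,1,3,2,3,5,6,3,2,3,5,6,3,4,1,2,3,6,1,0])) (.word [0,1,3,2,3,5,6,3,2,3,5,6,3,4,1,2,3,6,1,0,2,1,6,3,2,3,1,2,3,4,2,3,6,1,2,3,5,6,3,2,1,3,2,3,5,6,3,2,3,5,6,3,4,1,2,3,6,1,0])) (.node (.word [1,5,3,2,4,3,2,1,3,5,6,3,4,2,3,5,3,1,2,3,4,2,3,2,1,3,2,3,5,6,3,2,3,5,6,3,4,1,2,3,6,1,0,5,6,3,4,1,2,3,6,3,4,3,2,3,5,0,2,1,6,3,2,3,1,2,3,4,2,3,6,1,2,3,5,6,3,2,0,5,6,3,4,1,2,3,6,3,4,3,2,3,5,0])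 (.node (.word [1,2,3,5,3,2,1,0,3,5,6,3,2,3,6,4,3,2,3,1,2,3,5,6,3,4,1,5,3,2,4,3,2,1,3,5,6,3,4,2,3,5,3,1,2,3,4,2,3,2,0,5,6,3,4,1,2,3,6,3,4,3,2,3,5,0,5,6,3,2,1,4,3,6,2,3,2,3,6,2,3,4,1,2,4,1,2,3,6,3,4,3,2,3,5,0]) (.word [1,2,3,5,3,2,1,0,3,5,6,3,2,3,6,4,3,2,3,1,2,3,5,6,3,4,5,6,3,2,1,4,3,6,2,3,2,3,6,2,3,4,1,2,3,6,5,0,1,3,2,3,5,6,3,2,3,5,6,3,4,1,2,3,6,1,0,5,6,3,4,1,2,3,6,3,4,3,2,3,5,0])))) (.node (.node (.word [1,2,3,5,3,2,1,0,3,5,6,3,2,3,6,4,3,2,3,1,2,3,5,6,3,4,5,6,3,4,1,2,3,6,3,4,3,2,3,5,0,1,3,2,1,6,3,2,1,3,2,3,5,4,2,3,1,2,3,6,4,2,3,5,1,5,6,3,4,1,2,3,6,3,4,3,2,3,5,0]) (.node (.word [5,6,3,4,1,2,3,6,3,4,3,2,3,5,0,1,3,2,1,6,3,2,1,3,2,3,5,4,2,3,1,2,3,6,4,2,3,5,2,3,5,3,2,1,0,3,5,6,3,2,3,6,4,3,2,3,1,2,3,5,6,3,4,5,6,3,4,1,2,3,6,3,4,3,2,3,5,0,5,6,3,4,1,2,3,6,3,4,3,2,3,5,0])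 (.word [1,5,3,2,4,3,2,1,3,5,6,3,4,2,3,5,3,1,2,3,4,2,3,2,0,5,6,3,4,1,2,3,6,3,4,3,2,3,5,0,1,5,3,2,4,3,2,1,3,5,6,3,4,2,3,5,3,1,2,3,4,2,3,2,0,5,6,3,4,1,2,3,6,3,4,3,2,3,5,0]))) (.node (.node (.word [1,3,2,1,6,3,2,1,3,2,3,5,4,2,3,1,2,3,6,4,2,3,5,1,5,6,3,2,1,4,3,6,2,3,2,3,6,2,3,4,1,2,4,1,2,3,6,3,4,3,2,3,5,1,3,2,3,5,6,3,2,3,5,6,3,4,1,2,3,6,1,0]) (.word [0,1,3,2,3,5,6,3,2,3,5,6,3,4,1,2,3,6,3,2,3,5,6,3,2,3,5,6,3,4,1,2,3,6,1,0,1,2,3,5,3,2,1,0,3,5,6,3,2,3,6,4,3,2,3,1,2,3,5,6,3,4,1,5,3,2,4,3,2,1,3,5,6,3,4,2,3,5,3,1,2,3,4,2,3,2,0,5,6,3,4,1,2,3,6,3,4,3,2,3,5,0])) (.node (.word [0,1,3,2,3,5,6,3,2,3,5,6,3,4,1,2,3,6,3,2,3,5,6,3,2,3,5,6,3,4,1,2,3,6,1,0,1,5,3,2,4,3,2,1,3,5,6,3,4,2,3,5,3,1,2,3,4,2,3,2,0,2,1,6,3,2,3,1,2,3,4,2,3,6,1,2,3,5,6,3,2,1,3,2,3,5,6,3,2,3,5,6,3,4,1,2,3,6,1,0])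 (.word [5,6,3,4,1,2,3,6,3,4,3,2,3,5,1,3,2,3,5,6,3,2,3,5,6,3,4,1,2,3,6,1,0,1,2,3,5,3,2,1,0,3,5,6,3,2,3,6,4,3,2,3,1,2,3,5,6,3,4,1,5,3,2,4,3,2,1,3,5,6,3,4,2,3,5,3,1,2,3,4,2,3,2,0,5,6,3,4,1,2,3,6,3,4,3,2,3,5,0]))))) (.node (.node (.node (.node (.word [1,3,2,1,6,3,2,1,3,2,3,5,4,2,3,1,2,3,6,4,2,3,5,1,5,6,3,4,1,2,3,6,3,4,3,2,3,5,0,1,2,3,5,3,2,1,0,3,5,6,3,2,3,6,4,3,2,3,1,2,3,5,6,3,4,5,6,3,4,1,2,3,6,3,4,3,2,3,5,0]) (.word [1,5,3,2,4,3,2,1,3,5,6,3,4,2,3,5,3,1,2,3,4,2,3,2,0,1,5,3,2,4,3,2,1,3,5,6,3,4,2,3,5,3,1,2,3,4,2,3,2,0,2,1,6,3,2,3,1,2,3,4,2,3,6,1,2,3,5,6,3,2,0,5,6,3,4,1,2,3,6,3,4,3,2,3,5,0])) (.node (.word [5,6,3,4,1,2,3,6,3,4,3,2,3,5,0,1,2,3,5,3,2,1,0,3,5,6,3,2,3,6,4,3,2,3,1,2,3,5,6,3,4,1,2,3,5,3,2,1,0,3,5,6,3,2,3,6,4,3,2,3,1,2,3,5,6,3,4,5,6,3,4,1,2,3,6,3,4,3,2,3,5,0,5,6,3,4,1,2,3,6,3,4,3,2,3,5,0])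 (.word [0,1,3,2,3,5,6,3,2,3,5,6,3,4,1,2,3,6,3,2,3,5,6,3,2,3,5,6,3,4,1,2,3,6,1,0,5,6,3,4,1,2,3,6,3,4,3,2,3,5,0,5,6,3,2,1,4,3,6,2,3,2,3,6,2,3,4,1,2,4,1,2,3,6,3,4,3,2,3,5,0]))) (.node (.node (.word [0,1,3,2,3,5,6,3,2,3,5,6,3,4,1,2,3,6,1,0,5,6,3,2,1,4,3,6,2,3,2,3,6,2,3,4,1,2,3,6,5,1,5,3,2,4,3,2,1,3,5,6,3,4,2,3,5,3,1,2,3,4,2,3,2,0,1,5,3,2,4,3,2,1,3,5,6,3,4,2,3,5,3,1,2,3,4,2,3,2,0,5,6,3,4,1,2,3,6,3,4,3,2,3,5,0]) (.word [1,5,3,2,4,3,2,1,3,5,6,3,4,2,3,5,3,1,2,3,4,2,3,2,0,1,2,3,5,3,2,1,0,3,5,6,3,2,3,6,4,3,2,3,1,2,3,5,6,3,4,5,6,3,4,1,2,3,6,3,4,3,2,3,5,0,5,6,3,4,1,2,3,6,3,4,3,2,3,5,0])) (.node (.word [5,6,3,4,1,2,3,6,3,4,3,2,3,5,0,1,3,2,1,6,3,2,1,3,2,3,5,4,2,3,1,2,3,6,4,2,3,5,2,3,5,3,2,1,0,3,5,6,3,2,3,6,4,3,2,3,1,2,3,5,6,3,4,0,1,3,2,3,5,6,3,2,3,5,6,3,4,1,2,3,6,1,0,5,6,3,4,1,2,3,6,3,4,3,2,3,5,0,5,6,3,4,1,2,3,6,3,4,3,2,3,5,0])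 (.word [5,6,3,2,1,4,3,6,2,3,2,3,6,2,3,4,1,2,4,1,2,3,6,3,4,3,2,3,5,1,3,2,3,5,6,3,2,3,5,6,3,4,1,2,3,6,1,0,5,6,3,4,1,2,3,6,3,4,3,2,3,5,0])))) (.node (.node (.node (.word [0,1,3,2,3,5,6,3,2,3,5,6,3,4,1,2,3,6,1,0,1,2,3,5,3,2,1,0,3,5,6,3,2,3,6,4,3,2,3,1,2,3,5,6,3,4,0,1,3,2,3,5,6,3,2,3,5,6,3,4,1,2,3,6,3,2,3,5,6,3,2,3,5,6,3,4,1,2,3,6,1,0]) (.word [5,6,3,2,1,4,3,6,2,3,2,3,6,2,3,4,1,2,3,6,5,1,2,3,5,3,2,1,0,3,5,6,3,2,3,6,4,3,2,3,1,2,3,5,6,3,4,1,3,2,1,6,3,2,1,3,2,3,5,4,2,3,1,2,3,6,4,2,3,5,1,0,1,3,2,3,5,6,3,2,3,5,6,3,4,1,2,3,6,1,0,5,6,3,4,1,2,3,6,3,4,3,2,3,5,0])) (.node (.word [1,2,3,5,3,2,1,0,3,5,6,3,2,3,6,4,3,2,3,1,2,3,5,6,3,4,1,5,3,2,4,3,2,1,3,5,6,3,4,2,3,5,3,1,2,3,4,2,3,2,0,1,3,2,1,6,3,2,1,3,2,3,5,4,2,3,1,2,3,6,4,2,3,5,1,0,1,3,2,3,5,6,3,2,3,5,6,3,4,1,2,3,6,1,0,5,6,3,4,1,2,3,6,3,4,3,2,3,5,0])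 (.word [5,6,3,4,1,2,3,6,3,4,3,2,3,5,0,1,5,3,2,4,3,2,1,3,5,6,3,4,2,3,5,3,1,2,3,4,2,3,2,1,3,2,3,5,6,3,2,3,5,6,3,4,1,2,3,6,1,0]))) (.node (.node .none (.word [0,1,3,2,3,5,6,3,2,3,5,6,3,4,1,2,3,6,1,0,5,6,3,2,1,4,3,6,2,3,2,3,6,2,3,4,1,2,3,6,5,1,3,2,1,6,3,2,1,3,2,3,5,4,2,3,1,2,3,6,4,2,3,5,1,5,6,3,4,1,2,3,6,3,4,3,2,3,5,1,3,2,3,5,6,3,2,3,5,6,3,4,1,2,3,6,1,0])) (.word [1,5,3,2,4,3,2,1,3,5,6,3,4,2,3,5,3,1,2,3,4,2,3,2,0,2,1,6,3,2,3,1,2,3,4,2,3,6,1,2,3,5,6,3,2,0,5,6,3,4,1,2,3,6,3,4,3,2,3,5,0])))))))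

/-- A subtree. -/
def sub26 : WTree :=
  (.node (.node (.node (.node (.node (.node .none (.word [2,1,6,3,2,3,1,2,3,4,2,3,6,1,2,3,5,6,3,2,0,1,3,2,1,6,3,2,1,3,2,3,5,4,2,3,1,2,3,6,4,2,3,5,1,5,6,3,4,1,2,3,6,3,4,3,2,3,5,0,1,5,3,2,4,3,2,1,3,5,6,3,4,2,3,5,3,1,2,3,4,2,3,2,0,5,6,3,4,1,2,3,6,3,4,3,2,3,5,0])) (.node (.node (.word [5,6,3,4,1,2,3,6,3,4,3,2,3,5,0,2,1,6,3,2,3,1,2,3,4,2,3,6,1,2,3,5,6,3,2,1,3,2,3,5,6,3,2,3,5,6,3,4,1,2,3,6,1,0,2,1,6,3,2,3,1,2,3,4,2,3,6,1,2,3,5,6,3,2,1,3,2,3,5,6,3,2,3,5,6,3,4,1,2,3,6,1,0,5,6,3,4,1,2,3,6,3,4,3,2,3,5,0]) (.word [1,5,3,2,4,3,2,1,3,5,6,3,4,2,3,5,3,1,2,3,4,2,3,2,1,3,2,3,5,6,3,2,3,5,6,3,4,1,2,3,6,1,0,1,5,3,2,4,3,2,1,3,5,6,3,4,2,3,5,3,1,2,3,4,2,3,2,0,1,2,3,5,3,2,1,0,3,5,6,3,2,3,6,4,3,2,3,1,2,3,5,6,3,4,0,1,3,2,3,5,6,3,2,3,5,6,3,4,1,2,3,6,1,0]))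 (.node (.word [5,6,3,4,1,2,3,6,3,4,3,2,3,5,0,1,3,2,1,6,3,2,1,3,2,3,5,4,2,3,1,2,3,6,4,2,3,5,2,3,5,3,2,1,0,3,5,6,3,2,3,6,4,3,2,3,1,2,3,5,6,3,4,5,6,3,4,1,2,3,6,3,4,3,2,3,5,0]) (.word [1,3,2,1,6,3,2,1,3,2,3,5,4,2,3,1,2,3,6,4,2,3,5,1,0,1,3,2,3,5,6,3,2,3,5,6,3,4,1,2,3,6,3,2,3,5,6,3,2,3,5,6,3,4,1,2,3,6,1,0,1,2,3,5,3,2,1,0,3,5,6,3,2,3,6,4,3,2,3,1,2,3,5,6,3,4,5,6,3,4,1,2,3,6,3,4,3,2,3,5,0])))) (.node (.node (.node .none (.word [0,1,3,2,3,5,6,3,2,3,5,6,3,4,1,2,3,6,1,0,1,3,2,1,6,3,2,1,3,2,3,5,4,2,3,1,2,3,6,3,2,1,3,5,6,3,4,2,3,5,3,1,2,3,4,2,3,2,1,3,2,3,5,6,3,2,3,5,6,3,4,1,2,3,6,1,0])) (.node .none (.word [5,6,3,4,1,2,3,6,3,4,3,2,3,5,0,2,1,6,3,2,3,1,2,3,4,2,3,6,1,2,3,5,6,3,2,0,5,6,3,4,1,2,3,6,3,4,3,2,3,5,0])))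 (.node (.word [0,1,3,2,3,5,6,3,2,3,5,6,3,4,1,2,3,6,1,0,1,5,3,2,4,3,2,1,3,5,6,3,4,2,3,5,3,1,2,3,4,2,3,2,0,1,3,2,1,6,3,2,1,3,2,3,5,4,2,3,1,2,3,6,4,2,3,5,1,0,1,3,2,3,5,6,3,2,3,5,6,3,4,1,2,3,6,1,0,5,6,3,4,1,2,3,6,3,4,3,2,3,5,0]) (.node .none (.word [0,1,3,2,3,5,6,3,2,3,5,6,3,4,1,2,3,6,1,0,1,3,2,1,6,3,2,1,3,2,3,5,4,2,3,1,2,3,6,4,2,3,5,1,5,6,3,4,1,2,3,6,3,4,3,2,3,5,0,1,3,2,1,6,3,2,1,3,2,3,5,4,2,3,1,2,3,6,4,2,3,5,1,5,6,3,4,1,2,3,6,3,4,3,2,3,5,0,5,6,3,4,1,2,3,6,3,4,3,2,3,5,0]))))) (.node (.node (.node (.node .none (.word [2,1,6,3,2,3,1,2,3,4,2,3,6,1,2,3,5,6,3,2,1,3,2,3,5,6,3,2,3,5,6,3,4,1,2,3,6,1,0,2,1,6,3,2,3,1,2,3,4,2,3,6,1,2,3,5,6,3,2,1,3,2,3,5,6,3,2,3,5,6,3,4,1,2,3,6,1,0,5,6,3,4,1,2,3,6,3,4,3,2,3,5,0]))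 (.node .none (.word [1,2,3,5,3,2,1,0,3,5,6,3,2,3,6,4,3,2,3,1,2,3,5,6,3,4,1,5,3,2,4,3,2,1,3,5,6,3,4,2,3,5,3,1,2,3,4,2,3,2,0,5,6,3,4,1,2,3,6,3,4,3,2,3,5,1,3,2,3,5,6,3,2,3,5,6,3,4,1,2,3,6,1,0,5,6,3,4,1,2,3,6,3,4,3,2,3,5,0,5,6,3,4,1,2,3,6,3,4,3,2,3,5,0]))) (.node (.word [2,1,6,3,2,3,1,2,3,4,2,3,6,1,2,3,5,6,3,2,0,1,2,3,5,3,2,1,0,3,5,6,3,2,3,6,4,3,2,3,1,2,3,5,6,3,4,1,3,2,1,6,3,2,1,3,2,3,5,4,2,3,1,2,3,6,4,2,3,5,1,0,1,3,2,3,5,6,3,2,3,5,6,3,4,1,2,3,6,3,2,3,5,6,3,2,3,5,6,3,4,1,2,3,6,1,0]) (.node .none (.word [1,2,3,5,3,2,1,0,3,5,6,3,2,3,6,4,3,2,3,1,2,3,5,6,3,4,1,3,2,1,6,3,2,1,3,2,3,5,4,2,3,1,2,3,6,4,2,3,5,1,5,6,3,4,1,2,3,6,3,4,3,2,3,5,0,5,6,3,4,1,2,3,6,3,4,3,2,3,5,0])))) (.node (.node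 (.node (.word [5,6,3,4,1,2,3,6,3,4,3,2,3,5,0,1,2,3,5,3,2,1,0,3,5,6,3,2,3,6,4,3,2,3,1,2,3,5,6,3,4,2,1,6,3,2,3,1,2,3,4,2,3,6,1,2,3,5,6,3,2,0,1,2,3,5,3,2,1,0,3,5,6,3,2,3,6,4,3,2,3,1,2,3,5,6,3,4,5,6,3,4,1,2,3,6,3,4,3,2,3,5,0]) (.word [0,1,3,2,3,5,6,3,2,3,5,6,3,4,1,2,3,6,1,0,1,3,2,1,6,3,2,1,3,2,3,5,4,2,3,1,2,3,6,4,2,3,5,1,5,6,3,4,1,2,3,6,3,4,3,2,3,5,1,3,2,3,5,6,3,2,3,5,6,3,4,1,2,3,6,1,0])) (.node .none (.word [1,2,3,5,3,2,1,0,3,5,6,3,2,3,6,4,3,2,3,1,2,3,5,6,3,4,1,3,2,1,6,3,2,1,3,2,3,5,4,2,3,1,2,3,6,4,2,3,5,2,3,5,3,2,1,0,3,5,6,3,2,3,6,4,3,2,3,1,2,3,5,6,3,4,0,1,3,2,3,5,6,3,2,3,5,6,3,4,1,2,3,6,1,0,5,6,3,4,1,2,3,6,3,4,3,2,3,5,0]))) (.node (.node .none (.word [1,3,2,1,6,3,2,1,3,2,3,5,4,2,3,1,2,3,6,4,2,3,5,1,0,1,3,2,3,5,6,3,2,3,5,6,3,4,1,2,3,6,1,0,5,6,3,4,1,2,3,6,3,4,3,2,3,5,0,1,3,2,1,6,3,2,1,3,2,3,5,4,2,3,1,2,3,6,4,2,3,5,1,0,1,3,2,3,5,6,3,2,3,5,6,3,4,1,2,3,6,1,0]))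 (.node (.word [0,1,3,2,3,5,6,3,2,3,5,6,3,4,1,2,3,6,1,0,1,2,3,5,3,2,1,0,3,5,6,3,2,3,6,4,3,2,3,1,2,3,5,6,3,4,5,6,3,4,1,2,3,6,3,4,3,2,3,5,0,5,6,3,4,1,2,3,6,3,4,3,2,3,5,0]) (.word [0,1,3,2,3,5,6,3,2,3,5,6,3,4,1,2,3,6,1,0,2,1,6,3,2,3,1,2,3,4,2,3,6,1,2,3,5,6,3,2,0,5,6,3,4,1,2,3,6,3,4,3,2,3,5,0,1,3,2,1,6,3,2,1,3,2,3,5,4,2,3,1,2,3,6,4,2,3,5,1,5,6,3,4,1,2,3,6,3,4,3,2,3,5,0])))))) (.node (.node (.node (.node (.node (.word [0,1,3,2,3,5,6,3,2,3,5,6,3,4,1,2,3,6,1,0,1,2,3,5,3,2,1,0,3,5,6,3,2,3,6,4,3,2,3,1,2,3,5,6,3,4,0,1,3,2,3,5,6,3,2,3,5,6,3,4,1,2,3,6,1,0,5,6,3,4,1,2,3,6,3,4,3,2,3,5,0]) (.word [0,1,3,2,3,5,6,3,2,3,5,6,3,4,1,2,3,6,1,0,5,6,3,4,1,2,3,6,3,4,3,2,3,5,0,1,5,3,2,4,3,2,1,3,5,6,3,4,2,3,5,3,1,2,3,4,2,3,2,0,5,6,3,4,1,2,3,6,3,4,3,2,3,5,0]))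 (.node (.word [2,1,6,3,2,3,1,2,3,4,2,3,6,1,2,3,5,6,3,2,1,3,2,3,5,6,3,2,3,5,6,3,4,1,2,3,6,1,0,5,6,3,4,1,2,3,6,3,4,3,2,3,5,0]) (.word [1,5,3,2,4,3,2,1,3,5,6,3,4,2,3,5,3,1,2,3,4,2,3,2,1,3,2,3,5,6,3,2,3,5,6,3,4,1,2,3,6,1,0,1,5,3,2,4,3,2,1,3,5,6,3,4,2,3,5,3,1,2,3,4,2,3,2,0,5,6,3,4,1,2,3,6,3,4,3,2,3,5,1,3,2,3,5,6,3,2,3,5,6,3,4,1,2,3,6,1,0]))) (.node (.node .none (.word [1,2,3,5,3,2,1,0,3,5,6,3,2,3,6,4,3,2,3,1,2,3,5,6,3,4,2,1,6,3,2,3,1,2,3,4,2,3,6,1,2,3,5,6,3,2,0,1,5,3,2,4,3,2,1,3,5,6,3,4,2,3,5,3,1,2,3,4,2,3,2,1,3,2,3,5,6,3,2,3,5,6,3,4,1,2,3,6,1,0,5,6,3,4,1,2,3,6,3,4,3,2,3,5,0])) (.node (.word [0,1,3,2,3,5,6,3,2,3,5,6,3,4,1,2,3,6,1,0,5,6,3,2,1,4,3,6,2,3,2,3,6,2,3,4,1,2,4,1,2,3,6,3,4,3,2,3,5,0,5,6,3,2,1,4,3,6,2,3,2,3,6,2,3,4,1,2,4,1,2,3,6,3,4,3,2,3,5,0])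 (.word [1,3,2,1,6,3,2,1,3,2,3,5,4,2,3,1,2,3,6,3,2,1,3,5,6,3,4,2,3,5,3,1,2,3,4,2,3,2,0,1,2,3,5,3,2,1,0,3,5,6,3,2,3,6,4,3,2,3,1,2,3,5,6,3,4,5,6,3,4,1,2,3,6,3,4,3,2,3,5,0,5,6,3,4,1,2,3,6,3,4,3,2,3,5,0])))) (.node (.node (.node (.word [1,2,3,5,3,2,1,0,3,5,6,3,2,3,6,4,3,2,3,1,2,3,5,6,3,4,5,6,3,4,1,2,3,6,3,4,3,2,3,5,0,1,5,3,2,4,3,2,1,3,5,6,3,4,2,3,5,3,1,2,3,4,2,3,2,0,1,3,2,1,6,3,2,1,3,2,3,5,4,2,3,1,2,3,6,4,2,3,5,1,5,6,3,4,1,2,3,6,3,4,3,2,3,5,0,5,6,3,4,1,2,3,6,3,4,3,2,3,5,0]) (.word [1,5,3,2,4,3,2,1,3,5,6,3,4,2,3,5,3,1,2,3,4,2,3,2,1,3,2,3,5,6,3,2,3,5,6,3,4,1,2,3,6,3,2,3,5,6,3,2,3,5,6,3,4,1,2,3,6,3,2,3,5,6,3,2,3,5,6,3,4,1,2,3,6,1,0])) .none) (.node (.node (.word [5,6,3,4,1,2,3,6,3,4,3,2,3,5,0,1,2,3,5,3,2,1,0,3,5,6,3,2,3,6,4,3,2,3,1,2,3,5,6,3,4,1,2,3,5,3,2,1,0,3,5,6,3,2,3,6,4,3,2,3,1,2,3,5,6,3,4,1,2,3,5,3,2,1,0,3,5,6,3,2,3,6,4,3,2,3,1,2,3,5,6,3,4,5,6,3,4,1,2,3,6,3,4,3,2,3,5,0])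 (.word [5,6,3,4,1,2,3,6,3,4,3,2,3,5,0,1,2,3,5,3,2,1,0,3,5,6,3,2,3,6,4,3,2,3,1,2,3,5,6,3,4,0,1,3,2,3,5,6,3,2,3,5,6,3,4,1,2,3,6,1,0,1,2,3,5,3,2,1,0,3,5,6,3,2,3,6,4,3,2,3,1,2,3,5,6,3,4,5,6,3,4,1,2,3,6,3,4,3,2,3,5,0])) (.node .none (.word [1,3,2,1,6,3,2,1,3,2,3,5,4,2,3,1,2,3,6,4,2,3,5,2,3,5,3,2,1,0,3,5,6,3,2,3,6,4,3,2,3,1,2,3,5,6,3,4,0,1,3,2,3,5,6,3,2,3,5,6,3,4,1,2,3,6,1,0]))))) (.node (.node (.node (.node (.word [2,1,6,3,2,3,1,2,3,4,2,3,6,1,2,3,5,6,3,2,0,5,6,3,2,1,4,3,6,2,3,2,3,6,2,3,4,1,2,4,1,2,3,6,3,4,3,2,3,5,0,1,3,2,1,6,3,2,1,3,2,3,5,4,2,3,1,2,3,6,4,2,3,5,1,5,6,3,4,1,2,3,6,3,4,3,2,3,5,0]) (.word [5,6,3,4,1,2,3,6,3,4,3,2,3,5,0,1,3,2,1,6,3,2,1,3,2,3,5,4,2,3,1,2,3,6,4,2,3,5,1,0,1,3,2,3,5,6,3,2,3,5,6,3,4,1,2,3,6,1,0,5,6,3,4,1,2,3,6,3,4,3,2,3,5,0]))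 (.node (.word [0,1,3,2,3,5,6,3,2,3,5,6,3,4,1,2,3,6,1,0,5,6,3,2,1,4,3,6,2,3,2,3,6,2,3,4,1,2,3,6,5,1,3,2,1,6,3,2,1,3,2,3,5,4,2,3,1,2,3,6,4,2,3,5,1,5,6,3,4,1,2,3,6,3,4,3,2,3,5,0]) (.word [1,2,3,5,3,2,1,0,3,5,6,3,2,3,6,4,3,2,3,1,2,3,5,6,3,4,1,2,3,5,3,2,1,0,3,5,6,3,2,3,6,4,3,2,3,1,2,3,5,6,3,4,0,1,3,2,3,5,6,3,2,3,5,6,3,4,1,2,3,6,1,0,1,5,3,2,4,3,2,1,3,5,6,3,4,2,3,5,3,1,2,3,4,2,3,2,0,5,6,3,4,1,2,3,6,3,4,3,2,3,5,0]))) (.node (.node (.word [1,2,3,5,3,2,1,0,3,5,6,3,2,3,6,4,3,2,3,1,2,3,5,6,3,4,1,2,3,5,3,2,1,0,3,5,6,3,2,3,6,4,3,2,3,1,2,3,5,6,3,4,5,6,3,2,1,4,3,6,2,3,2,3,6,2,3,4,1,2,3,6,5,1,3,2,1,6,3,2,1,3,2,3,5,4,2,3,1,2,3,6,4,2,3,5,1,0,1,3,2,3,5,6,3,2,3,5,6,3,4,1,2,3,6,1,0,5,6,3,4,1,2,3,6,3,4,3,2,3,5,0])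 (.word [5,6,3,2,1,4,3,6,2,3,2,3,6,2,3,4,1,2,4,1,2,3,6,3,4,3,2,3,5,0,1,2,3,5,3,2,1,0,3,5,6,3,2,3,6,4,3,2,3,1,2,3,5,6,3,4,5,6,3,4,1,2,3,6,3,4,3,2,3,5,0,5,6,3,4,1,2,3,6,3,4,3,2,3,5,0])) (.node (.word [0,1,3,2,3,5,6,3,2,3,5,6,3,4,1,2,3,6,3,2,3,5,6,3,2,3,5,6,3,4,1,2,3,6,3,2,3,5,6,3,2,3,5,6,3,4,1,2,3,6,1,0,5,6,3,4,1,2,3,6,3,4,3,2,3,5,0,5,6,3,4,1,2,3,6,3,4,3,2,3,5,0,5,6,3,4,1,2,3,6,3,4,3,2,3,5,0]) (.word [1,5,3,2,4,3,2,1,3,5,6,3,4,2,3,5,3,1,2,3,4,2,3,2,0,5,6,3,2,1,4,3,6,2,3,2,3,6,2,3,4,1,2,3,6,5,1,3,2,1,6,3,2,1,3,2,3,5,4,2,3,1,2,3,6,3,2,1,3,5,6,3,4,2,3,5,3,1,2,3,4,2,3,2,0,5,6,3,4,1,2,3,6,3,4,3,2,3,5,0,5,6,3,4,1,2,3,6,3,4,3,2,3,5,0])))) (.node (.node (.word [5,6,3,4,1,2,3,6,3,4,3,2,3,5,0,1,5,3,2,4,3,2,1,3,5,6,3,4,2,3,5,3,1,2,3,4,2,3,2,0,5,6,3,4,1,2,3,6,3,4,3,2,3,5,0,2,1,6,3,2,3,1,2,3,4,2,3,6,1,2,3,5,6,3,2,0,5,6,3,4,1,2,3,6,3,4,3,2,3,5,0])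 (.node (.word [0,1,3,2,3,5,6,3,2,3,5,6,3,4,1,2,3,6,1,0,1,2,3,5,3,2,1,0,3,5,6,3,2,3,6,4,3,2,3,1,2,3,5,6,3,4,5,6,3,2,1,4,3,6,2,3,2,3,6,2,3,4,1,2,3,6,5,1,2,3,5,3,2,1,0,3,5,6,3,2,3,6,4,3,2,3,1,2,3,5,6,3,4,5,6,3,4,1,2,3,6,3,4,3,2,3,5,0]) (.word [2,1,6,3,2,3,1,2,3,4,2,3,6,1,2,3,5,6,3,2,1,3,2,3,5,6,3,2,3,5,6,3,4,1,2,3,6,3,2,3,5,6,3,2,3,5,6,3,4,1,2,3,6,3,2,3,5,6,3,2,3,5,6,3,4,1,2,3,6,1,0,5,6,3,4,1,2,3,6,3,4,3,2,3,5,0,5,6,3,4,1,2,3,6,3,4,3,2,3,5,0]))) (.node (.node (.word [5,6,3,2,1,4,3,6,2,3,2,3,6,2,3,4,1,2,3,6,5,0,1,3,2,3,5,6,3,2,3,5,6,3,4,1,2,3,6,1,0,1,5,3,2,4,3,2,1,3,5,6,3,4,2,3,5,3,1,2,3,4,2,3,2,1,3,2,3,5,6,3,2,3,5,6,3,4,1,2,3,6,1,0,5,6,3,4,1,2,3,6,3,4,3,2,3,5,0]) (.word [5,6,3,4,1,2,3,6,3,4,3,2,3,5,0,5,6,3,4,1,2,3,6,3,4,3,2,3,5,0,5,6,3,4,1,2,3,6,3,4,3,2,3,5,0,5,6,3,2,1,4,3,6,2,3,2,3,6,2,3,4,1,2,4,1,2,3,6,3,4,3,2,3,5,0]))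 (.node (.word [0,1,3,2,3,5,6,3,2,3,5,6,3,4,1,2,3,6,1,0,1,5,3,2,4,3,2,1,3,5,6,3,4,2,3,5,3,1,2,3,4,2,3,2,0,2,1,6,3,2,3,1,2,3,4,2,3,6,1,2,3,5,6,3,2,0,1,2,3,5,3,2,1,0,3,5,6,3,2,3,6,4,3,2,3,1,2,3,5,6,3,4,5,6,3,4,1,2,3,6,3,4,3,2,3,5,0]) (.word [1,3,2,1,6,3,2,1,3,2,3,5,4,2,3,1,2,3,6,3,2,1,3,5,6,3,4,2,3,5,3,1,2,3,4,2,3,2,0,1,2,3,5,3,2,1,0,3,5,6,3,2,3,6,4,3,2,3,1,2,3,5,6,3,4,0,1,3,2,3,5,6,3,2,3,5,6,3,4,1,2,3,6,1,0,5,6,3,4,1,2,3,6,3,4,3,2,3,5,0]))))))) (.node (.node (.node (.node (.node (.node (.word [1,3,2,1,6,3,2,1,3,2,3,5,4,2,3,1,2,3,6,4,2,3,5,1,0,1,3,2,3,5,6,3,2,3,5,6,3,4,1,2,3,6,1,0,1,3,2,1,6,3,2,1,3,2,3,5,4,2,3,1,2,3,6,4,2,3,5,1,5,6,3,4,1,2,3,6,3,4,3,2,3,5,0]) (.word [0,1,3,2,3,5,6,3,2,3,5,6,3,4,1,2,3,6,3,2,3,5,6,3,2,3,5,6,3,4,1,2,3,6,1,0,1,2,3,5,3,2,1,0,3,5,6,3,2,3,6,4,3,2,3,1,2,3,5,6,3,4,5,6,3,2,1,4,3,6,2,3,2,3,6,2,3,4,1,2,3,6,5,1,2,3,5,3,2,1,0,3,5,6,3,2,3,6,4,3,2,3,1,2,3,5,6,3,4,5,6,3,4,1,2,3,6,3,4,3,2,3,5,0]))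 (.node (.word [1,3,2,1,6,3,2,1,3,2,3,5,4,2,3,1,2,3,6,4,2,3,5,2,3,5,3,2,1,0,3,5,6,3,2,3,6,4,3,2,3,1,2,3,5,6,3,4,1,2,3,5,3,2,1,0,3,5,6,3,2,3,6,4,3,2,3,1,2,3,5,6,3,4,5,6,3,4,1,2,3,6,3,4,3,2,3,5,0,5,6,3,4,1,2,3,6,3,4,3,2,3,5,0]) (.word [5,6,3,4,1,2,3,6,3,4,3,2,3,5,0,2,1,6,3,2,3,1,2,3,4,2,3,6,1,2,3,5,6,3,2,0,5,6,3,4,1,2,3,6,3,4,3,2,3,5,0,5,6,3,2,1,4,3,6,2,3,2,3,6,2,3,4,1,2,4,1,2,3,6,3,4,3,2,3,5,0]))) (.node (.node .none (.word [1,2,3,5,3,2,1,0,3,5,6,3,2,3,6,4,3,2,3,1,2,3,5,6,3,4,5,6,3,4,1,2,3,6,3,4,3,2,3,5,1,3,2,3,5,6,3,2,3,5,6,3,4,1,2,3,6,3,2,3,5,6,3,2,3,5,6,3,4,1,2,3,6,3,2,3,5,6,3,2,3,5,6,3,4,1,2,3,6,1,0])) (.word [1,2,3,5,3,2,1,0,3,5,6,3,2,3,6,4,3,2,3,1,2,3,5,6,3,4,2,1,6,3,2,3,1,2,3,4,2,3,6,1,2,3,5,6,3,2,1,3,2,3,5,6,3,2,3,5,6,3,4,1,2,3,6,1,0,5,6,3,4,1,2,3,6,3,4,3,2,3,5,0])))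 (.node (.node (.node .none (.word [5,6,3,2,1,4,3,6,2,3,2,3,6,2,3,4,1,2,4,1,2,3,6,3,4,3,2,3,5,1,3,2,3,5,6,3,2,3,5,6,3,4,1,2,3,6,3,2,3,5,6,3,2,3,5,6,3,4,1,2,3,6,1,0])) .none) (.node (.node (.word [1,5,3,2,4,3,2,1,3,5,6,3,4,2,3,5,3,1,2,3,4,2,3,2,0,1,3,2,1,6,3,2,1,3,2,3,5,4,2,3,1,2,3,6,4,2,3,5,1,0,1,3,2,3,5,6,3,2,3,5,6,3,4,1,2,3,6,1,0,1,2,3,5,3,2,1,0,3,5,6,3,2,3,6,4,3,2,3,1,2,3,5,6,3,4,0,1,3,2,3,5,6,3,2,3,5,6,3,4,1,2,3,6,1,0]) (.word [0,1,3,2,3,5,6,3,2,3,5,6,3,4,1,2,3,6,1,0,1,2,3,5,3,2,1,0,3,5,6,3,2,3,6,4,3,2,3,1,2,3,5,6,3,4,5,6,3,4,1,2,3,6,3,4,3,2,3,5,0])) (.node (.word [1,3,2,1,6,3,2,1,3,2,3,5,4,2,3,1,2,3,6,4,2,3,5,2,3,5,3,2,1,0,3,5,6,3,2,3,6,4,3,2,3,1,2,3,5,6,3,4,5,6,3,4,1,2,3,6,3,4,3,2,3,5,0])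 (.word [5,6,3,2,1,4,3,6,2,3,2,3,6,2,3,4,1,2,4,1,2,3,6,3,4,3,2,3,5,0,2,1,6,3,2,3,1,2,3,4,2,3,6,1,2,3,5,6,3,2,0,1,2,3,5,3,2,1,0,3,5,6,3,2,3,6,4,3,2,3,1,2,3,5,6,3,4,0,1,3,2,3,5,6,3,2,3,5,6,3,4,1,2,3,6,1,0]))))) (.node (.node (.node (.node (.word [1,2,3,5,3,2,1,0,3,5,6,3,2,3,6,4,3,2,3,1,2,3,5,6,3,4,5,6,3,2,1,4,3,6,2,3,2,3,6,2,3,4,1,2,4,1,2,3,6,3,4,3,2,3,5,0]) (.word [])) (.node (.word [5,6,3,4,1,2,3,6,3,4,3,2,3,5,1,3,2,3,5,6,3,2,3,5,6,3,4,1,2,3,6,1,0,2,1,6,3,2,3,1,2,3,4,2,3,6,1,2,3,5,6,3,2,0,1,5,3,2,4,3,2,1,3,5,6,3,4,2,3,5,3,1,2,3,4,2,3,2,0,5,6,3,4,1,2,3,6,3,4,3,2,3,5,0]) (.word [5,6,3,2,1,4,3,6,2,3,2,3,6,2,3,4,1,2,4,1,2,3,6,3,4,3,2,3,5,1,3,2,3,5,6,3,2,3,5,6,3,4,1,2,3,6,1,0,1,5,3,2,4,3,2,1,3,5,6,3,4,2,3,5,3,1,2,3,4,2,3,2,1,3,2,3,5,6,3,2,3,5,6,3,4,1,2,3,6,1,0])))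 (.node (.node (.word [1,5,3,2,4,3,2,1,3,5,6,3,4,2,3,5,3,1,2,3,4,2,3,2,1,3,2,3,5,6,3,2,3,5,6,3,4,1,2,3,6,1,0,1,3,2,1,6,3,2,1,3,2,3,5,4,2,3,1,2,3,6,4,2,3,5,1,5,6,3,4,1,2,3,6,3,4,3,2,3,5,0,5,6,3,4,1,2,3,6,3,4,3,2,3,5,0]) (.word [2,1,6,3,2,3,1,2,3,4,2,3,6,1,2,3,5,6,3,2,0,5,6,3,4,1,2,3,6,3,4,3,2,3,5,0,5,6,3,4,1,2,3,6,3,4,3,2,3,5,0,5,6,3,4,1,2,3,6,3,4,3,2,3,5,1,3,2,3,5,6,3,2,3,5,6,3,4,1,2,3,6,1,0])) (.node (.word [1,3,2,1,6,3,2,1,3,2,3,5,4,2,3,1,2,3,6,4,2,3,5,1,0,1,3,2,3,5,6,3,2,3,5,6,3,4,1,2,3,6,1,0,2,1,6,3,2,3,1,2,3,4,2,3,6,1,2,3,5,6,3,2,0,5,6,3,4,1,2,3,6,3,4,3,2,3,5,0]) (.word [2,1,6,3,2,3,1,2,3,4,2,3,6,1,2,3,5,6,3,2,0,1,2,3,5,3,2,1,0,3,5,6,3,2,3,6,4,3,2,3,1,2,3,5,6,3,4,5,6,3,4,1,2,3,6,3,4,3,2,3,5,1,3,2,3,5,6,3,2,3,5,6,3,4,1,2,3,6,1,0]))))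 (.node (.node (.node (.word [0,1,3,2,3,5,6,3,2,3,5,6,3,4,1,2,3,6,1,0,5,6,3,4,1,2,3,6,3,4,3,2,3,5,0,2,1,6,3,2,3,1,2,3,4,2,3,6,1,2,3,5,6,3,2,0,5,6,3,4,1,2,3,6,3,4,3,2,3,5,0]) (.word [5,6,3,2,1,4,3,6,2,3,2,3,6,2,3,4,1,2,3,6,5,1,3,2,1,6,3,2,1,3,2,3,5,4,2,3,1,2,3,6,4,2,3,5,1,0,1,3,2,3,5,6,3,2,3,5,6,3,4,1,2,3,6,1,0,5,6,3,2,1,4,3,6,2,3,2,3,6,2,3,4,1,2,4,1,2,3,6,3,4,3,2,3,5,0,5,6,3,4,1,2,3,6,3,4,3,2,3,5,0])) (.node (.word [0,1,3,2,3,5,6,3,2,3,5,6,3,4,1,2,3,6,1,0,1,2,3,5,3,2,1,0,3,5,6,3,2,3,6,4,3,2,3,1,2,3,5,6,3,4,2,1,6,3,2,3,1,2,3,4,2,3,6,1,2,3,5,6,3,2,0,1,3,2,1,6,3,2,1,3,2,3,5,4,2,3,1,2,3,6,4,2,3,5,1,5,6,3,4,1,2,3,6,3,4,3,2,3,5,0]) (.word [0,1,3,2,3,5,6,3,2,3,5,6,3,4,1,2,3,6,1,0,1,2,3,5,3,2,1,0,3,5,6,3,2,3,6,4,3,2,3,1,2,3,5,6,3,4,5,6,3,4,1,2,3,6,3,4,3,2,3,5,0,5,6,3,2,1,4,3,6,2,3,2,3,6,2,3,4,1,2,3,6,5,0,1,3,2,3,5,6,3,2,3,5,6,3,4,1,2,3,6,1,0,5,6,3,4,1,2,3,6,3,4,3,2,3,5,0])))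 (.node (.node (.word [0,1,3,2,3,5,6,3,2,3,5,6,3,4,1,2,3,6,1,0,1,5,3,2,4,3,2,1,3,5,6,3,4,2,3,5,3,1,2,3,4,2,3,2,0,1,3,2,1,6,3,2,1,3,2,3,5,4,2,3,1,2,3,6,4,2,3,5,1,5,6,3,4,1,2,3,6,3,4,3,2,3,5,0]) (.word [1,3,2,1,6,3,2,1,3,2,3,5,4,2,3,1,2,3,6,4,2,3,5,2,3,5,3,2,1,0,3,5,6,3,2,3,6,4,3,2,3,1,2,3,5,6,3,4,0,1,3,2,3,5,6,3,2,3,5,6,3,4,1,2,3,6,1,0,1,2,3,5,3,2,1,0,3,5,6,3,2,3,6,4,3,2,3,1,2,3,5,6,3,4,5,6,3,4,1,2,3,6,3,4,3,2,3,5,0])) (.word [5,6,3,2,1,4,3,6,2,3,2,3,6,2,3,4,1,2,4,1,2,3,6,3,4,3,2,3,5,0,1,2,3,5,3,2,1,0,3,5,6,3,2,3,6,4,3,2,3,1,2,3,5,6,3,4,0,1,3,2,3,5,6,3,2,3,5,6,3,4,1,2,3,6,1,0,5,6,3,4,1,2,3,6,3,4,3,2,3,5,0]))))) (.node (.node (.node (.node (.node (.word [0,1,3,2,3,5,6,3,2,3,5,6,3,4,1,2,3,6,1,0,5,6,3,4,1,2,3,6,3,4,3,2,3,5,0,1,2,3,5,3,2,1,0,3,5,6,3,2,3,6,4,3,2,3,1,2,3,5,6,3,4,0,1,3,2,3,5,6,3,2,3,5,6,3,4,1,2,3,6,1,0])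 (.word [1,5,3,2,4,3,2,1,3,5,6,3,4,2,3,5,3,1,2,3,4,2,3,2,0,5,6,3,4,1,2,3,6,3,4,3,2,3,5,0,5,6,3,2,1,4,3,6,2,3,2,3,6,2,3,4,1,2,4,1,2,3,6,3,4,3,2,3,5,0])) .none) (.node (.node (.word [5,6,3,2,1,4,3,6,2,3,2,3,6,2,3,4,1,2,4,1,2,3,6,3,4,3,2,3,5,0,5,6,3,4,1,2,3,6,3,4,3,2,3,5,0]) (.word [2,1,6,3,2,3,1,2,3,4,2,3,6,1,2,3,5,6,3,2,0,1,3,2,1,6,3,2,1,3,2,3,5,4,2,3,1,2,3,6,4,2,3,5,1,0,1,3,2,3,5,6,3,2,3,5,6,3,4,1,2,3,6,1,0,2,1,6,3,2,3,1,2,3,4,2,3,6,1,2,3,5,6,3,2,1,3,2,3,5,6,3,2,3,5,6,3,4,1,2,3,6,1,0])) (.word [2,1,6,3,2,3,1,2,3,4,2,3,6,1,2,3,5,6,3,2,0,1,3,2,1,6,3,2,1,3,2,3,5,4,2,3,1,2,3,6,4,2,3,5,1,0,1,3,2,3,5,6,3,2,3,5,6,3,4,1,2,3,6,1,0,1,3,2,1,6,3,2,1,3,2,3,5,4,2,3,1,2,3,6,4,2,3,5,1,5,6,3,4,1,2,3,6,3,4,3,2,3,5,0,5,6,3,4,1,2,3,6,3,4,3,2,3,5,0])))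 (.node (.node (.node .none (.word [0,1,3,2,3,5,6,3,2,3,5,6,3,4,1,2,3,6,3,2,3,5,6,3,2,3,5,6,3,4,1,2,3,6,1,0,1,5,3,2,4,3,2,1,3,5,6,3,4,2,3,5,3,1,2,3,4,2,3,2,0,1,5,3,2,4,3,2,1,3,5,6,3,4,2,3,5,3,1,2,3,4,2,3,2,0,5,6,3,4,1,2,3,6,3,4,3,2,3,5,0])) (.node (.word [1,3,2,1,6,3,2,1,3,2,3,5,4,2,3,1,2,3,6,4,2,3,5,1,5,6,3,2,1,4,3,6,2,3,2,3,6,2,3,4,1,2,3,6,5,1,2,3,5,3,2,1,0,3,5,6,3,2,3,6,4,3,2,3,1,2,3,5,6,3,4,0,1,3,2,3,5,6,3,2,3,5,6,3,4,1,2,3,6,1,0,5,6,3,4,1,2,3,6,3,4,3,2,3,5,0]) (.word [0,1,3,2,3,5,6,3,2,3,5,6,3,4,1,2,3,6,1,0,2,1,6,3,2,3,1,2,3,4,2,3,6,1,2,3,5,6,3,2,0,1,2,3,5,3,2,1,0,3,5,6,3,2,3,6,4,3,2,3,1,2,3,5,6,3,4,5,6,3,4,1,2,3,6,3,4,3,2,3,5,0,5,6,3,4,1,2,3,6,3,4,3,2,3,5,0]))) (.node (.node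 (.word [5,6,3,4,1,2,3,6,3,4,3,2,3,5,0,2,1,6,3,2,3,1,2,3,4,2,3,6,1,2,3,5,6,3,2,0,5,6,3,4,1,2,3,6,3,4,3,2,3,5,0,2,1,6,3,2,3,1,2,3,4,2,3,6,1,2,3,5,6,3,2,1,3,2,3,5,6,3,2,3,5,6,3,4,1,2,3,6,1,0]) (.word [5,6,3,4,1,2,3,6,3,4,3,2,3,5,0,2,1,6,3,2,3,1,2,3,4,2,3,6,1,2,3,5,6,3,2,0,5,6,3,4,1,2,3,6,3,4,3,2,3,5,0,1,5,3,2,4,3,2,1,3,5,6,3,4,2,3,5,3,1,2,3,4,2,3,2,0,5,6,3,4,1,2,3,6,3,4,3,2,3,5,0])) (.node (.word [1,2,3,5,3,2,1,0,3,5,6,3,2,3,6,4,3,2,3,1,2,3,5,6,3,4,1,5,3,2,4,3,2,1,3,5,6,3,4,2,3,5,3,1,2,3,4,2,3,2,0,1,5,3,2,4,3,2,1,3,5,6,3,4,2,3,5,3,1,2,3,4,2,3,2,0,5,6,3,4,1,2,3,6,3,4,3,2,3,5,1,3,2,3,5,6,3,2,3,5,6,3,4,1,2,3,6,1,0]) (.word [1,5,3,2,4,3,2,1,3,5,6,3,4,2,3,5,3,1,2,3,4,2,3,2,0,5,6,3,4,1,2,3,6,3,4,3,2,3,5,0,1,5,3,2,4,3,2,1,3,5,6,3,4,2,3,5,3,1,2,3,4,2,3,2,1,3,2,3,5,6,3,2,3,5,6,3,4,1,2,3,6,1,0])))))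 (.node (.node (.word [2,1,6,3,2,3,1,2,3,4,2,3,6,1,2,3,5,6,3,2,0,1,5,3,2,4,3,2,1,3,5,6,3,4,2,3,5,3,1,2,3,4,2,3,2,0,1,3,2,1,6,3,2,1,3,2,3,5,4,2,3,1,2,3,6,4,2,3,5,1,0,1,3,2,3,5,6,3,2,3,5,6,3,4,1,2,3,6,1,0,5,6,3,4,1,2,3,6,3,4,3,2,3,5,0]) (.node (.node (.word [0,1,3,2,3,5,6,3,2,3,5,6,3,4,1,2,3,6,1,0,5,6,3,4,1,2,3,6,3,4,3,2,3,5,0,5,6,3,4,1,2,3,6,3,4,3,2,3,5,0,1,2,3,5,3,2,1,0,3,5,6,3,2,3,6,4,3,2,3,1,2,3,5,6,3,4,0,1,3,2,3,5,6,3,2,3,5,6,3,4,1,2,3,6,1,0]) (.word [1,5,3,2,4,3,2,1,3,5,6,3,4,2,3,5,3,1,2,3,4,2,3,2,1,3,2,3,5,6,3,2,3,5,6,3,4,1,2,3,6,1,0,5,6,3,2,1,4,3,6,2,3,2,3,6,2,3,4,1,2,4,1,2,3,6,3,4,3,2,3,5,0])) (.node (.word [5,6,3,4,1,2,3,6,3,4,3,2,3,5,0,1,3,2,1,6,3,2,1,3,2,3,5,4,2,3,1,2,3,6,3,2,1,3,5,6,3,4,2,3,5,3,1,2,3,4,2,3,2,0,5,6,3,4,1,2,3,6,3,4,3,2,3,5,0,5,6,3,4,1,2,3,6,3,4,3,2,3,5,0])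 (.word [5,6,3,2,1,4,3,6,2,3,2,3,6,2,3,4,1,2,4,1,2,3,6,3,4,3,2,3,5,0,1,5,3,2,4,3,2,1,3,5,6,3,4,2,3,5,3,1,2,3,4,2,3,2,1,3,2,3,5,6,3,2,3,5,6,3,4,1,2,3,6,1,0])))) (.node (.node (.node (.word [5,6,3,4,1,2,3,6,3,4,3,2,3,5,0,2,1,6,3,2,3,1,2,3,4,2,3,6,1,2,3,5,6,3,2,0,5,6,3,4,1,2,3,6,3,4,3,2,3,5,0,1,3,2,1,6,3,2,1,3,2,3,5,4,2,3,1,2,3,6,4,2,3,5,1,5,6,3,4,1,2,3,6,3,4,3,2,3,5,0]) (.word [0,1,3,2,3,5,6,3,2,3,5,6,3,4,1,2,3,6,1,0,1,3,2,1,6,3,2,1,3,2,3,5,4,2,3,1,2,3,6,3,2,1,3,5,6,3,4,2,3,5,3,1,2,3,4,2,3,2,0,5,6,3,4,1,2,3,6,3,4,3,2,3,5,0])) (.node .none (.word [2,1,6,3,2,3,1,2,3,4,2,3,6,1,2,3,5,6,3,2,1,3,2,3,5,6,3,2,3,5,6,3,4,1,2,3,6,1,0]))) (.node (.word [1,3,2,1,6,3,2,1,3,2,3,5,4,2,3,1,2,3,6,4,2,3,5,1,5,6,3,2,1,4,3,6,2,3,2,3,6,2,3,4,1,2,3,6,5,1,3,2,1,6,3,2,1,3,2,3,5,4,2,3,1,2,3,6,4,2,3,5,1,0,1,3,2,3,5,6,3,2,3,5,6,3,4,1,2,3,6,1,0,5,6,3,4,1,2,3,6,3,4,3,2,3,5,0])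 (.node (.word [0,1,3,2,3,5,6,3,2,3,5,6,3,4,1,2,3,6,1,0,5,6,3,2,1,4,3,6,2,3,2,3,6,2,3,4,1,2,4,1,2,3,6,3,4,3,2,3,5,0,1,3,2,1,6,3,2,1,3,2,3,5,4,2,3,1,2,3,6,4,2,3,5,1,5,6,3,4,1,2,3,6,3,4,3,2,3,5,0]) (.word [1,2,3,5,3,2,1,0,3,5,6,3,2,3,6,4,3,2,3,1,2,3,5,6,3,4,5,6,3,2,1,4,3,6,2,3,2,3,6,2,3,4,1,2,4,1,2,3,6,3,4,3,2,3,5,0,1,5,3,2,4,3,2,1,3,5,6,3,4,2,3,5,3,1,2,3,4,2,3,2,1,3,2,3,5,6,3,2,3,5,6,3,4,1,2,3,6,1,0]))))))))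

/-- A subtree. -/
def sub27 : WTree :=
  (.node (.node (.node (.node (.node (.node (.node (.node (.word [5,6,3,2,1,4,3,6,2,3,2,3,6,2,3,4,1,2,4,1,2,3,6,3,4,3,2,3,5,0,1,5,3,2,4,3,2,1,3,5,6,3,4,2,3,5,3,1,2,3,4,2,3,2,1,3,2,3,5,6,3,2,3,5,6,3,4,1,2,3,6,1,0,5,6,3,4,1,2,3,6,3,4,3,2,3,5,0]) (.word [1,5,3,2,4,3,2,1,3,5,6,3,4,2,3,5,3,1,2,3,4,2,3,2,0,1,3,2,1,6,3,2,1,3,2,3,5,4,2,3,1,2,3,6,4,2,3,5,2,3,5,3,2,1,0,3,5,6,3,2,3,6,4,3,2,3,1,2,3,5,6,3,4,1,5,3,2,4,3,2,1,3,5,6,3,4,2,3,5,3,1,2,3,4,2,3,2,0,5,6,3,4,1,2,3,6,3,4,3,2,3,5,0,5,6,3,4,1,2,3,6,3,4,3,2,3,5,0])) (.word [0,1,3,2,3,5,6,3,2,3,5,6,3,4,1,2,3,6,1,0,5,6,3,4,1,2,3,6,3,4,3,2,3,5,0,1,3,2,1,6,3,2,1,3,2,3,5,4,2,3,1,2,3,6,4,2,3,5,1,0,1,3,2,3,5,6,3,2,3,5,6,3,4,1,2,3,6,1,0,5,6,3,4,1,2,3,6,3,4,3,2,3,5,0]))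 (.node (.word [5,6,3,2,1,4,3,6,2,3,2,3,6,2,3,4,1,2,3,6,5,0,1,3,2,3,5,6,3,2,3,5,6,3,4,1,2,3,6,1,0,1,2,3,5,3,2,1,0,3,5,6,3,2,3,6,4,3,2,3,1,2,3,5,6,3,4,5,6,3,4,1,2,3,6,3,4,3,2,3,5,0,5,6,3,4,1,2,3,6,3,4,3,2,3,5,0]) (.word [1,5,3,2,4,3,2,1,3,5,6,3,4,2,3,5,3,1,2,3,4,2,3,2,0,5,6,3,2,1,4,3,6,2,3,2,3,6,2,3,4,1,2,3,6,5,1,3,2,1,6,3,2,1,3,2,3,5,4,2,3,1,2,3,6,4,2,3,5,1,5,6,3,2,1,4,3,6,2,3,2,3,6,2,3,4,1,2,3,6,5,0,1,3,2,3,5,6,3,2,3,5,6,3,4,1,2,3,6,1,0,5,6,3,4,1,2,3,6,3,4,3,2,3,5,0]))) (.node (.word [0,1,3,2,3,5,6,3,2,3,5,6,3,4,1,2,3,6,1,0,1,2,3,5,3,2,1,0,3,5,6,3,2,3,6,4,3,2,3,1,2,3,5,6,3,4,0,1,3,2,3,5,6,3,2,3,5,6,3,4,1,2,3,6,1,0,1,3,2,1,6,3,2,1,3,2,3,5,4,2,3,1,2,3,6,4,2,3,5,1,0,1,3,2,3,5,6,3,2,3,5,6,3,4,1,2,3,6,1,0,5,6,3,4,1,2,3,6,3,4,3,2,3,5,0])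 (.node (.word [1,5,3,2,4,3,2,1,3,5,6,3,4,2,3,5,3,1,2,3,4,2,3,2,0,1,5,3,2,4,3,2,1,3,5,6,3,4,2,3,5,3,1,2,3,4,2,3,2,0,5,6,3,4,1,2,3,6,3,4,3,2,3,5,0,5,6,3,4,1,2,3,6,3,4,3,2,3,5,0,5,6,3,4,1,2,3,6,3,4,3,2,3,5,0]) (.word [5,6,3,2,1,4,3,6,2,3,2,3,6,2,3,4,1,2,3,6,5,1,3,2,1,6,3,2,1,3,2,3,5,4,2,3,1,2,3,6,4,2,3,5,1,0,1,3,2,3,5,6,3,2,3,5,6,3,4,1,2,3,6,3,2,3,5,6,3,2,3,5,6,3,4,1,2,3,6,1,0,5,6,3,4,1,2,3,6,3,4,3,2,3,5,0])))) (.node (.node (.word [1,5,3,2,4,3,2,1,3,5,6,3,4,2,3,5,3,1,2,3,4,2,3,2,0,1,5,3,2,4,3,2,1,3,5,6,3,4,2,3,5,3,1,2,3,4,2,3,2,0,5,6,3,2,1,4,3,6,2,3,2,3,6,2,3,4,1,2,4,1,2,3,6,3,4,3,2,3,5,1,3,2,3,5,6,3,2,3,5,6,3,4,1,2,3,6,1,0,5,6,3,4,1,2,3,6,3,4,3,2,3,5,0]) (.node (.word [5,6,3,4,1,2,3,6,3,4,3,2,3,5,0,5,6,3,4,1,2,3,6,3,4,3,2,3,5,0,1,2,3,5,3,2,1,0,3,5,6,3,2,3,6,4,3,2,3,1,2,3,5,6,3,4,1,2,3,5,3,2,1,0,3,5,6,3,2,3,6,4,3,2,3,1,2,3,5,6,3,4,5,6,3,4,1,2,3,6,3,4,3,2,3,5,0,5,6,3,4,1,2,3,6,3,4,3,2,3,5,0])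 (.word [2,1,6,3,2,3,1,2,3,4,2,3,6,1,2,3,5,6,3,2,0,5,6,3,4,1,2,3,6,3,4,3,2,3,5,0,1,5,3,2,4,3,2,1,3,5,6,3,4,2,3,5,3,1,2,3,4,2,3,2,0,1,5,3,2,4,3,2,1,3,5,6,3,4,2,3,5,3,1,2,3,4,2,3,2,0,5,6,3,4,1,2,3,6,3,4,3,2,3,5,0,5,6,3,4,1,2,3,6,3,4,3,2,3,5,0]))) (.node (.word [0,1,3,2,3,5,6,3,2,3,5,6,3,4,1,2,3,6,1,0,5,6,3,4,1,2,3,6,3,4,3,2,3,5,0,5,6,3,4,1,2,3,6,3,4,3,2,3,5,0,1,2,3,5,3,2,1,0,3,5,6,3,2,3,6,4,3,2,3,1,2,3,5,6,3,4,5,6,3,4,1,2,3,6,3,4,3,2,3,5,0]) (.node (.word [0,1,3,2,3,5,6,3,2,3,5,6,3,4,1,2,3,6,1,0,1,2,3,5,3,2,1,0,3,5,6,3,2,3,6,4,3,2,3,1,2,3,5,6,3,4,1,2,3,5,3,2,1,0,3,5,6,3,2,3,6,4,3,2,3,1,2,3,5,6,3,4,5,6,3,4,1,2,3,6,3,4,3,2,3,5,0]) (.word [0,1,3,2,3,5,6,3,2,3,5,6,3,4,1,2,3,6,1,0,2,1,6,3,2,3,1,2,3,4,2,3,6,1,2,3,5,6,3,2,0,1,2,3,5,3,2,1,0,3,5,6,3,2,3,6,4,3,2,3,1,2,3,5,6,3,4,0,1,3,2,3,5,6,3,2,3,5,6,3,4,1,2,3,6,1,0])))))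 (.node (.node (.node (.node .none (.word [0,1,3,2,3,5,6,3,2,3,5,6,3,4,1,2,3,6,3,2,3,5,6,3,2,3,5,6,3,4,1,2,3,6,1,0,1,2,3,5,3,2,1,0,3,5,6,3,2,3,6,4,3,2,3,1,2,3,5,6,3,4,0,1,3,2,3,5,6,3,2,3,5,6,3,4,1,2,3,6,1,0,5,6,3,4,1,2,3,6,3,4,3,2,3,5,0])) (.node .none (.word [5,6,3,2,1,4,3,6,2,3,2,3,6,2,3,4,1,2,3,6,5,0,1,3,2,3,5,6,3,2,3,5,6,3,4,1,2,3,6,1,0,1,5,3,2,4,3,2,1,3,5,6,3,4,2,3,5,3,1,2,3,4,2,3,2,0,1,5,3,2,4,3,2,1,3,5,6,3,4,2,3,5,3,1,2,3,4,2,3,2,0,5,6,3,4,1,2,3,6,3,4,3,2,3,5,0]))) (.node (.node (.word [5,6,3,4,1,2,3,6,3,4,3,2,3,5,0,2,1,6,3,2,3,1,2,3,4,2,3,6,1,2,3,5,6,3,2,0,1,2,3,5,3,2,1,0,3,5,6,3,2,3,6,4,3,2,3,1,2,3,5,6,3,4,5,6,3,4,1,2,3,6,3,4,3,2,3,5,0]) (.word [0,1,3,2,3,5,6,3,2,3,5,6,3,4,1,2,3,6,1,0,1,2,3,5,3,2,1,0,3,5,6,3,2,3,6,4,3,2,3,1,2,3,5,6,3,4,2,1,6,3,2,3,1,2,3,4,2,3,6,1,2,3,5,6,3,2,1,3,2,3,5,6,3,2,3,5,6,3,4,1,2,3,6,3,2,3,5,6,3,2,3,5,6,3,4,1,2,3,6,1,0]))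 (.node .none (.word [2,1,6,3,2,3,1,2,3,4,2,3,6,1,2,3,5,6,3,2,0,1,2,3,5,3,2,1,0,3,5,6,3,2,3,6,4,3,2,3,1,2,3,5,6,3,4,1,2,3,5,3,2,1,0,3,5,6,3,2,3,6,4,3,2,3,1,2,3,5,6,3,4,5,6,3,4,1,2,3,6,3,4,3,2,3,5,0])))) (.node (.node (.node (.word [5,6,3,4,1,2,3,6,3,4,3,2,3,5,0,2,1,6,3,2,3,1,2,3,4,2,3,6,1,2,3,5,6,3,2,1,3,2,3,5,6,3,2,3,5,6,3,4,1,2,3,6,3,2,3,5,6,3,2,3,5,6,3,4,1,2,3,6,1,0]) (.word [1,3,2,1,6,3,2,1,3,2,3,5,4,2,3,1,2,3,6,4,2,3,5,1,5,6,3,4,1,2,3,6,3,4,3,2,3,5,0,2,1,6,3,2,3,1,2,3,4,2,3,6,1,2,3,5,6,3,2,1,3,2,3,5,6,3,2,3,5,6,3,4,1,2,3,6,1,0])) (.node (.word [2,1,6,3,2,3,1,2,3,4,2,3,6,1,2,3,5,6,3,2,0,1,5,3,2,4,3,2,1,3,5,6,3,4,2,3,5,3,1,2,3,4,2,3,2,0,1,5,3,2,4,3,2,1,3,5,6,3,4,2,3,5,3,1,2,3,4,2,3,2,1,3,2,3,5,6,3,2,3,5,6,3,4,1,2,3,6,1,0,5,6,3,4,1,2,3,6,3,4,3,2,3,5,0])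 (.word [1,2,3,5,3,2,1,0,3,5,6,3,2,3,6,4,3,2,3,1,2,3,5,6,3,4,5,6,3,2,1,4,3,6,2,3,2,3,6,2,3,4,1,2,4,1,2,3,6,3,4,3,2,3,5,0,5,6,3,2,1,4,3,6,2,3,2,3,6,2,3,4,1,2,4,1,2,3,6,3,4,3,2,3,5,0]))) (.node (.node .none (.word [1,2,3,5,3,2,1,0,3,5,6,3,2,3,6,4,3,2,3,1,2,3,5,6,3,4,0,1,3,2,3,5,6,3,2,3,5,6,3,4,1,2,3,6,1,0,5,6,3,4,1,2,3,6,3,4,3,2,3,5,0,1,2,3,5,3,2,1,0,3,5,6,3,2,3,6,4,3,2,3,1,2,3,5,6,3,4,5,6,3,4,1,2,3,6,3,4,3,2,3,5,0])) .none)))) (.node (.node (.node (.node (.node .none (.word [2,1,6,3,2,3,1,2,3,4,2,3,6,1,2,3,5,6,3,2,0,1,2,3,5,3,2,1,0,3,5,6,3,2,3,6,4,3,2,3,1,2,3,5,6,3,4,5,6,3,4,1,2,3,6,3,4,3,2,3,5,1,3,2,3,5,6,3,2,3,5,6,3,4,1,2,3,6,1,0,5,6,3,4,1,2,3,6,3,4,3,2,3,5,0])) (.node (.word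 [1,5,3,2,4,3,2,1,3,5,6,3,4,2,3,5,3,1,2,3,4,2,3,2,1,3,2,3,5,6,3,2,3,5,6,3,4,1,2,3,6,1,0,1,5,3,2,4,3,2,1,3,5,6,3,4,2,3,5,3,1,2,3,4,2,3,2,1,3,2,3,5,6,3,2,3,5,6,3,4,1,2,3,6,1,0,5,6,3,4,1,2,3,6,3,4,3,2,3,5,0]) (.word [1,2,3,5,3,2,1,0,3,5,6,3,2,3,6,4,3,2,3,1,2,3,5,6,3,4,1,3,2,1,6,3,2,1,3,2,3,5,4,2,3,1,2,3,6,4,2,3,5,1,0,1,3,2,3,5,6,3,2,3,5,6,3,4,1,2,3,6,3,2,3,5,6,3,2,3,5,6,3,4,1,2,3,6,1,0]))) (.node .none (.node (.word [0,1,3,2,3,5,6,3,2,3,5,6,3,4,1,2,3,6,1,0,1,2,3,5,3,2,1,0,3,5,6,3,2,3,6,4,3,2,3,1,2,3,5,6,3,4,0,1,3,2,3,5,6,3,2,3,5,6,3,4,1,2,3,6,1,0,2,1,6,3,2,3,1,2,3,4,2,3,6,1,2,3,5,6,3,2,0,5,6,3,4,1,2,3,6,3,4,3,2,3,5,0]) (.word [1,3,2,1,6,3,2,1,3,2,3,5,4,2,3,1,2,3,6,4,2,3,5,2,3,5,3,2,1,0,3,5,6,3,2,3,6,4,3,2,3,1,2,3,5,6,3,4,2,1,6,3,2,3,1,2,3,4,2,3,6,1,2,3,5,6,3,2,1,3,2,3,5,6,3,2,3,5,6,3,4,1,2,3,6,1,0,5,6,3,4,1,2,3,6,3,4,3,2,3,5,0]))))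 (.node (.node (.word [1,3,2,1,6,3,2,1,3,2,3,5,4,2,3,1,2,3,6,4,2,3,5,1,5,6,3,2,1,4,3,6,2,3,2,3,6,2,3,4,1,2,3,6,5,1,2,3,5,3,2,1,0,3,5,6,3,2,3,6,4,3,2,3,1,2,3,5,6,3,4,0,1,3,2,3,5,6,3,2,3,5,6,3,4,1,2,3,6,1,0]) (.word [1,5,3,2,4,3,2,1,3,5,6,3,4,2,3,5,3,1,2,3,4,2,3,2,0,5,6,3,4,1,2,3,6,3,4,3,2,3,5,0,1,3,2,1,6,3,2,1,3,2,3,5,4,2,3,1,2,3,6,4,2,3,5,1,5,6,3,2,1,4,3,6,2,3,2,3,6,2,3,4,1,2,4,1,2,3,6,3,4,3,2,3,5,0])) (.node (.node .none (.word [0,1,3,2,3,5,6,3,2,3,5,6,3,4,1,2,3,6,1,0,2,1,6,3,2,3,1,2,3,4,2,3,6,1,2,3,5,6,3,2,1,3,2,3,5,6,3,2,3,5,6,3,4,1,2,3,6,1,0,2,1,6,3,2,3,1,2,3,4,2,3,6,1,2,3,5,6,3,2,1,3,2,3,5,6,3,2,3,5,6,3,4,1,2,3,6,1,0])) .none))) (.node (.node (.node (.node .none (.word [5,6,3,4,1,2,3,6,3,4,3,2,3,5,0,1,2,3,5,3,2,1,0,3,5,6,3,2,3,6,4,3,2,3,1,2,3,5,6,3,4,0,1,3,2,3,5,6,3,2,3,5,6,3,4,1,2,3,6,1,0,1,5,3,2,4,3,2,1,3,5,6,3,4,2,3,5,3,1,2,3,4,2,3,2,0,1,2,3,5,3,2,1,0,3,5,6,3,2,3,6,4,3,2,3,1,2,3,5,6,3,4,5,6,3,4,1,2,3,6,3,4,3,2,3,5,0]))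 (.word [1,5,3,2,4,3,2,1,3,5,6,3,4,2,3,5,3,1,2,3,4,2,3,2,0,1,2,3,5,3,2,1,0,3,5,6,3,2,3,6,4,3,2,3,1,2,3,5,6,3,4,5,6,3,4,1,2,3,6,3,4,3,2,3,5,1,3,2,3,5,6,3,2,3,5,6,3,4,1,2,3,6,3,2,3,5,6,3,2,3,5,6,3,4,1,2,3,6,1,0,5,6,3,4,1,2,3,6,3,4,3,2,3,5,0])) (.node (.node .none (.word [1,3,2,1,6,3,2,1,3,2,3,5,4,2,3,1,2,3,6,4,2,3,5,1,5,6,3,2,1,4,3,6,2,3,2,3,6,2,3,4,1,2,3,6,5,0,1,3,2,3,5,6,3,2,3,5,6,3,4,1,2,3,6,1,0,1,2,3,5,3,2,1,0,3,5,6,3,2,3,6,4,3,2,3,1,2,3,5,6,3,4,5,6,3,4,1,2,3,6,3,4,3,2,3,5,0])) (.word [1,2,3,5,3,2,1,0,3,5,6,3,2,3,6,4,3,2,3,1,2,3,5,6,3,4,2,1,6,3,2,3,1,2,3,4,2,3,6,1,2,3,5,6,3,2,0,1,5,3,2,4,3,2,1,3,5,6,3,4,2,3,5,3,1,2,3,4,2,3,2,1,3,2,3,5,6,3,2,3,5,6,3,4,1,2,3,6,3,2,3,5,6,3,2,3,5,6,3,4,1,2,3,6,1,0])))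 (.node (.node (.word [5,6,3,4,1,2,3,6,3,4,3,2,3,5,0,5,6,3,4,1,2,3,6,3,4,3,2,3,5,0,2,1,6,3,2,3,1,2,3,4,2,3,6,1,2,3,5,6,3,2,0,1,5,3,2,4,3,2,1,3,5,6,3,4,2,3,5,3,1,2,3,4,2,3,2,0,5,6,3,4,1,2,3,6,3,4,3,2,3,5,0,5,6,3,4,1,2,3,6,3,4,3,2,3,5,0]) (.node .none (.word [5,6,3,4,1,2,3,6,3,4,3,2,3,5,0,2,1,6,3,2,3,1,2,3,4,2,3,6,1,2,3,5,6,3,2,0,5,6,3,2,1,4,3,6,2,3,2,3,6,2,3,4,1,2,4,1,2,3,6,3,4,3,2,3,5,0]))) (.node (.node (.word [5,6,3,4,1,2,3,6,3,4,3,2,3,5,1,3,2,3,5,6,3,2,3,5,6,3,4,1,2,3,6,1,0,5,6,3,2,1,4,3,6,2,3,2,3,6,2,3,4,1,2,3,6,5,1,5,3,2,4,3,2,1,3,5,6,3,4,2,3,5,3,1,2,3,4,2,3,2,0,5,6,3,4,1,2,3,6,3,4,3,2,3,5,0]) (.word [1,3,2,1,6,3,2,1,3,2,3,5,4,2,3,1,2,3,6,4,2,3,5,1,0,1,3,2,3,5,6,3,2,3,5,6,3,4,1,2,3,6,1,0,5,6,3,4,1,2,3,6,3,4,3,2,3,5,0,2,1,6,3,2,3,1,2,3,4,2,3,6,1,2,3,5,6,3,2,0,5,6,3,4,1,2,3,6,3,4,3,2,3,5,0]))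 (.node (.word [1,2,3,5,3,2,1,0,3,5,6,3,2,3,6,4,3,2,3,1,2,3,5,6,3,4,0,1,3,2,3,5,6,3,2,3,5,6,3,4,1,2,3,6,1,0,1,5,3,2,4,3,2,1,3,5,6,3,4,2,3,5,3,1,2,3,4,2,3,2,0,1,2,3,5,3,2,1,0,3,5,6,3,2,3,6,4,3,2,3,1,2,3,5,6,3,4,5,6,3,4,1,2,3,6,3,4,3,2,3,5,0]) (.word [1,5,3,2,4,3,2,1,3,5,6,3,4,2,3,5,3,1,2,3,4,2,3,2,0,5,6,3,2,1,4,3,6,2,3,2,3,6,2,3,4,1,2,3,6,5,1,3,2,1,6,3,2,1,3,2,3,5,4,2,3,1,2,3,6,4,2,3,5,1,5,6,3,4,1,2,3,6,3,4,3,2,3,5,0]))))))) (.node (.node (.node (.node (.node (.node (.word [5,6,3,4,1,2,3,6,3,4,3,2,3,5,0,2,1,6,3,2,3,1,2,3,4,2,3,6,1,2,3,5,6,3,2,0,1,5,3,2,4,3,2,1,3,5,6,3,4,2,3,5,3,1,2,3,4,2,3,2,0,1,2,3,5,3,2,1,0,3,5,6,3,2,3,6,4,3,2,3,1,2,3,5,6,3,4,5,6,3,4,1,2,3,6,3,4,3,2,3,5,0])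 (.word [1,5,3,2,4,3,2,1,3,5,6,3,4,2,3,5,3,1,2,3,4,2,3,2,1,3,2,3,5,6,3,2,3,5,6,3,4,1,2,3,6,1,0,2,1,6,3,2,3,1,2,3,4,2,3,6,1,2,3,5,6,3,2,0,1,5,3,2,4,3,2,1,3,5,6,3,4,2,3,5,3,1,2,3,4,2,3,2,0,5,6,3,4,1,2,3,6,3,4,3,2,3,5,0])) (.word [2,1,6,3,2,3,1,2,3,4,2,3,6,1,2,3,5,6,3,2,0,5,6,3,4,1,2,3,6,3,4,3,2,3,5,1,3,2,3,5,6,3,2,3,5,6,3,4,1,2,3,6,1,0,5,6,3,4,1,2,3,6,3,4,3,2,3,5,1,3,2,3,5,6,3,2,3,5,6,3,4,1,2,3,6,1,0])) (.node (.node (.word [5,6,3,2,1,4,3,6,2,3,2,3,6,2,3,4,1,2,4,1,2,3,6,3,4,3,2,3,5,0,1,2,3,5,3,2,1,0,3,5,6,3,2,3,6,4,3,2,3,1,2,3,5,6,3,4,0,1,3,2,3,5,6,3,2,3,5,6,3,4,1,2,3,6,3,2,3,5,6,3,2,3,5,6,3,4,1,2,3,6,1,0]) (.word [1,2,3,5,3,2,1,0,3,5,6,3,2,3,6,4,3,2,3,1,2,3,5,6,3,4,1,3,2,1,6,3,2,1,3,2,3,5,4,2,3,1,2,3,6,4,2,3,5,1,5,6,3,4,1,2,3,6,3,4,3,2,3,5,0]))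 (.word [1,5,3,2,4,3,2,1,3,5,6,3,4,2,3,5,3,1,2,3,4,2,3,2,0,1,3,2,1,6,3,2,1,3,2,3,5,4,2,3,1,2,3,6,3,2,1,3,5,6,3,4,2,3,5,3,1,2,3,4,2,3,2,0,5,6,3,4,1,2,3,6,3,4,3,2,3,5,1,3,2,3,5,6,3,2,3,5,6,3,4,1,2,3,6,1,0,5,6,3,4,1,2,3,6,3,4,3,2,3,5,0]))) (.node (.node (.node (.word [1,2,3,5,3,2,1,0,3,5,6,3,2,3,6,4,3,2,3,1,2,3,5,6,3,4,0,1,3,2,3,5,6,3,2,3,5,6,3,4,1,2,3,6,3,2,3,5,6,3,2,3,5,6,3,4,1,2,3,6,1,0,1,3,2,1,6,3,2,1,3,2,3,5,4,2,3,1,2,3,6,3,2,1,3,5,6,3,4,2,3,5,3,1,2,3,4,2,3,2,0,5,6,3,4,1,2,3,6,3,4,3,2,3,5,0]) (.word [1,5,3,2,4,3,2,1,3,5,6,3,4,2,3,5,3,1,2,3,4,2,3,2,1,3,2,3,5,6,3,2,3,5,6,3,4,1,2,3,6,3,2,3,5,6,3,2,3,5,6,3,4,1,2,3,6,1,0,5,6,3,2,1,4,3,6,2,3,2,3,6,2,3,4,1,2,3,6,5,1,3,2,1,6,3,2,1,3,2,3,5,4,2,3,1,2,3,6,4,2,3,5,1,5,6,3,4,1,2,3,6,3,4,3,2,3,5,0]))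 (.node (.word [5,6,3,2,1,4,3,6,2,3,2,3,6,2,3,4,1,2,3,6,5,0,1,3,2,3,5,6,3,2,3,5,6,3,4,1,2,3,6,1,0,5,6,3,4,1,2,3,6,3,4,3,2,3,5,0,1,3,2,1,6,3,2,1,3,2,3,5,4,2,3,1,2,3,6,4,2,3,5,1,0,1,3,2,3,5,6,3,2,3,5,6,3,4,1,2,3,6,1,0]) (.word [5,6,3,2,1,4,3,6,2,3,2,3,6,2,3,4,1,2,3,6,5,0,1,3,2,3,5,6,3,2,3,5,6,3,4,1,2,3,6,1,0,1,2,3,5,3,2,1,0,3,5,6,3,2,3,6,4,3,2,3,1,2,3,5,6,3,4,5,6,3,4,1,2,3,6,3,4,3,2,3,5,0]))) (.node (.node (.word [0,1,3,2,3,5,6,3,2,3,5,6,3,4,1,2,3,6,1,0,1,5,3,2,4,3,2,1,3,5,6,3,4,2,3,5,3,1,2,3,4,2,3,2,0,1,3,2,1,6,3,2,1,3,2,3,5,4,2,3,1,2,3,6,4,2,3,5,1,5,6,3,4,1,2,3,6,3,4,3,2,3,5,1,3,2,3,5,6,3,2,3,5,6,3,4,1,2,3,6,1,0,5,6,3,4,1,2,3,6,3,4,3,2,3,5,0]) (.word [1,2,3,5,3,2,1,0,3,5,6,3,2,3,6,4,3,2,3,1,2,3,5,6,3,4,1,3,2,1,6,3,2,1,3,2,3,5,4,2,3,1,2,3,6,4,2,3,5,1,0,1,3,2,3,5,6,3,2,3,5,6,3,4,1,2,3,6,1,0]))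 (.node (.word [5,6,3,2,1,4,3,6,2,3,2,3,6,2,3,4,1,2,4,1,2,3,6,3,4,3,2,3,5,0,1,3,2,1,6,3,2,1,3,2,3,5,4,2,3,1,2,3,6,4,2,3,5,1,5,6,3,2,1,4,3,6,2,3,2,3,6,2,3,4,1,2,4,1,2,3,6,3,4,3,2,3,5,0]) (.word [5,6,3,2,1,4,3,6,2,3,2,3,6,2,3,4,1,2,3,6,5,1,3,2,1,6,3,2,1,3,2,3,5,4,2,3,1,2,3,6,4,2,3,5,1,0,1,3,2,3,5,6,3,2,3,5,6,3,4,1,2,3,6,1,0,5,6,3,4,1,2,3,6,3,4,3,2,3,5,0]))))) (.node (.node (.node (.word [5,6,3,4,1,2,3,6,3,4,3,2,3,5,0,1,2,3,5,3,2,1,0,3,5,6,3,2,3,6,4,3,2,3,1,2,3,5,6,3,4,5,6,3,2,1,4,3,6,2,3,2,3,6,2,3,4,1,2,3,6,5,0,1,3,2,3,5,6,3,2,3,5,6,3,4,1,2,3,6,1,0,5,6,3,4,1,2,3,6,3,4,3,2,3,5,0]) (.node .none (.word [1,2,3,5,3,2,1,0,3,5,6,3,2,3,6,4,3,2,3,1,2,3,5,6,3,4,1,5,3,2,4,3,2,1,3,5,6,3,4,2,3,5,3,1,2,3,4,2,3,2,0,5,6,3,4,1,2,3,6,3,4,3,2,3,5,0,5,6,3,4,1,2,3,6,3,4,3,2,3,5,0,5,6,3,4,1,2,3,6,3,4,3,2,3,5,0])))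 (.node (.node (.word [5,6,3,2,1,4,3,6,2,3,2,3,6,2,3,4,1,2,3,6,5,1,3,2,1,6,3,2,1,3,2,3,5,4,2,3,1,2,3,6,4,2,3,5,1,5,6,3,4,1,2,3,6,3,4,3,2,3,5,0]) (.word [1,5,3,2,4,3,2,1,3,5,6,3,4,2,3,5,3,1,2,3,4,2,3,2,0,1,5,3,2,4,3,2,1,3,5,6,3,4,2,3,5,3,1,2,3,4,2,3,2,0,1,3,2,1,6,3,2,1,3,2,3,5,4,2,3,1,2,3,6,4,2,3,5,1,0,1,3,2,3,5,6,3,2,3,5,6,3,4,1,2,3,6,1,0,5,6,3,4,1,2,3,6,3,4,3,2,3,5,0])) (.word [5,6,3,2,1,4,3,6,2,3,2,3,6,2,3,4,1,2,4,1,2,3,6,3,4,3,2,3,5,0,1,2,3,5,3,2,1,0,3,5,6,3,2,3,6,4,3,2,3,1,2,3,5,6,3,4,5,6,3,4,1,2,3,6,3,4,3,2,3,5,0]))) (.node (.node (.node (.word [5,6,3,4,1,2,3,6,3,4,3,2,3,5,0,1,2,3,5,3,2,1,0,3,5,6,3,2,3,6,4,3,2,3,1,2,3,5,6,3,4,5,6,3,4,1,2,3,6,3,4,3,2,3,5,0,1,5,3,2,4,3,2,1,3,5,6,3,4,2,3,5,3,1,2,3,4,2,3,2,0,1,2,3,5,3,2,1,0,3,5,6,3,2,3,6,4,3,2,3,1,2,3,5,6,3,4,5,6,3,4,1,2,3,6,3,4,3,2,3,5,0])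 (.word [5,6,3,4,1,2,3,6,3,4,3,2,3,5,1,3,2,3,5,6,3,2,3,5,6,3,4,1,2,3,6,1,0,1,3,2,1,6,3,2,1,3,2,3,5,4,2,3,1,2,3,6,4,2,3,5,1,5,6,3,4,1,2,3,6,3,4,3,2,3,5,1,3,2,3,5,6,3,2,3,5,6,3,4,1,2,3,6,1,0,5,6,3,4,1,2,3,6,3,4,3,2,3,5,0])) (.node (.word [0,1,3,2,3,5,6,3,2,3,5,6,3,4,1,2,3,6,1,0,1,2,3,5,3,2,1,0,3,5,6,3,2,3,6,4,3,2,3,1,2,3,5,6,3,4,0,1,3,2,3,5,6,3,2,3,5,6,3,4,1,2,3,6,1,0]) (.word [1,3,2,1,6,3,2,1,3,2,3,5,4,2,3,1,2,3,6,4,2,3,5,1,0,1,3,2,3,5,6,3,2,3,5,6,3,4,1,2,3,6,3,2,3,5,6,3,2,3,5,6,3,4,1,2,3,6,1,0,1,3,2,1,6,3,2,1,3,2,3,5,4,2,3,1,2,3,6,4,2,3,5,1,5,6,3,4,1,2,3,6,3,4,3,2,3,5,0]))) (.node (.word [1,2,3,5,3,2,1,0,3,5,6,3,2,3,6,4,3,2,3,1,2,3,5,6,3,4,0,1,3,2,3,5,6,3,2,3,5,6,3,4,1,2,3,6,3,2,3,5,6,3,2,3,5,6,3,4,1,2,3,6,1,0])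 (.node (.word [0,1,3,2,3,5,6,3,2,3,5,6,3,4,1,2,3,6,1,0,2,1,6,3,2,3,1,2,3,4,2,3,6,1,2,3,5,6,3,2,1,3,2,3,5,6,3,2,3,5,6,3,4,1,2,3,6,1,0,1,5,3,2,4,3,2,1,3,5,6,3,4,2,3,5,3,1,2,3,4,2,3,2,0,5,6,3,4,1,2,3,6,3,4,3,2,3,5,0]) (.word [5,6,3,4,1,2,3,6,3,4,3,2,3,5,1,3,2,3,5,6,3,2,3,5,6,3,4,1,2,3,6,3,2,3,5,6,3,2,3,5,6,3,4,1,2,3,6,3,2,3,5,6,3,2,3,5,6,3,4,1,2,3,6,1,0])))))) (.node (.node (.node (.node (.word [0,1,3,2,3,5,6,3,2,3,5,6,3,4,1,2,3,6,3,2,3,5,6,3,2,3,5,6,3,4,1,2,3,6,3,2,3,5,6,3,2,3,5,6,3,4,1,2,3,6,1,0,1,3,2,1,6,3,2,1,3,2,3,5,4,2,3,1,2,3,6,4,2,3,5,1,5,6,3,4,1,2,3,6,3,4,3,2,3,5,0]) (.node .none (.word [5,6,3,4,1,2,3,6,3,4,3,2,3,5,0,1,3,2,1,6,3,2,1,3,2,3,5,4,2,3,1,2,3,6,4,2,3,5,1,5,6,3,4,1,2,3,6,3,4,3,2,3,5,0,5,6,3,4,1,2,3,6,3,4,3,2,3,5,1,3,2,3,5,6,3,2,3,5,6,3,4,1,2,3,6,1,0])))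 (.node (.node .none (.word [1,2,3,5,3,2,1,0,3,5,6,3,2,3,6,4,3,2,3,1,2,3,5,6,3,4,1,2,3,5,3,2,1,0,3,5,6,3,2,3,6,4,3,2,3,1,2,3,5,6,3,4,1,5,3,2,4,3,2,1,3,5,6,3,4,2,3,5,3,1,2,3,4,2,3,2,0,5,6,3,4,1,2,3,6,3,4,3,2,3,5,0,5,6,3,4,1,2,3,6,3,4,3,2,3,5,0])) (.node (.word [1,5,3,2,4,3,2,1,3,5,6,3,4,2,3,5,3,1,2,3,4,2,3,2,1,3,2,3,5,6,3,2,3,5,6,3,4,1,2,3,6,1,0,1,5,3,2,4,3,2,1,3,5,6,3,4,2,3,5,3,1,2,3,4,2,3,2,0,1,5,3,2,4,3,2,1,3,5,6,3,4,2,3,5,3,1,2,3,4,2,3,2,0,5,6,3,4,1,2,3,6,3,4,3,2,3,5,0,5,6,3,4,1,2,3,6,3,4,3,2,3,5,0]) (.word [1,5,3,2,4,3,2,1,3,5,6,3,4,2,3,5,3,1,2,3,4,2,3,2,0,1,3,2,1,6,3,2,1,3,2,3,5,4,2,3,1,2,3,6,4,2,3,5,1,0,1,3,2,3,5,6,3,2,3,5,6,3,4,1,2,3,6,1,0,5,6,3,4,1,2,3,6,3,4,3,2,3,5,0]))))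 (.node (.node (.node .none (.word [5,6,3,4,1,2,3,6,3,4,3,2,3,5,0,1,2,3,5,3,2,1,0,3,5,6,3,2,3,6,4,3,2,3,1,2,3,5,6,3,4,2,1,6,3,2,3,1,2,3,4,2,3,6,1,2,3,5,6,3,2,1,3,2,3,5,6,3,2,3,5,6,3,4,1,2,3,6,1,0,5,6,3,4,1,2,3,6,3,4,3,2,3,5,0])) (.node (.word [5,6,3,2,1,4,3,6,2,3,2,3,6,2,3,4,1,2,3,6,5,1,2,3,5,3,2,1,0,3,5,6,3,2,3,6,4,3,2,3,1,2,3,5,6,3,4,1,5,3,2,4,3,2,1,3,5,6,3,4,2,3,5,3,1,2,3,4,2,3,2,0,5,6,3,4,1,2,3,6,3,4,3,2,3,5,1,3,2,3,5,6,3,2,3,5,6,3,4,1,2,3,6,1,0]) (.word [5,6,3,4,1,2,3,6,3,4,3,2,3,5,0,5,6,3,4,1,2,3,6,3,4,3,2,3,5,0,5,6,3,2,1,4,3,6,2,3,2,3,6,2,3,4,1,2,3,6,5,0,1,3,2,3,5,6,3,2,3,5,6,3,4,1,2,3,6,1,0,5,6,3,4,1,2,3,6,3,4,3,2,3,5,0]))) (.node (.node (.word [1,3,2,1,6,3,2,1,3,2,3,5,4,2,3,1,2,3,6,4,2,3,5,1,0,1,3,2,3,5,6,3,2,3,5,6,3,4,1,2,3,6,1,0,5,6,3,2,1,4,3,6,2,3,2,3,6,2,3,4,1,2,4,1,2,3,6,3,4,3,2,3,5,0,5,6,3,4,1,2,3,6,3,4,3,2,3,5,0])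 (.word [1,5,3,2,4,3,2,1,3,5,6,3,4,2,3,5,3,1,2,3,4,2,3,2,0,5,6,3,2,1,4,3,6,2,3,2,3,6,2,3,4,1,2,3,6,5,1,2,3,5,3,2,1,0,3,5,6,3,2,3,6,4,3,2,3,1,2,3,5,6,3,4,0,1,3,2,3,5,6,3,2,3,5,6,3,4,1,2,3,6,1,0,5,6,3,4,1,2,3,6,3,4,3,2,3,5,0])) (.node (.word [1,3,2,1,6,3,2,1,3,2,3,5,4,2,3,1,2,3,6,4,2,3,5,1,5,6,3,4,1,2,3,6,3,4,3,2,3,5,0,5,6,3,4,1,2,3,6,3,4,3,2,3,5,1,3,2,3,5,6,3,2,3,5,6,3,4,1,2,3,6,1,0]) (.word [5,6,3,4,1,2,3,6,3,4,3,2,3,5,1,3,2,3,5,6,3,2,3,5,6,3,4,1,2,3,6,3,2,3,5,6,3,2,3,5,6,3,4,1,2,3,6,1,0,1,3,2,1,6,3,2,1,3,2,3,5,4,2,3,1,2,3,6,4,2,3,5,1,5,6,3,4,1,2,3,6,3,4,3,2,3,5,0]))))) (.node (.node (.node (.node .none (.word [2,1,6,3,2,3,1,2,3,4,2,3,6,1,2,3,5,6,3,2,0,1,5,3,2,4,3,2,1,3,5,6,3,4,2,3,5,3,1,2,3,4,2,3,2,0,1,5,3,2,4,3,2,1,3,5,6,3,4,2,3,5,3,1,2,3,4,2,3,2,0,5,6,3,4,1,2,3,6,3,4,3,2,3,5,0]))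 (.node (.word [1,2,3,5,3,2,1,0,3,5,6,3,2,3,6,4,3,2,3,1,2,3,5,6,3,4,1,2,3,5,3,2,1,0,3,5,6,3,2,3,6,4,3,2,3,1,2,3,5,6,3,4,5,6,3,4,1,2,3,6,3,4,3,2,3,5,1,3,2,3,5,6,3,2,3,5,6,3,4,1,2,3,6,3,2,3,5,6,3,2,3,5,6,3,4,1,2,3,6,1,0]) (.word [1,5,3,2,4,3,2,1,3,5,6,3,4,2,3,5,3,1,2,3,4,2,3,2,0,5,6,3,2,1,4,3,6,2,3,2,3,6,2,3,4,1,2,4,1,2,3,6,3,4,3,2,3,5,0,1,5,3,2,4,3,2,1,3,5,6,3,4,2,3,5,3,1,2,3,4,2,3,2,1,3,2,3,5,6,3,2,3,5,6,3,4,1,2,3,6,1,0]))) (.node (.node (.word [1,5,3,2,4,3,2,1,3,5,6,3,4,2,3,5,3,1,2,3,4,2,3,2,0,1,5,3,2,4,3,2,1,3,5,6,3,4,2,3,5,3,1,2,3,4,2,3,2,0,5,6,3,4,1,2,3,6,3,4,3,2,3,5,0,1,5,3,2,4,3,2,1,3,5,6,3,4,2,3,5,3,1,2,3,4,2,3,2,0,5,6,3,4,1,2,3,6,3,4,3,2,3,5,0,5,6,3,4,1,2,3,6,3,4,3,2,3,5,0])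 (.word [1,5,3,2,4,3,2,1,3,5,6,3,4,2,3,5,3,1,2,3,4,2,3,2,0,5,6,3,4,1,2,3,6,3,4,3,2,3,5,0,1,3,2,1,6,3,2,1,3,2,3,5,4,2,3,1,2,3,6,4,2,3,5,2,3,5,3,2,1,0,3,5,6,3,2,3,6,4,3,2,3,1,2,3,5,6,3,4,5,6,3,4,1,2,3,6,3,4,3,2,3,5,0,5,6,3,4,1,2,3,6,3,4,3,2,3,5,0])) .none)) (.node (.node (.node (.word [5,6,3,2,1,4,3,6,2,3,2,3,6,2,3,4,1,2,3,6,5,1,2,3,5,3,2,1,0,3,5,6,3,2,3,6,4,3,2,3,1,2,3,5,6,3,4,1,3,2,1,6,3,2,1,3,2,3,5,4,2,3,1,2,3,6,4,2,3,5,1,0,1,3,2,3,5,6,3,2,3,5,6,3,4,1,2,3,6,3,2,3,5,6,3,2,3,5,6,3,4,1,2,3,6,1,0]) (.word [5,6,3,2,1,4,3,6,2,3,2,3,6,2,3,4,1,2,3,6,5,0,1,3,2,3,5,6,3,2,3,5,6,3,4,1,2,3,6,1,0,5,6,3,4,1,2,3,6,3,4,3,2,3,5,0,5,6,3,4,1,2,3,6,3,4,3,2,3,5,0,5,6,3,4,1,2,3,6,3,4,3,2,3,5,0]))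 (.word [5,6,3,2,1,4,3,6,2,3,2,3,6,2,3,4,1,2,3,6,5,1,2,3,5,3,2,1,0,3,5,6,3,2,3,6,4,3,2,3,1,2,3,5,6,3,4,5,6,3,4,1,2,3,6,3,4,3,2,3,5,0,1,3,2,1,6,3,2,1,3,2,3,5,4,2,3,1,2,3,6,4,2,3,5,1,0,1,3,2,3,5,6,3,2,3,5,6,3,4,1,2,3,6,1,0,5,6,3,4,1,2,3,6,3,4,3,2,3,5,0])) (.node (.node .none (.word [0,1,3,2,3,5,6,3,2,3,5,6,3,4,1,2,3,6,1,0,5,6,3,4,1,2,3,6,3,4,3,2,3,5,0,2,1,6,3,2,3,1,2,3,4,2,3,6,1,2,3,5,6,3,2,0,1,5,3,2,4,3,2,1,3,5,6,3,4,2,3,5,3,1,2,3,4,2,3,2,0,5,6,3,4,1,2,3,6,3,4,3,2,3,5,0])) (.word [1,2,3,5,3,2,1,0,3,5,6,3,2,3,6,4,3,2,3,1,2,3,5,6,3,4,0,1,3,2,3,5,6,3,2,3,5,6,3,4,1,2,3,6,1,0,5,6,3,2,1,4,3,6,2,3,2,3,6,2,3,4,1,2,3,6,5,1,2,3,5,3,2,1,0,3,5,6,3,2,3,6,4,3,2,3,1,2,3,5,6,3,4,0,1,3,2,3,5,6,3,2,3,5,6,3,4,1,2,3,6,1,0,5,6,3,4,1,2,3,6,3,4,3,2,3,5,0])))))))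

/-- A subtree. -/
def sub28 : WTree :=
  (.node (.node (.node (.node (.node (.node (.node .none (.word [1,3,2,1,6,3,2,1,3,2,3,5,4,2,3,1,2,3,6,4,2,3,5,2,3,5,3,2,1,0,3,5,6,3,2,3,6,4,3,2,3,1,2,3,5,6,3,4,5,6,3,4,1,2,3,6,3,4,3,2,3,5,0,5,6,3,4,1,2,3,6,3,4,3,2,3,5,0,5,6,3,4,1,2,3,6,3,4,3,2,3,5,0])) (.node (.word [1,5,3,2,4,3,2,1,3,5,6,3,4,2,3,5,3,1,2,3,4,2,3,2,0,1,5,3,2,4,3,2,1,3,5,6,3,4,2,3,5,3,1,2,3,4,2,3,2,0,1,2,3,5,3,2,1,0,3,5,6,3,2,3,6,4,3,2,3,1,2,3,5,6,3,4,1,2,3,5,3,2,1,0,3,5,6,3,2,3,6,4,3,2,3,1,2,3,5,6,3,4,5,6,3,4,1,2,3,6,3,4,3,2,3,5,0,5,6,3,4,1,2,3,6,3,4,3,2,3,5,0]) (.word [5,6,3,4,1,2,3,6,3,4,3,2,3,5,0,5,6,3,4,1,2,3,6,3,4,3,2,3,5,0,5,6,3,4,1,2,3,6,3,4,3,2,3,5,0,1,2,3,5,3,2,1,0,3,5,6,3,2,3,6,4,3,2,3,1,2,3,5,6,3,4,5,6,3,4,1,2,3,6,3,4,3,2,3,5,0])))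 (.node (.node (.word [1,3,2,1,6,3,2,1,3,2,3,5,4,2,3,1,2,3,6,4,2,3,5,2,3,5,3,2,1,0,3,5,6,3,2,3,6,4,3,2,3,1,2,3,5,6,3,4,0,1,3,2,3,5,6,3,2,3,5,6,3,4,1,2,3,6,1,0,1,3,2,1,6,3,2,1,3,2,3,5,4,2,3,1,2,3,6,4,2,3,5,1,0,1,3,2,3,5,6,3,2,3,5,6,3,4,1,2,3,6,1,0]) (.word [5,6,3,2,1,4,3,6,2,3,2,3,6,2,3,4,1,2,4,1,2,3,6,3,4,3,2,3,5,0,1,3,2,1,6,3,2,1,3,2,3,5,4,2,3,1,2,3,6,4,2,3,5,1,5,6,3,4,1,2,3,6,3,4,3,2,3,5,0])) (.node (.word [5,6,3,4,1,2,3,6,3,4,3,2,3,5,0,1,5,3,2,4,3,2,1,3,5,6,3,4,2,3,5,3,1,2,3,4,2,3,2,1,3,2,3,5,6,3,2,3,5,6,3,4,1,2,3,6,1,0,1,5,3,2,4,3,2,1,3,5,6,3,4,2,3,5,3,1,2,3,4,2,3,2,0,5,6,3,4,1,2,3,6,3,4,3,2,3,5,0]) (.word [0,1,3,2,3,5,6,3,2,3,5,6,3,4,1,2,3,6,3,2,3,5,6,3,2,3,5,6,3,4,1,2,3,6,1,0,5,6,3,4,1,2,3,6,3,4,3,2,3,5,0,1,3,2,1,6,3,2,1,3,2,3,5,4,2,3,1,2,3,6,4,2,3,5,2,3,5,3,2,1,0,3,5,6,3,2,3,6,4,3,2,3,1,2,3,5,6,3,4,5,6,3,4,1,2,3,6,3,4,3,2,3,5,0]))))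 (.node (.node (.node (.word [1,3,2,1,6,3,2,1,3,2,3,5,4,2,3,1,2,3,6,4,2,3,5,1,0,1,3,2,3,5,6,3,2,3,5,6,3,4,1,2,3,6,3,2,3,5,6,3,2,3,5,6,3,4,1,2,3,6,3,2,3,5,6,3,2,3,5,6,3,4,1,2,3,6,1,0,5,6,3,4,1,2,3,6,3,4,3,2,3,5,0,5,6,3,4,1,2,3,6,3,4,3,2,3,5,0]) (.word [1,2,3,5,3,2,1,0,3,5,6,3,2,3,6,4,3,2,3,1,2,3,5,6,3,4,5,6,3,4,1,2,3,6,3,4,3,2,3,5,0,2,1,6,3,2,3,1,2,3,4,2,3,6,1,2,3,5,6,3,2,0,1,5,3,2,4,3,2,1,3,5,6,3,4,2,3,5,3,1,2,3,4,2,3,2,0,5,6,3,4,1,2,3,6,3,4,3,2,3,5,0,5,6,3,4,1,2,3,6,3,4,3,2,3,5,0])) (.word [1,2,3,5,3,2,1,0,3,5,6,3,2,3,6,4,3,2,3,1,2,3,5,6,3,4,5,6,3,4,1,2,3,6,3,4,3,2,3,5,0,5,6,3,4,1,2,3,6,3,4,3,2,3,5,0,5,6,3,4,1,2,3,6,3,4,3,2,3,5,1,3,2,3,5,6,3,2,3,5,6,3,4,1,2,3,6,1,0])) (.node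 (.node (.word [1,2,3,5,3,2,1,0,3,5,6,3,2,3,6,4,3,2,3,1,2,3,5,6,3,4,1,5,3,2,4,3,2,1,3,5,6,3,4,2,3,5,3,1,2,3,4,2,3,2,0,1,2,3,5,3,2,1,0,3,5,6,3,2,3,6,4,3,2,3,1,2,3,5,6,3,4,0,1,3,2,3,5,6,3,2,3,5,6,3,4,1,2,3,6,1,0,5,6,3,4,1,2,3,6,3,4,3,2,3,5,0]) (.word [0,1,3,2,3,5,6,3,2,3,5,6,3,4,1,2,3,6,1,0,2,1,6,3,2,3,1,2,3,4,2,3,6,1,2,3,5,6,3,2,0,1,2,3,5,3,2,1,0,3,5,6,3,2,3,6,4,3,2,3,1,2,3,5,6,3,4,5,6,3,4,1,2,3,6,3,4,3,2,3,5,0])) (.node (.word [0,1,3,2,3,5,6,3,2,3,5,6,3,4,1,2,3,6,1,0,1,3,2,1,6,3,2,1,3,2,3,5,4,2,3,1,2,3,6,4,2,3,5,1,0,1,3,2,3,5,6,3,2,3,5,6,3,4,1,2,3,6,3,2,3,5,6,3,2,3,5,6,3,4,1,2,3,6,1,0]) (.word [1,2,3,5,3,2,1,0,3,5,6,3,2,3,6,4,3,2,3,1,2,3,5,6,3,4,1,3,2,1,6,3,2,1,3,2,3,5,4,2,3,1,2,3,6,4,2,3,5,1,5,6,3,4,1,2,3,6,3,4,3,2,3,5,1,3,2,3,5,6,3,2,3,5,6,3,4,1,2,3,6,1,0])))))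 (.node (.node (.node (.word [5,6,3,2,1,4,3,6,2,3,2,3,6,2,3,4,1,2,3,6,5,1,2,3,5,3,2,1,0,3,5,6,3,2,3,6,4,3,2,3,1,2,3,5,6,3,4,0,1,3,2,3,5,6,3,2,3,5,6,3,4,1,2,3,6,3,2,3,5,6,3,2,3,5,6,3,4,1,2,3,6,1,0]) (.node (.word [1,2,3,5,3,2,1,0,3,5,6,3,2,3,6,4,3,2,3,1,2,3,5,6,3,4,5,6,3,4,1,2,3,6,3,4,3,2,3,5,0,1,5,3,2,4,3,2,1,3,5,6,3,4,2,3,5,3,1,2,3,4,2,3,2,1,3,2,3,5,6,3,2,3,5,6,3,4,1,2,3,6,1,0,5,6,3,4,1,2,3,6,3,4,3,2,3,5,0]) (.word [0,1,3,2,3,5,6,3,2,3,5,6,3,4,1,2,3,6,1,0,5,6,3,2,1,4,3,6,2,3,2,3,6,2,3,4,1,2,3,6,5,1,2,3,5,3,2,1,0,3,5,6,3,2,3,6,4,3,2,3,1,2,3,5,6,3,4,5,6,3,4,1,2,3,6,3,4,3,2,3,5,1,3,2,3,5,6,3,2,3,5,6,3,4,1,2,3,6,1,0]))) (.node (.node (.word [1,3,2,1,6,3,2,1,3,2,3,5,4,2,3,1,2,3,6,4,2,3,5,1,0,1,3,2,3,5,6,3,2,3,5,6,3,4,1,2,3,6,1,0,5,6,3,4,1,2,3,6,3,4,3,2,3,5,0,5,6,3,4,1,2,3,6,3,4,3,2,3,5,1,3,2,3,5,6,3,2,3,5,6,3,4,1,2,3,6,1,0])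 (.word [0,1,3,2,3,5,6,3,2,3,5,6,3,4,1,2,3,6,1,0,1,3,2,1,6,3,2,1,3,2,3,5,4,2,3,1,2,3,6,4,2,3,5,2,3,5,3,2,1,0,3,5,6,3,2,3,6,4,3,2,3,1,2,3,5,6,3,4,0,1,3,2,3,5,6,3,2,3,5,6,3,4,1,2,3,6,1,0,5,6,3,4,1,2,3,6,3,4,3,2,3,5,0])) .none)) (.node (.node (.node .none (.word [5,6,3,2,1,4,3,6,2,3,2,3,6,2,3,4,1,2,3,6,5,0,1,3,2,3,5,6,3,2,3,5,6,3,4,1,2,3,6,1,0,1,5,3,2,4,3,2,1,3,5,6,3,4,2,3,5,3,1,2,3,4,2,3,2,0,1,5,3,2,4,3,2,1,3,5,6,3,4,2,3,5,3,1,2,3,4,2,3,2,0,5,6,3,4,1,2,3,6,3,4,3,2,3,5,0,5,6,3,4,1,2,3,6,3,4,3,2,3,5,0])) (.word [0,1,3,2,3,5,6,3,2,3,5,6,3,4,1,2,3,6,1,0,1,5,3,2,4,3,2,1,3,5,6,3,4,2,3,5,3,1,2,3,4,2,3,2,1,3,2,3,5,6,3,2,3,5,6,3,4,1,2,3,6,3,2,3,5,6,3,2,3,5,6,3,4,1,2,3,6,1,0,5,6,3,4,1,2,3,6,3,4,3,2,3,5,0]))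 (.node (.node .none (.word [2,1,6,3,2,3,1,2,3,4,2,3,6,1,2,3,5,6,3,2,0,1,3,2,1,6,3,2,1,3,2,3,5,4,2,3,1,2,3,6,3,2,1,3,5,6,3,4,2,3,5,3,1,2,3,4,2,3,2,0,5,6,3,4,1,2,3,6,3,4,3,2,3,5,0,5,6,3,4,1,2,3,6,3,4,3,2,3,5,0])) (.node .none (.word [0,1,3,2,3,5,6,3,2,3,5,6,3,4,1,2,3,6,3,2,3,5,6,3,2,3,5,6,3,4,1,2,3,6,1,0,1,2,3,5,3,2,1,0,3,5,6,3,2,3,6,4,3,2,3,1,2,3,5,6,3,4,0,1,3,2,3,5,6,3,2,3,5,6,3,4,1,2,3,6,1,0])))))) (.node (.node (.node (.node (.word [1,2,3,5,3,2,1,0,3,5,6,3,2,3,6,4,3,2,3,1,2,3,5,6,3,4,2,1,6,3,2,3,1,2,3,4,2,3,6,1,2,3,5,6,3,2,0,1,2,3,5,3,2,1,0,3,5,6,3,2,3,6,4,3,2,3,1,2,3,5,6,3,4,5,6,3,4,1,2,3,6,3,4,3,2,3,5,0]) (.word [5,6,3,4,1,2,3,6,3,4,3,2,3,5,1,3,2,3,5,6,3,2,3,5,6,3,4,1,2,3,6,1,0,1,3,2,1,6,3,2,1,3,2,3,5,4,2,3,1,2,3,6,4,2,3,5,1,5,6,3,2,1,4,3,6,2,3,2,3,6,2,3,4,1,2,4,1,2,3,6,3,4,3,2,3,5,0,5,6,3,4,1,2,3,6,3,4,3,2,3,5,0]))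 .none) (.node (.node (.node .none (.word [5,6,3,4,1,2,3,6,3,4,3,2,3,5,0,1,3,2,1,6,3,2,1,3,2,3,5,4,2,3,1,2,3,6,3,2,1,3,5,6,3,4,2,3,5,3,1,2,3,4,2,3,2,0,5,6,3,4,1,2,3,6,3,4,3,2,3,5,0,5,6,3,4,1,2,3,6,3,4,3,2,3,5,0,5,6,3,4,1,2,3,6,3,4,3,2,3,5,0])) (.word [1,5,3,2,4,3,2,1,3,5,6,3,4,2,3,5,3,1,2,3,4,2,3,2,0,1,5,3,2,4,3,2,1,3,5,6,3,4,2,3,5,3,1,2,3,4,2,3,2,0,5,6,3,4,1,2,3,6,3,4,3,2,3,5,1,3,2,3,5,6,3,2,3,5,6,3,4,1,2,3,6,1,0])) (.node (.node (.word [5,6,3,4,1,2,3,6,3,4,3,2,3,5,1,3,2,3,5,6,3,2,3,5,6,3,4,1,2,3,6,1,0,1,3,2,1,6,3,2,1,3,2,3,5,4,2,3,1,2,3,6,4,2,3,5,1,5,6,3,2,1,4,3,6,2,3,2,3,6,2,3,4,1,2,4,1,2,3,6,3,4,3,2,3,5,0]) (.word [2,1,6,3,2,3,1,2,3,4,2,3,6,1,2,3,5,6,3,2,0,5,6,3,2,1,4,3,6,2,3,2,3,6,2,3,4,1,2,3,6,5,0,1,3,2,3,5,6,3,2,3,5,6,3,4,1,2,3,6,3,2,3,5,6,3,2,3,5,6,3,4,1,2,3,6,1,0]))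 (.node (.word [1,5,3,2,4,3,2,1,3,5,6,3,4,2,3,5,3,1,2,3,4,2,3,2,0,1,2,3,5,3,2,1,0,3,5,6,3,2,3,6,4,3,2,3,1,2,3,5,6,3,4,0,1,3,2,3,5,6,3,2,3,5,6,3,4,1,2,3,6,3,2,3,5,6,3,2,3,5,6,3,4,1,2,3,6,1,0]) (.word [5,6,3,2,1,4,3,6,2,3,2,3,6,2,3,4,1,2,3,6,5,1,2,3,5,3,2,1,0,3,5,6,3,2,3,6,4,3,2,3,1,2,3,5,6,3,4,0,1,3,2,3,5,6,3,2,3,5,6,3,4,1,2,3,6,1,0,2,1,6,3,2,3,1,2,3,4,2,3,6,1,2,3,5,6,3,2,0,5,6,3,4,1,2,3,6,3,4,3,2,3,5,0]))))) (.node (.node (.node (.node (.word [0,1,3,2,3,5,6,3,2,3,5,6,3,4,1,2,3,6,1,0,5,6,3,4,1,2,3,6,3,4,3,2,3,5,1,3,2,3,5,6,3,2,3,5,6,3,4,1,2,3,6,1,0,5,6,3,4,1,2,3,6,3,4,3,2,3,5,0,5,6,3,4,1,2,3,6,3,4,3,2,3,5,0,5,6,3,4,1,2,3,6,3,4,3,2,3,5,0]) (.word [0,1,3,2,3,5,6,3,2,3,5,6,3,4,1,2,3,6,1,0,1,5,3,2,4,3,2,1,3,5,6,3,4,2,3,5,3,1,2,3,4,2,3,2,0,2,1,6,3,2,3,1,2,3,4,2,3,6,1,2,3,5,6,3,2,0,1,2,3,5,3,2,1,0,3,5,6,3,2,3,6,4,3,2,3,1,2,3,5,6,3,4,5,6,3,4,1,2,3,6,3,4,3,2,3,5,0,5,6,3,4,1,2,3,6,3,4,3,2,3,5,0]))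 (.node (.word [0,1,3,2,3,5,6,3,2,3,5,6,3,4,1,2,3,6,1,0,5,6,3,2,1,4,3,6,2,3,2,3,6,2,3,4,1,2,3,6,5,1,2,3,5,3,2,1,0,3,5,6,3,2,3,6,4,3,2,3,1,2,3,5,6,3,4,0,1,3,2,3,5,6,3,2,3,5,6,3,4,1,2,3,6,1,0]) (.word [1,5,3,2,4,3,2,1,3,5,6,3,4,2,3,5,3,1,2,3,4,2,3,2,1,3,2,3,5,6,3,2,3,5,6,3,4,1,2,3,6,1,0,1,3,2,1,6,3,2,1,3,2,3,5,4,2,3,1,2,3,6,4,2,3,5,1,0,1,3,2,3,5,6,3,2,3,5,6,3,4,1,2,3,6,1,0,5,6,3,4,1,2,3,6,3,4,3,2,3,5,0]))) (.node (.word [1,5,3,2,4,3,2,1,3,5,6,3,4,2,3,5,3,1,2,3,4,2,3,2,0,5,6,3,4,1,2,3,6,3,4,3,2,3,5,1,3,2,3,5,6,3,2,3,5,6,3,4,1,2,3,6,1,0,1,2,3,5,3,2,1,0,3,5,6,3,2,3,6,4,3,2,3,1,2,3,5,6,3,4,1,2,3,5,3,2,1,0,3,5,6,3,2,3,6,4,3,2,3,1,2,3,5,6,3,4,5,6,3,4,1,2,3,6,3,4,3,2,3,5,0]) (.node (.word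 [5,6,3,4,1,2,3,6,3,4,3,2,3,5,1,3,2,3,5,6,3,2,3,5,6,3,4,1,2,3,6,1,0,1,5,3,2,4,3,2,1,3,5,6,3,4,2,3,5,3,1,2,3,4,2,3,2,0,1,3,2,1,6,3,2,1,3,2,3,5,4,2,3,1,2,3,6,4,2,3,5,1,5,6,3,4,1,2,3,6,3,4,3,2,3,5,0]) (.word [1,2,3,5,3,2,1,0,3,5,6,3,2,3,6,4,3,2,3,1,2,3,5,6,3,4,0,1,3,2,3,5,6,3,2,3,5,6,3,4,1,2,3,6,1,0,5,6,3,4,1,2,3,6,3,4,3,2,3,5,1,3,2,3,5,6,3,2,3,5,6,3,4,1,2,3,6,1,0,5,6,3,4,1,2,3,6,3,4,3,2,3,5,0])))) (.node (.node .none (.node (.word [1,2,3,5,3,2,1,0,3,5,6,3,2,3,6,4,3,2,3,1,2,3,5,6,3,4,1,2,3,5,3,2,1,0,3,5,6,3,2,3,6,4,3,2,3,1,2,3,5,6,3,4,5,6,3,4,1,2,3,6,3,4,3,2,3,5,0,5,6,3,4,1,2,3,6,3,4,3,2,3,5,0]) (.word [0,1,3,2,3,5,6,3,2,3,5,6,3,4,1,2,3,6,3,2,3,5,6,3,2,3,5,6,3,4,1,2,3,6,1,0,2,1,6,3,2,3,1,2,3,4,2,3,6,1,2,3,5,6,3,2,1,3,2,3,5,6,3,2,3,5,6,3,4,1,2,3,6,1,0])))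 (.node (.node .none (.word [0,1,3,2,3,5,6,3,2,3,5,6,3,4,1,2,3,6,1,0,5,6,3,2,1,4,3,6,2,3,2,3,6,2,3,4,1,2,3,6,5,1,3,2,1,6,3,2,1,3,2,3,5,4,2,3,1,2,3,6,4,2,3,5,2,3,5,3,2,1,0,3,5,6,3,2,3,6,4,3,2,3,1,2,3,5,6,3,4,5,6,3,4,1,2,3,6,3,4,3,2,3,5,0])) (.word [0,1,3,2,3,5,6,3,2,3,5,6,3,4,1,2,3,6,1,0,1,5,3,2,4,3,2,1,3,5,6,3,4,2,3,5,3,1,2,3,4,2,3,2,0,5,6,3,2,1,4,3,6,2,3,2,3,6,2,3,4,1,2,4,1,2,3,6,3,4,3,2,3,5,1,3,2,3,5,6,3,2,3,5,6,3,4,1,2,3,6,1,0])))))) (.node (.node (.node (.node (.node (.node (.word [0,1,3,2,3,5,6,3,2,3,5,6,3,4,1,2,3,6,1,0,5,6,3,2,1,4,3,6,2,3,2,3,6,2,3,4,1,2,3,6,5,1,2,3,5,3,2,1,0,3,5,6,3,2,3,6,4,3,2,3,1,2,3,5,6,3,4,5,6,3,4,1,2,3,6,3,4,3,2,3,5,0]) (.word [5,6,3,4,1,2,3,6,3,4,3,2,3,5,1,3,2,3,5,6,3,2,3,5,6,3,4,1,2,3,6,1,0,1,3,2,1,6,3,2,1,3,2,3,5,4,2,3,1,2,3,6,4,2,3,5,1,0,1,3,2,3,5,6,3,2,3,5,6,3,4,1,2,3,6,3,2,3,5,6,3,2,3,5,6,3,4,1,2,3,6,1,0]))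 (.node .none (.word [1,5,3,2,4,3,2,1,3,5,6,3,4,2,3,5,3,1,2,3,4,2,3,2,0,1,5,3,2,4,3,2,1,3,5,6,3,4,2,3,5,3,1,2,3,4,2,3,2,1,3,2,3,5,6,3,2,3,5,6,3,4,1,2,3,6,1,0]))) (.node (.node (.word [2,1,6,3,2,3,1,2,3,4,2,3,6,1,2,3,5,6,3,2,0,5,6,3,4,1,2,3,6,3,4,3,2,3,5,0,1,2,3,5,3,2,1,0,3,5,6,3,2,3,6,4,3,2,3,1,2,3,5,6,3,4,0,1,3,2,3,5,6,3,2,3,5,6,3,4,1,2,3,6,3,2,3,5,6,3,2,3,5,6,3,4,1,2,3,6,1,0]) (.word [1,3,2,1,6,3,2,1,3,2,3,5,4,2,3,1,2,3,6,4,2,3,5,1,5,6,3,4,1,2,3,6,3,4,3,2,3,5,0,5,6,3,4,1,2,3,6,3,4,3,2,3,5,0,1,3,2,1,6,3,2,1,3,2,3,5,4,2,3,1,2,3,6,3,2,1,3,5,6,3,4,2,3,5,3,1,2,3,4,2,3,2,0,5,6,3,4,1,2,3,6,3,4,3,2,3,5,0])) .none)) (.node (.node (.node (.word [1,3,2,1,6,3,2,1,3,2,3,5,4,2,3,1,2,3,6,4,2,3,5,2,3,5,3,2,1,0,3,5,6,3,2,3,6,4,3,2,3,1,2,3,5,6,3,4,1,5,3,2,4,3,2,1,3,5,6,3,4,2,3,5,3,1,2,3,4,2,3,2,0,1,2,3,5,3,2,1,0,3,5,6,3,2,3,6,4,3,2,3,1,2,3,5,6,3,4,0,1,3,2,3,5,6,3,2,3,5,6,3,4,1,2,3,6,1,0,5,6,3,4,1,2,3,6,3,4,3,2,3,5,0])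 (.word [0,1,3,2,3,5,6,3,2,3,5,6,3,4,1,2,3,6,1,0,5,6,3,2,1,4,3,6,2,3,2,3,6,2,3,4,1,2,4,1,2,3,6,3,4,3,2,3,5,0,2,1,6,3,2,3,1,2,3,4,2,3,6,1,2,3,5,6,3,2,1,3,2,3,5,6,3,2,3,5,6,3,4,1,2,3,6,1,0])) (.word [5,6,3,4,1,2,3,6,3,4,3,2,3,5,0,5,6,3,4,1,2,3,6,3,4,3,2,3,5,0,1,2,3,5,3,2,1,0,3,5,6,3,2,3,6,4,3,2,3,1,2,3,5,6,3,4,1,5,3,2,4,3,2,1,3,5,6,3,4,2,3,5,3,1,2,3,4,2,3,2,0,5,6,3,4,1,2,3,6,3,4,3,2,3,5,0])) (.node (.node (.word [1,2,3,5,3,2,1,0,3,5,6,3,2,3,6,4,3,2,3,1,2,3,5,6,3,4,1,5,3,2,4,3,2,1,3,5,6,3,4,2,3,5,3,1,2,3,4,2,3,2,0,5,6,3,2,1,4,3,6,2,3,2,3,6,2,3,4,1,2,3,6,5,0,1,3,2,3,5,6,3,2,3,5,6,3,4,1,2,3,6,1,0,5,6,3,4,1,2,3,6,3,4,3,2,3,5,0]) (.word [5,6,3,2,1,4,3,6,2,3,2,3,6,2,3,4,1,2,3,6,5,1,2,3,5,3,2,1,0,3,5,6,3,2,3,6,4,3,2,3,1,2,3,5,6,3,4,0,1,3,2,3,5,6,3,2,3,5,6,3,4,1,2,3,6,1,0]))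 (.word [2,1,6,3,2,3,1,2,3,4,2,3,6,1,2,3,5,6,3,2,1,3,2,3,5,6,3,2,3,5,6,3,4,1,2,3,6,3,2,3,5,6,3,2,3,5,6,3,4,1,2,3,6,1,0,1,2,3,5,3,2,1,0,3,5,6,3,2,3,6,4,3,2,3,1,2,3,5,6,3,4,0,1,3,2,3,5,6,3,2,3,5,6,3,4,1,2,3,6,1,0])))) (.node (.node (.node (.node .none (.word [1,3,2,1,6,3,2,1,3,2,3,5,4,2,3,1,2,3,6,4,2,3,5,1,5,6,3,4,1,2,3,6,3,4,3,2,3,5,0,5,6,3,4,1,2,3,6,3,4,3,2,3,5,0,1,2,3,5,3,2,1,0,3,5,6,3,2,3,6,4,3,2,3,1,2,3,5,6,3,4,5,6,3,4,1,2,3,6,3,4,3,2,3,5,1,3,2,3,5,6,3,2,3,5,6,3,4,1,2,3,6,1,0])) (.node (.word [0,1,3,2,3,5,6,3,2,3,5,6,3,4,1,2,3,6,1,0,1,3,2,1,6,3,2,1,3,2,3,5,4,2,3,1,2,3,6,4,2,3,5,1,0,1,3,2,3,5,6,3,2,3,5,6,3,4,1,2,3,6,3,2,3,5,6,3,2,3,5,6,3,4,1,2,3,6,1,0,5,6,3,4,1,2,3,6,3,4,3,2,3,5,0])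 (.word [1,5,3,2,4,3,2,1,3,5,6,3,4,2,3,5,3,1,2,3,4,2,3,2,0,2,1,6,3,2,3,1,2,3,4,2,3,6,1,2,3,5,6,3,2,0,5,6,3,2,1,4,3,6,2,3,2,3,6,2,3,4,1,2,3,6,5,1,2,3,5,3,2,1,0,3,5,6,3,2,3,6,4,3,2,3,1,2,3,5,6,3,4,5,6,3,4,1,2,3,6,3,4,3,2,3,5,0,5,6,3,4,1,2,3,6,3,4,3,2,3,5,0]))) (.node (.node .none (.word [5,6,3,4,1,2,3,6,3,4,3,2,3,5,0,5,6,3,2,1,4,3,6,2,3,2,3,6,2,3,4,1,2,3,6,5,0,1,3,2,3,5,6,3,2,3,5,6,3,4,1,2,3,6,1,0,5,6,3,4,1,2,3,6,3,4,3,2,3,5,0])) (.node .none (.word [1,2,3,5,3,2,1,0,3,5,6,3,2,3,6,4,3,2,3,1,2,3,5,6,3,4,1,5,3,2,4,3,2,1,3,5,6,3,4,2,3,5,3,1,2,3,4,2,3,2,0,5,6,3,4,1,2,3,6,3,4,3,2,3,5,0])))) (.node (.node (.node (.word [1,5,3,2,4,3,2,1,3,5,6,3,4,2,3,5,3,1,2,3,4,2,3,2,0,5,6,3,4,1,2,3,6,3,4,3,2,3,5,0,1,2,3,5,3,2,1,0,3,5,6,3,2,3,6,4,3,2,3,1,2,3,5,6,3,4,5,6,3,4,1,2,3,6,3,4,3,2,3,5,0,5,6,3,4,1,2,3,6,3,4,3,2,3,5,0])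 (.word [1,5,3,2,4,3,2,1,3,5,6,3,4,2,3,5,3,1,2,3,4,2,3,2,0,1,5,3,2,4,3,2,1,3,5,6,3,4,2,3,5,3,1,2,3,4,2,3,2,0,1,2,3,5,3,2,1,0,3,5,6,3,2,3,6,4,3,2,3,1,2,3,5,6,3,4,5,6,3,4,1,2,3,6,3,4,3,2,3,5,0,5,6,3,4,1,2,3,6,3,4,3,2,3,5,0])) (.word [5,6,3,4,1,2,3,6,3,4,3,2,3,5,0,5,6,3,4,1,2,3,6,3,4,3,2,3,5,0,1,5,3,2,4,3,2,1,3,5,6,3,4,2,3,5,3,1,2,3,4,2,3,2,0,5,6,3,4,1,2,3,6,3,4,3,2,3,5,0])) (.node (.node .none (.word [5,6,3,4,1,2,3,6,3,4,3,2,3,5,0,5,6,3,2,1,4,3,6,2,3,2,3,6,2,3,4,1,2,4,1,2,3,6,3,4,3,2,3,5,0,5,6,3,4,1,2,3,6,3,4,3,2,3,5,0])) (.word [5,6,3,4,1,2,3,6,3,4,3,2,3,5,1,3,2,3,5,6,3,2,3,5,6,3,4,1,2,3,6,3,2,3,5,6,3,2,3,5,6,3,4,1,2,3,6,1,0]))))) (.node (.node (.node (.node (.word [5,6,3,4,1,2,3,6,3,4,3,2,3,5,0,1,2,3,5,3,2,1,0,3,5,6,3,2,3,6,4,3,2,3,1,2,3,5,6,3,4,5,6,3,4,1,2,3,6,3,4,3,2,3,5,0,5,6,3,4,1,2,3,6,3,4,3,2,3,5,0,5,6,3,4,1,2,3,6,3,4,3,2,3,5,0])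 (.word [1,2,3,5,3,2,1,0,3,5,6,3,2,3,6,4,3,2,3,1,2,3,5,6,3,4,5,6,3,4,1,2,3,6,3,4,3,2,3,5,0,1,5,3,2,4,3,2,1,3,5,6,3,4,2,3,5,3,1,2,3,4,2,3,2,0,1,2,3,5,3,2,1,0,3,5,6,3,2,3,6,4,3,2,3,1,2,3,5,6,3,4,5,6,3,4,1,2,3,6,3,4,3,2,3,5,0,5,6,3,4,1,2,3,6,3,4,3,2,3,5,0])) (.node (.word [1,3,2,1,6,3,2,1,3,2,3,5,4,2,3,1,2,3,6,4,2,3,5,1,0,1,3,2,3,5,6,3,2,3,5,6,3,4,1,2,3,6,1,0,1,2,3,5,3,2,1,0,3,5,6,3,2,3,6,4,3,2,3,1,2,3,5,6,3,4,5,6,3,2,1,4,3,6,2,3,2,3,6,2,3,4,1,2,4,1,2,3,6,3,4,3,2,3,5,0]) (.node (.word [1,2,3,5,3,2,1,0,3,5,6,3,2,3,6,4,3,2,3,1,2,3,5,6,3,4,1,2,3,5,3,2,1,0,3,5,6,3,2,3,6,4,3,2,3,1,2,3,5,6,3,4,5,6,3,4,1,2,3,6,3,4,3,2,3,5,1,3,2,3,5,6,3,2,3,5,6,3,4,1,2,3,6,1,0,5,6,3,4,1,2,3,6,3,4,3,2,3,5,0])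 (.word [1,2,3,5,3,2,1,0,3,5,6,3,2,3,6,4,3,2,3,1,2,3,5,6,3,4,1,5,3,2,4,3,2,1,3,5,6,3,4,2,3,5,3,1,2,3,4,2,3,2,0,5,6,3,4,1,2,3,6,3,4,3,2,3,5,0,5,6,3,4,1,2,3,6,3,4,3,2,3,5,0])))) (.node (.node (.word [5,6,3,4,1,2,3,6,3,4,3,2,3,5,1,3,2,3,5,6,3,2,3,5,6,3,4,1,2,3,6,1,0,5,6,3,4,1,2,3,6,3,4,3,2,3,5,0,1,2,3,5,3,2,1,0,3,5,6,3,2,3,6,4,3,2,3,1,2,3,5,6,3,4,5,6,3,4,1,2,3,6,3,4,3,2,3,5,0]) (.word [5,6,3,2,1,4,3,6,2,3,2,3,6,2,3,4,1,2,3,6,5,1,3,2,1,6,3,2,1,3,2,3,5,4,2,3,1,2,3,6,3,2,1,3,5,6,3,4,2,3,5,3,1,2,3,4,2,3,2,0,5,6,3,4,1,2,3,6,3,4,3,2,3,5,0,5,6,3,4,1,2,3,6,3,4,3,2,3,5,0])) (.node (.node .none (.word [1,2,3,5,3,2,1,0,3,5,6,3,2,3,6,4,3,2,3,1,2,3,5,6,3,4,1,5,3,2,4,3,2,1,3,5,6,3,4,2,3,5,3,1,2,3,4,2,3,2,0,5,6,3,4,1,2,3,6,3,4,3,2,3,5,0,1,5,3,2,4,3,2,1,3,5,6,3,4,2,3,5,3,1,2,3,4,2,3,2,1,3,2,3,5,6,3,2,3,5,6,3,4,1,2,3,6,1,0]))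 .none))) (.node (.node (.node (.word [1,2,3,5,3,2,1,0,3,5,6,3,2,3,6,4,3,2,3,1,2,3,5,6,3,4,5,6,3,4,1,2,3,6,3,4,3,2,3,5,0,5,6,3,4,1,2,3,6,3,4,3,2,3,5,1,3,2,3,5,6,3,2,3,5,6,3,4,1,2,3,6,3,2,3,5,6,3,2,3,5,6,3,4,1,2,3,6,1,0]) (.node .none (.word [1,2,3,5,3,2,1,0,3,5,6,3,2,3,6,4,3,2,3,1,2,3,5,6,3,4,2,1,6,3,2,3,1,2,3,4,2,3,6,1,2,3,5,6,3,2,0,5,6,3,2,1,4,3,6,2,3,2,3,6,2,3,4,1,2,3,6,5,0,1,3,2,3,5,6,3,2,3,5,6,3,4,1,2,3,6,3,2,3,5,6,3,2,3,5,6,3,4,1,2,3,6,1,0]))) (.node (.node (.word [5,6,3,4,1,2,3,6,3,4,3,2,3,5,0,1,5,3,2,4,3,2,1,3,5,6,3,4,2,3,5,3,1,2,3,4,2,3,2,0,5,6,3,4,1,2,3,6,3,4,3,2,3,5,0,5,6,3,4,1,2,3,6,3,4,3,2,3,5,0]) (.word [2,1,6,3,2,3,1,2,3,4,2,3,6,1,2,3,5,6,3,2,1,3,2,3,5,6,3,2,3,5,6,3,4,1,2,3,6,1,0,1,5,3,2,4,3,2,1,3,5,6,3,4,2,3,5,3,1,2,3,4,2,3,2,1,3,2,3,5,6,3,2,3,5,6,3,4,1,2,3,6,1,0,5,6,3,4,1,2,3,6,3,4,3,2,3,5,0]))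 (.node (.word [1,5,3,2,4,3,2,1,3,5,6,3,4,2,3,5,3,1,2,3,4,2,3,2,1,3,2,3,5,6,3,2,3,5,6,3,4,1,2,3,6,1,0,1,3,2,1,6,3,2,1,3,2,3,5,4,2,3,1,2,3,6,4,2,3,5,1,5,6,3,2,1,4,3,6,2,3,2,3,6,2,3,4,1,2,4,1,2,3,6,3,4,3,2,3,5,0]) (.word [1,5,3,2,4,3,2,1,3,5,6,3,4,2,3,5,3,1,2,3,4,2,3,2,0,5,6,3,2,1,4,3,6,2,3,2,3,6,2,3,4,1,2,4,1,2,3,6,3,4,3,2,3,5,1,3,2,3,5,6,3,2,3,5,6,3,4,1,2,3,6,1,0])))) (.node (.node .none (.word [1,5,3,2,4,3,2,1,3,5,6,3,4,2,3,5,3,1,2,3,4,2,3,2,0,5,6,3,2,1,4,3,6,2,3,2,3,6,2,3,4,1,2,3,6,5,1,5,3,2,4,3,2,1,3,5,6,3,4,2,3,5,3,1,2,3,4,2,3,2,0,5,6,3,4,1,2,3,6,3,4,3,2,3,5,1,3,2,3,5,6,3,2,3,5,6,3,4,1,2,3,6,1,0,5,6,3,4,1,2,3,6,3,4,3,2,3,5,0])) (.node (.word [5,6,3,4,1,2,3,6,3,4,3,2,3,5,0,1,3,2,1,6,3,2,1,3,2,3,5,4,2,3,1,2,3,6,4,2,3,5,1,5,6,3,4,1,2,3,6,3,4,3,2,3,5,1,3,2,3,5,6,3,2,3,5,6,3,4,1,2,3,6,1,0])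 (.word [0,1,3,2,3,5,6,3,2,3,5,6,3,4,1,2,3,6,1,0,1,5,3,2,4,3,2,1,3,5,6,3,4,2,3,5,3,1,2,3,4,2,3,2,0,1,5,3,2,4,3,2,1,3,5,6,3,4,2,3,5,3,1,2,3,4,2,3,2,0,5,6,3,4,1,2,3,6,3,4,3,2,3,5,1,3,2,3,5,6,3,2,3,5,6,3,4,1,2,3,6,1,0])))))))

/-- A subtree. -/
def sub29 : WTree :=
  (.node (.node sub25 sub26) (.node sub27 sub28))

/-- A subtree. -/
def sub30 : WTree :=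
  (.node (.node (.node (.node (.node (.node (.node (.word [1,5,3,2,4,3,2,1,3,5,6,3,4,2,3,5,3,1,2,3,4,2,3,2,0,5,6,3,2,1,4,3,6,2,3,2,3,6,2,3,4,1,2,3,6,5,1,5,3,2,4,3,2,1,3,5,6,3,4,2,3,5,3,1,2,3,4,2,3,2,1,3,2,3,5,6,3,2,3,5,6,3,4,1,2,3,6,1,0,5,6,3,4,1,2,3,6,3,4,3,2,3,5,0]) (.word [2,1,6,3,2,3,1,2,3,4,2,3,6,1,2,3,5,6,3,2,1,3,2,3,5,6,3,2,3,5,6,3,4,1,2,3,6,1,0,1,2,3,5,3,2,1,0,3,5,6,3,2,3,6,4,3,2,3,1,2,3,5,6,3,4,1,2,3,5,3,2,1,0,3,5,6,3,2,3,6,4,3,2,3,1,2,3,5,6,3,4,5,6,3,4,1,2,3,6,3,4,3,2,3,5,0])) .none) (.node (.node .none (.word [5,6,3,4,1,2,3,6,3,4,3,2,3,5,1,3,2,3,5,6,3,2,3,5,6,3,4,1,2,3,6,1,0,5,6,3,4,1,2,3,6,3,4,3,2,3,5,0,5,6,3,4,1,2,3,6,3,4,3,2,3,5,0])) .none)) (.node (.node (.word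 [1,2,3,5,3,2,1,0,3,5,6,3,2,3,6,4,3,2,3,1,2,3,5,6,3,4,0,1,3,2,3,5,6,3,2,3,5,6,3,4,1,2,3,6,1,0]) (.word [1,3,2,1,6,3,2,1,3,2,3,5,4,2,3,1,2,3,6,4,2,3,5,1,0,1,3,2,3,5,6,3,2,3,5,6,3,4,1,2,3,6,1,0,5,6,3,2,1,4,3,6,2,3,2,3,6,2,3,4,1,2,3,6,5,1,2,3,5,3,2,1,0,3,5,6,3,2,3,6,4,3,2,3,1,2,3,5,6,3,4,5,6,3,4,1,2,3,6,3,4,3,2,3,5,0,5,6,3,4,1,2,3,6,3,4,3,2,3,5,0])) (.node (.node .none (.word [2,1,6,3,2,3,1,2,3,4,2,3,6,1,2,3,5,6,3,2,0,1,2,3,5,3,2,1,0,3,5,6,3,2,3,6,4,3,2,3,1,2,3,5,6,3,4,0,1,3,2,3,5,6,3,2,3,5,6,3,4,1,2,3,6,1,0,1,3,2,1,6,3,2,1,3,2,3,5,4,2,3,1,2,3,6,4,2,3,5,1,0,1,3,2,3,5,6,3,2,3,5,6,3,4,1,2,3,6,1,0])) .none))) (.node (.node (.node (.node (.word [1,5,3,2,4,3,2,1,3,5,6,3,4,2,3,5,3,1,2,3,4,2,3,2,0,2,1,6,3,2,3,1,2,3,4,2,3,6,1,2,3,5,6,3,2,1,3,2,3,5,6,3,2,3,5,6,3,4,1,2,3,6,1,0,1,2,3,5,3,2,1,0,3,5,6,3,2,3,6,4,3,2,3,1,2,3,5,6,3,4,5,6,3,4,1,2,3,6,3,4,3,2,3,5,0])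 (.word [5,6,3,4,1,2,3,6,3,4,3,2,3,5,1,3,2,3,5,6,3,2,3,5,6,3,4,1,2,3,6,1,0,1,5,3,2,4,3,2,1,3,5,6,3,4,2,3,5,3,1,2,3,4,2,3,2,1,3,2,3,5,6,3,2,3,5,6,3,4,1,2,3,6,1,0])) .none) (.node (.word [5,6,3,4,1,2,3,6,3,4,3,2,3,5,0,5,6,3,4,1,2,3,6,3,4,3,2,3,5,0,5,6,3,4,1,2,3,6,3,4,3,2,3,5,1,3,2,3,5,6,3,2,3,5,6,3,4,1,2,3,6,3,2,3,5,6,3,2,3,5,6,3,4,1,2,3,6,1,0]) (.node (.word [0,1,3,2,3,5,6,3,2,3,5,6,3,4,1,2,3,6,1,0,2,1,6,3,2,3,1,2,3,4,2,3,6,1,2,3,5,6,3,2,0,1,2,3,5,3,2,1,0,3,5,6,3,2,3,6,4,3,2,3,1,2,3,5,6,3,4,0,1,3,2,3,5,6,3,2,3,5,6,3,4,1,2,3,6,1,0,5,6,3,4,1,2,3,6,3,4,3,2,3,5,0]) (.word [1,5,3,2,4,3,2,1,3,5,6,3,4,2,3,5,3,1,2,3,4,2,3,2,0,1,2,3,5,3,2,1,0,3,5,6,3,2,3,6,4,3,2,3,1,2,3,5,6,3,4,5,6,3,2,1,4,3,6,2,3,2,3,6,2,3,4,1,2,3,6,5,0,1,3,2,3,5,6,3,2,3,5,6,3,4,1,2,3,6,1,0,5,6,3,4,1,2,3,6,3,4,3,2,3,5,0]))))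 (.node (.node (.word [5,6,3,2,1,4,3,6,2,3,2,3,6,2,3,4,1,2,3,6,5,0,1,3,2,3,5,6,3,2,3,5,6,3,4,1,2,3,6,1,0,5,6,3,4,1,2,3,6,3,4,3,2,3,5,0,5,6,3,4,1,2,3,6,3,4,3,2,3,5,0,1,3,2,1,6,3,2,1,3,2,3,5,4,2,3,1,2,3,6,4,2,3,5,1,5,6,3,4,1,2,3,6,3,4,3,2,3,5,0]) (.word [2,1,6,3,2,3,1,2,3,4,2,3,6,1,2,3,5,6,3,2,0,5,6,3,2,1,4,3,6,2,3,2,3,6,2,3,4,1,2,3,6,5,1,3,2,1,6,3,2,1,3,2,3,5,4,2,3,1,2,3,6,4,2,3,5,1,5,6,3,4,1,2,3,6,3,4,3,2,3,5,0])) (.node (.node (.word [5,6,3,2,1,4,3,6,2,3,2,3,6,2,3,4,1,2,3,6,5,1,5,3,2,4,3,2,1,3,5,6,3,4,2,3,5,3,1,2,3,4,2,3,2,1,3,2,3,5,6,3,2,3,5,6,3,4,1,2,3,6,3,2,3,5,6,3,2,3,5,6,3,4,1,2,3,6,1,0]) (.word [1,3,2,1,6,3,2,1,3,2,3,5,4,2,3,1,2,3,6,4,2,3,5,1,0,1,3,2,3,5,6,3,2,3,5,6,3,4,1,2,3,6,1,0,1,2,3,5,3,2,1,0,3,5,6,3,2,3,6,4,3,2,3,1,2,3,5,6,3,4,5,6,3,4,1,2,3,6,3,4,3,2,3,5,0,5,6,3,4,1,2,3,6,3,4,3,2,3,5,0]))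 (.node .none (.word [0,1,3,2,3,5,6,3,2,3,5,6,3,4,1,2,3,6,1,0,1,5,3,2,4,3,2,1,3,5,6,3,4,2,3,5,3,1,2,3,4,2,3,2,0,5,6,3,4,1,2,3,6,3,4,3,2,3,5,0,5,6,3,4,1,2,3,6,3,4,3,2,3,5,0,5,6,3,4,1,2,3,6,3,4,3,2,3,5,0])))))) (.node (.node (.node (.node (.node .none (.word [1,3,2,1,6,3,2,1,3,2,3,5,4,2,3,1,2,3,6,4,2,3,5,1,5,6,3,4,1,2,3,6,3,4,3,2,3,5,0,1,2,3,5,3,2,1,0,3,5,6,3,2,3,6,4,3,2,3,1,2,3,5,6,3,4,5,6,3,4,1,2,3,6,3,4,3,2,3,5,0,5,6,3,4,1,2,3,6,3,4,3,2,3,5,0])) (.node (.word [1,3,2,1,6,3,2,1,3,2,3,5,4,2,3,1,2,3,6,4,2,3,5,1,0,1,3,2,3,5,6,3,2,3,5,6,3,4,1,2,3,6,1,0,2,1,6,3,2,3,1,2,3,4,2,3,6,1,2,3,5,6,3,2,0,1,5,3,2,4,3,2,1,3,5,6,3,4,2,3,5,3,1,2,3,4,2,3,2,1,3,2,3,5,6,3,2,3,5,6,3,4,1,2,3,6,1,0,5,6,3,4,1,2,3,6,3,4,3,2,3,5,0])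 (.word [1,5,3,2,4,3,2,1,3,5,6,3,4,2,3,5,3,1,2,3,4,2,3,2,0,5,6,3,2,1,4,3,6,2,3,2,3,6,2,3,4,1,2,3,6,5,0,1,3,2,3,5,6,3,2,3,5,6,3,4,1,2,3,6,3,2,3,5,6,3,2,3,5,6,3,4,1,2,3,6,3,2,3,5,6,3,2,3,5,6,3,4,1,2,3,6,1,0]))) (.node (.word [2,1,6,3,2,3,1,2,3,4,2,3,6,1,2,3,5,6,3,2,0,1,3,2,1,6,3,2,1,3,2,3,5,4,2,3,1,2,3,6,4,2,3,5,2,3,5,3,2,1,0,3,5,6,3,2,3,6,4,3,2,3,1,2,3,5,6,3,4,5,6,3,4,1,2,3,6,3,4,3,2,3,5,0,5,6,3,4,1,2,3,6,3,4,3,2,3,5,0]) (.node .none (.word [0,1,3,2,3,5,6,3,2,3,5,6,3,4,1,2,3,6,1,0,5,6,3,4,1,2,3,6,3,4,3,2,3,5,0,5,6,3,2,1,4,3,6,2,3,2,3,6,2,3,4,1,2,3,6,5,0,1,3,2,3,5,6,3,2,3,5,6,3,4,1,2,3,6,1,0,5,6,3,4,1,2,3,6,3,4,3,2,3,5,0])))) (.node (.node (.node (.word [1,2,3,5,3,2,1,0,3,5,6,3,2,3,6,4,3,2,3,1,2,3,5,6,3,4,1,2,3,5,3,2,1,0,3,5,6,3,2,3,6,4,3,2,3,1,2,3,5,6,3,4,0,1,3,2,3,5,6,3,2,3,5,6,3,4,1,2,3,6,3,2,3,5,6,3,2,3,5,6,3,4,1,2,3,6,1,0])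 (.word [5,6,3,4,1,2,3,6,3,4,3,2,3,5,0,5,6,3,4,1,2,3,6,3,4,3,2,3,5,0])) (.node .none (.word [5,6,3,2,1,4,3,6,2,3,2,3,6,2,3,4,1,2,3,6,5,1,5,3,2,4,3,2,1,3,5,6,3,4,2,3,5,3,1,2,3,4,2,3,2,0,5,6,3,4,1,2,3,6,3,4,3,2,3,5,0,1,5,3,2,4,3,2,1,3,5,6,3,4,2,3,5,3,1,2,3,4,2,3,2,0,5,6,3,4,1,2,3,6,3,4,3,2,3,5,0]))) (.node (.node .none (.word [0,1,3,2,3,5,6,3,2,3,5,6,3,4,1,2,3,6,3,2,3,5,6,3,2,3,5,6,3,4,1,2,3,6,1,0,5,6,3,4,1,2,3,6,3,4,3,2,3,5,0,1,2,3,5,3,2,1,0,3,5,6,3,2,3,6,4,3,2,3,1,2,3,5,6,3,4,5,6,3,4,1,2,3,6,3,4,3,2,3,5,0])) (.node .none (.word [1,2,3,5,3,2,1,0,3,5,6,3,2,3,6,4,3,2,3,1,2,3,5,6,3,4,0,1,3,2,3,5,6,3,2,3,5,6,3,4,1,2,3,6,1,0,1,2,3,5,3,2,1,0,3,5,6,3,2,3,6,4,3,2,3,1,2,3,5,6,3,4,5,6,3,4,1,2,3,6,3,4,3,2,3,5,0])))))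 (.node (.node (.node (.node .none (.word [2,1,6,3,2,3,1,2,3,4,2,3,6,1,2,3,5,6,3,2,0,5,6,3,4,1,2,3,6,3,4,3,2,3,5,0,2,1,6,3,2,3,1,2,3,4,2,3,6,1,2,3,5,6,3,2,1,3,2,3,5,6,3,2,3,5,6,3,4,1,2,3,6,1,0])) (.word [5,6,3,2,1,4,3,6,2,3,2,3,6,2,3,4,1,2,3,6,5,0,1,3,2,3,5,6,3,2,3,5,6,3,4,1,2,3,6,1,0,5,6,3,4,1,2,3,6,3,4,3,2,3,5,0,5,6,3,4,1,2,3,6,3,4,3,2,3,5,0,1,2,3,5,3,2,1,0,3,5,6,3,2,3,6,4,3,2,3,1,2,3,5,6,3,4,5,6,3,4,1,2,3,6,3,4,3,2,3,5,0])) (.node (.node .none (.word [5,6,3,4,1,2,3,6,3,4,3,2,3,5,0,1,3,2,1,6,3,2,1,3,2,3,5,4,2,3,1,2,3,6,4,2,3,5,1,5,6,3,4,1,2,3,6,3,4,3,2,3,5,0])) (.word [5,6,3,2,1,4,3,6,2,3,2,3,6,2,3,4,1,2,3,6,5,0,1,3,2,3,5,6,3,2,3,5,6,3,4,1,2,3,6,1,0,5,6,3,4,1,2,3,6,3,4,3,2,3,5,0,1,3,2,1,6,3,2,1,3,2,3,5,4,2,3,1,2,3,6,4,2,3,5,1,5,6,3,4,1,2,3,6,3,4,3,2,3,5,0])))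 (.node (.node (.node (.word [1,3,2,1,6,3,2,1,3,2,3,5,4,2,3,1,2,3,6,4,2,3,5,1,0,1,3,2,3,5,6,3,2,3,5,6,3,4,1,2,3,6,1,0,1,5,3,2,4,3,2,1,3,5,6,3,4,2,3,5,3,1,2,3,4,2,3,2,0,1,2,3,5,3,2,1,0,3,5,6,3,2,3,6,4,3,2,3,1,2,3,5,6,3,4,5,6,3,4,1,2,3,6,3,4,3,2,3,5,0]) (.word [5,6,3,4,1,2,3,6,3,4,3,2,3,5,0,1,3,2,1,6,3,2,1,3,2,3,5,4,2,3,1,2,3,6,4,2,3,5,2,3,5,3,2,1,0,3,5,6,3,2,3,6,4,3,2,3,1,2,3,5,6,3,4,0,1,3,2,3,5,6,3,2,3,5,6,3,4,1,2,3,6,1,0,5,6,3,4,1,2,3,6,3,4,3,2,3,5,0])) (.node .none (.word [1,2,3,5,3,2,1,0,3,5,6,3,2,3,6,4,3,2,3,1,2,3,5,6,3,4,1,5,3,2,4,3,2,1,3,5,6,3,4,2,3,5,3,1,2,3,4,2,3,2,0,1,5,3,2,4,3,2,1,3,5,6,3,4,2,3,5,3,1,2,3,4,2,3,2,1,3,2,3,5,6,3,2,3,5,6,3,4,1,2,3,6,1,0]))) (.node (.node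 (.word [1,3,2,1,6,3,2,1,3,2,3,5,4,2,3,1,2,3,6,4,2,3,5,1,5,6,3,4,1,2,3,6,3,4,3,2,3,5,0,5,6,3,4,1,2,3,6,3,4,3,2,3,5,0,1,5,3,2,4,3,2,1,3,5,6,3,4,2,3,5,3,1,2,3,4,2,3,2,0,5,6,3,4,1,2,3,6,3,4,3,2,3,5,0,5,6,3,4,1,2,3,6,3,4,3,2,3,5,0]) (.word [5,6,3,2,1,4,3,6,2,3,2,3,6,2,3,4,1,2,4,1,2,3,6,3,4,3,2,3,5,0,1,2,3,5,3,2,1,0,3,5,6,3,2,3,6,4,3,2,3,1,2,3,5,6,3,4,1,2,3,5,3,2,1,0,3,5,6,3,2,3,6,4,3,2,3,1,2,3,5,6,3,4,5,6,3,4,1,2,3,6,3,4,3,2,3,5,0,5,6,3,4,1,2,3,6,3,4,3,2,3,5,0])) .none))))) (.node (.node (.node (.node (.node (.node .none (.word [0,1,3,2,3,5,6,3,2,3,5,6,3,4,1,2,3,6,1,0,1,5,3,2,4,3,2,1,3,5,6,3,4,2,3,5,3,1,2,3,4,2,3,2,0,1,2,3,5,3,2,1,0,3,5,6,3,2,3,6,4,3,2,3,1,2,3,5,6,3,4,0,1,3,2,3,5,6,3,2,3,5,6,3,4,1,2,3,6,1,0]))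 (.word [5,6,3,4,1,2,3,6,3,4,3,2,3,5,0,1,3,2,1,6,3,2,1,3,2,3,5,4,2,3,1,2,3,6,4,2,3,5,1,0,1,3,2,3,5,6,3,2,3,5,6,3,4,1,2,3,6,1,0,5,6,3,2,1,4,3,6,2,3,2,3,6,2,3,4,1,2,4,1,2,3,6,3,4,3,2,3,5,0])) (.node (.word [5,6,3,4,1,2,3,6,3,4,3,2,3,5,1,3,2,3,5,6,3,2,3,5,6,3,4,1,2,3,6,1,0,2,1,6,3,2,3,1,2,3,4,2,3,6,1,2,3,5,6,3,2,1,3,2,3,5,6,3,2,3,5,6,3,4,1,2,3,6,1,0]) (.node (.word [1,2,3,5,3,2,1,0,3,5,6,3,2,3,6,4,3,2,3,1,2,3,5,6,3,4,1,3,2,1,6,3,2,1,3,2,3,5,4,2,3,1,2,3,6,4,2,3,5,1,5,6,3,4,1,2,3,6,3,4,3,2,3,5,0,5,6,3,2,1,4,3,6,2,3,2,3,6,2,3,4,1,2,3,6,5,0,1,3,2,3,5,6,3,2,3,5,6,3,4,1,2,3,6,1,0,5,6,3,4,1,2,3,6,3,4,3,2,3,5,0]) (.word [5,6,3,4,1,2,3,6,3,4,3,2,3,5,0,2,1,6,3,2,3,1,2,3,4,2,3,6,1,2,3,5,6,3,2,1,3,2,3,5,6,3,2,3,5,6,3,4,1,2,3,6,3,2,3,5,6,3,2,3,5,6,3,4,1,2,3,6,1,0,5,6,3,4,1,2,3,6,3,4,3,2,3,5,0]))))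 (.node (.node (.node (.word [2,1,6,3,2,3,1,2,3,4,2,3,6,1,2,3,5,6,3,2,0,1,5,3,2,4,3,2,1,3,5,6,3,4,2,3,5,3,1,2,3,4,2,3,2,0,5,6,3,4,1,2,3,6,3,4,3,2,3,5,0,5,6,3,4,1,2,3,6,3,4,3,2,3,5,0]) (.word [5,6,3,4,1,2,3,6,3,4,3,2,3,5,1,3,2,3,5,6,3,2,3,5,6,3,4,1,2,3,6,1,0,5,6,3,4,1,2,3,6,3,4,3,2,3,5,1,3,2,3,5,6,3,2,3,5,6,3,4,1,2,3,6,1,0,5,6,3,4,1,2,3,6,3,4,3,2,3,5,0])) (.word [0,1,3,2,3,5,6,3,2,3,5,6,3,4,1,2,3,6,1,0,1,2,3,5,3,2,1,0,3,5,6,3,2,3,6,4,3,2,3,1,2,3,5,6,3,4,0,1,3,2,3,5,6,3,2,3,5,6,3,4,1,2,3,6,1,0,5,6,3,4,1,2,3,6,3,4,3,2,3,5,0,5,6,3,4,1,2,3,6,3,4,3,2,3,5,0])) (.node (.node (.word [1,3,2,1,6,3,2,1,3,2,3,5,4,2,3,1,2,3,6,4,2,3,5,1,5,6,3,4,1,2,3,6,3,4,3,2,3,5,0,5,6,3,4,1,2,3,6,3,4,3,2,3,5,0,5,6,3,4,1,2,3,6,3,4,3,2,3,5,1,3,2,3,5,6,3,2,3,5,6,3,4,1,2,3,6,1,0])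 (.word [1,5,3,2,4,3,2,1,3,5,6,3,4,2,3,5,3,1,2,3,4,2,3,2,1,3,2,3,5,6,3,2,3,5,6,3,4,1,2,3,6,1,0,5,6,3,4,1,2,3,6,3,4,3,2,3,5,0,1,3,2,1,6,3,2,1,3,2,3,5,4,2,3,1,2,3,6,4,2,3,5,2,3,5,3,2,1,0,3,5,6,3,2,3,6,4,3,2,3,1,2,3,5,6,3,4,5,6,3,4,1,2,3,6,3,4,3,2,3,5,0])) .none))) (.node (.node (.node (.node (.word [1,2,3,5,3,2,1,0,3,5,6,3,2,3,6,4,3,2,3,1,2,3,5,6,3,4,1,2,3,5,3,2,1,0,3,5,6,3,2,3,6,4,3,2,3,1,2,3,5,6,3,4,0,1,3,2,3,5,6,3,2,3,5,6,3,4,1,2,3,6,1,0]) (.word [1,5,3,2,4,3,2,1,3,5,6,3,4,2,3,5,3,1,2,3,4,2,3,2,0,1,2,3,5,3,2,1,0,3,5,6,3,2,3,6,4,3,2,3,1,2,3,5,6,3,4,2,1,6,3,2,3,1,2,3,4,2,3,6,1,2,3,5,6,3,2,1,3,2,3,5,6,3,2,3,5,6,3,4,1,2,3,6,1,0,5,6,3,4,1,2,3,6,3,4,3,2,3,5,0])) (.node (.word [0,1,3,2,3,5,6,3,2,3,5,6,3,4,1,2,3,6,1,0,1,5,3,2,4,3,2,1,3,5,6,3,4,2,3,5,3,1,2,3,4,2,3,2,0,1,2,3,5,3,2,1,0,3,5,6,3,2,3,6,4,3,2,3,1,2,3,5,6,3,4,1,3,2,1,6,3,2,1,3,2,3,5,4,2,3,1,2,3,6,4,2,3,5,1,5,6,3,4,1,2,3,6,3,4,3,2,3,5,0,5,6,3,4,1,2,3,6,3,4,3,2,3,5,0])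 (.word [2,1,6,3,2,3,1,2,3,4,2,3,6,1,2,3,5,6,3,2,0,1,5,3,2,4,3,2,1,3,5,6,3,4,2,3,5,3,1,2,3,4,2,3,2,0,5,6,3,4,1,2,3,6,3,4,3,2,3,5,1,3,2,3,5,6,3,2,3,5,6,3,4,1,2,3,6,1,0]))) (.node (.word [1,2,3,5,3,2,1,0,3,5,6,3,2,3,6,4,3,2,3,1,2,3,5,6,3,4,5,6,3,4,1,2,3,6,3,4,3,2,3,5,0,1,2,3,5,3,2,1,0,3,5,6,3,2,3,6,4,3,2,3,1,2,3,5,6,3,4,1,2,3,5,3,2,1,0,3,5,6,3,2,3,6,4,3,2,3,1,2,3,5,6,3,4,5,6,3,4,1,2,3,6,3,4,3,2,3,5,0]) (.node .none (.word [1,2,3,5,3,2,1,0,3,5,6,3,2,3,6,4,3,2,3,1,2,3,5,6,3,4,0,1,3,2,3,5,6,3,2,3,5,6,3,4,1,2,3,6,1,0,1,5,3,2,4,3,2,1,3,5,6,3,4,2,3,5,3,1,2,3,4,2,3,2,0,5,6,3,4,1,2,3,6,3,4,3,2,3,5,0])))) (.node (.node (.word [1,2,3,5,3,2,1,0,3,5,6,3,2,3,6,4,3,2,3,1,2,3,5,6,3,4,5,6,3,4,1,2,3,6,3,4,3,2,3,5,0,5,6,3,4,1,2,3,6,3,4,3,2,3,5,0,1,2,3,5,3,2,1,0,3,5,6,3,2,3,6,4,3,2,3,1,2,3,5,6,3,4,5,6,3,4,1,2,3,6,3,4,3,2,3,5,0,5,6,3,4,1,2,3,6,3,4,3,2,3,5,0])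 (.node .none (.word [0,1,3,2,3,5,6,3,2,3,5,6,3,4,1,2,3,6,3,2,3,5,6,3,2,3,5,6,3,4,1,2,3,6,1,0,1,3,2,1,6,3,2,1,3,2,3,5,4,2,3,1,2,3,6,3,2,1,3,5,6,3,4,2,3,5,3,1,2,3,4,2,3,2,1,3,2,3,5,6,3,2,3,5,6,3,4,1,2,3,6,1,0]))) (.node (.node (.word [1,2,3,5,3,2,1,0,3,5,6,3,2,3,6,4,3,2,3,1,2,3,5,6,3,4,5,6,3,4,1,2,3,6,3,4,3,2,3,5,0,1,3,2,1,6,3,2,1,3,2,3,5,4,2,3,1,2,3,6,4,2,3,5,1,5,6,3,4,1,2,3,6,3,4,3,2,3,5,0,5,6,3,4,1,2,3,6,3,4,3,2,3,5,0]) (.word [1,2,3,5,3,2,1,0,3,5,6,3,2,3,6,4,3,2,3,1,2,3,5,6,3,4,0,1,3,2,3,5,6,3,2,3,5,6,3,4,1,2,3,6,3,2,3,5,6,3,2,3,5,6,3,4,1,2,3,6,1,0,1,2,3,5,3,2,1,0,3,5,6,3,2,3,6,4,3,2,3,1,2,3,5,6,3,4,5,6,3,4,1,2,3,6,3,4,3,2,3,5,0])) (.node (.word [5,6,3,4,1,2,3,6,3,4,3,2,3,5,0,1,5,3,2,4,3,2,1,3,5,6,3,4,2,3,5,3,1,2,3,4,2,3,2,0,1,5,3,2,4,3,2,1,3,5,6,3,4,2,3,5,3,1,2,3,4,2,3,2,0,5,6,3,4,1,2,3,6,3,4,3,2,3,5,0])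 (.word [5,6,3,4,1,2,3,6,3,4,3,2,3,5,0])))))) (.node (.node (.node (.node (.node (.word [2,1,6,3,2,3,1,2,3,4,2,3,6,1,2,3,5,6,3,2,0,5,6,3,2,1,4,3,6,2,3,2,3,6,2,3,4,1,2,3,6,5,1,2,3,5,3,2,1,0,3,5,6,3,2,3,6,4,3,2,3,1,2,3,5,6,3,4,5,6,3,4,1,2,3,6,3,4,3,2,3,5,1,3,2,3,5,6,3,2,3,5,6,3,4,1,2,3,6,1,0]) (.word [1,5,3,2,4,3,2,1,3,5,6,3,4,2,3,5,3,1,2,3,4,2,3,2,0,1,5,3,2,4,3,2,1,3,5,6,3,4,2,3,5,3,1,2,3,4,2,3,2,0,5,6,3,4,1,2,3,6,3,4,3,2,3,5,0])) .none) (.node (.node (.word [2,1,6,3,2,3,1,2,3,4,2,3,6,1,2,3,5,6,3,2,0,5,6,3,2,1,4,3,6,2,3,2,3,6,2,3,4,1,2,3,6,5,1,2,3,5,3,2,1,0,3,5,6,3,2,3,6,4,3,2,3,1,2,3,5,6,3,4,5,6,3,4,1,2,3,6,3,4,3,2,3,5,0]) (.word [2,1,6,3,2,3,1,2,3,4,2,3,6,1,2,3,5,6,3,2,1,3,2,3,5,6,3,2,3,5,6,3,4,1,2,3,6,1,0,1,3,2,1,6,3,2,1,3,2,3,5,4,2,3,1,2,3,6,4,2,3,5,1,5,6,3,4,1,2,3,6,3,4,3,2,3,5,0,5,6,3,4,1,2,3,6,3,4,3,2,3,5,0]))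 (.word [5,6,3,4,1,2,3,6,3,4,3,2,3,5,0,5,6,3,4,1,2,3,6,3,4,3,2,3,5,0,1,2,3,5,3,2,1,0,3,5,6,3,2,3,6,4,3,2,3,1,2,3,5,6,3,4,0,1,3,2,3,5,6,3,2,3,5,6,3,4,1,2,3,6,1,0]))) (.node (.node .none (.node .none (.word [0,1,3,2,3,5,6,3,2,3,5,6,3,4,1,2,3,6,1,0,1,3,2,1,6,3,2,1,3,2,3,5,4,2,3,1,2,3,6,4,2,3,5,1,0,1,3,2,3,5,6,3,2,3,5,6,3,4,1,2,3,6,1,0,5,6,3,4,1,2,3,6,3,4,3,2,3,5,0,5,6,3,4,1,2,3,6,3,4,3,2,3,5,0]))) (.node (.word [5,6,3,4,1,2,3,6,3,4,3,2,3,5,0,1,5,3,2,4,3,2,1,3,5,6,3,4,2,3,5,3,1,2,3,4,2,3,2,0,5,6,3,4,1,2,3,6,3,4,3,2,3,5,0]) (.node .none (.word [1,2,3,5,3,2,1,0,3,5,6,3,2,3,6,4,3,2,3,1,2,3,5,6,3,4,5,6,3,2,1,4,3,6,2,3,2,3,6,2,3,4,1,2,3,6,5,1,2,3,5,3,2,1,0,3,5,6,3,2,3,6,4,3,2,3,1,2,3,5,6,3,4,5,6,3,4,1,2,3,6,3,4,3,2,3,5,1,3,2,3,5,6,3,2,3,5,6,3,4,1,2,3,6,1,0])))))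 (.node (.node (.node (.word [1,2,3,5,3,2,1,0,3,5,6,3,2,3,6,4,3,2,3,1,2,3,5,6,3,4,2,1,6,3,2,3,1,2,3,4,2,3,6,1,2,3,5,6,3,2,0,1,3,2,1,6,3,2,1,3,2,3,5,4,2,3,1,2,3,6,4,2,3,5,1,5,6,3,4,1,2,3,6,3,4,3,2,3,5,0]) (.node (.word [5,6,3,2,1,4,3,6,2,3,2,3,6,2,3,4,1,2,3,6,5,1,2,3,5,3,2,1,0,3,5,6,3,2,3,6,4,3,2,3,1,2,3,5,6,3,4,5,6,3,4,1,2,3,6,3,4,3,2,3,5,1,3,2,3,5,6,3,2,3,5,6,3,4,1,2,3,6,1,0]) (.word [0,1,3,2,3,5,6,3,2,3,5,6,3,4,1,2,3,6,3,2,3,5,6,3,2,3,5,6,3,4,1,2,3,6,1,0,1,3,2,1,6,3,2,1,3,2,3,5,4,2,3,1,2,3,6,4,2,3,5,1,5,6,3,4,1,2,3,6,3,4,3,2,3,5,0]))) (.node (.node (.word [5,6,3,2,1,4,3,6,2,3,2,3,6,2,3,4,1,2,3,6,5,0,1,3,2,3,5,6,3,2,3,5,6,3,4,1,2,3,6,3,2,3,5,6,3,2,3,5,6,3,4,1,2,3,6,1,0,5,6,3,4,1,2,3,6,3,4,3,2,3,5,0])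 (.word [1,5,3,2,4,3,2,1,3,5,6,3,4,2,3,5,3,1,2,3,4,2,3,2,0,5,6,3,2,1,4,3,6,2,3,2,3,6,2,3,4,1,2,4,1,2,3,6,3,4,3,2,3,5,0,5,6,3,4,1,2,3,6,3,4,3,2,3,5,0])) (.node .none (.word [0,1,3,2,3,5,6,3,2,3,5,6,3,4,1,2,3,6,1,0,1,5,3,2,4,3,2,1,3,5,6,3,4,2,3,5,3,1,2,3,4,2,3,2,1,3,2,3,5,6,3,2,3,5,6,3,4,1,2,3,6,3,2,3,5,6,3,2,3,5,6,3,4,1,2,3,6,3,2,3,5,6,3,2,3,5,6,3,4,1,2,3,6,1,0])))) (.node (.node (.node (.word [1,5,3,2,4,3,2,1,3,5,6,3,4,2,3,5,3,1,2,3,4,2,3,2,0,5,6,3,4,1,2,3,6,3,4,3,2,3,5,1,3,2,3,5,6,3,2,3,5,6,3,4,1,2,3,6,3,2,3,5,6,3,2,3,5,6,3,4,1,2,3,6,1,0]) (.word [0,1,3,2,3,5,6,3,2,3,5,6,3,4,1,2,3,6,1,0,1,2,3,5,3,2,1,0,3,5,6,3,2,3,6,4,3,2,3,1,2,3,5,6,3,4,2,1,6,3,2,3,1,2,3,4,2,3,6,1,2,3,5,6,3,2,0,1,5,3,2,4,3,2,1,3,5,6,3,4,2,3,5,3,1,2,3,4,2,3,2,0,5,6,3,4,1,2,3,6,3,4,3,2,3,5,0,5,6,3,4,1,2,3,6,3,4,3,2,3,5,0]))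 (.node .none (.word [1,5,3,2,4,3,2,1,3,5,6,3,4,2,3,5,3,1,2,3,4,2,3,2,1,3,2,3,5,6,3,2,3,5,6,3,4,1,2,3,6,1,0,1,3,2,1,6,3,2,1,3,2,3,5,4,2,3,1,2,3,6,3,2,1,3,5,6,3,4,2,3,5,3,1,2,3,4,2,3,2,1,3,2,3,5,6,3,2,3,5,6,3,4,1,2,3,6,1,0,5,6,3,4,1,2,3,6,3,4,3,2,3,5,0]))) (.node (.node (.word [1,2,3,5,3,2,1,0,3,5,6,3,2,3,6,4,3,2,3,1,2,3,5,6,3,4,1,2,3,5,3,2,1,0,3,5,6,3,2,3,6,4,3,2,3,1,2,3,5,6,3,4,1,5,3,2,4,3,2,1,3,5,6,3,4,2,3,5,3,1,2,3,4,2,3,2,1,3,2,3,5,6,3,2,3,5,6,3,4,1,2,3,6,1,0,5,6,3,4,1,2,3,6,3,4,3,2,3,5,0]) (.word [1,5,3,2,4,3,2,1,3,5,6,3,4,2,3,5,3,1,2,3,4,2,3,2,0,5,6,3,4,1,2,3,6,3,4,3,2,3,5,0,5,6,3,2,1,4,3,6,2,3,2,3,6,2,3,4,1,2,3,6,5,0,1,3,2,3,5,6,3,2,3,5,6,3,4,1,2,3,6,3,2,3,5,6,3,2,3,5,6,3,4,1,2,3,6,1,0,5,6,3,4,1,2,3,6,3,4,3,2,3,5,0]))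 (.word [1,5,3,2,4,3,2,1,3,5,6,3,4,2,3,5,3,1,2,3,4,2,3,2,1,3,2,3,5,6,3,2,3,5,6,3,4,1,2,3,6,1,0,1,2,3,5,3,2,1,0,3,5,6,3,2,3,6,4,3,2,3,1,2,3,5,6,3,4,1,2,3,5,3,2,1,0,3,5,6,3,2,3,6,4,3,2,3,1,2,3,5,6,3,4,5,6,3,4,1,2,3,6,3,4,3,2,3,5,0])))))))

/-- A subtree. -/
def sub31 : WTree :=
  (.node (.node (.node (.node (.node (.node (.node .none (.word [1,5,3,2,4,3,2,1,3,5,6,3,4,2,3,5,3,1,2,3,4,2,3,2,0,1,5,3,2,4,3,2,1,3,5,6,3,4,2,3,5,3,1,2,3,4,2,3,2,1,3,2,3,5,6,3,2,3,5,6,3,4,1,2,3,6,1,0,1,2,3,5,3,2,1,0,3,5,6,3,2,3,6,4,3,2,3,1,2,3,5,6,3,4,5,6,3,4,1,2,3,6,3,4,3,2,3,5,0])) (.node (.word [5,6,3,4,1,2,3,6,3,4,3,2,3,5,0,2,1,6,3,2,3,1,2,3,4,2,3,6,1,2,3,5,6,3,2,0,1,3,2,1,6,3,2,1,3,2,3,5,4,2,3,1,2,3,6,4,2,3,5,1,5,6,3,4,1,2,3,6,3,4,3,2,3,5,0])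 (.word [0,1,3,2,3,5,6,3,2,3,5,6,3,4,1,2,3,6,3,2,3,5,6,3,2,3,5,6,3,4,1,2,3,6,1,0,5,6,3,4,1,2,3,6,3,4,3,2,3,5,1,3,2,3,5,6,3,2,3,5,6,3,4,1,2,3,6,1,0]))) (.node (.node (.word [0,1,3,2,3,5,6,3,2,3,5,6,3,4,1,2,3,6,3,2,3,5,6,3,2,3,5,6,3,4,1,2,3,6,3,2,3,5,6,3,2,3,5,6,3,4,1,2,3,6,1,0]) (.word [1,5,3,2,4,3,2,1,3,5,6,3,4,2,3,5,3,1,2,3,4,2,3,2,0,1,2,3,5,3,2,1,0,3,5,6,3,2,3,6,4,3,2,3,1,2,3,5,6,3,4,0,1,3,2,3,5,6,3,2,3,5,6,3,4,1,2,3,6,1,0,1,5,3,2,4,3,2,1,3,5,6,3,4,2,3,5,3,1,2,3,4,2,3,2,0,5,6,3,4,1,2,3,6,3,4,3,2,3,5,0])) (.node (.word [1,5,3,2,4,3,2,1,3,5,6,3,4,2,3,5,3,1,2,3,4,2,3,2,0,1,2,3,5,3,2,1,0,3,5,6,3,2,3,6,4,3,2,3,1,2,3,5,6,3,4,0,1,3,2,3,5,6,3,2,3,5,6,3,4,1,2,3,6,1,0,5,6,3,4,1,2,3,6,3,4,3,2,3,5,0,5,6,3,4,1,2,3,6,3,4,3,2,3,5,0])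 (.word [1,2,3,5,3,2,1,0,3,5,6,3,2,3,6,4,3,2,3,1,2,3,5,6,3,4,0,1,3,2,3,5,6,3,2,3,5,6,3,4,1,2,3,6,1,0,5,6,3,2,1,4,3,6,2,3,2,3,6,2,3,4,1,2,3,6,5,1,2,3,5,3,2,1,0,3,5,6,3,2,3,6,4,3,2,3,1,2,3,5,6,3,4,0,1,3,2,3,5,6,3,2,3,5,6,3,4,1,2,3,6,1,0])))) (.node (.node (.node .none (.word [2,1,6,3,2,3,1,2,3,4,2,3,6,1,2,3,5,6,3,2,0,5,6,3,4,1,2,3,6,3,4,3,2,3,5,0,2,1,6,3,2,3,1,2,3,4,2,3,6,1,2,3,5,6,3,2,1,3,2,3,5,6,3,2,3,5,6,3,4,1,2,3,6,1,0,5,6,3,4,1,2,3,6,3,4,3,2,3,5,0])) (.word [1,3,2,1,6,3,2,1,3,2,3,5,4,2,3,1,2,3,6,4,2,3,5,1,5,6,3,4,1,2,3,6,3,4,3,2,3,5,1,3,2,3,5,6,3,2,3,5,6,3,4,1,2,3,6,1,0,2,1,6,3,2,3,1,2,3,4,2,3,6,1,2,3,5,6,3,2,1,3,2,3,5,6,3,2,3,5,6,3,4,1,2,3,6,1,0])) (.node (.word [5,6,3,4,1,2,3,6,3,4,3,2,3,5,0,1,5,3,2,4,3,2,1,3,5,6,3,4,2,3,5,3,1,2,3,4,2,3,2,0,5,6,3,4,1,2,3,6,3,4,3,2,3,5,0,5,6,3,4,1,2,3,6,3,4,3,2,3,5,1,3,2,3,5,6,3,2,3,5,6,3,4,1,2,3,6,1,0])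 (.word [5,6,3,4,1,2,3,6,3,4,3,2,3,5,1,3,2,3,5,6,3,2,3,5,6,3,4,1,2,3,6,1,0,5,6,3,4,1,2,3,6,3,4,3,2,3,5,0,1,3,2,1,6,3,2,1,3,2,3,5,4,2,3,1,2,3,6,4,2,3,5,1,5,6,3,4,1,2,3,6,3,4,3,2,3,5,0])))) (.node (.node (.node (.word [2,1,6,3,2,3,1,2,3,4,2,3,6,1,2,3,5,6,3,2,1,3,2,3,5,6,3,2,3,5,6,3,4,1,2,3,6,3,2,3,5,6,3,2,3,5,6,3,4,1,2,3,6,1,0,2,1,6,3,2,3,1,2,3,4,2,3,6,1,2,3,5,6,3,2,1,3,2,3,5,6,3,2,3,5,6,3,4,1,2,3,6,1,0]) (.node (.word [1,5,3,2,4,3,2,1,3,5,6,3,4,2,3,5,3,1,2,3,4,2,3,2,0,5,6,3,4,1,2,3,6,3,4,3,2,3,5,0,5,6,3,4,1,2,3,6,3,4,3,2,3,5,0,1,5,3,2,4,3,2,1,3,5,6,3,4,2,3,5,3,1,2,3,4,2,3,2,0,5,6,3,4,1,2,3,6,3,4,3,2,3,5,0]) (.word [1,3,2,1,6,3,2,1,3,2,3,5,4,2,3,1,2,3,6,4,2,3,5,1,0,1,3,2,3,5,6,3,2,3,5,6,3,4,1,2,3,6,3,2,3,5,6,3,2,3,5,6,3,4,1,2,3,6,1,0,5,6,3,4,1,2,3,6,3,4,3,2,3,5,0,5,6,3,4,1,2,3,6,3,4,3,2,3,5,0])))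 (.node (.node (.word [1,3,2,1,6,3,2,1,3,2,3,5,4,2,3,1,2,3,6,4,2,3,5,1,0,1,3,2,3,5,6,3,2,3,5,6,3,4,1,2,3,6,1,0,5,6,3,4,1,2,3,6,3,4,3,2,3,5,0,1,2,3,5,3,2,1,0,3,5,6,3,2,3,6,4,3,2,3,1,2,3,5,6,3,4,1,2,3,5,3,2,1,0,3,5,6,3,2,3,6,4,3,2,3,1,2,3,5,6,3,4,5,6,3,4,1,2,3,6,3,4,3,2,3,5,0]) (.word [5,6,3,4,1,2,3,6,3,4,3,2,3,5,0,2,1,6,3,2,3,1,2,3,4,2,3,6,1,2,3,5,6,3,2,0,5,6,3,2,1,4,3,6,2,3,2,3,6,2,3,4,1,2,3,6,5,0,1,3,2,3,5,6,3,2,3,5,6,3,4,1,2,3,6,3,2,3,5,6,3,2,3,5,6,3,4,1,2,3,6,1,0])) (.word [0,1,3,2,3,5,6,3,2,3,5,6,3,4,1,2,3,6,1,0,1,3,2,1,6,3,2,1,3,2,3,5,4,2,3,1,2,3,6,4,2,3,5,1,5,6,3,2,1,4,3,6,2,3,2,3,6,2,3,4,1,2,4,1,2,3,6,3,4,3,2,3,5,0,5,6,3,4,1,2,3,6,3,4,3,2,3,5,0]))) (.node (.node (.node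 .none (.word [1,5,3,2,4,3,2,1,3,5,6,3,4,2,3,5,3,1,2,3,4,2,3,2,0,5,6,3,4,1,2,3,6,3,4,3,2,3,5,0,5,6,3,4,1,2,3,6,3,4,3,2,3,5,0])) (.node (.word [1,5,3,2,4,3,2,1,3,5,6,3,4,2,3,5,3,1,2,3,4,2,3,2,0,5,6,3,4,1,2,3,6,3,4,3,2,3,5,0,5,6,3,4,1,2,3,6,3,4,3,2,3,5,0,2,1,6,3,2,3,1,2,3,4,2,3,6,1,2,3,5,6,3,2,0,5,6,3,4,1,2,3,6,3,4,3,2,3,5,0]) (.word [5,6,3,4,1,2,3,6,3,4,3,2,3,5,0,1,5,3,2,4,3,2,1,3,5,6,3,4,2,3,5,3,1,2,3,4,2,3,2,1,3,2,3,5,6,3,2,3,5,6,3,4,1,2,3,6,1,0,5,6,3,2,1,4,3,6,2,3,2,3,6,2,3,4,1,2,4,1,2,3,6,3,4,3,2,3,5,0]))) (.node (.node (.word [5,6,3,2,1,4,3,6,2,3,2,3,6,2,3,4,1,2,3,6,5,1,2,3,5,3,2,1,0,3,5,6,3,2,3,6,4,3,2,3,1,2,3,5,6,3,4,0,1,3,2,3,5,6,3,2,3,5,6,3,4,1,2,3,6,3,2,3,5,6,3,2,3,5,6,3,4,1,2,3,6,3,2,3,5,6,3,2,3,5,6,3,4,1,2,3,6,1,0])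 (.word [5,6,3,2,1,4,3,6,2,3,2,3,6,2,3,4,1,2,3,6,5,0,1,3,2,3,5,6,3,2,3,5,6,3,4,1,2,3,6,1,0,1,3,2,1,6,3,2,1,3,2,3,5,4,2,3,1,2,3,6,4,2,3,5,1,0,1,3,2,3,5,6,3,2,3,5,6,3,4,1,2,3,6,1,0,5,6,3,4,1,2,3,6,3,4,3,2,3,5,0])) (.node .none (.word [5,6,3,2,1,4,3,6,2,3,2,3,6,2,3,4,1,2,3,6,5,1,2,3,5,3,2,1,0,3,5,6,3,2,3,6,4,3,2,3,1,2,3,5,6,3,4,5,6,3,4,1,2,3,6,3,4,3,2,3,5,0,1,2,3,5,3,2,1,0,3,5,6,3,2,3,6,4,3,2,3,1,2,3,5,6,3,4,5,6,3,4,1,2,3,6,3,4,3,2,3,5,0])))))) (.node (.node (.node (.node .none (.word [0,1,3,2,3,5,6,3,2,3,5,6,3,4,1,2,3,6,1,0,1,2,3,5,3,2,1,0,3,5,6,3,2,3,6,4,3,2,3,1,2,3,5,6,3,4,1,3,2,1,6,3,2,1,3,2,3,5,4,2,3,1,2,3,6,4,2,3,5,1,5,6,3,4,1,2,3,6,3,4,3,2,3,5,0])) (.node (.node (.word [5,6,3,4,1,2,3,6,3,4,3,2,3,5,0,1,2,3,5,3,2,1,0,3,5,6,3,2,3,6,4,3,2,3,1,2,3,5,6,3,4,5,6,3,4,1,2,3,6,3,4,3,2,3,5,0,1,2,3,5,3,2,1,0,3,5,6,3,2,3,6,4,3,2,3,1,2,3,5,6,3,4,1,2,3,5,3,2,1,0,3,5,6,3,2,3,6,4,3,2,3,1,2,3,5,6,3,4,5,6,3,4,1,2,3,6,3,4,3,2,3,5,0])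 (.word [1,3,2,1,6,3,2,1,3,2,3,5,4,2,3,1,2,3,6,3,2,1,3,5,6,3,4,2,3,5,3,1,2,3,4,2,3,2,0,2,1,6,3,2,3,1,2,3,4,2,3,6,1,2,3,5,6,3,2,1,3,2,3,5,6,3,2,3,5,6,3,4,1,2,3,6,1,0,5,6,3,4,1,2,3,6,3,4,3,2,3,5,0])) (.node (.word [5,6,3,2,1,4,3,6,2,3,2,3,6,2,3,4,1,2,4,1,2,3,6,3,4,3,2,3,5,0,5,6,3,2,1,4,3,6,2,3,2,3,6,2,3,4,1,2,3,6,5,0,1,3,2,3,5,6,3,2,3,5,6,3,4,1,2,3,6,1,0,5,6,3,4,1,2,3,6,3,4,3,2,3,5,0]) (.word [2,1,6,3,2,3,1,2,3,4,2,3,6,1,2,3,5,6,3,2,0,5,6,3,2,1,4,3,6,2,3,2,3,6,2,3,4,1,2,4,1,2,3,6,3,4,3,2,3,5,0,1,3,2,1,6,3,2,1,3,2,3,5,4,2,3,1,2,3,6,4,2,3,5,1,0,1,3,2,3,5,6,3,2,3,5,6,3,4,1,2,3,6,1,0])))) (.node (.node .none (.word [1,3,2,1,6,3,2,1,3,2,3,5,4,2,3,1,2,3,6,4,2,3,5,1,5,6,3,4,1,2,3,6,3,4,3,2,3,5,0,2,1,6,3,2,3,1,2,3,4,2,3,6,1,2,3,5,6,3,2,0,1,5,3,2,4,3,2,1,3,5,6,3,4,2,3,5,3,1,2,3,4,2,3,2,0,5,6,3,4,1,2,3,6,3,4,3,2,3,5,0,5,6,3,4,1,2,3,6,3,4,3,2,3,5,0]))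 (.node (.node .none (.word [5,6,3,2,1,4,3,6,2,3,2,3,6,2,3,4,1,2,4,1,2,3,6,3,4,3,2,3,5,0,1,5,3,2,4,3,2,1,3,5,6,3,4,2,3,5,3,1,2,3,4,2,3,2,0,5,6,3,4,1,2,3,6,3,4,3,2,3,5,0,5,6,3,4,1,2,3,6,3,4,3,2,3,5,0])) (.node (.word [2,1,6,3,2,3,1,2,3,4,2,3,6,1,2,3,5,6,3,2,0,1,2,3,5,3,2,1,0,3,5,6,3,2,3,6,4,3,2,3,1,2,3,5,6,3,4,5,6,3,4,1,2,3,6,3,4,3,2,3,5,0]) (.word [1,2,3,5,3,2,1,0,3,5,6,3,2,3,6,4,3,2,3,1,2,3,5,6,3,4,1,5,3,2,4,3,2,1,3,5,6,3,4,2,3,5,3,1,2,3,4,2,3,2,0,1,2,3,5,3,2,1,0,3,5,6,3,2,3,6,4,3,2,3,1,2,3,5,6,3,4,0,1,3,2,3,5,6,3,2,3,5,6,3,4,1,2,3,6,1,0]))))) (.node (.node (.node (.node .none (.word [1,5,3,2,4,3,2,1,3,5,6,3,4,2,3,5,3,1,2,3,4,2,3,2,0,5,6,3,2,1,4,3,6,2,3,2,3,6,2,3,4,1,2,3,6,5,0,1,3,2,3,5,6,3,2,3,5,6,3,4,1,2,3,6,1,0,2,1,6,3,2,3,1,2,3,4,2,3,6,1,2,3,5,6,3,2,0,5,6,3,4,1,2,3,6,3,4,3,2,3,5,0]))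 (.node .none (.word [5,6,3,2,1,4,3,6,2,3,2,3,6,2,3,4,1,2,3,6,5,1,5,3,2,4,3,2,1,3,5,6,3,4,2,3,5,3,1,2,3,4,2,3,2,0,2,1,6,3,2,3,1,2,3,4,2,3,6,1,2,3,5,6,3,2,1,3,2,3,5,6,3,2,3,5,6,3,4,1,2,3,6,1,0,5,6,3,4,1,2,3,6,3,4,3,2,3,5,0]))) (.node (.node .none (.word [1,3,2,1,6,3,2,1,3,2,3,5,4,2,3,1,2,3,6,4,2,3,5,1,0,1,3,2,3,5,6,3,2,3,5,6,3,4,1,2,3,6,1,0,5,6,3,4,1,2,3,6,3,4,3,2,3,5,1,3,2,3,5,6,3,2,3,5,6,3,4,1,2,3,6,1,0,5,6,3,4,1,2,3,6,3,4,3,2,3,5,0,5,6,3,4,1,2,3,6,3,4,3,2,3,5,0])) (.word [5,6,3,4,1,2,3,6,3,4,3,2,3,5,0,5,6,3,2,1,4,3,6,2,3,2,3,6,2,3,4,1,2,3,6,5,1,3,2,1,6,3,2,1,3,2,3,5,4,2,3,1,2,3,6,4,2,3,5,1,5,6,3,4,1,2,3,6,3,4,3,2,3,5,0]))) (.node (.node (.node .none (.word [0,1,3,2,3,5,6,3,2,3,5,6,3,4,1,2,3,6,1,0,1,5,3,2,4,3,2,1,3,5,6,3,4,2,3,5,3,1,2,3,4,2,3,2,0,5,6,3,4,1,2,3,6,3,4,3,2,3,5,0,5,6,3,4,1,2,3,6,3,4,3,2,3,5,0]))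 .none) (.node .none (.node .none (.word [0,1,3,2,3,5,6,3,2,3,5,6,3,4,1,2,3,6,1,0,2,1,6,3,2,3,1,2,3,4,2,3,6,1,2,3,5,6,3,2,0,5,6,3,4,1,2,3,6,3,4,3,2,3,5,0,5,6,3,4,1,2,3,6,3,4,3,2,3,5,1,3,2,3,5,6,3,2,3,5,6,3,4,1,2,3,6,1,0]))))))) (.node (.node (.node (.node (.node (.node (.word [1,3,2,1,6,3,2,1,3,2,3,5,4,2,3,1,2,3,6,4,2,3,5,1,5,6,3,2,1,4,3,6,2,3,2,3,6,2,3,4,1,2,3,6,5,0,1,3,2,3,5,6,3,2,3,5,6,3,4,1,2,3,6,1,0,5,6,3,4,1,2,3,6,3,4,3,2,3,5,0]) (.word [0,1,3,2,3,5,6,3,2,3,5,6,3,4,1,2,3,6,1,0,1,3,2,1,6,3,2,1,3,2,3,5,4,2,3,1,2,3,6,4,2,3,5,1,5,6,3,4,1,2,3,6,3,4,3,2,3,5,0])) .none) (.node (.word [5,6,3,2,1,4,3,6,2,3,2,3,6,2,3,4,1,2,3,6,5,1,2,3,5,3,2,1,0,3,5,6,3,2,3,6,4,3,2,3,1,2,3,5,6,3,4,1,2,3,5,3,2,1,0,3,5,6,3,2,3,6,4,3,2,3,1,2,3,5,6,3,4,1,2,3,5,3,2,1,0,3,5,6,3,2,3,6,4,3,2,3,1,2,3,5,6,3,4,0,1,3,2,3,5,6,3,2,3,5,6,3,4,1,2,3,6,1,0,5,6,3,4,1,2,3,6,3,4,3,2,3,5,0])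 (.node .none (.word [0,1,3,2,3,5,6,3,2,3,5,6,3,4,1,2,3,6,1,0,5,6,3,2,1,4,3,6,2,3,2,3,6,2,3,4,1,2,3,6,5,1,2,3,5,3,2,1,0,3,5,6,3,2,3,6,4,3,2,3,1,2,3,5,6,3,4,0,1,3,2,3,5,6,3,2,3,5,6,3,4,1,2,3,6,1,0,5,6,3,4,1,2,3,6,3,4,3,2,3,5,0])))) (.node (.node (.node .none (.word [0,1,3,2,3,5,6,3,2,3,5,6,3,4,1,2,3,6,1,0,5,6,3,4,1,2,3,6,3,4,3,2,3,5,0,1,2,3,5,3,2,1,0,3,5,6,3,2,3,6,4,3,2,3,1,2,3,5,6,3,4,1,2,3,5,3,2,1,0,3,5,6,3,2,3,6,4,3,2,3,1,2,3,5,6,3,4,5,6,3,4,1,2,3,6,3,4,3,2,3,5,0])) (.node (.word [5,6,3,4,1,2,3,6,3,4,3,2,3,5,1,3,2,3,5,6,3,2,3,5,6,3,4,1,2,3,6,1,0,5,6,3,2,1,4,3,6,2,3,2,3,6,2,3,4,1,2,4,1,2,3,6,3,4,3,2,3,5,0]) (.word [1,3,2,1,6,3,2,1,3,2,3,5,4,2,3,1,2,3,6,4,2,3,5,2,3,5,3,2,1,0,3,5,6,3,2,3,6,4,3,2,3,1,2,3,5,6,3,4,5,6,3,2,1,4,3,6,2,3,2,3,6,2,3,4,1,2,4,1,2,3,6,3,4,3,2,3,5,0,5,6,3,4,1,2,3,6,3,4,3,2,3,5,0])))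 (.node (.node (.word [5,6,3,4,1,2,3,6,3,4,3,2,3,5,0,5,6,3,2,1,4,3,6,2,3,2,3,6,2,3,4,1,2,3,6,5,0,1,3,2,3,5,6,3,2,3,5,6,3,4,1,2,3,6,1,0,1,2,3,5,3,2,1,0,3,5,6,3,2,3,6,4,3,2,3,1,2,3,5,6,3,4,5,6,3,4,1,2,3,6,3,4,3,2,3,5,0,5,6,3,4,1,2,3,6,3,4,3,2,3,5,0]) (.word [5,6,3,4,1,2,3,6,3,4,3,2,3,5,0,5,6,3,4,1,2,3,6,3,4,3,2,3,5,1,3,2,3,5,6,3,2,3,5,6,3,4,1,2,3,6,1,0,5,6,3,2,1,4,3,6,2,3,2,3,6,2,3,4,1,2,4,1,2,3,6,3,4,3,2,3,5,0])) (.node (.word [1,3,2,1,6,3,2,1,3,2,3,5,4,2,3,1,2,3,6,4,2,3,5,1,0,1,3,2,3,5,6,3,2,3,5,6,3,4,1,2,3,6,1,0,5,6,3,4,1,2,3,6,3,4,3,2,3,5,0,1,3,2,1,6,3,2,1,3,2,3,5,4,2,3,1,2,3,6,4,2,3,5,1,5,6,3,4,1,2,3,6,3,4,3,2,3,5,0]) (.word [1,3,2,1,6,3,2,1,3,2,3,5,4,2,3,1,2,3,6,4,2,3,5,2,3,5,3,2,1,0,3,5,6,3,2,3,6,4,3,2,3,1,2,3,5,6,3,4,0,1,3,2,3,5,6,3,2,3,5,6,3,4,1,2,3,6,1,0,1,5,3,2,4,3,2,1,3,5,6,3,4,2,3,5,3,1,2,3,4,2,3,2,0,5,6,3,4,1,2,3,6,3,4,3,2,3,5,0])))))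 (.node (.node (.node (.word [1,5,3,2,4,3,2,1,3,5,6,3,4,2,3,5,3,1,2,3,4,2,3,2,0,1,5,3,2,4,3,2,1,3,5,6,3,4,2,3,5,3,1,2,3,4,2,3,2,1,3,2,3,5,6,3,2,3,5,6,3,4,1,2,3,6,1,0,5,6,3,4,1,2,3,6,3,4,3,2,3,5,0]) (.word [1,2,3,5,3,2,1,0,3,5,6,3,2,3,6,4,3,2,3,1,2,3,5,6,3,4,5,6,3,4,1,2,3,6,3,4,3,2,3,5,0,1,3,2,1,6,3,2,1,3,2,3,5,4,2,3,1,2,3,6,4,2,3,5,1,0,1,3,2,3,5,6,3,2,3,5,6,3,4,1,2,3,6,1,0])) (.node (.node (.word [1,5,3,2,4,3,2,1,3,5,6,3,4,2,3,5,3,1,2,3,4,2,3,2,0,5,6,3,4,1,2,3,6,3,4,3,2,3,5,0,1,5,3,2,4,3,2,1,3,5,6,3,4,2,3,5,3,1,2,3,4,2,3,2,0,1,2,3,5,3,2,1,0,3,5,6,3,2,3,6,4,3,2,3,1,2,3,5,6,3,4,5,6,3,4,1,2,3,6,3,4,3,2,3,5,0]) (.word [5,6,3,2,1,4,3,6,2,3,2,3,6,2,3,4,1,2,3,6,5,1,3,2,1,6,3,2,1,3,2,3,5,4,2,3,1,2,3,6,4,2,3,5,1,0,1,3,2,3,5,6,3,2,3,5,6,3,4,1,2,3,6,1,0,1,2,3,5,3,2,1,0,3,5,6,3,2,3,6,4,3,2,3,1,2,3,5,6,3,4,5,6,3,4,1,2,3,6,3,4,3,2,3,5,0]))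 (.word [2,1,6,3,2,3,1,2,3,4,2,3,6,1,2,3,5,6,3,2,0,5,6,3,4,1,2,3,6,3,4,3,2,3,5,0,1,5,3,2,4,3,2,1,3,5,6,3,4,2,3,5,3,1,2,3,4,2,3,2,0,5,6,3,4,1,2,3,6,3,4,3,2,3,5,0]))) (.node (.node (.word [1,2,3,5,3,2,1,0,3,5,6,3,2,3,6,4,3,2,3,1,2,3,5,6,3,4,5,6,3,2,1,4,3,6,2,3,2,3,6,2,3,4,1,2,3,6,5,0,1,3,2,3,5,6,3,2,3,5,6,3,4,1,2,3,6,3,2,3,5,6,3,2,3,5,6,3,4,1,2,3,6,3,2,3,5,6,3,2,3,5,6,3,4,1,2,3,6,1,0]) (.word [0,1,3,2,3,5,6,3,2,3,5,6,3,4,1,2,3,6,1,0,1,5,3,2,4,3,2,1,3,5,6,3,4,2,3,5,3,1,2,3,4,2,3,2,1,3,2,3,5,6,3,2,3,5,6,3,4,1,2,3,6,1,0])) (.node (.word [0,1,3,2,3,5,6,3,2,3,5,6,3,4,1,2,3,6,1,0,1,3,2,1,6,3,2,1,3,2,3,5,4,2,3,1,2,3,6,4,2,3,5,1,0,1,3,2,3,5,6,3,2,3,5,6,3,4,1,2,3,6,3,2,3,5,6,3,2,3,5,6,3,4,1,2,3,6,1,0,5,6,3,4,1,2,3,6,3,4,3,2,3,5,0,5,6,3,4,1,2,3,6,3,4,3,2,3,5,0])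 (.node .none (.word [1,2,3,5,3,2,1,0,3,5,6,3,2,3,6,4,3,2,3,1,2,3,5,6,3,4,5,6,3,4,1,2,3,6,3,4,3,2,3,5,0,1,5,3,2,4,3,2,1,3,5,6,3,4,2,3,5,3,1,2,3,4,2,3,2,0,1,5,3,2,4,3,2,1,3,5,6,3,4,2,3,5,3,1,2,3,4,2,3,2,1,3,2,3,5,6,3,2,3,5,6,3,4,1,2,3,6,1,0])))))) (.node (.node (.node (.node (.node (.word [5,6,3,4,1,2,3,6,3,4,3,2,3,5,0,5,6,3,4,1,2,3,6,3,4,3,2,3,5,0,5,6,3,2,1,4,3,6,2,3,2,3,6,2,3,4,1,2,3,6,5,1,2,3,5,3,2,1,0,3,5,6,3,2,3,6,4,3,2,3,1,2,3,5,6,3,4,5,6,3,4,1,2,3,6,3,4,3,2,3,5,0,5,6,3,4,1,2,3,6,3,4,3,2,3,5,0]) (.word [5,6,3,2,1,4,3,6,2,3,2,3,6,2,3,4,1,2,3,6,5,1,3,2,1,6,3,2,1,3,2,3,5,4,2,3,1,2,3,6,4,2,3,5,1,5,6,3,2,1,4,3,6,2,3,2,3,6,2,3,4,1,2,4,1,2,3,6,3,4,3,2,3,5,0,5,6,3,4,1,2,3,6,3,4,3,2,3,5,0]))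 (.node .none (.word [1,5,3,2,4,3,2,1,3,5,6,3,4,2,3,5,3,1,2,3,4,2,3,2,0,5,6,3,4,1,2,3,6,3,4,3,2,3,5,0,2,1,6,3,2,3,1,2,3,4,2,3,6,1,2,3,5,6,3,2,1,3,2,3,5,6,3,2,3,5,6,3,4,1,2,3,6,1,0]))) (.node (.node (.word [1,2,3,5,3,2,1,0,3,5,6,3,2,3,6,4,3,2,3,1,2,3,5,6,3,4,0,1,3,2,3,5,6,3,2,3,5,6,3,4,1,2,3,6,3,2,3,5,6,3,2,3,5,6,3,4,1,2,3,6,1,0,5,6,3,4,1,2,3,6,3,4,3,2,3,5,0,5,6,3,4,1,2,3,6,3,4,3,2,3,5,0]) (.word [1,2,3,5,3,2,1,0,3,5,6,3,2,3,6,4,3,2,3,1,2,3,5,6,3,4,5,6,3,4,1,2,3,6,3,4,3,2,3,5,0,5,6,3,4,1,2,3,6,3,4,3,2,3,5,1,3,2,3,5,6,3,2,3,5,6,3,4,1,2,3,6,1,0,5,6,3,4,1,2,3,6,3,4,3,2,3,5,0])) (.word [5,6,3,2,1,4,3,6,2,3,2,3,6,2,3,4,1,2,3,6,5,0,1,3,2,3,5,6,3,2,3,5,6,3,4,1,2,3,6,1,0,1,2,3,5,3,2,1,0,3,5,6,3,2,3,6,4,3,2,3,1,2,3,5,6,3,4,5,6,3,4,1,2,3,6,3,4,3,2,3,5,1,3,2,3,5,6,3,2,3,5,6,3,4,1,2,3,6,1,0])))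 (.node (.node (.node (.word [1,2,3,5,3,2,1,0,3,5,6,3,2,3,6,4,3,2,3,1,2,3,5,6,3,4,1,5,3,2,4,3,2,1,3,5,6,3,4,2,3,5,3,1,2,3,4,2,3,2,0,1,2,3,5,3,2,1,0,3,5,6,3,2,3,6,4,3,2,3,1,2,3,5,6,3,4,1,2,3,5,3,2,1,0,3,5,6,3,2,3,6,4,3,2,3,1,2,3,5,6,3,4,0,1,3,2,3,5,6,3,2,3,5,6,3,4,1,2,3,6,1,0,5,6,3,4,1,2,3,6,3,4,3,2,3,5,0]) (.word [1,3,2,1,6,3,2,1,3,2,3,5,4,2,3,1,2,3,6,4,2,3,5,1,0,1,3,2,3,5,6,3,2,3,5,6,3,4,1,2,3,6,1,0,5,6,3,4,1,2,3,6,3,4,3,2,3,5,0,5,6,3,2,1,4,3,6,2,3,2,3,6,2,3,4,1,2,4,1,2,3,6,3,4,3,2,3,5,0])) (.word [1,5,3,2,4,3,2,1,3,5,6,3,4,2,3,5,3,1,2,3,4,2,3,2,1,3,2,3,5,6,3,2,3,5,6,3,4,1,2,3,6,3,2,3,5,6,3,2,3,5,6,3,4,1,2,3,6,1,0,1,3,2,1,6,3,2,1,3,2,3,5,4,2,3,1,2,3,6,4,2,3,5,1,5,6,3,4,1,2,3,6,3,4,3,2,3,5,0]))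 (.node (.node (.word [1,3,2,1,6,3,2,1,3,2,3,5,4,2,3,1,2,3,6,4,2,3,5,2,3,5,3,2,1,0,3,5,6,3,2,3,6,4,3,2,3,1,2,3,5,6,3,4,5,6,3,4,1,2,3,6,3,4,3,2,3,5,0,5,6,3,4,1,2,3,6,3,4,3,2,3,5,0]) (.word [1,2,3,5,3,2,1,0,3,5,6,3,2,3,6,4,3,2,3,1,2,3,5,6,3,4,5,6,3,2,1,4,3,6,2,3,2,3,6,2,3,4,1,2,3,6,5,0,1,3,2,3,5,6,3,2,3,5,6,3,4,1,2,3,6,1,0,5,6,3,4,1,2,3,6,3,4,3,2,3,5,1,3,2,3,5,6,3,2,3,5,6,3,4,1,2,3,6,1,0])) (.node (.word [5,6,3,2,1,4,3,6,2,3,2,3,6,2,3,4,1,2,3,6,5,1,5,3,2,4,3,2,1,3,5,6,3,4,2,3,5,3,1,2,3,4,2,3,2,1,3,2,3,5,6,3,2,3,5,6,3,4,1,2,3,6,1,0,1,3,2,1,6,3,2,1,3,2,3,5,4,2,3,1,2,3,6,4,2,3,5,1,5,6,3,4,1,2,3,6,3,4,3,2,3,5,0]) (.word [0,1,3,2,3,5,6,3,2,3,5,6,3,4,1,2,3,6,1,0,5,6,3,2,1,4,3,6,2,3,2,3,6,2,3,4,1,2,3,6,5,0,1,3,2,3,5,6,3,2,3,5,6,3,4,1,2,3,6,3,2,3,5,6,3,2,3,5,6,3,4,1,2,3,6,1,0])))))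 (.node (.node (.node (.node (.word [5,6,3,2,1,4,3,6,2,3,2,3,6,2,3,4,1,2,3,6,5,1,2,3,5,3,2,1,0,3,5,6,3,2,3,6,4,3,2,3,1,2,3,5,6,3,4,1,5,3,2,4,3,2,1,3,5,6,3,4,2,3,5,3,1,2,3,4,2,3,2,0,5,6,3,4,1,2,3,6,3,4,3,2,3,5,0]) (.word [5,6,3,4,1,2,3,6,3,4,3,2,3,5,0,5,6,3,4,1,2,3,6,3,4,3,2,3,5,1,3,2,3,5,6,3,2,3,5,6,3,4,1,2,3,6,3,2,3,5,6,3,2,3,5,6,3,4,1,2,3,6,1,0])) (.node (.word [0,1,3,2,3,5,6,3,2,3,5,6,3,4,1,2,3,6,1,0,1,2,3,5,3,2,1,0,3,5,6,3,2,3,6,4,3,2,3,1,2,3,5,6,3,4,1,2,3,5,3,2,1,0,3,5,6,3,2,3,6,4,3,2,3,1,2,3,5,6,3,4,0,1,3,2,3,5,6,3,2,3,5,6,3,4,1,2,3,6,1,0,5,6,3,4,1,2,3,6,3,4,3,2,3,5,0]) (.word [1,2,3,5,3,2,1,0,3,5,6,3,2,3,6,4,3,2,3,1,2,3,5,6,3,4,5,6,3,4,1,2,3,6,3,4,3,2,3,5,0,2,1,6,3,2,3,1,2,3,4,2,3,6,1,2,3,5,6,3,2,1,3,2,3,5,6,3,2,3,5,6,3,4,1,2,3,6,1,0,5,6,3,4,1,2,3,6,3,4,3,2,3,5,0])))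 (.node (.node .none (.word [1,5,3,2,4,3,2,1,3,5,6,3,4,2,3,5,3,1,2,3,4,2,3,2,0,5,6,3,4,1,2,3,6,3,4,3,2,3,5,0,2,1,6,3,2,3,1,2,3,4,2,3,6,1,2,3,5,6,3,2,0,1,2,3,5,3,2,1,0,3,5,6,3,2,3,6,4,3,2,3,1,2,3,5,6,3,4,0,1,3,2,3,5,6,3,2,3,5,6,3,4,1,2,3,6,1,0])) (.node (.word [1,5,3,2,4,3,2,1,3,5,6,3,4,2,3,5,3,1,2,3,4,2,3,2,0,1,2,3,5,3,2,1,0,3,5,6,3,2,3,6,4,3,2,3,1,2,3,5,6,3,4,0,1,3,2,3,5,6,3,2,3,5,6,3,4,1,2,3,6,1,0,5,6,3,2,1,4,3,6,2,3,2,3,6,2,3,4,1,2,4,1,2,3,6,3,4,3,2,3,5,0]) (.word [5,6,3,4,1,2,3,6,3,4,3,2,3,5,0,1,2,3,5,3,2,1,0,3,5,6,3,2,3,6,4,3,2,3,1,2,3,5,6,3,4,5,6,3,4,1,2,3,6,3,4,3,2,3,5,0,1,5,3,2,4,3,2,1,3,5,6,3,4,2,3,5,3,1,2,3,4,2,3,2,1,3,2,3,5,6,3,2,3,5,6,3,4,1,2,3,6,1,0,5,6,3,4,1,2,3,6,3,4,3,2,3,5,0]))))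 (.node (.node (.word [0,1,3,2,3,5,6,3,2,3,5,6,3,4,1,2,3,6,1,0,5,6,3,2,1,4,3,6,2,3,2,3,6,2,3,4,1,2,4,1,2,3,6,3,4,3,2,3,5,0,2,1,6,3,2,3,1,2,3,4,2,3,6,1,2,3,5,6,3,2,0,5,6,3,4,1,2,3,6,3,4,3,2,3,5,0]) (.node .none (.word [1,5,3,2,4,3,2,1,3,5,6,3,4,2,3,5,3,1,2,3,4,2,3,2,0,1,2,3,5,3,2,1,0,3,5,6,3,2,3,6,4,3,2,3,1,2,3,5,6,3,4,1,3,2,1,6,3,2,1,3,2,3,5,4,2,3,1,2,3,6,4,2,3,5,1,5,6,3,4,1,2,3,6,3,4,3,2,3,5,0]))) (.node (.word [0,1,3,2,3,5,6,3,2,3,5,6,3,4,1,2,3,6,3,2,3,5,6,3,2,3,5,6,3,4,1,2,3,6,1,0,5,6,3,2,1,4,3,6,2,3,2,3,6,2,3,4,1,2,3,6,5,1,3,2,1,6,3,2,1,3,2,3,5,4,2,3,1,2,3,6,4,2,3,5,1,5,6,3,4,1,2,3,6,3,4,3,2,3,5,0]) (.node (.word [5,6,3,4,1,2,3,6,3,4,3,2,3,5,0,1,2,3,5,3,2,1,0,3,5,6,3,2,3,6,4,3,2,3,1,2,3,5,6,3,4,5,6,3,4,1,2,3,6,3,4,3,2,3,5,0,1,3,2,1,6,3,2,1,3,2,3,5,4,2,3,1,2,3,6,4,2,3,5,1,5,6,3,4,1,2,3,6,3,4,3,2,3,5,0])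 (.word [1,2,3,5,3,2,1,0,3,5,6,3,2,3,6,4,3,2,3,1,2,3,5,6,3,4,5,6,3,4,1,2,3,6,3,4,3,2,3,5,0,1,2,3,5,3,2,1,0,3,5,6,3,2,3,6,4,3,2,3,1,2,3,5,6,3,4,0,1,3,2,3,5,6,3,2,3,5,6,3,4,1,2,3,6,3,2,3,5,6,3,2,3,5,6,3,4,1,2,3,6,1,0]))))))))

/-- A subtree. -/
def sub32 : WTree :=
  (.node (.node (.node (.node (.node (.node (.node .none (.word [5,6,3,4,1,2,3,6,3,4,3,2,3,5,0,1,5,3,2,4,3,2,1,3,5,6,3,4,2,3,5,3,1,2,3,4,2,3,2,0,1,2,3,5,3,2,1,0,3,5,6,3,2,3,6,4,3,2,3,1,2,3,5,6,3,4,0,1,3,2,3,5,6,3,2,3,5,6,3,4,1,2,3,6,1,0,5,6,3,4,1,2,3,6,3,4,3,2,3,5,0,5,6,3,4,1,2,3,6,3,4,3,2,3,5,0])) (.node (.word [1,3,2,1,6,3,2,1,3,2,3,5,4,2,3,1,2,3,6,4,2,3,5,1,0,1,3,2,3,5,6,3,2,3,5,6,3,4,1,2,3,6,1,0,2,1,6,3,2,3,1,2,3,4,2,3,6,1,2,3,5,6,3,2,0,1,2,3,5,3,2,1,0,3,5,6,3,2,3,6,4,3,2,3,1,2,3,5,6,3,4,0,1,3,2,3,5,6,3,2,3,5,6,3,4,1,2,3,6,1,0,5,6,3,4,1,2,3,6,3,4,3,2,3,5,0])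 (.word [0,1,3,2,3,5,6,3,2,3,5,6,3,4,1,2,3,6,3,2,3,5,6,3,2,3,5,6,3,4,1,2,3,6,1,0,1,2,3,5,3,2,1,0,3,5,6,3,2,3,6,4,3,2,3,1,2,3,5,6,3,4,1,3,2,1,6,3,2,1,3,2,3,5,4,2,3,1,2,3,6,4,2,3,5,1,5,6,3,4,1,2,3,6,3,4,3,2,3,5,0]))) (.node (.word [0,1,3,2,3,5,6,3,2,3,5,6,3,4,1,2,3,6,1,0,1,3,2,1,6,3,2,1,3,2,3,5,4,2,3,1,2,3,6,4,2,3,5,1,0,1,3,2,3,5,6,3,2,3,5,6,3,4,1,2,3,6,1,0,1,2,3,5,3,2,1,0,3,5,6,3,2,3,6,4,3,2,3,1,2,3,5,6,3,4,5,6,3,4,1,2,3,6,3,4,3,2,3,5,0]) (.node (.word [5,6,3,4,1,2,3,6,3,4,3,2,3,5,0,1,2,3,5,3,2,1,0,3,5,6,3,2,3,6,4,3,2,3,1,2,3,5,6,3,4,5,6,3,2,1,4,3,6,2,3,2,3,6,2,3,4,1,2,3,6,5,0,1,3,2,3,5,6,3,2,3,5,6,3,4,1,2,3,6,3,2,3,5,6,3,2,3,5,6,3,4,1,2,3,6,1,0]) (.word [1,3,2,1,6,3,2,1,3,2,3,5,4,2,3,1,2,3,6,4,2,3,5,1,0,1,3,2,3,5,6,3,2,3,5,6,3,4,1,2,3,6,3,2,3,5,6,3,2,3,5,6,3,4,1,2,3,6,1,0,5,6,3,4,1,2,3,6,3,4,3,2,3,5,0]))))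 (.node (.node (.node (.word [1,5,3,2,4,3,2,1,3,5,6,3,4,2,3,5,3,1,2,3,4,2,3,2,0,1,3,2,1,6,3,2,1,3,2,3,5,4,2,3,1,2,3,6,3,2,1,3,5,6,3,4,2,3,5,3,1,2,3,4,2,3,2,1,3,2,3,5,6,3,2,3,5,6,3,4,1,2,3,6,1,0]) (.word [1,5,3,2,4,3,2,1,3,5,6,3,4,2,3,5,3,1,2,3,4,2,3,2,1,3,2,3,5,6,3,2,3,5,6,3,4,1,2,3,6,1,0,2,1,6,3,2,3,1,2,3,4,2,3,6,1,2,3,5,6,3,2,1,3,2,3,5,6,3,2,3,5,6,3,4,1,2,3,6,1,0])) (.word [1,2,3,5,3,2,1,0,3,5,6,3,2,3,6,4,3,2,3,1,2,3,5,6,3,4,5,6,3,4,1,2,3,6,3,4,3,2,3,5,0,5,6,3,2,1,4,3,6,2,3,2,3,6,2,3,4,1,2,3,6,5,1,5,3,2,4,3,2,1,3,5,6,3,4,2,3,5,3,1,2,3,4,2,3,2,0,5,6,3,4,1,2,3,6,3,4,3,2,3,5,0,5,6,3,4,1,2,3,6,3,4,3,2,3,5,0])) (.node (.node (.word [1,2,3,5,3,2,1,0,3,5,6,3,2,3,6,4,3,2,3,1,2,3,5,6,3,4,1,5,3,2,4,3,2,1,3,5,6,3,4,2,3,5,3,1,2,3,4,2,3,2,1,3,2,3,5,6,3,2,3,5,6,3,4,1,2,3,6,1,0,5,6,3,2,1,4,3,6,2,3,2,3,6,2,3,4,1,2,4,1,2,3,6,3,4,3,2,3,5,0])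 (.word [1,3,2,1,6,3,2,1,3,2,3,5,4,2,3,1,2,3,6,4,2,3,5,1,5,6,3,4,1,2,3,6,3,4,3,2,3,5,0,1,2,3,5,3,2,1,0,3,5,6,3,2,3,6,4,3,2,3,1,2,3,5,6,3,4,0,1,3,2,3,5,6,3,2,3,5,6,3,4,1,2,3,6,1,0,5,6,3,4,1,2,3,6,3,4,3,2,3,5,0,5,6,3,4,1,2,3,6,3,4,3,2,3,5,0])) .none))) (.node (.node (.node (.node (.word [1,5,3,2,4,3,2,1,3,5,6,3,4,2,3,5,3,1,2,3,4,2,3,2,0,5,6,3,2,1,4,3,6,2,3,2,3,6,2,3,4,1,2,3,6,5,0,1,3,2,3,5,6,3,2,3,5,6,3,4,1,2,3,6,1,0,5,6,3,4,1,2,3,6,3,4,3,2,3,5,0]) (.word [5,6,3,4,1,2,3,6,3,4,3,2,3,5,0,1,3,2,1,6,3,2,1,3,2,3,5,4,2,3,1,2,3,6,3,2,1,3,5,6,3,4,2,3,5,3,1,2,3,4,2,3,2,1,3,2,3,5,6,3,2,3,5,6,3,4,1,2,3,6,1,0,5,6,3,4,1,2,3,6,3,4,3,2,3,5,0])) (.word [5,6,3,2,1,4,3,6,2,3,2,3,6,2,3,4,1,2,3,6,5,1,2,3,5,3,2,1,0,3,5,6,3,2,3,6,4,3,2,3,1,2,3,5,6,3,4,1,3,2,1,6,3,2,1,3,2,3,5,4,2,3,1,2,3,6,4,2,3,5,1,5,6,3,4,1,2,3,6,3,4,3,2,3,5,1,3,2,3,5,6,3,2,3,5,6,3,4,1,2,3,6,1,0]))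 (.node (.word [1,5,3,2,4,3,2,1,3,5,6,3,4,2,3,5,3,1,2,3,4,2,3,2,0,1,2,3,5,3,2,1,0,3,5,6,3,2,3,6,4,3,2,3,1,2,3,5,6,3,4,5,6,3,4,1,2,3,6,3,4,3,2,3,5,1,3,2,3,5,6,3,2,3,5,6,3,4,1,2,3,6,1,0]) (.node .none (.word [1,2,3,5,3,2,1,0,3,5,6,3,2,3,6,4,3,2,3,1,2,3,5,6,3,4,5,6,3,4,1,2,3,6,3,4,3,2,3,5,0,5,6,3,4,1,2,3,6,3,4,3,2,3,5,1,3,2,3,5,6,3,2,3,5,6,3,4,1,2,3,6,1,0,5,6,3,2,1,4,3,6,2,3,2,3,6,2,3,4,1,2,4,1,2,3,6,3,4,3,2,3,5,0])))) (.node (.node (.node (.word [1,2,3,5,3,2,1,0,3,5,6,3,2,3,6,4,3,2,3,1,2,3,5,6,3,4,0,1,3,2,3,5,6,3,2,3,5,6,3,4,1,2,3,6,1,0,1,3,2,1,6,3,2,1,3,2,3,5,4,2,3,1,2,3,6,4,2,3,5,1,0,1,3,2,3,5,6,3,2,3,5,6,3,4,1,2,3,6,1,0,5,6,3,4,1,2,3,6,3,4,3,2,3,5,0]) (.word [0,1,3,2,3,5,6,3,2,3,5,6,3,4,1,2,3,6,1,0,5,6,3,4,1,2,3,6,3,4,3,2,3,5,0,5,6,3,2,1,4,3,6,2,3,2,3,6,2,3,4,1,2,4,1,2,3,6,3,4,3,2,3,5,0,5,6,3,4,1,2,3,6,3,4,3,2,3,5,0]))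 (.node (.word [2,1,6,3,2,3,1,2,3,4,2,3,6,1,2,3,5,6,3,2,0,5,6,3,4,1,2,3,6,3,4,3,2,3,5,1,3,2,3,5,6,3,2,3,5,6,3,4,1,2,3,6,1,0,2,1,6,3,2,3,1,2,3,4,2,3,6,1,2,3,5,6,3,2,1,3,2,3,5,6,3,2,3,5,6,3,4,1,2,3,6,1,0]) (.word [0,1,3,2,3,5,6,3,2,3,5,6,3,4,1,2,3,6,1,0,1,5,3,2,4,3,2,1,3,5,6,3,4,2,3,5,3,1,2,3,4,2,3,2,0,1,5,3,2,4,3,2,1,3,5,6,3,4,2,3,5,3,1,2,3,4,2,3,2,1,3,2,3,5,6,3,2,3,5,6,3,4,1,2,3,6,1,0]))) (.node (.word [1,5,3,2,4,3,2,1,3,5,6,3,4,2,3,5,3,1,2,3,4,2,3,2,0,1,5,3,2,4,3,2,1,3,5,6,3,4,2,3,5,3,1,2,3,4,2,3,2,0,1,5,3,2,4,3,2,1,3,5,6,3,4,2,3,5,3,1,2,3,4,2,3,2,0,5,6,3,4,1,2,3,6,3,4,3,2,3,5,0,5,6,3,4,1,2,3,6,3,4,3,2,3,5,0]) (.node .none (.word [5,6,3,4,1,2,3,6,3,4,3,2,3,5,0,5,6,3,2,1,4,3,6,2,3,2,3,6,2,3,4,1,2,4,1,2,3,6,3,4,3,2,3,5,0,1,5,3,2,4,3,2,1,3,5,6,3,4,2,3,5,3,1,2,3,4,2,3,2,1,3,2,3,5,6,3,2,3,5,6,3,4,1,2,3,6,1,0]))))))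 (.node (.node (.node (.node (.node (.word [1,3,2,1,6,3,2,1,3,2,3,5,4,2,3,1,2,3,6,3,2,1,3,5,6,3,4,2,3,5,3,1,2,3,4,2,3,2,0,5,6,3,2,1,4,3,6,2,3,2,3,6,2,3,4,1,2,3,6,5,0,1,3,2,3,5,6,3,2,3,5,6,3,4,1,2,3,6,3,2,3,5,6,3,2,3,5,6,3,4,1,2,3,6,1,0]) (.word [5,6,3,4,1,2,3,6,3,4,3,2,3,5,0,5,6,3,2,1,4,3,6,2,3,2,3,6,2,3,4,1,2,3,6,5,0,1,3,2,3,5,6,3,2,3,5,6,3,4,1,2,3,6,1,0,1,2,3,5,3,2,1,0,3,5,6,3,2,3,6,4,3,2,3,1,2,3,5,6,3,4,5,6,3,4,1,2,3,6,3,4,3,2,3,5,0])) .none) (.node (.node .none (.word [5,6,3,4,1,2,3,6,3,4,3,2,3,5,0,1,5,3,2,4,3,2,1,3,5,6,3,4,2,3,5,3,1,2,3,4,2,3,2,1,3,2,3,5,6,3,2,3,5,6,3,4,1,2,3,6,1,0,5,6,3,4,1,2,3,6,3,4,3,2,3,5,0,5,6,3,4,1,2,3,6,3,4,3,2,3,5,0])) .none)) (.node (.node (.node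 .none (.word [1,2,3,5,3,2,1,0,3,5,6,3,2,3,6,4,3,2,3,1,2,3,5,6,3,4,5,6,3,4,1,2,3,6,3,4,3,2,3,5,0,1,3,2,1,6,3,2,1,3,2,3,5,4,2,3,1,2,3,6,4,2,3,5,2,3,5,3,2,1,0,3,5,6,3,2,3,6,4,3,2,3,1,2,3,5,6,3,4,5,6,3,4,1,2,3,6,3,4,3,2,3,5,0])) (.node .none (.word [5,6,3,4,1,2,3,6,3,4,3,2,3,5,0,1,5,3,2,4,3,2,1,3,5,6,3,4,2,3,5,3,1,2,3,4,2,3,2,1,3,2,3,5,6,3,2,3,5,6,3,4,1,2,3,6,1,0,5,6,3,2,1,4,3,6,2,3,2,3,6,2,3,4,1,2,3,6,5,1,2,3,5,3,2,1,0,3,5,6,3,2,3,6,4,3,2,3,1,2,3,5,6,3,4,5,6,3,4,1,2,3,6,3,4,3,2,3,5,0]))) (.node (.node (.word [1,2,3,5,3,2,1,0,3,5,6,3,2,3,6,4,3,2,3,1,2,3,5,6,3,4,5,6,3,4,1,2,3,6,3,4,3,2,3,5,0,1,5,3,2,4,3,2,1,3,5,6,3,4,2,3,5,3,1,2,3,4,2,3,2,0,1,2,3,5,3,2,1,0,3,5,6,3,2,3,6,4,3,2,3,1,2,3,5,6,3,4,5,6,3,4,1,2,3,6,3,4,3,2,3,5,0])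 (.word [0,1,3,2,3,5,6,3,2,3,5,6,3,4,1,2,3,6,1,0,2,1,6,3,2,3,1,2,3,4,2,3,6,1,2,3,5,6,3,2,1,3,2,3,5,6,3,2,3,5,6,3,4,1,2,3,6,3,2,3,5,6,3,2,3,5,6,3,4,1,2,3,6,1,0])) (.node (.word [1,2,3,5,3,2,1,0,3,5,6,3,2,3,6,4,3,2,3,1,2,3,5,6,3,4,5,6,3,4,1,2,3,6,3,4,3,2,3,5,0,2,1,6,3,2,3,1,2,3,4,2,3,6,1,2,3,5,6,3,2,0,1,2,3,5,3,2,1,0,3,5,6,3,2,3,6,4,3,2,3,1,2,3,5,6,3,4,5,6,3,4,1,2,3,6,3,4,3,2,3,5,0]) (.word [5,6,3,4,1,2,3,6,3,4,3,2,3,5,0,1,3,2,1,6,3,2,1,3,2,3,5,4,2,3,1,2,3,6,3,2,1,3,5,6,3,4,2,3,5,3,1,2,3,4,2,3,2,0,5,6,3,4,1,2,3,6,3,4,3,2,3,5,0]))))) (.node (.node (.node (.node .none (.word [5,6,3,4,1,2,3,6,3,4,3,2,3,5,1,3,2,3,5,6,3,2,3,5,6,3,4,1,2,3,6,1,0,5,6,3,4,1,2,3,6,3,4,3,2,3,5,0,1,5,3,2,4,3,2,1,3,5,6,3,4,2,3,5,3,1,2,3,4,2,3,2,0,5,6,3,4,1,2,3,6,3,4,3,2,3,5,0]))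 (.node .none (.word [0,1,3,2,3,5,6,3,2,3,5,6,3,4,1,2,3,6,1,0,1,5,3,2,4,3,2,1,3,5,6,3,4,2,3,5,3,1,2,3,4,2,3,2,0,1,5,3,2,4,3,2,1,3,5,6,3,4,2,3,5,3,1,2,3,4,2,3,2,0,5,6,3,4,1,2,3,6,3,4,3,2,3,5,0,5,6,3,4,1,2,3,6,3,4,3,2,3,5,0,5,6,3,4,1,2,3,6,3,4,3,2,3,5,0]))) (.node (.node .none (.word [5,6,3,4,1,2,3,6,3,4,3,2,3,5,0,1,3,2,1,6,3,2,1,3,2,3,5,4,2,3,1,2,3,6,4,2,3,5,1,5,6,3,4,1,2,3,6,3,4,3,2,3,5,0,5,6,3,4,1,2,3,6,3,4,3,2,3,5,0])) (.node (.word [5,6,3,2,1,4,3,6,2,3,2,3,6,2,3,4,1,2,4,1,2,3,6,3,4,3,2,3,5,0,1,5,3,2,4,3,2,1,3,5,6,3,4,2,3,5,3,1,2,3,4,2,3,2,0,1,5,3,2,4,3,2,1,3,5,6,3,4,2,3,5,3,1,2,3,4,2,3,2,0,5,6,3,4,1,2,3,6,3,4,3,2,3,5,0]) (.word [1,2,3,5,3,2,1,0,3,5,6,3,2,3,6,4,3,2,3,1,2,3,5,6,3,4,1,2,3,5,3,2,1,0,3,5,6,3,2,3,6,4,3,2,3,1,2,3,5,6,3,4,1,3,2,1,6,3,2,1,3,2,3,5,4,2,3,1,2,3,6,4,2,3,5,1,0,1,3,2,3,5,6,3,2,3,5,6,3,4,1,2,3,6,1,0,5,6,3,4,1,2,3,6,3,4,3,2,3,5,0]))))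 (.node (.node (.word [5,6,3,4,1,2,3,6,3,4,3,2,3,5,1,3,2,3,5,6,3,2,3,5,6,3,4,1,2,3,6,3,2,3,5,6,3,2,3,5,6,3,4,1,2,3,6,1,0,1,5,3,2,4,3,2,1,3,5,6,3,4,2,3,5,3,1,2,3,4,2,3,2,0,5,6,3,4,1,2,3,6,3,4,3,2,3,5,0]) (.node .none (.word [1,2,3,5,3,2,1,0,3,5,6,3,2,3,6,4,3,2,3,1,2,3,5,6,3,4,5,6,3,2,1,4,3,6,2,3,2,3,6,2,3,4,1,2,4,1,2,3,6,3,4,3,2,3,5,1,3,2,3,5,6,3,2,3,5,6,3,4,1,2,3,6,1,0,5,6,3,4,1,2,3,6,3,4,3,2,3,5,0]))) (.node (.node .none (.word [1,2,3,5,3,2,1,0,3,5,6,3,2,3,6,4,3,2,3,1,2,3,5,6,3,4,0,1,3,2,3,5,6,3,2,3,5,6,3,4,1,2,3,6,1,0,5,6,3,2,1,4,3,6,2,3,2,3,6,2,3,4,1,2,3,6,5,0,1,3,2,3,5,6,3,2,3,5,6,3,4,1,2,3,6,3,2,3,5,6,3,2,3,5,6,3,4,1,2,3,6,1,0,5,6,3,4,1,2,3,6,3,4,3,2,3,5,0])) (.node .none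 (.word [1,2,3,5,3,2,1,0,3,5,6,3,2,3,6,4,3,2,3,1,2,3,5,6,3,4,0,1,3,2,3,5,6,3,2,3,5,6,3,4,1,2,3,6,1,0,5,6,3,4,1,2,3,6,3,4,3,2,3,5,0,5,6,3,4,1,2,3,6,3,4,3,2,3,5,0,5,6,3,4,1,2,3,6,3,4,3,2,3,5,0]))))))) (.node (.node (.node (.node (.node (.node (.word [5,6,3,4,1,2,3,6,3,4,3,2,3,5,0,5,6,3,2,1,4,3,6,2,3,2,3,6,2,3,4,1,2,3,6,5,0,1,3,2,3,5,6,3,2,3,5,6,3,4,1,2,3,6,1,0,1,2,3,5,3,2,1,0,3,5,6,3,2,3,6,4,3,2,3,1,2,3,5,6,3,4,0,1,3,2,3,5,6,3,2,3,5,6,3,4,1,2,3,6,1,0]) (.word [1,3,2,1,6,3,2,1,3,2,3,5,4,2,3,1,2,3,6,3,2,1,3,5,6,3,4,2,3,5,3,1,2,3,4,2,3,2,1,3,2,3,5,6,3,2,3,5,6,3,4,1,2,3,6,1,0,5,6,3,2,1,4,3,6,2,3,2,3,6,2,3,4,1,2,4,1,2,3,6,3,4,3,2,3,5,0])) .none) (.node .none (.word [0,1,3,2,3,5,6,3,2,3,5,6,3,4,1,2,3,6,1,0,2,1,6,3,2,3,1,2,3,4,2,3,6,1,2,3,5,6,3,2,0,1,2,3,5,3,2,1,0,3,5,6,3,2,3,6,4,3,2,3,1,2,3,5,6,3,4,5,6,3,4,1,2,3,6,3,4,3,2,3,5,1,3,2,3,5,6,3,2,3,5,6,3,4,1,2,3,6,1,0])))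 (.node (.node (.node (.word [1,2,3,5,3,2,1,0,3,5,6,3,2,3,6,4,3,2,3,1,2,3,5,6,3,4,1,5,3,2,4,3,2,1,3,5,6,3,4,2,3,5,3,1,2,3,4,2,3,2,0,1,2,3,5,3,2,1,0,3,5,6,3,2,3,6,4,3,2,3,1,2,3,5,6,3,4,0,1,3,2,3,5,6,3,2,3,5,6,3,4,1,2,3,6,3,2,3,5,6,3,2,3,5,6,3,4,1,2,3,6,1,0]) (.word [1,2,3,5,3,2,1,0,3,5,6,3,2,3,6,4,3,2,3,1,2,3,5,6,3,4,1,2,3,5,3,2,1,0,3,5,6,3,2,3,6,4,3,2,3,1,2,3,5,6,3,4,5,6,3,2,1,4,3,6,2,3,2,3,6,2,3,4,1,2,3,6,5,0,1,3,2,3,5,6,3,2,3,5,6,3,4,1,2,3,6,3,2,3,5,6,3,2,3,5,6,3,4,1,2,3,6,1,0])) (.node .none (.word [5,6,3,2,1,4,3,6,2,3,2,3,6,2,3,4,1,2,4,1,2,3,6,3,4,3,2,3,5,0,1,3,2,1,6,3,2,1,3,2,3,5,4,2,3,1,2,3,6,4,2,3,5,1,0,1,3,2,3,5,6,3,2,3,5,6,3,4,1,2,3,6,1,0,5,6,3,4,1,2,3,6,3,4,3,2,3,5,0])))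 (.node (.word [1,2,3,5,3,2,1,0,3,5,6,3,2,3,6,4,3,2,3,1,2,3,5,6,3,4,1,2,3,5,3,2,1,0,3,5,6,3,2,3,6,4,3,2,3,1,2,3,5,6,3,4,5,6,3,2,1,4,3,6,2,3,2,3,6,2,3,4,1,2,4,1,2,3,6,3,4,3,2,3,5,0]) (.node (.word [0,1,3,2,3,5,6,3,2,3,5,6,3,4,1,2,3,6,3,2,3,5,6,3,2,3,5,6,3,4,1,2,3,6,1,0,5,6,3,4,1,2,3,6,3,4,3,2,3,5,0,1,3,2,1,6,3,2,1,3,2,3,5,4,2,3,1,2,3,6,4,2,3,5,1,0,1,3,2,3,5,6,3,2,3,5,6,3,4,1,2,3,6,1,0]) (.word [5,6,3,4,1,2,3,6,3,4,3,2,3,5,0,5,6,3,2,1,4,3,6,2,3,2,3,6,2,3,4,1,2,3,6,5,0,1,3,2,3,5,6,3,2,3,5,6,3,4,1,2,3,6,1,0,5,6,3,4,1,2,3,6,3,4,3,2,3,5,1,3,2,3,5,6,3,2,3,5,6,3,4,1,2,3,6,1,0]))))) (.node (.node (.node (.node (.word [1,5,3,2,4,3,2,1,3,5,6,3,4,2,3,5,3,1,2,3,4,2,3,2,0,5,6,3,4,1,2,3,6,3,4,3,2,3,5,0,1,5,3,2,4,3,2,1,3,5,6,3,4,2,3,5,3,1,2,3,4,2,3,2,0,1,5,3,2,4,3,2,1,3,5,6,3,4,2,3,5,3,1,2,3,4,2,3,2,0,5,6,3,4,1,2,3,6,3,4,3,2,3,5,0])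 (.word [5,6,3,2,1,4,3,6,2,3,2,3,6,2,3,4,1,2,4,1,2,3,6,3,4,3,2,3,5,1,3,2,3,5,6,3,2,3,5,6,3,4,1,2,3,6,1,0,5,6,3,4,1,2,3,6,3,4,3,2,3,5,0,5,6,3,4,1,2,3,6,3,4,3,2,3,5,0])) (.node (.word [1,5,3,2,4,3,2,1,3,5,6,3,4,2,3,5,3,1,2,3,4,2,3,2,0,1,2,3,5,3,2,1,0,3,5,6,3,2,3,6,4,3,2,3,1,2,3,5,6,3,4,5,6,3,4,1,2,3,6,3,4,3,2,3,5,1,3,2,3,5,6,3,2,3,5,6,3,4,1,2,3,6,1,0,5,6,3,4,1,2,3,6,3,4,3,2,3,5,0]) (.word [1,5,3,2,4,3,2,1,3,5,6,3,4,2,3,5,3,1,2,3,4,2,3,2,0,1,2,3,5,3,2,1,0,3,5,6,3,2,3,6,4,3,2,3,1,2,3,5,6,3,4,1,5,3,2,4,3,2,1,3,5,6,3,4,2,3,5,3,1,2,3,4,2,3,2,0,1,2,3,5,3,2,1,0,3,5,6,3,2,3,6,4,3,2,3,1,2,3,5,6,3,4,0,1,3,2,3,5,6,3,2,3,5,6,3,4,1,2,3,6,1,0,5,6,3,4,1,2,3,6,3,4,3,2,3,5,0]))) (.node (.node (.word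 [1,5,3,2,4,3,2,1,3,5,6,3,4,2,3,5,3,1,2,3,4,2,3,2,0,5,6,3,4,1,2,3,6,3,4,3,2,3,5,0,1,2,3,5,3,2,1,0,3,5,6,3,2,3,6,4,3,2,3,1,2,3,5,6,3,4,1,2,3,5,3,2,1,0,3,5,6,3,2,3,6,4,3,2,3,1,2,3,5,6,3,4,0,1,3,2,3,5,6,3,2,3,5,6,3,4,1,2,3,6,1,0]) (.word [5,6,3,2,1,4,3,6,2,3,2,3,6,2,3,4,1,2,4,1,2,3,6,3,4,3,2,3,5,0,1,2,3,5,3,2,1,0,3,5,6,3,2,3,6,4,3,2,3,1,2,3,5,6,3,4,1,2,3,5,3,2,1,0,3,5,6,3,2,3,6,4,3,2,3,1,2,3,5,6,3,4,1,2,3,5,3,2,1,0,3,5,6,3,2,3,6,4,3,2,3,1,2,3,5,6,3,4,5,6,3,4,1,2,3,6,3,4,3,2,3,5,0])) (.node (.word [1,2,3,5,3,2,1,0,3,5,6,3,2,3,6,4,3,2,3,1,2,3,5,6,3,4,1,2,3,5,3,2,1,0,3,5,6,3,2,3,6,4,3,2,3,1,2,3,5,6,3,4,5,6,3,4,1,2,3,6,3,4,3,2,3,5,0,5,6,3,4,1,2,3,6,3,4,3,2,3,5,0,5,6,3,4,1,2,3,6,3,4,3,2,3,5,0])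 (.word [1,5,3,2,4,3,2,1,3,5,6,3,4,2,3,5,3,1,2,3,4,2,3,2,0,1,2,3,5,3,2,1,0,3,5,6,3,2,3,6,4,3,2,3,1,2,3,5,6,3,4,1,2,3,5,3,2,1,0,3,5,6,3,2,3,6,4,3,2,3,1,2,3,5,6,3,4,0,1,3,2,3,5,6,3,2,3,5,6,3,4,1,2,3,6,1,0,5,6,3,4,1,2,3,6,3,4,3,2,3,5,0])))) (.node (.node (.word [1,2,3,5,3,2,1,0,3,5,6,3,2,3,6,4,3,2,3,1,2,3,5,6,3,4,1,3,2,1,6,3,2,1,3,2,3,5,4,2,3,1,2,3,6,3,2,1,3,5,6,3,4,2,3,5,3,1,2,3,4,2,3,2,1,3,2,3,5,6,3,2,3,5,6,3,4,1,2,3,6,1,0,5,6,3,4,1,2,3,6,3,4,3,2,3,5,0]) (.node (.word [5,6,3,2,1,4,3,6,2,3,2,3,6,2,3,4,1,2,3,6,5,0,1,3,2,3,5,6,3,2,3,5,6,3,4,1,2,3,6,1,0,5,6,3,2,1,4,3,6,2,3,2,3,6,2,3,4,1,2,3,6,5,1,2,3,5,3,2,1,0,3,5,6,3,2,3,6,4,3,2,3,1,2,3,5,6,3,4,5,6,3,4,1,2,3,6,3,4,3,2,3,5,0]) (.word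 [0,1,3,2,3,5,6,3,2,3,5,6,3,4,1,2,3,6,1,0,5,6,3,4,1,2,3,6,3,4,3,2,3,5,0,1,5,3,2,4,3,2,1,3,5,6,3,4,2,3,5,3,1,2,3,4,2,3,2,0,5,6,3,4,1,2,3,6,3,4,3,2,3,5,0,5,6,3,4,1,2,3,6,3,4,3,2,3,5,0]))) (.node (.word [0,1,3,2,3,5,6,3,2,3,5,6,3,4,1,2,3,6,3,2,3,5,6,3,2,3,5,6,3,4,1,2,3,6,1,0,5,6,3,4,1,2,3,6,3,4,3,2,3,5,0,5,6,3,4,1,2,3,6,3,4,3,2,3,5,0]) (.node (.word [0,1,3,2,3,5,6,3,2,3,5,6,3,4,1,2,3,6,1,0,1,2,3,5,3,2,1,0,3,5,6,3,2,3,6,4,3,2,3,1,2,3,5,6,3,4,1,2,3,5,3,2,1,0,3,5,6,3,2,3,6,4,3,2,3,1,2,3,5,6,3,4,1,2,3,5,3,2,1,0,3,5,6,3,2,3,6,4,3,2,3,1,2,3,5,6,3,4,5,6,3,4,1,2,3,6,3,4,3,2,3,5,0]) (.word [5,6,3,2,1,4,3,6,2,3,2,3,6,2,3,4,1,2,3,6,5,1,5,3,2,4,3,2,1,3,5,6,3,4,2,3,5,3,1,2,3,4,2,3,2,0,5,6,3,4,1,2,3,6,3,4,3,2,3,5,0,5,6,3,4,1,2,3,6,3,4,3,2,3,5,0]))))))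 (.node (.node (.node (.node (.node (.word [0,1,3,2,3,5,6,3,2,3,5,6,3,4,1,2,3,6,1,0,1,2,3,5,3,2,1,0,3,5,6,3,2,3,6,4,3,2,3,1,2,3,5,6,3,4,1,5,3,2,4,3,2,1,3,5,6,3,4,2,3,5,3,1,2,3,4,2,3,2,0,1,2,3,5,3,2,1,0,3,5,6,3,2,3,6,4,3,2,3,1,2,3,5,6,3,4,5,6,3,4,1,2,3,6,3,4,3,2,3,5,0]) (.word [1,5,3,2,4,3,2,1,3,5,6,3,4,2,3,5,3,1,2,3,4,2,3,2,0,1,5,3,2,4,3,2,1,3,5,6,3,4,2,3,5,3,1,2,3,4,2,3,2,0,5,6,3,4,1,2,3,6,3,4,3,2,3,5,0,5,6,3,2,1,4,3,6,2,3,2,3,6,2,3,4,1,2,4,1,2,3,6,3,4,3,2,3,5,0])) (.word [5,6,3,4,1,2,3,6,3,4,3,2,3,5,0,5,6,3,4,1,2,3,6,3,4,3,2,3,5,0,1,2,3,5,3,2,1,0,3,5,6,3,2,3,6,4,3,2,3,1,2,3,5,6,3,4,1,2,3,5,3,2,1,0,3,5,6,3,2,3,6,4,3,2,3,1,2,3,5,6,3,4,5,6,3,4,1,2,3,6,3,4,3,2,3,5,0])) (.node (.word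 [5,6,3,2,1,4,3,6,2,3,2,3,6,2,3,4,1,2,3,6,5,1,2,3,5,3,2,1,0,3,5,6,3,2,3,6,4,3,2,3,1,2,3,5,6,3,4,5,6,3,4,1,2,3,6,3,4,3,2,3,5,1,3,2,3,5,6,3,2,3,5,6,3,4,1,2,3,6,1,0,5,6,3,4,1,2,3,6,3,4,3,2,3,5,0]) (.node (.word [1,3,2,1,6,3,2,1,3,2,3,5,4,2,3,1,2,3,6,3,2,1,3,5,6,3,4,2,3,5,3,1,2,3,4,2,3,2,1,3,2,3,5,6,3,2,3,5,6,3,4,1,2,3,6,1,0,1,5,3,2,4,3,2,1,3,5,6,3,4,2,3,5,3,1,2,3,4,2,3,2,0,5,6,3,4,1,2,3,6,3,4,3,2,3,5,0]) (.word [1,2,3,5,3,2,1,0,3,5,6,3,2,3,6,4,3,2,3,1,2,3,5,6,3,4,2,1,6,3,2,3,1,2,3,4,2,3,6,1,2,3,5,6,3,2,1,3,2,3,5,6,3,2,3,5,6,3,4,1,2,3,6,1,0,2,1,6,3,2,3,1,2,3,4,2,3,6,1,2,3,5,6,3,2,0,5,6,3,4,1,2,3,6,3,4,3,2,3,5,0])))) (.node (.node (.node .none (.word [2,1,6,3,2,3,1,2,3,4,2,3,6,1,2,3,5,6,3,2,0,5,6,3,4,1,2,3,6,3,4,3,2,3,5,1,3,2,3,5,6,3,2,3,5,6,3,4,1,2,3,6,1,0,1,3,2,1,6,3,2,1,3,2,3,5,4,2,3,1,2,3,6,4,2,3,5,1,5,6,3,4,1,2,3,6,3,4,3,2,3,5,0]))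 (.word [5,6,3,2,1,4,3,6,2,3,2,3,6,2,3,4,1,2,3,6,5,1,5,3,2,4,3,2,1,3,5,6,3,4,2,3,5,3,1,2,3,4,2,3,2,0,5,6,3,4,1,2,3,6,3,4,3,2,3,5,1,3,2,3,5,6,3,2,3,5,6,3,4,1,2,3,6,3,2,3,5,6,3,2,3,5,6,3,4,1,2,3,6,1,0])) (.node (.node (.word [1,3,2,1,6,3,2,1,3,2,3,5,4,2,3,1,2,3,6,4,2,3,5,1,5,6,3,4,1,2,3,6,3,4,3,2,3,5,0,1,5,3,2,4,3,2,1,3,5,6,3,4,2,3,5,3,1,2,3,4,2,3,2,0,1,5,3,2,4,3,2,1,3,5,6,3,4,2,3,5,3,1,2,3,4,2,3,2,0,5,6,3,4,1,2,3,6,3,4,3,2,3,5,0]) (.word [0,1,3,2,3,5,6,3,2,3,5,6,3,4,1,2,3,6,1,0,1,2,3,5,3,2,1,0,3,5,6,3,2,3,6,4,3,2,3,1,2,3,5,6,3,4,0,1,3,2,3,5,6,3,2,3,5,6,3,4,1,2,3,6,3,2,3,5,6,3,2,3,5,6,3,4,1,2,3,6,1,0,5,6,3,4,1,2,3,6,3,4,3,2,3,5,0,5,6,3,4,1,2,3,6,3,4,3,2,3,5,0])) (.node .none (.word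 [0,1,3,2,3,5,6,3,2,3,5,6,3,4,1,2,3,6,1,0,5,6,3,4,1,2,3,6,3,4,3,2,3,5,0,2,1,6,3,2,3,1,2,3,4,2,3,6,1,2,3,5,6,3,2,0,1,2,3,5,3,2,1,0,3,5,6,3,2,3,6,4,3,2,3,1,2,3,5,6,3,4,5,6,3,4,1,2,3,6,3,4,3,2,3,5,0]))))) (.node (.node (.node (.node (.word [5,6,3,4,1,2,3,6,3,4,3,2,3,5,0,5,6,3,2,1,4,3,6,2,3,2,3,6,2,3,4,1,2,3,6,5,1,5,3,2,4,3,2,1,3,5,6,3,4,2,3,5,3,1,2,3,4,2,3,2,0,5,6,3,4,1,2,3,6,3,4,3,2,3,5,0]) (.word [0,1,3,2,3,5,6,3,2,3,5,6,3,4,1,2,3,6,1,0,5,6,3,2,1,4,3,6,2,3,2,3,6,2,3,4,1,2,3,6,5,0,1,3,2,3,5,6,3,2,3,5,6,3,4,1,2,3,6,3,2,3,5,6,3,2,3,5,6,3,4,1,2,3,6,1,0,5,6,3,4,1,2,3,6,3,4,3,2,3,5,0])) (.node (.word [1,5,3,2,4,3,2,1,3,5,6,3,4,2,3,5,3,1,2,3,4,2,3,2,1,3,2,3,5,6,3,2,3,5,6,3,4,1,2,3,6,1,0,1,5,3,2,4,3,2,1,3,5,6,3,4,2,3,5,3,1,2,3,4,2,3,2,1,3,2,3,5,6,3,2,3,5,6,3,4,1,2,3,6,1,0,5,6,3,4,1,2,3,6,3,4,3,2,3,5,0,5,6,3,4,1,2,3,6,3,4,3,2,3,5,0])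 (.word [5,6,3,4,1,2,3,6,3,4,3,2,3,5,0,5,6,3,4,1,2,3,6,3,4,3,2,3,5,0,5,6,3,4,1,2,3,6,3,4,3,2,3,5,0,2,1,6,3,2,3,1,2,3,4,2,3,6,1,2,3,5,6,3,2,0,5,6,3,4,1,2,3,6,3,4,3,2,3,5,0]))) (.node (.node (.word [0,1,3,2,3,5,6,3,2,3,5,6,3,4,1,2,3,6,1,0,2,1,6,3,2,3,1,2,3,4,2,3,6,1,2,3,5,6,3,2,0,1,5,3,2,4,3,2,1,3,5,6,3,4,2,3,5,3,1,2,3,4,2,3,2,0,5,6,3,4,1,2,3,6,3,4,3,2,3,5,0]) (.word [5,6,3,4,1,2,3,6,3,4,3,2,3,5,1,3,2,3,5,6,3,2,3,5,6,3,4,1,2,3,6,1,0,5,6,3,4,1,2,3,6,3,4,3,2,3,5,1,3,2,3,5,6,3,2,3,5,6,3,4,1,2,3,6,1,0])) (.node .none (.word [1,2,3,5,3,2,1,0,3,5,6,3,2,3,6,4,3,2,3,1,2,3,5,6,3,4,1,2,3,5,3,2,1,0,3,5,6,3,2,3,6,4,3,2,3,1,2,3,5,6,3,4,5,6,3,4,1,2,3,6,3,4,3,2,3,5,0,2,1,6,3,2,3,1,2,3,4,2,3,6,1,2,3,5,6,3,2,1,3,2,3,5,6,3,2,3,5,6,3,4,1,2,3,6,1,0]))))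 (.node (.node (.node (.word [1,5,3,2,4,3,2,1,3,5,6,3,4,2,3,5,3,1,2,3,4,2,3,2,0,1,5,3,2,4,3,2,1,3,5,6,3,4,2,3,5,3,1,2,3,4,2,3,2,0,5,6,3,4,1,2,3,6,3,4,3,2,3,5,0,1,5,3,2,4,3,2,1,3,5,6,3,4,2,3,5,3,1,2,3,4,2,3,2,1,3,2,3,5,6,3,2,3,5,6,3,4,1,2,3,6,1,0]) (.word [2,1,6,3,2,3,1,2,3,4,2,3,6,1,2,3,5,6,3,2,0,5,6,3,4,1,2,3,6,3,4,3,2,3,5,0])) (.node .none (.word [1,3,2,1,6,3,2,1,3,2,3,5,4,2,3,1,2,3,6,4,2,3,5,1,5,6,3,2,1,4,3,6,2,3,2,3,6,2,3,4,1,2,4,1,2,3,6,3,4,3,2,3,5,0,5,6,3,2,1,4,3,6,2,3,2,3,6,2,3,4,1,2,4,1,2,3,6,3,4,3,2,3,5,0]))) (.node (.word [5,6,3,4,1,2,3,6,3,4,3,2,3,5,0,1,2,3,5,3,2,1,0,3,5,6,3,2,3,6,4,3,2,3,1,2,3,5,6,3,4,1,2,3,5,3,2,1,0,3,5,6,3,2,3,6,4,3,2,3,1,2,3,5,6,3,4,5,6,3,2,1,4,3,6,2,3,2,3,6,2,3,4,1,2,4,1,2,3,6,3,4,3,2,3,5,0])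 (.node (.word [5,6,3,4,1,2,3,6,3,4,3,2,3,5,0,1,5,3,2,4,3,2,1,3,5,6,3,4,2,3,5,3,1,2,3,4,2,3,2,0,1,2,3,5,3,2,1,0,3,5,6,3,2,3,6,4,3,2,3,1,2,3,5,6,3,4,0,1,3,2,3,5,6,3,2,3,5,6,3,4,1,2,3,6,1,0]) (.word [0,1,3,2,3,5,6,3,2,3,5,6,3,4,1,2,3,6,3,2,3,5,6,3,2,3,5,6,3,4,1,2,3,6,1,0,5,6,3,2,1,4,3,6,2,3,2,3,6,2,3,4,1,2,4,1,2,3,6,3,4,3,2,3,5,1,3,2,3,5,6,3,2,3,5,6,3,4,1,2,3,6,1,0]))))))))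

/-- A subtree. -/
def sub33 : WTree :=
  (.node (.node (.node (.node (.node (.node (.node (.word [5,6,3,4,1,2,3,6,3,4,3,2,3,5,0,5,6,3,2,1,4,3,6,2,3,2,3,6,2,3,4,1,2,3,6,5,0,1,3,2,3,5,6,3,2,3,5,6,3,4,1,2,3,6,3,2,3,5,6,3,2,3,5,6,3,4,1,2,3,6,1,0,5,6,3,4,1,2,3,6,3,4,3,2,3,5,0,5,6,3,4,1,2,3,6,3,4,3,2,3,5,0]) (.word [5,6,3,4,1,2,3,6,3,4,3,2,3,5,0,1,5,3,2,4,3,2,1,3,5,6,3,4,2,3,5,3,1,2,3,4,2,3,2,0,2,1,6,3,2,3,1,2,3,4,2,3,6,1,2,3,5,6,3,2,0,5,6,3,4,1,2,3,6,3,4,3,2,3,5,0])) .none) (.node (.word [1,2,3,5,3,2,1,0,3,5,6,3,2,3,6,4,3,2,3,1,2,3,5,6,3,4,5,6,3,2,1,4,3,6,2,3,2,3,6,2,3,4,1,2,3,6,5,1,3,2,1,6,3,2,1,3,2,3,5,4,2,3,1,2,3,6,4,2,3,5,1,5,6,3,4,1,2,3,6,3,4,3,2,3,5,0]) (.word [1,2,3,5,3,2,1,0,3,5,6,3,2,3,6,4,3,2,3,1,2,3,5,6,3,4,5,6,3,4,1,2,3,6,3,4,3,2,3,5,1,3,2,3,5,6,3,2,3,5,6,3,4,1,2,3,6,3,2,3,5,6,3,2,3,5,6,3,4,1,2,3,6,1,0])))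 (.node (.node (.word [0,1,3,2,3,5,6,3,2,3,5,6,3,4,1,2,3,6,1,0,5,6,3,4,1,2,3,6,3,4,3,2,3,5,0,1,5,3,2,4,3,2,1,3,5,6,3,4,2,3,5,3,1,2,3,4,2,3,2,0,1,5,3,2,4,3,2,1,3,5,6,3,4,2,3,5,3,1,2,3,4,2,3,2,0,5,6,3,4,1,2,3,6,3,4,3,2,3,5,0]) (.node (.word [1,3,2,1,6,3,2,1,3,2,3,5,4,2,3,1,2,3,6,3,2,1,3,5,6,3,4,2,3,5,3,1,2,3,4,2,3,2,0,5,6,3,2,1,4,3,6,2,3,2,3,6,2,3,4,1,2,4,1,2,3,6,3,4,3,2,3,5,0,5,6,3,4,1,2,3,6,3,4,3,2,3,5,0]) (.word [2,1,6,3,2,3,1,2,3,4,2,3,6,1,2,3,5,6,3,2,0,1,3,2,1,6,3,2,1,3,2,3,5,4,2,3,1,2,3,6,4,2,3,5,1,0,1,3,2,3,5,6,3,2,3,5,6,3,4,1,2,3,6,1,0,5,6,3,4,1,2,3,6,3,4,3,2,3,5,0]))) (.node (.node (.word [5,6,3,4,1,2,3,6,3,4,3,2,3,5,0,2,1,6,3,2,3,1,2,3,4,2,3,6,1,2,3,5,6,3,2,0,1,5,3,2,4,3,2,1,3,5,6,3,4,2,3,5,3,1,2,3,4,2,3,2,0,1,5,3,2,4,3,2,1,3,5,6,3,4,2,3,5,3,1,2,3,4,2,3,2,0,5,6,3,4,1,2,3,6,3,4,3,2,3,5,0])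 (.word [0,1,3,2,3,5,6,3,2,3,5,6,3,4,1,2,3,6,1,0,5,6,3,2,1,4,3,6,2,3,2,3,6,2,3,4,1,2,3,6,5,0,1,3,2,3,5,6,3,2,3,5,6,3,4,1,2,3,6,1,0,1,2,3,5,3,2,1,0,3,5,6,3,2,3,6,4,3,2,3,1,2,3,5,6,3,4,5,6,3,4,1,2,3,6,3,4,3,2,3,5,0])) (.word [1,3,2,1,6,3,2,1,3,2,3,5,4,2,3,1,2,3,6,4,2,3,5,1,5,6,3,4,1,2,3,6,3,4,3,2,3,5,1,3,2,3,5,6,3,2,3,5,6,3,4,1,2,3,6,1,0])))) (.node (.node (.node (.node (.word [2,1,6,3,2,3,1,2,3,4,2,3,6,1,2,3,5,6,3,2,1,3,2,3,5,6,3,2,3,5,6,3,4,1,2,3,6,1,0,5,6,3,4,1,2,3,6,3,4,3,2,3,5,1,3,2,3,5,6,3,2,3,5,6,3,4,1,2,3,6,3,2,3,5,6,3,2,3,5,6,3,4,1,2,3,6,1,0]) (.word [5,6,3,4,1,2,3,6,3,4,3,2,3,5,0,5,6,3,4,1,2,3,6,3,4,3,2,3,5,0,1,5,3,2,4,3,2,1,3,5,6,3,4,2,3,5,3,1,2,3,4,2,3,2,0,1,2,3,5,3,2,1,0,3,5,6,3,2,3,6,4,3,2,3,1,2,3,5,6,3,4,5,6,3,4,1,2,3,6,3,4,3,2,3,5,0]))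 (.node (.word [1,3,2,1,6,3,2,1,3,2,3,5,4,2,3,1,2,3,6,4,2,3,5,2,3,5,3,2,1,0,3,5,6,3,2,3,6,4,3,2,3,1,2,3,5,6,3,4,0,1,3,2,3,5,6,3,2,3,5,6,3,4,1,2,3,6,1,0,5,6,3,4,1,2,3,6,3,4,3,2,3,5,0]) (.word [5,6,3,4,1,2,3,6,3,4,3,2,3,5,0,1,2,3,5,3,2,1,0,3,5,6,3,2,3,6,4,3,2,3,1,2,3,5,6,3,4,1,3,2,1,6,3,2,1,3,2,3,5,4,2,3,1,2,3,6,4,2,3,5,1,5,6,3,4,1,2,3,6,3,4,3,2,3,5,1,3,2,3,5,6,3,2,3,5,6,3,4,1,2,3,6,1,0]))) (.node (.node .none (.word [2,1,6,3,2,3,1,2,3,4,2,3,6,1,2,3,5,6,3,2,0,5,6,3,2,1,4,3,6,2,3,2,3,6,2,3,4,1,2,3,6,5,1,2,3,5,3,2,1,0,3,5,6,3,2,3,6,4,3,2,3,1,2,3,5,6,3,4,5,6,3,4,1,2,3,6,3,4,3,2,3,5,1,3,2,3,5,6,3,2,3,5,6,3,4,1,2,3,6,1,0,5,6,3,4,1,2,3,6,3,4,3,2,3,5,0])) (.node (.word [5,6,3,4,1,2,3,6,3,4,3,2,3,5,1,3,2,3,5,6,3,2,3,5,6,3,4,1,2,3,6,1,0,2,1,6,3,2,3,1,2,3,4,2,3,6,1,2,3,5,6,3,2,0,1,2,3,5,3,2,1,0,3,5,6,3,2,3,6,4,3,2,3,1,2,3,5,6,3,4,5,6,3,4,1,2,3,6,3,4,3,2,3,5,0])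 (.word [1,2,3,5,3,2,1,0,3,5,6,3,2,3,6,4,3,2,3,1,2,3,5,6,3,4,0,1,3,2,3,5,6,3,2,3,5,6,3,4,1,2,3,6,1,0,2,1,6,3,2,3,1,2,3,4,2,3,6,1,2,3,5,6,3,2,0,1,5,3,2,4,3,2,1,3,5,6,3,4,2,3,5,3,1,2,3,4,2,3,2,0,5,6,3,4,1,2,3,6,3,4,3,2,3,5,0])))) (.node (.node (.node (.word [5,6,3,4,1,2,3,6,3,4,3,2,3,5,0,1,3,2,1,6,3,2,1,3,2,3,5,4,2,3,1,2,3,6,3,2,1,3,5,6,3,4,2,3,5,3,1,2,3,4,2,3,2,1,3,2,3,5,6,3,2,3,5,6,3,4,1,2,3,6,1,0]) (.word [1,5,3,2,4,3,2,1,3,5,6,3,4,2,3,5,3,1,2,3,4,2,3,2,0,5,6,3,2,1,4,3,6,2,3,2,3,6,2,3,4,1,2,3,6,5,1,3,2,1,6,3,2,1,3,2,3,5,4,2,3,1,2,3,6,4,2,3,5,1,0,1,3,2,3,5,6,3,2,3,5,6,3,4,1,2,3,6,1,0,5,6,3,4,1,2,3,6,3,4,3,2,3,5,0])) (.node (.word [1,2,3,5,3,2,1,0,3,5,6,3,2,3,6,4,3,2,3,1,2,3,5,6,3,4,1,2,3,5,3,2,1,0,3,5,6,3,2,3,6,4,3,2,3,1,2,3,5,6,3,4,1,2,3,5,3,2,1,0,3,5,6,3,2,3,6,4,3,2,3,1,2,3,5,6,3,4,0,1,3,2,3,5,6,3,2,3,5,6,3,4,1,2,3,6,1,0,5,6,3,4,1,2,3,6,3,4,3,2,3,5,0])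 (.word [1,2,3,5,3,2,1,0,3,5,6,3,2,3,6,4,3,2,3,1,2,3,5,6,3,4,0,1,3,2,3,5,6,3,2,3,5,6,3,4,1,2,3,6,1,0,5,6,3,4,1,2,3,6,3,4,3,2,3,5,1,3,2,3,5,6,3,2,3,5,6,3,4,1,2,3,6,3,2,3,5,6,3,2,3,5,6,3,4,1,2,3,6,1,0]))) (.node (.word [5,6,3,2,1,4,3,6,2,3,2,3,6,2,3,4,1,2,4,1,2,3,6,3,4,3,2,3,5,0,5,6,3,2,1,4,3,6,2,3,2,3,6,2,3,4,1,2,4,1,2,3,6,3,4,3,2,3,5,0,5,6,3,4,1,2,3,6,3,4,3,2,3,5,0]) (.node (.word [1,3,2,1,6,3,2,1,3,2,3,5,4,2,3,1,2,3,6,4,2,3,5,1,5,6,3,4,1,2,3,6,3,4,3,2,3,5,0,5,6,3,2,1,4,3,6,2,3,2,3,6,2,3,4,1,2,4,1,2,3,6,3,4,3,2,3,5,0]) (.word [1,3,2,1,6,3,2,1,3,2,3,5,4,2,3,1,2,3,6,4,2,3,5,1,5,6,3,4,1,2,3,6,3,4,3,2,3,5,0,1,3,2,1,6,3,2,1,3,2,3,5,4,2,3,1,2,3,6,3,2,1,3,5,6,3,4,2,3,5,3,1,2,3,4,2,3,2,1,3,2,3,5,6,3,2,3,5,6,3,4,1,2,3,6,1,0]))))))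 (.node (.node (.node (.node (.node (.word [2,1,6,3,2,3,1,2,3,4,2,3,6,1,2,3,5,6,3,2,1,3,2,3,5,6,3,2,3,5,6,3,4,1,2,3,6,1,0,5,6,3,2,1,4,3,6,2,3,2,3,6,2,3,4,1,2,4,1,2,3,6,3,4,3,2,3,5,0]) (.word [1,2,3,5,3,2,1,0,3,5,6,3,2,3,6,4,3,2,3,1,2,3,5,6,3,4,2,1,6,3,2,3,1,2,3,4,2,3,6,1,2,3,5,6,3,2,0,1,5,3,2,4,3,2,1,3,5,6,3,4,2,3,5,3,1,2,3,4,2,3,2,0,5,6,3,4,1,2,3,6,3,4,3,2,3,5,0,5,6,3,4,1,2,3,6,3,4,3,2,3,5,0])) (.node .none (.word [5,6,3,2,1,4,3,6,2,3,2,3,6,2,3,4,1,2,4,1,2,3,6,3,4,3,2,3,5,1,3,2,3,5,6,3,2,3,5,6,3,4,1,2,3,6,1,0,1,3,2,1,6,3,2,1,3,2,3,5,4,2,3,1,2,3,6,4,2,3,5,1,5,6,3,4,1,2,3,6,3,4,3,2,3,5,0]))) (.node (.node .none (.word [5,6,3,4,1,2,3,6,3,4,3,2,3,5,0,5,6,3,4,1,2,3,6,3,4,3,2,3,5,0,1,3,2,1,6,3,2,1,3,2,3,5,4,2,3,1,2,3,6,3,2,1,3,5,6,3,4,2,3,5,3,1,2,3,4,2,3,2,0,5,6,3,4,1,2,3,6,3,4,3,2,3,5,0]))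 (.node (.word [0,1,3,2,3,5,6,3,2,3,5,6,3,4,1,2,3,6,1,0,5,6,3,4,1,2,3,6,3,4,3,2,3,5,0]) (.word [1,5,3,2,4,3,2,1,3,5,6,3,4,2,3,5,3,1,2,3,4,2,3,2,0,2,1,6,3,2,3,1,2,3,4,2,3,6,1,2,3,5,6,3,2,0,1,2,3,5,3,2,1,0,3,5,6,3,2,3,6,4,3,2,3,1,2,3,5,6,3,4,5,6,3,4,1,2,3,6,3,4,3,2,3,5,0])))) (.node (.node (.node .none (.word [1,5,3,2,4,3,2,1,3,5,6,3,4,2,3,5,3,1,2,3,4,2,3,2,1,3,2,3,5,6,3,2,3,5,6,3,4,1,2,3,6,3,2,3,5,6,3,2,3,5,6,3,4,1,2,3,6,1,0,5,6,3,4,1,2,3,6,3,4,3,2,3,5,0])) (.node (.word [0,1,3,2,3,5,6,3,2,3,5,6,3,4,1,2,3,6,1,0,1,2,3,5,3,2,1,0,3,5,6,3,2,3,6,4,3,2,3,1,2,3,5,6,3,4,1,5,3,2,4,3,2,1,3,5,6,3,4,2,3,5,3,1,2,3,4,2,3,2,0,5,6,3,4,1,2,3,6,3,4,3,2,3,5,0]) (.word [5,6,3,4,1,2,3,6,3,4,3,2,3,5,1,3,2,3,5,6,3,2,3,5,6,3,4,1,2,3,6,3,2,3,5,6,3,2,3,5,6,3,4,1,2,3,6,1,0,5,6,3,2,1,4,3,6,2,3,2,3,6,2,3,4,1,2,4,1,2,3,6,3,4,3,2,3,5,0])))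 (.node (.node (.word [1,3,2,1,6,3,2,1,3,2,3,5,4,2,3,1,2,3,6,4,2,3,5,2,3,5,3,2,1,0,3,5,6,3,2,3,6,4,3,2,3,1,2,3,5,6,3,4,5,6,3,4,1,2,3,6,3,4,3,2,3,5,1,3,2,3,5,6,3,2,3,5,6,3,4,1,2,3,6,1,0,5,6,3,4,1,2,3,6,3,4,3,2,3,5,0]) (.word [2,1,6,3,2,3,1,2,3,4,2,3,6,1,2,3,5,6,3,2,0,1,3,2,1,6,3,2,1,3,2,3,5,4,2,3,1,2,3,6,4,2,3,5,1,5,6,3,4,1,2,3,6,3,4,3,2,3,5,0,2,1,6,3,2,3,1,2,3,4,2,3,6,1,2,3,5,6,3,2,1,3,2,3,5,6,3,2,3,5,6,3,4,1,2,3,6,1,0,5,6,3,4,1,2,3,6,3,4,3,2,3,5,0])) (.word [5,6,3,2,1,4,3,6,2,3,2,3,6,2,3,4,1,2,3,6,5,0,1,3,2,3,5,6,3,2,3,5,6,3,4,1,2,3,6,1,0,1,3,2,1,6,3,2,1,3,2,3,5,4,2,3,1,2,3,6,4,2,3,5,1,5,6,3,4,1,2,3,6,3,4,3,2,3,5,0,5,6,3,4,1,2,3,6,3,4,3,2,3,5,0])))) (.node (.node (.node (.node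 (.word [1,3,2,1,6,3,2,1,3,2,3,5,4,2,3,1,2,3,6,4,2,3,5,1,5,6,3,4,1,2,3,6,3,4,3,2,3,5,1,3,2,3,5,6,3,2,3,5,6,3,4,1,2,3,6,3,2,3,5,6,3,2,3,5,6,3,4,1,2,3,6,1,0]) (.word [5,6,3,4,1,2,3,6,3,4,3,2,3,5,1,3,2,3,5,6,3,2,3,5,6,3,4,1,2,3,6,1,0,1,3,2,1,6,3,2,1,3,2,3,5,4,2,3,1,2,3,6,4,2,3,5,1,5,6,3,4,1,2,3,6,3,4,3,2,3,5,0])) (.node (.word [5,6,3,4,1,2,3,6,3,4,3,2,3,5,0,1,3,2,1,6,3,2,1,3,2,3,5,4,2,3,1,2,3,6,4,2,3,5,1,0,1,3,2,3,5,6,3,2,3,5,6,3,4,1,2,3,6,1,0,1,2,3,5,3,2,1,0,3,5,6,3,2,3,6,4,3,2,3,1,2,3,5,6,3,4,5,6,3,4,1,2,3,6,3,4,3,2,3,5,0]) (.word [0,1,3,2,3,5,6,3,2,3,5,6,3,4,1,2,3,6,1,0,1,5,3,2,4,3,2,1,3,5,6,3,4,2,3,5,3,1,2,3,4,2,3,2,0,1,2,3,5,3,2,1,0,3,5,6,3,2,3,6,4,3,2,3,1,2,3,5,6,3,4,5,6,3,4,1,2,3,6,3,4,3,2,3,5,0])))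 (.node (.node (.word [0,1,3,2,3,5,6,3,2,3,5,6,3,4,1,2,3,6,1,0,1,5,3,2,4,3,2,1,3,5,6,3,4,2,3,5,3,1,2,3,4,2,3,2,0,5,6,3,2,1,4,3,6,2,3,2,3,6,2,3,4,1,2,3,6,5,0,1,3,2,3,5,6,3,2,3,5,6,3,4,1,2,3,6,3,2,3,5,6,3,2,3,5,6,3,4,1,2,3,6,1,0]) (.word [5,6,3,4,1,2,3,6,3,4,3,2,3,5,0,1,3,2,1,6,3,2,1,3,2,3,5,4,2,3,1,2,3,6,4,2,3,5,1,0,1,3,2,3,5,6,3,2,3,5,6,3,4,1,2,3,6,1,0,5,6,3,4,1,2,3,6,3,4,3,2,3,5,1,3,2,3,5,6,3,2,3,5,6,3,4,1,2,3,6,1,0])) (.node (.word [1,5,3,2,4,3,2,1,3,5,6,3,4,2,3,5,3,1,2,3,4,2,3,2,0,5,6,3,2,1,4,3,6,2,3,2,3,6,2,3,4,1,2,4,1,2,3,6,3,4,3,2,3,5,1,3,2,3,5,6,3,2,3,5,6,3,4,1,2,3,6,1,0,5,6,3,4,1,2,3,6,3,4,3,2,3,5,0]) (.word [1,5,3,2,4,3,2,1,3,5,6,3,4,2,3,5,3,1,2,3,4,2,3,2,0,1,2,3,5,3,2,1,0,3,5,6,3,2,3,6,4,3,2,3,1,2,3,5,6,3,4,5,6,3,4,1,2,3,6,3,4,3,2,3,5,0]))))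 (.node (.node (.node (.word [1,3,2,1,6,3,2,1,3,2,3,5,4,2,3,1,2,3,6,4,2,3,5,1,0,1,3,2,3,5,6,3,2,3,5,6,3,4,1,2,3,6,1,0,5,6,3,4,1,2,3,6,3,4,3,2,3,5,0,5,6,3,4,1,2,3,6,3,4,3,2,3,5,0]) (.word [1,3,2,1,6,3,2,1,3,2,3,5,4,2,3,1,2,3,6,3,2,1,3,5,6,3,4,2,3,5,3,1,2,3,4,2,3,2,1,3,2,3,5,6,3,2,3,5,6,3,4,1,2,3,6,3,2,3,5,6,3,2,3,5,6,3,4,1,2,3,6,1,0])) (.node .none (.word [2,1,6,3,2,3,1,2,3,4,2,3,6,1,2,3,5,6,3,2,0,1,2,3,5,3,2,1,0,3,5,6,3,2,3,6,4,3,2,3,1,2,3,5,6,3,4,0,1,3,2,3,5,6,3,2,3,5,6,3,4,1,2,3,6,1,0,1,3,2,1,6,3,2,1,3,2,3,5,4,2,3,1,2,3,6,4,2,3,5,1,5,6,3,4,1,2,3,6,3,4,3,2,3,5,0]))) (.node (.word [5,6,3,4,1,2,3,6,3,4,3,2,3,5,0,5,6,3,4,1,2,3,6,3,4,3,2,3,5,0,1,5,3,2,4,3,2,1,3,5,6,3,4,2,3,5,3,1,2,3,4,2,3,2,0,5,6,3,4,1,2,3,6,3,4,3,2,3,5,0,5,6,3,4,1,2,3,6,3,4,3,2,3,5,0])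 (.node (.word [1,3,2,1,6,3,2,1,3,2,3,5,4,2,3,1,2,3,6,4,2,3,5,1,0,1,3,2,3,5,6,3,2,3,5,6,3,4,1,2,3,6,1,0,5,6,3,2,1,4,3,6,2,3,2,3,6,2,3,4,1,2,3,6,5,1,2,3,5,3,2,1,0,3,5,6,3,2,3,6,4,3,2,3,1,2,3,5,6,3,4,0,1,3,2,3,5,6,3,2,3,5,6,3,4,1,2,3,6,1,0]) (.word [5,6,3,2,1,4,3,6,2,3,2,3,6,2,3,4,1,2,3,6,5,1,3,2,1,6,3,2,1,3,2,3,5,4,2,3,1,2,3,6,4,2,3,5,1,5,6,3,2,1,4,3,6,2,3,2,3,6,2,3,4,1,2,3,6,5,0,1,3,2,3,5,6,3,2,3,5,6,3,4,1,2,3,6,1,0,5,6,3,4,1,2,3,6,3,4,3,2,3,5,0]))))))) (.node (.node (.node (.node (.node (.word [5,6,3,4,1,2,3,6,3,4,3,2,3,5,0,1,5,3,2,4,3,2,1,3,5,6,3,4,2,3,5,3,1,2,3,4,2,3,2,0,1,5,3,2,4,3,2,1,3,5,6,3,4,2,3,5,3,1,2,3,4,2,3,2,0,5,6,3,4,1,2,3,6,3,4,3,2,3,5,0,5,6,3,4,1,2,3,6,3,4,3,2,3,5,0])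 (.node (.word [5,6,3,2,1,4,3,6,2,3,2,3,6,2,3,4,1,2,4,1,2,3,6,3,4,3,2,3,5,0,5,6,3,4,1,2,3,6,3,4,3,2,3,5,1,3,2,3,5,6,3,2,3,5,6,3,4,1,2,3,6,3,2,3,5,6,3,2,3,5,6,3,4,1,2,3,6,1,0]) (.word [1,2,3,5,3,2,1,0,3,5,6,3,2,3,6,4,3,2,3,1,2,3,5,6,3,4,1,5,3,2,4,3,2,1,3,5,6,3,4,2,3,5,3,1,2,3,4,2,3,2,1,3,2,3,5,6,3,2,3,5,6,3,4,1,2,3,6,1,0,5,6,3,4,1,2,3,6,3,4,3,2,3,5,0,5,6,3,4,1,2,3,6,3,4,3,2,3,5,0]))) (.node (.node (.word [5,6,3,4,1,2,3,6,3,4,3,2,3,5,0,5,6,3,4,1,2,3,6,3,4,3,2,3,5,1,3,2,3,5,6,3,2,3,5,6,3,4,1,2,3,6,1,0,2,1,6,3,2,3,1,2,3,4,2,3,6,1,2,3,5,6,3,2,1,3,2,3,5,6,3,2,3,5,6,3,4,1,2,3,6,1,0]) (.word [1,5,3,2,4,3,2,1,3,5,6,3,4,2,3,5,3,1,2,3,4,2,3,2,0,5,6,3,2,1,4,3,6,2,3,2,3,6,2,3,4,1,2,3,6,5,1,2,3,5,3,2,1,0,3,5,6,3,2,3,6,4,3,2,3,1,2,3,5,6,3,4,5,6,3,4,1,2,3,6,3,4,3,2,3,5,1,3,2,3,5,6,3,2,3,5,6,3,4,1,2,3,6,1,0,5,6,3,4,1,2,3,6,3,4,3,2,3,5,0]))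 (.word [1,3,2,1,6,3,2,1,3,2,3,5,4,2,3,1,2,3,6,4,2,3,5,1,0,1,3,2,3,5,6,3,2,3,5,6,3,4,1,2,3,6,1,0,5,6,3,4,1,2,3,6,3,4,3,2,3,5,1,3,2,3,5,6,3,2,3,5,6,3,4,1,2,3,6,1,0]))) (.node (.node (.node (.word [5,6,3,2,1,4,3,6,2,3,2,3,6,2,3,4,1,2,3,6,5,1,5,3,2,4,3,2,1,3,5,6,3,4,2,3,5,3,1,2,3,4,2,3,2,1,3,2,3,5,6,3,2,3,5,6,3,4,1,2,3,6,3,2,3,5,6,3,2,3,5,6,3,4,1,2,3,6,3,2,3,5,6,3,2,3,5,6,3,4,1,2,3,6,1,0]) (.word [5,6,3,2,1,4,3,6,2,3,2,3,6,2,3,4,1,2,3,6,5,0,1,3,2,3,5,6,3,2,3,5,6,3,4,1,2,3,6,1,0,5,6,3,4,1,2,3,6,3,4,3,2,3,5,0])) (.node (.word [1,5,3,2,4,3,2,1,3,5,6,3,4,2,3,5,3,1,2,3,4,2,3,2,0,1,3,2,1,6,3,2,1,3,2,3,5,4,2,3,1,2,3,6,4,2,3,5,1,5,6,3,2,1,4,3,6,2,3,2,3,6,2,3,4,1,2,4,1,2,3,6,3,4,3,2,3,5,0,5,6,3,4,1,2,3,6,3,4,3,2,3,5,0])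 (.word [5,6,3,4,1,2,3,6,3,4,3,2,3,5,1,3,2,3,5,6,3,2,3,5,6,3,4,1,2,3,6,1,0,1,2,3,5,3,2,1,0,3,5,6,3,2,3,6,4,3,2,3,1,2,3,5,6,3,4,5,6,3,4,1,2,3,6,3,4,3,2,3,5,1,3,2,3,5,6,3,2,3,5,6,3,4,1,2,3,6,1,0]))) (.node (.node (.word [5,6,3,4,1,2,3,6,3,4,3,2,3,5,0,5,6,3,4,1,2,3,6,3,4,3,2,3,5,0,5,6,3,2,1,4,3,6,2,3,2,3,6,2,3,4,1,2,4,1,2,3,6,3,4,3,2,3,5,0,5,6,3,4,1,2,3,6,3,4,3,2,3,5,0]) (.word [5,6,3,2,1,4,3,6,2,3,2,3,6,2,3,4,1,2,3,6,5,1,2,3,5,3,2,1,0,3,5,6,3,2,3,6,4,3,2,3,1,2,3,5,6,3,4,5,6,3,2,1,4,3,6,2,3,2,3,6,2,3,4,1,2,3,6,5,0,1,3,2,3,5,6,3,2,3,5,6,3,4,1,2,3,6,3,2,3,5,6,3,2,3,5,6,3,4,1,2,3,6,1,0])) (.node (.word [5,6,3,4,1,2,3,6,3,4,3,2,3,5,0,5,6,3,4,1,2,3,6,3,4,3,2,3,5,0,5,6,3,4,1,2,3,6,3,4,3,2,3,5,1,3,2,3,5,6,3,2,3,5,6,3,4,1,2,3,6,1,0])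 (.word [0,1,3,2,3,5,6,3,2,3,5,6,3,4,1,2,3,6,1,0,5,6,3,2,1,4,3,6,2,3,2,3,6,2,3,4,1,2,3,6,5,1,5,3,2,4,3,2,1,3,5,6,3,4,2,3,5,3,1,2,3,4,2,3,2,1,3,2,3,5,6,3,2,3,5,6,3,4,1,2,3,6,3,2,3,5,6,3,2,3,5,6,3,4,1,2,3,6,1,0]))))) (.node (.node (.node (.node .none (.word [5,6,3,4,1,2,3,6,3,4,3,2,3,5,0,5,6,3,4,1,2,3,6,3,4,3,2,3,5,0,1,3,2,1,6,3,2,1,3,2,3,5,4,2,3,1,2,3,6,4,2,3,5,1,0,1,3,2,3,5,6,3,2,3,5,6,3,4,1,2,3,6,1,0,5,6,3,4,1,2,3,6,3,4,3,2,3,5,0,5,6,3,4,1,2,3,6,3,4,3,2,3,5,0])) (.node .none (.word [0,1,3,2,3,5,6,3,2,3,5,6,3,4,1,2,3,6,1,0,1,3,2,1,6,3,2,1,3,2,3,5,4,2,3,1,2,3,6,4,2,3,5,1,5,6,3,4,1,2,3,6,3,4,3,2,3,5,0,1,3,2,1,6,3,2,1,3,2,3,5,4,2,3,1,2,3,6,4,2,3,5,1,0,1,3,2,3,5,6,3,2,3,5,6,3,4,1,2,3,6,1,0])))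 (.node .none (.node (.word [0,1,3,2,3,5,6,3,2,3,5,6,3,4,1,2,3,6,1,0,5,6,3,2,1,4,3,6,2,3,2,3,6,2,3,4,1,2,3,6,5,0,1,3,2,3,5,6,3,2,3,5,6,3,4,1,2,3,6,1,0,5,6,3,4,1,2,3,6,3,4,3,2,3,5,0]) (.word [1,3,2,1,6,3,2,1,3,2,3,5,4,2,3,1,2,3,6,4,2,3,5,2,3,5,3,2,1,0,3,5,6,3,2,3,6,4,3,2,3,1,2,3,5,6,3,4,5,6,3,4,1,2,3,6,3,4,3,2,3,5,0,1,5,3,2,4,3,2,1,3,5,6,3,4,2,3,5,3,1,2,3,4,2,3,2,0,5,6,3,4,1,2,3,6,3,4,3,2,3,5,0,5,6,3,4,1,2,3,6,3,4,3,2,3,5,0])))) (.node (.node (.node (.word [1,5,3,2,4,3,2,1,3,5,6,3,4,2,3,5,3,1,2,3,4,2,3,2,0,1,2,3,5,3,2,1,0,3,5,6,3,2,3,6,4,3,2,3,1,2,3,5,6,3,4,1,3,2,1,6,3,2,1,3,2,3,5,4,2,3,1,2,3,6,4,2,3,5,1,0,1,3,2,3,5,6,3,2,3,5,6,3,4,1,2,3,6,1,0]) (.word [1,3,2,1,6,3,2,1,3,2,3,5,4,2,3,1,2,3,6,4,2,3,5,1,5,6,3,4,1,2,3,6,3,4,3,2,3,5,1,3,2,3,5,6,3,2,3,5,6,3,4,1,2,3,6,1,0,5,6,3,4,1,2,3,6,3,4,3,2,3,5,0]))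 .none) (.node (.node (.word [5,6,3,2,1,4,3,6,2,3,2,3,6,2,3,4,1,2,4,1,2,3,6,3,4,3,2,3,5,0,2,1,6,3,2,3,1,2,3,4,2,3,6,1,2,3,5,6,3,2,1,3,2,3,5,6,3,2,3,5,6,3,4,1,2,3,6,1,0,5,6,3,4,1,2,3,6,3,4,3,2,3,5,0]) (.word [0,1,3,2,3,5,6,3,2,3,5,6,3,4,1,2,3,6,1,0,1,5,3,2,4,3,2,1,3,5,6,3,4,2,3,5,3,1,2,3,4,2,3,2,1,3,2,3,5,6,3,2,3,5,6,3,4,1,2,3,6,1,0,5,6,3,4,1,2,3,6,3,4,3,2,3,5,0])) (.node .none (.word [2,1,6,3,2,3,1,2,3,4,2,3,6,1,2,3,5,6,3,2,0,1,5,3,2,4,3,2,1,3,5,6,3,4,2,3,5,3,1,2,3,4,2,3,2,1,3,2,3,5,6,3,2,3,5,6,3,4,1,2,3,6,3,2,3,5,6,3,2,3,5,6,3,4,1,2,3,6,1,0])))))) (.node (.node (.node (.node (.node (.word [5,6,3,2,1,4,3,6,2,3,2,3,6,2,3,4,1,2,3,6,5,1,2,3,5,3,2,1,0,3,5,6,3,2,3,6,4,3,2,3,1,2,3,5,6,3,4,0,1,3,2,3,5,6,3,2,3,5,6,3,4,1,2,3,6,1,0,1,3,2,1,6,3,2,1,3,2,3,5,4,2,3,1,2,3,6,4,2,3,5,1,5,6,3,4,1,2,3,6,3,4,3,2,3,5,0])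 (.word [5,6,3,4,1,2,3,6,3,4,3,2,3,5,0,5,6,3,2,1,4,3,6,2,3,2,3,6,2,3,4,1,2,4,1,2,3,6,3,4,3,2,3,5,1,3,2,3,5,6,3,2,3,5,6,3,4,1,2,3,6,3,2,3,5,6,3,2,3,5,6,3,4,1,2,3,6,1,0])) (.node (.word [0,1,3,2,3,5,6,3,2,3,5,6,3,4,1,2,3,6,1,0,1,3,2,1,6,3,2,1,3,2,3,5,4,2,3,1,2,3,6,4,2,3,5,1,0,1,3,2,3,5,6,3,2,3,5,6,3,4,1,2,3,6,1,0,1,3,2,1,6,3,2,1,3,2,3,5,4,2,3,1,2,3,6,4,2,3,5,1,5,6,3,4,1,2,3,6,3,4,3,2,3,5,0]) (.word [1,2,3,5,3,2,1,0,3,5,6,3,2,3,6,4,3,2,3,1,2,3,5,6,3,4,0,1,3,2,3,5,6,3,2,3,5,6,3,4,1,2,3,6,1,0,5,6,3,4,1,2,3,6,3,4,3,2,3,5,0,1,5,3,2,4,3,2,1,3,5,6,3,4,2,3,5,3,1,2,3,4,2,3,2,0,5,6,3,4,1,2,3,6,3,4,3,2,3,5,0]))) (.node (.node (.word [0,1,3,2,3,5,6,3,2,3,5,6,3,4,1,2,3,6,1,0,1,2,3,5,3,2,1,0,3,5,6,3,2,3,6,4,3,2,3,1,2,3,5,6,3,4,1,5,3,2,4,3,2,1,3,5,6,3,4,2,3,5,3,1,2,3,4,2,3,2,1,3,2,3,5,6,3,2,3,5,6,3,4,1,2,3,6,1,0,5,6,3,4,1,2,3,6,3,4,3,2,3,5,0,5,6,3,4,1,2,3,6,3,4,3,2,3,5,0])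 (.word [5,6,3,4,1,2,3,6,3,4,3,2,3,5,0,1,2,3,5,3,2,1,0,3,5,6,3,2,3,6,4,3,2,3,1,2,3,5,6,3,4,5,6,3,2,1,4,3,6,2,3,2,3,6,2,3,4,1,2,3,6,5,1,5,3,2,4,3,2,1,3,5,6,3,4,2,3,5,3,1,2,3,4,2,3,2,1,3,2,3,5,6,3,2,3,5,6,3,4,1,2,3,6,1,0,5,6,3,4,1,2,3,6,3,4,3,2,3,5,0])) (.word [1,2,3,5,3,2,1,0,3,5,6,3,2,3,6,4,3,2,3,1,2,3,5,6,3,4,0,1,3,2,3,5,6,3,2,3,5,6,3,4,1,2,3,6,1,0,5,6,3,4,1,2,3,6,3,4,3,2,3,5,0,1,2,3,5,3,2,1,0,3,5,6,3,2,3,6,4,3,2,3,1,2,3,5,6,3,4,5,6,3,4,1,2,3,6,3,4,3,2,3,5,0,5,6,3,4,1,2,3,6,3,4,3,2,3,5,0]))) (.node (.node (.node .none (.word [5,6,3,4,1,2,3,6,3,4,3,2,3,5,0,1,2,3,5,3,2,1,0,3,5,6,3,2,3,6,4,3,2,3,1,2,3,5,6,3,4,1,5,3,2,4,3,2,1,3,5,6,3,4,2,3,5,3,1,2,3,4,2,3,2,1,3,2,3,5,6,3,2,3,5,6,3,4,1,2,3,6,1,0,5,6,3,4,1,2,3,6,3,4,3,2,3,5,0]))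 (.node .none (.word [0,1,3,2,3,5,6,3,2,3,5,6,3,4,1,2,3,6,1,0,2,1,6,3,2,3,1,2,3,4,2,3,6,1,2,3,5,6,3,2,0,1,3,2,1,6,3,2,1,3,2,3,5,4,2,3,1,2,3,6,4,2,3,5,1,5,6,3,4,1,2,3,6,3,4,3,2,3,5,0,1,2,3,5,3,2,1,0,3,5,6,3,2,3,6,4,3,2,3,1,2,3,5,6,3,4,5,6,3,4,1,2,3,6,3,4,3,2,3,5,0]))) (.node .none (.node (.word [0,1,3,2,3,5,6,3,2,3,5,6,3,4,1,2,3,6,1,0,2,1,6,3,2,3,1,2,3,4,2,3,6,1,2,3,5,6,3,2,0,1,3,2,1,6,3,2,1,3,2,3,5,4,2,3,1,2,3,6,4,2,3,5,1,0,1,3,2,3,5,6,3,2,3,5,6,3,4,1,2,3,6,1,0,5,6,3,4,1,2,3,6,3,4,3,2,3,5,0]) (.word [1,5,3,2,4,3,2,1,3,5,6,3,4,2,3,5,3,1,2,3,4,2,3,2,0,5,6,3,4,1,2,3,6,3,4,3,2,3,5,0,1,3,2,1,6,3,2,1,3,2,3,5,4,2,3,1,2,3,6,4,2,3,5,1,5,6,3,2,1,4,3,6,2,3,2,3,6,2,3,4,1,2,3,6,5,0,1,3,2,3,5,6,3,2,3,5,6,3,4,1,2,3,6,1,0,5,6,3,4,1,2,3,6,3,4,3,2,3,5,0])))))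 (.node (.node (.node (.node (.word [5,6,3,4,1,2,3,6,3,4,3,2,3,5,0,1,2,3,5,3,2,1,0,3,5,6,3,2,3,6,4,3,2,3,1,2,3,5,6,3,4,1,2,3,5,3,2,1,0,3,5,6,3,2,3,6,4,3,2,3,1,2,3,5,6,3,4,5,6,3,4,1,2,3,6,3,4,3,2,3,5,1,3,2,3,5,6,3,2,3,5,6,3,4,1,2,3,6,1,0]) (.word [0,1,3,2,3,5,6,3,2,3,5,6,3,4,1,2,3,6,1,0,5,6,3,4,1,2,3,6,3,4,3,2,3,5,0,1,2,3,5,3,2,1,0,3,5,6,3,2,3,6,4,3,2,3,1,2,3,5,6,3,4,5,6,3,4,1,2,3,6,3,4,3,2,3,5,0,5,6,3,4,1,2,3,6,3,4,3,2,3,5,0])) (.node .none (.word [0,1,3,2,3,5,6,3,2,3,5,6,3,4,1,2,3,6,1,0,1,5,3,2,4,3,2,1,3,5,6,3,4,2,3,5,3,1,2,3,4,2,3,2,1,3,2,3,5,6,3,2,3,5,6,3,4,1,2,3,6,1,0,5,6,3,4,1,2,3,6,3,4,3,2,3,5,0,5,6,3,4,1,2,3,6,3,4,3,2,3,5,0]))) (.node (.node .none (.word [1,3,2,1,6,3,2,1,3,2,3,5,4,2,3,1,2,3,6,4,2,3,5,2,3,5,3,2,1,0,3,5,6,3,2,3,6,4,3,2,3,1,2,3,5,6,3,4,5,6,3,4,1,2,3,6,3,4,3,2,3,5,1,3,2,3,5,6,3,2,3,5,6,3,4,1,2,3,6,1,0]))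 (.node .none (.word [2,1,6,3,2,3,1,2,3,4,2,3,6,1,2,3,5,6,3,2,0,1,5,3,2,4,3,2,1,3,5,6,3,4,2,3,5,3,1,2,3,4,2,3,2,0,5,6,3,2,1,4,3,6,2,3,2,3,6,2,3,4,1,2,3,6,5,1,3,2,1,6,3,2,1,3,2,3,5,4,2,3,1,2,3,6,4,2,3,5,1,0,1,3,2,3,5,6,3,2,3,5,6,3,4,1,2,3,6,1,0,5,6,3,4,1,2,3,6,3,4,3,2,3,5,0])))) (.node (.node (.word [1,5,3,2,4,3,2,1,3,5,6,3,4,2,3,5,3,1,2,3,4,2,3,2,1,3,2,3,5,6,3,2,3,5,6,3,4,1,2,3,6,1,0,5,6,3,4,1,2,3,6,3,4,3,2,3,5,0,2,1,6,3,2,3,1,2,3,4,2,3,6,1,2,3,5,6,3,2,0,1,2,3,5,3,2,1,0,3,5,6,3,2,3,6,4,3,2,3,1,2,3,5,6,3,4,5,6,3,4,1,2,3,6,3,4,3,2,3,5,0]) (.node (.word [5,6,3,4,1,2,3,6,3,4,3,2,3,5,1,3,2,3,5,6,3,2,3,5,6,3,4,1,2,3,6,1,0,1,5,3,2,4,3,2,1,3,5,6,3,4,2,3,5,3,1,2,3,4,2,3,2,0,2,1,6,3,2,3,1,2,3,4,2,3,6,1,2,3,5,6,3,2,1,3,2,3,5,6,3,2,3,5,6,3,4,1,2,3,6,1,0])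 (.word [5,6,3,4,1,2,3,6,3,4,3,2,3,5,0,2,1,6,3,2,3,1,2,3,4,2,3,6,1,2,3,5,6,3,2,0,1,2,3,5,3,2,1,0,3,5,6,3,2,3,6,4,3,2,3,1,2,3,5,6,3,4,5,6,3,4,1,2,3,6,3,4,3,2,3,5,0,5,6,3,4,1,2,3,6,3,4,3,2,3,5,0]))) (.node (.node (.word [1,3,2,1,6,3,2,1,3,2,3,5,4,2,3,1,2,3,6,4,2,3,5,1,5,6,3,2,1,4,3,6,2,3,2,3,6,2,3,4,1,2,3,6,5,1,3,2,1,6,3,2,1,3,2,3,5,4,2,3,1,2,3,6,4,2,3,5,1,5,6,3,4,1,2,3,6,3,4,3,2,3,5,0,5,6,3,4,1,2,3,6,3,4,3,2,3,5,0]) (.word [1,3,2,1,6,3,2,1,3,2,3,5,4,2,3,1,2,3,6,4,2,3,5,2,3,5,3,2,1,0,3,5,6,3,2,3,6,4,3,2,3,1,2,3,5,6,3,4,1,5,3,2,4,3,2,1,3,5,6,3,4,2,3,5,3,1,2,3,4,2,3,2,0,5,6,3,2,1,4,3,6,2,3,2,3,6,2,3,4,1,2,3,6,5,0,1,3,2,3,5,6,3,2,3,5,6,3,4,1,2,3,6,1,0,5,6,3,4,1,2,3,6,3,4,3,2,3,5,0]))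 (.node (.word [5,6,3,2,1,4,3,6,2,3,2,3,6,2,3,4,1,2,4,1,2,3,6,3,4,3,2,3,5,0,5,6,3,4,1,2,3,6,3,4,3,2,3,5,0,5,6,3,4,1,2,3,6,3,4,3,2,3,5,1,3,2,3,5,6,3,2,3,5,6,3,4,1,2,3,6,1,0]) (.word [5,6,3,2,1,4,3,6,2,3,2,3,6,2,3,4,1,2,3,6,5,1,2,3,5,3,2,1,0,3,5,6,3,2,3,6,4,3,2,3,1,2,3,5,6,3,4,1,2,3,5,3,2,1,0,3,5,6,3,2,3,6,4,3,2,3,1,2,3,5,6,3,4,5,6,3,4,1,2,3,6,3,4,3,2,3,5,1,3,2,3,5,6,3,2,3,5,6,3,4,1,2,3,6,1,0,5,6,3,4,1,2,3,6,3,4,3,2,3,5,0]))))))))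

/-- A subtree. -/
def sub34 : WTree :=
  (.node (.node sub30 sub31) (.node sub32 sub33))

/-- A subtree. -/
def sub35 : WTree :=
  (.node (.node (.node (.node (.node (.node (.node (.node (.word [5,6,3,4,1,2,3,6,3,4,3,2,3,5,1,3,2,3,5,6,3,2,3,5,6,3,4,1,2,3,6,1,0,5,6,3,4,1,2,3,6,3,4,3,2,3,5,0,5,6,3,4,1,2,3,6,3,4,3,2,3,5,0,5,6,3,4,1,2,3,6,3,4,3,2,3,5,0]) (.word [2,1,6,3,2,3,1,2,3,4,2,3,6,1,2,3,5,6,3,2,1,3,2,3,5,6,3,2,3,5,6,3,4,1,2,3,6,1,0,1,5,3,2,4,3,2,1,3,5,6,3,4,2,3,5,3,1,2,3,4,2,3,2,0,1,2,3,5,3,2,1,0,3,5,6,3,2,3,6,4,3,2,3,1,2,3,5,6,3,4,5,6,3,4,1,2,3,6,3,4,3,2,3,5,0])) (.word [0,1,3,2,3,5,6,3,2,3,5,6,3,4,1,2,3,6,1,0,1,3,2,1,6,3,2,1,3,2,3,5,4,2,3,1,2,3,6,3,2,1,3,5,6,3,4,2,3,5,3,1,2,3,4,2,3,2,0,5,6,3,4,1,2,3,6,3,4,3,2,3,5,0,5,6,3,4,1,2,3,6,3,4,3,2,3,5,0]))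 (.node (.word [1,5,3,2,4,3,2,1,3,5,6,3,4,2,3,5,3,1,2,3,4,2,3,2,1,3,2,3,5,6,3,2,3,5,6,3,4,1,2,3,6,1,0,1,3,2,1,6,3,2,1,3,2,3,5,4,2,3,1,2,3,6,4,2,3,5,1,5,6,3,4,1,2,3,6,3,4,3,2,3,5,0,1,2,3,5,3,2,1,0,3,5,6,3,2,3,6,4,3,2,3,1,2,3,5,6,3,4,5,6,3,4,1,2,3,6,3,4,3,2,3,5,0]) (.word [5,6,3,4,1,2,3,6,3,4,3,2,3,5,0,1,2,3,5,3,2,1,0,3,5,6,3,2,3,6,4,3,2,3,1,2,3,5,6,3,4,0,1,3,2,3,5,6,3,2,3,5,6,3,4,1,2,3,6,1,0,1,3,2,1,6,3,2,1,3,2,3,5,4,2,3,1,2,3,6,4,2,3,5,1,5,6,3,4,1,2,3,6,3,4,3,2,3,5,0]))) (.node (.word [0,1,3,2,3,5,6,3,2,3,5,6,3,4,1,2,3,6,3,2,3,5,6,3,2,3,5,6,3,4,1,2,3,6,3,2,3,5,6,3,2,3,5,6,3,4,1,2,3,6,1,0,1,3,2,1,6,3,2,1,3,2,3,5,4,2,3,1,2,3,6,4,2,3,5,1,5,6,3,4,1,2,3,6,3,4,3,2,3,5,0,5,6,3,4,1,2,3,6,3,4,3,2,3,5,0])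 (.node .none (.word [1,3,2,1,6,3,2,1,3,2,3,5,4,2,3,1,2,3,6,4,2,3,5,1,5,6,3,4,1,2,3,6,3,4,3,2,3,5,1,3,2,3,5,6,3,2,3,5,6,3,4,1,2,3,6,1,0,1,5,3,2,4,3,2,1,3,5,6,3,4,2,3,5,3,1,2,3,4,2,3,2,1,3,2,3,5,6,3,2,3,5,6,3,4,1,2,3,6,1,0])))) (.node (.node .none (.node (.word [5,6,3,4,1,2,3,6,3,4,3,2,3,5,0,1,2,3,5,3,2,1,0,3,5,6,3,2,3,6,4,3,2,3,1,2,3,5,6,3,4,1,2,3,5,3,2,1,0,3,5,6,3,2,3,6,4,3,2,3,1,2,3,5,6,3,4,1,5,3,2,4,3,2,1,3,5,6,3,4,2,3,5,3,1,2,3,4,2,3,2,0,5,6,3,4,1,2,3,6,3,4,3,2,3,5,0,5,6,3,4,1,2,3,6,3,4,3,2,3,5,0]) (.word [1,3,2,1,6,3,2,1,3,2,3,5,4,2,3,1,2,3,6,4,2,3,5,1,5,6,3,4,1,2,3,6,3,4,3,2,3,5,0,1,5,3,2,4,3,2,1,3,5,6,3,4,2,3,5,3,1,2,3,4,2,3,2,0,5,6,3,4,1,2,3,6,3,4,3,2,3,5,0,5,6,3,4,1,2,3,6,3,4,3,2,3,5,0])))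 (.node (.node (.word [0,1,3,2,3,5,6,3,2,3,5,6,3,4,1,2,3,6,1,0,1,2,3,5,3,2,1,0,3,5,6,3,2,3,6,4,3,2,3,1,2,3,5,6,3,4,1,2,3,5,3,2,1,0,3,5,6,3,2,3,6,4,3,2,3,1,2,3,5,6,3,4,5,6,3,4,1,2,3,6,3,4,3,2,3,5,1,3,2,3,5,6,3,2,3,5,6,3,4,1,2,3,6,1,0]) (.word [1,2,3,5,3,2,1,0,3,5,6,3,2,3,6,4,3,2,3,1,2,3,5,6,3,4,5,6,3,4,1,2,3,6,3,4,3,2,3,5,0])) (.node .none (.word [1,2,3,5,3,2,1,0,3,5,6,3,2,3,6,4,3,2,3,1,2,3,5,6,3,4,5,6,3,4,1,2,3,6,3,4,3,2,3,5,0,2,1,6,3,2,3,1,2,3,4,2,3,6,1,2,3,5,6,3,2,1,3,2,3,5,6,3,2,3,5,6,3,4,1,2,3,6,1,0]))))) (.node (.node (.node (.node (.word [1,2,3,5,3,2,1,0,3,5,6,3,2,3,6,4,3,2,3,1,2,3,5,6,3,4,5,6,3,4,1,2,3,6,3,4,3,2,3,5,0,5,6,3,4,1,2,3,6,3,4,3,2,3,5,0,5,6,3,4,1,2,3,6,3,4,3,2,3,5,0])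 (.word [0,1,3,2,3,5,6,3,2,3,5,6,3,4,1,2,3,6,3,2,3,5,6,3,2,3,5,6,3,4,1,2,3,6,1,0,1,5,3,2,4,3,2,1,3,5,6,3,4,2,3,5,3,1,2,3,4,2,3,2,0,1,3,2,1,6,3,2,1,3,2,3,5,4,2,3,1,2,3,6,4,2,3,5,1,5,6,3,4,1,2,3,6,3,4,3,2,3,5,0])) (.node .none (.word [5,6,3,4,1,2,3,6,3,4,3,2,3,5,0,2,1,6,3,2,3,1,2,3,4,2,3,6,1,2,3,5,6,3,2,0,1,2,3,5,3,2,1,0,3,5,6,3,2,3,6,4,3,2,3,1,2,3,5,6,3,4,0,1,3,2,3,5,6,3,2,3,5,6,3,4,1,2,3,6,1,0]))) (.node .none (.node (.word [1,5,3,2,4,3,2,1,3,5,6,3,4,2,3,5,3,1,2,3,4,2,3,2,1,3,2,3,5,6,3,2,3,5,6,3,4,1,2,3,6,1,0,1,3,2,1,6,3,2,1,3,2,3,5,4,2,3,1,2,3,6,4,2,3,5,1,0,1,3,2,3,5,6,3,2,3,5,6,3,4,1,2,3,6,1,0]) (.word [0,1,3,2,3,5,6,3,2,3,5,6,3,4,1,2,3,6,1,0,1,5,3,2,4,3,2,1,3,5,6,3,4,2,3,5,3,1,2,3,4,2,3,2,0,1,5,3,2,4,3,2,1,3,5,6,3,4,2,3,5,3,1,2,3,4,2,3,2,0,5,6,3,4,1,2,3,6,3,4,3,2,3,5,0]))))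 (.node (.word [1,3,2,1,6,3,2,1,3,2,3,5,4,2,3,1,2,3,6,4,2,3,5,1,0,1,3,2,3,5,6,3,2,3,5,6,3,4,1,2,3,6,1,0,1,2,3,5,3,2,1,0,3,5,6,3,2,3,6,4,3,2,3,1,2,3,5,6,3,4,5,6,3,4,1,2,3,6,3,4,3,2,3,5,0]) (.node (.node .none (.word [1,5,3,2,4,3,2,1,3,5,6,3,4,2,3,5,3,1,2,3,4,2,3,2,0,5,6,3,4,1,2,3,6,3,4,3,2,3,5,0,2,1,6,3,2,3,1,2,3,4,2,3,6,1,2,3,5,6,3,2,0,5,6,3,4,1,2,3,6,3,4,3,2,3,5,0])) (.node (.word [0,1,3,2,3,5,6,3,2,3,5,6,3,4,1,2,3,6,1,0,2,1,6,3,2,3,1,2,3,4,2,3,6,1,2,3,5,6,3,2,0,1,5,3,2,4,3,2,1,3,5,6,3,4,2,3,5,3,1,2,3,4,2,3,2,1,3,2,3,5,6,3,2,3,5,6,3,4,1,2,3,6,1,0,5,6,3,4,1,2,3,6,3,4,3,2,3,5,0]) (.word [1,5,3,2,4,3,2,1,3,5,6,3,4,2,3,5,3,1,2,3,4,2,3,2,0,1,2,3,5,3,2,1,0,3,5,6,3,2,3,6,4,3,2,3,1,2,3,5,6,3,4,5,6,3,4,1,2,3,6,3,4,3,2,3,5,0,1,5,3,2,4,3,2,1,3,5,6,3,4,2,3,5,3,1,2,3,4,2,3,2,0,5,6,3,4,1,2,3,6,3,4,3,2,3,5,0,5,6,3,4,1,2,3,6,3,4,3,2,3,5,0]))))))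 (.node (.node (.node (.node (.node (.word [0,1,3,2,3,5,6,3,2,3,5,6,3,4,1,2,3,6,1,0,1,5,3,2,4,3,2,1,3,5,6,3,4,2,3,5,3,1,2,3,4,2,3,2,0,5,6,3,4,1,2,3,6,3,4,3,2,3,5,1,3,2,3,5,6,3,2,3,5,6,3,4,1,2,3,6,1,0]) (.word [1,5,3,2,4,3,2,1,3,5,6,3,4,2,3,5,3,1,2,3,4,2,3,2,0,5,6,3,4,1,2,3,6,3,4,3,2,3,5,0,5,6,3,2,1,4,3,6,2,3,2,3,6,2,3,4,1,2,3,6,5,1,2,3,5,3,2,1,0,3,5,6,3,2,3,6,4,3,2,3,1,2,3,5,6,3,4,0,1,3,2,3,5,6,3,2,3,5,6,3,4,1,2,3,6,1,0])) (.node (.word [1,3,2,1,6,3,2,1,3,2,3,5,4,2,3,1,2,3,6,4,2,3,5,1,0,1,3,2,3,5,6,3,2,3,5,6,3,4,1,2,3,6,1,0,5,6,3,2,1,4,3,6,2,3,2,3,6,2,3,4,1,2,3,6,5,1,3,2,1,6,3,2,1,3,2,3,5,4,2,3,1,2,3,6,4,2,3,5,1,5,6,3,4,1,2,3,6,3,4,3,2,3,5,0]) (.word [1,5,3,2,4,3,2,1,3,5,6,3,4,2,3,5,3,1,2,3,4,2,3,2,0,1,2,3,5,3,2,1,0,3,5,6,3,2,3,6,4,3,2,3,1,2,3,5,6,3,4,1,3,2,1,6,3,2,1,3,2,3,5,4,2,3,1,2,3,6,4,2,3,5,1,5,6,3,4,1,2,3,6,3,4,3,2,3,5,0,5,6,3,4,1,2,3,6,3,4,3,2,3,5,0])))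 (.node (.node (.word [5,6,3,2,1,4,3,6,2,3,2,3,6,2,3,4,1,2,3,6,5,1,3,2,1,6,3,2,1,3,2,3,5,4,2,3,1,2,3,6,4,2,3,5,1,5,6,3,2,1,4,3,6,2,3,2,3,6,2,3,4,1,2,3,6,5,1,3,2,1,6,3,2,1,3,2,3,5,4,2,3,1,2,3,6,4,2,3,5,1,5,6,3,4,1,2,3,6,3,4,3,2,3,5,0,5,6,3,4,1,2,3,6,3,4,3,2,3,5,0]) (.word [1,5,3,2,4,3,2,1,3,5,6,3,4,2,3,5,3,1,2,3,4,2,3,2,0,5,6,3,4,1,2,3,6,3,4,3,2,3,5,0,5,6,3,4,1,2,3,6,3,4,3,2,3,5,0,1,2,3,5,3,2,1,0,3,5,6,3,2,3,6,4,3,2,3,1,2,3,5,6,3,4,5,6,3,4,1,2,3,6,3,4,3,2,3,5,0])) .none)) (.node (.node (.node (.word [5,6,3,2,1,4,3,6,2,3,2,3,6,2,3,4,1,2,3,6,5,0,1,3,2,3,5,6,3,2,3,5,6,3,4,1,2,3,6,1,0,1,5,3,2,4,3,2,1,3,5,6,3,4,2,3,5,3,1,2,3,4,2,3,2,0,5,6,3,4,1,2,3,6,3,4,3,2,3,5,0,5,6,3,4,1,2,3,6,3,4,3,2,3,5,0])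 (.word [5,6,3,2,1,4,3,6,2,3,2,3,6,2,3,4,1,2,3,6,5,1,2,3,5,3,2,1,0,3,5,6,3,2,3,6,4,3,2,3,1,2,3,5,6,3,4,1,2,3,5,3,2,1,0,3,5,6,3,2,3,6,4,3,2,3,1,2,3,5,6,3,4,0,1,3,2,3,5,6,3,2,3,5,6,3,4,1,2,3,6,1,0,5,6,3,4,1,2,3,6,3,4,3,2,3,5,0])) (.word [2,1,6,3,2,3,1,2,3,4,2,3,6,1,2,3,5,6,3,2,0,1,3,2,1,6,3,2,1,3,2,3,5,4,2,3,1,2,3,6,4,2,3,5,1,0,1,3,2,3,5,6,3,2,3,5,6,3,4,1,2,3,6,1,0])) (.node (.node .none (.word [5,6,3,4,1,2,3,6,3,4,3,2,3,5,0,5,6,3,2,1,4,3,6,2,3,2,3,6,2,3,4,1,2,3,6,5,1,2,3,5,3,2,1,0,3,5,6,3,2,3,6,4,3,2,3,1,2,3,5,6,3,4,5,6,3,4,1,2,3,6,3,4,3,2,3,5,0,5,6,3,4,1,2,3,6,3,4,3,2,3,5,0])) (.word [0,1,3,2,3,5,6,3,2,3,5,6,3,4,1,2,3,6,1,0,5,6,3,2,1,4,3,6,2,3,2,3,6,2,3,4,1,2,4,1,2,3,6,3,4,3,2,3,5,0,5,6,3,4,1,2,3,6,3,4,3,2,3,5,0]))))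 (.node (.node (.node (.word [2,1,6,3,2,3,1,2,3,4,2,3,6,1,2,3,5,6,3,2,0,1,3,2,1,6,3,2,1,3,2,3,5,4,2,3,1,2,3,6,4,2,3,5,1,5,6,3,4,1,2,3,6,3,4,3,2,3,5,0,5,6,3,2,1,4,3,6,2,3,2,3,6,2,3,4,1,2,4,1,2,3,6,3,4,3,2,3,5,0]) (.node (.word [1,2,3,5,3,2,1,0,3,5,6,3,2,3,6,4,3,2,3,1,2,3,5,6,3,4,1,2,3,5,3,2,1,0,3,5,6,3,2,3,6,4,3,2,3,1,2,3,5,6,3,4,0,1,3,2,3,5,6,3,2,3,5,6,3,4,1,2,3,6,1,0,5,6,3,4,1,2,3,6,3,4,3,2,3,5,0]) (.word [1,5,3,2,4,3,2,1,3,5,6,3,4,2,3,5,3,1,2,3,4,2,3,2,0,5,6,3,4,1,2,3,6,3,4,3,2,3,5,0,1,2,3,5,3,2,1,0,3,5,6,3,2,3,6,4,3,2,3,1,2,3,5,6,3,4,5,6,3,4,1,2,3,6,3,4,3,2,3,5,0,5,6,3,4,1,2,3,6,3,4,3,2,3,5,0,5,6,3,4,1,2,3,6,3,4,3,2,3,5,0]))) .none) (.node (.node (.node (.word [1,5,3,2,4,3,2,1,3,5,6,3,4,2,3,5,3,1,2,3,4,2,3,2,0,1,5,3,2,4,3,2,1,3,5,6,3,4,2,3,5,3,1,2,3,4,2,3,2,0,5,6,3,2,1,4,3,6,2,3,2,3,6,2,3,4,1,2,3,6,5,0,1,3,2,3,5,6,3,2,3,5,6,3,4,1,2,3,6,1,0,5,6,3,4,1,2,3,6,3,4,3,2,3,5,0])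 (.word [0,1,3,2,3,5,6,3,2,3,5,6,3,4,1,2,3,6,1,0,5,6,3,2,1,4,3,6,2,3,2,3,6,2,3,4,1,2,4,1,2,3,6,3,4,3,2,3,5,1,3,2,3,5,6,3,2,3,5,6,3,4,1,2,3,6,1,0,5,6,3,4,1,2,3,6,3,4,3,2,3,5,0])) (.node (.word [5,6,3,2,1,4,3,6,2,3,2,3,6,2,3,4,1,2,3,6,5,1,2,3,5,3,2,1,0,3,5,6,3,2,3,6,4,3,2,3,1,2,3,5,6,3,4,1,5,3,2,4,3,2,1,3,5,6,3,4,2,3,5,3,1,2,3,4,2,3,2,1,3,2,3,5,6,3,2,3,5,6,3,4,1,2,3,6,1,0,5,6,3,4,1,2,3,6,3,4,3,2,3,5,0]) (.word [1,2,3,5,3,2,1,0,3,5,6,3,2,3,6,4,3,2,3,1,2,3,5,6,3,4,5,6,3,4,1,2,3,6,3,4,3,2,3,5,1,3,2,3,5,6,3,2,3,5,6,3,4,1,2,3,6,1,0,5,6,3,2,1,4,3,6,2,3,2,3,6,2,3,4,1,2,4,1,2,3,6,3,4,3,2,3,5,0]))) (.node (.node .none (.word [2,1,6,3,2,3,1,2,3,4,2,3,6,1,2,3,5,6,3,2,1,3,2,3,5,6,3,2,3,5,6,3,4,1,2,3,6,1,0,2,1,6,3,2,3,1,2,3,4,2,3,6,1,2,3,5,6,3,2,1,3,2,3,5,6,3,2,3,5,6,3,4,1,2,3,6,1,0]))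 (.node .none (.word [0,1,3,2,3,5,6,3,2,3,5,6,3,4,1,2,3,6,1,0,1,3,2,1,6,3,2,1,3,2,3,5,4,2,3,1,2,3,6,4,2,3,5,1,5,6,3,4,1,2,3,6,3,4,3,2,3,5,0,1,5,3,2,4,3,2,1,3,5,6,3,4,2,3,5,3,1,2,3,4,2,3,2,0,5,6,3,4,1,2,3,6,3,4,3,2,3,5,0]))))))) (.node (.node (.node (.node (.node (.node (.word [0,1,3,2,3,5,6,3,2,3,5,6,3,4,1,2,3,6,1,0,2,1,6,3,2,3,1,2,3,4,2,3,6,1,2,3,5,6,3,2,0,1,2,3,5,3,2,1,0,3,5,6,3,2,3,6,4,3,2,3,1,2,3,5,6,3,4,0,1,3,2,3,5,6,3,2,3,5,6,3,4,1,2,3,6,3,2,3,5,6,3,2,3,5,6,3,4,1,2,3,6,1,0]) (.word [5,6,3,2,1,4,3,6,2,3,2,3,6,2,3,4,1,2,3,6,5,1,3,2,1,6,3,2,1,3,2,3,5,4,2,3,1,2,3,6,4,2,3,5,1,0,1,3,2,3,5,6,3,2,3,5,6,3,4,1,2,3,6,1,0,2,1,6,3,2,3,1,2,3,4,2,3,6,1,2,3,5,6,3,2,0,5,6,3,4,1,2,3,6,3,4,3,2,3,5,0]))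 (.node .none (.word [1,2,3,5,3,2,1,0,3,5,6,3,2,3,6,4,3,2,3,1,2,3,5,6,3,4,1,5,3,2,4,3,2,1,3,5,6,3,4,2,3,5,3,1,2,3,4,2,3,2,0,1,3,2,1,6,3,2,1,3,2,3,5,4,2,3,1,2,3,6,4,2,3,5,1,5,6,3,4,1,2,3,6,3,4,3,2,3,5,0]))) (.node (.node (.word [1,5,3,2,4,3,2,1,3,5,6,3,4,2,3,5,3,1,2,3,4,2,3,2,0,1,2,3,5,3,2,1,0,3,5,6,3,2,3,6,4,3,2,3,1,2,3,5,6,3,4,0,1,3,2,3,5,6,3,2,3,5,6,3,4,1,2,3,6,1,0]) (.word [1,2,3,5,3,2,1,0,3,5,6,3,2,3,6,4,3,2,3,1,2,3,5,6,3,4,5,6,3,2,1,4,3,6,2,3,2,3,6,2,3,4,1,2,4,1,2,3,6,3,4,3,2,3,5,0,2,1,6,3,2,3,1,2,3,4,2,3,6,1,2,3,5,6,3,2,1,3,2,3,5,6,3,2,3,5,6,3,4,1,2,3,6,1,0])) (.node (.word [0,1,3,2,3,5,6,3,2,3,5,6,3,4,1,2,3,6,3,2,3,5,6,3,2,3,5,6,3,4,1,2,3,6,1,0,1,3,2,1,6,3,2,1,3,2,3,5,4,2,3,1,2,3,6,4,2,3,5,1,5,6,3,4,1,2,3,6,3,4,3,2,3,5,0,5,6,3,4,1,2,3,6,3,4,3,2,3,5,0])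 (.word [2,1,6,3,2,3,1,2,3,4,2,3,6,1,2,3,5,6,3,2,0,1,5,3,2,4,3,2,1,3,5,6,3,4,2,3,5,3,1,2,3,4,2,3,2,0,1,2,3,5,3,2,1,0,3,5,6,3,2,3,6,4,3,2,3,1,2,3,5,6,3,4,0,1,3,2,3,5,6,3,2,3,5,6,3,4,1,2,3,6,1,0,5,6,3,4,1,2,3,6,3,4,3,2,3,5,0])))) (.node (.node (.node (.word [5,6,3,4,1,2,3,6,3,4,3,2,3,5,0,5,6,3,4,1,2,3,6,3,4,3,2,3,5,0,1,5,3,2,4,3,2,1,3,5,6,3,4,2,3,5,3,1,2,3,4,2,3,2,0,5,6,3,4,1,2,3,6,3,4,3,2,3,5,1,3,2,3,5,6,3,2,3,5,6,3,4,1,2,3,6,1,0]) (.word [5,6,3,4,1,2,3,6,3,4,3,2,3,5,0,1,3,2,1,6,3,2,1,3,2,3,5,4,2,3,1,2,3,6,4,2,3,5,1,5,6,3,4,1,2,3,6,3,4,3,2,3,5,0,1,2,3,5,3,2,1,0,3,5,6,3,2,3,6,4,3,2,3,1,2,3,5,6,3,4,0,1,3,2,3,5,6,3,2,3,5,6,3,4,1,2,3,6,1,0])) (.node (.word [5,6,3,2,1,4,3,6,2,3,2,3,6,2,3,4,1,2,3,6,5,1,2,3,5,3,2,1,0,3,5,6,3,2,3,6,4,3,2,3,1,2,3,5,6,3,4,1,2,3,5,3,2,1,0,3,5,6,3,2,3,6,4,3,2,3,1,2,3,5,6,3,4,1,2,3,5,3,2,1,0,3,5,6,3,2,3,6,4,3,2,3,1,2,3,5,6,3,4,5,6,3,4,1,2,3,6,3,4,3,2,3,5,0])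 (.word [2,1,6,3,2,3,1,2,3,4,2,3,6,1,2,3,5,6,3,2,0,1,3,2,1,6,3,2,1,3,2,3,5,4,2,3,1,2,3,6,3,2,1,3,5,6,3,4,2,3,5,3,1,2,3,4,2,3,2,0,5,6,3,4,1,2,3,6,3,4,3,2,3,5,0]))) (.node (.node .none (.word [0,1,3,2,3,5,6,3,2,3,5,6,3,4,1,2,3,6,1,0,5,6,3,4,1,2,3,6,3,4,3,2,3,5,1,3,2,3,5,6,3,2,3,5,6,3,4,1,2,3,6,1,0])) (.node .none (.word [1,2,3,5,3,2,1,0,3,5,6,3,2,3,6,4,3,2,3,1,2,3,5,6,3,4,1,3,2,1,6,3,2,1,3,2,3,5,4,2,3,1,2,3,6,4,2,3,5,1,5,6,3,2,1,4,3,6,2,3,2,3,6,2,3,4,1,2,4,1,2,3,6,3,4,3,2,3,5,0,5,6,3,4,1,2,3,6,3,4,3,2,3,5,0]))))) (.node (.node (.node (.node .none (.word [2,1,6,3,2,3,1,2,3,4,2,3,6,1,2,3,5,6,3,2,0,5,6,3,4,1,2,3,6,3,4,3,2,3,5,0,2,1,6,3,2,3,1,2,3,4,2,3,6,1,2,3,5,6,3,2,0,5,6,3,4,1,2,3,6,3,4,3,2,3,5,0]))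 (.node (.word [1,5,3,2,4,3,2,1,3,5,6,3,4,2,3,5,3,1,2,3,4,2,3,2,0,1,5,3,2,4,3,2,1,3,5,6,3,4,2,3,5,3,1,2,3,4,2,3,2,0,5,6,3,2,1,4,3,6,2,3,2,3,6,2,3,4,1,2,3,6,5,1,2,3,5,3,2,1,0,3,5,6,3,2,3,6,4,3,2,3,1,2,3,5,6,3,4,5,6,3,4,1,2,3,6,3,4,3,2,3,5,0,5,6,3,4,1,2,3,6,3,4,3,2,3,5,0]) (.word [2,1,6,3,2,3,1,2,3,4,2,3,6,1,2,3,5,6,3,2,1,3,2,3,5,6,3,2,3,5,6,3,4,1,2,3,6,1,0,5,6,3,4,1,2,3,6,3,4,3,2,3,5,0,1,3,2,1,6,3,2,1,3,2,3,5,4,2,3,1,2,3,6,4,2,3,5,1,5,6,3,4,1,2,3,6,3,4,3,2,3,5,0]))) (.node (.word [5,6,3,4,1,2,3,6,3,4,3,2,3,5,0,2,1,6,3,2,3,1,2,3,4,2,3,6,1,2,3,5,6,3,2,0,1,5,3,2,4,3,2,1,3,5,6,3,4,2,3,5,3,1,2,3,4,2,3,2,0,5,6,3,4,1,2,3,6,3,4,3,2,3,5,0,5,6,3,4,1,2,3,6,3,4,3,2,3,5,0]) (.word [5,6,3,4,1,2,3,6,3,4,3,2,3,5,0,5,6,3,2,1,4,3,6,2,3,2,3,6,2,3,4,1,2,4,1,2,3,6,3,4,3,2,3,5,1,3,2,3,5,6,3,2,3,5,6,3,4,1,2,3,6,1,0,5,6,3,4,1,2,3,6,3,4,3,2,3,5,0,5,6,3,4,1,2,3,6,3,4,3,2,3,5,0])))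 (.node (.node (.node .none (.word [0,1,3,2,3,5,6,3,2,3,5,6,3,4,1,2,3,6,1,0,1,5,3,2,4,3,2,1,3,5,6,3,4,2,3,5,3,1,2,3,4,2,3,2,0,2,1,6,3,2,3,1,2,3,4,2,3,6,1,2,3,5,6,3,2,1,3,2,3,5,6,3,2,3,5,6,3,4,1,2,3,6,1,0])) (.node (.word [5,6,3,4,1,2,3,6,3,4,3,2,3,5,0,1,5,3,2,4,3,2,1,3,5,6,3,4,2,3,5,3,1,2,3,4,2,3,2,0,1,5,3,2,4,3,2,1,3,5,6,3,4,2,3,5,3,1,2,3,4,2,3,2,0,1,5,3,2,4,3,2,1,3,5,6,3,4,2,3,5,3,1,2,3,4,2,3,2,0,5,6,3,4,1,2,3,6,3,4,3,2,3,5,0,5,6,3,4,1,2,3,6,3,4,3,2,3,5,0]) (.word [1,2,3,5,3,2,1,0,3,5,6,3,2,3,6,4,3,2,3,1,2,3,5,6,3,4,5,6,3,4,1,2,3,6,3,4,3,2,3,5,0,2,1,6,3,2,3,1,2,3,4,2,3,6,1,2,3,5,6,3,2,0,5,6,3,4,1,2,3,6,3,4,3,2,3,5,0]))) (.word [5,6,3,2,1,4,3,6,2,3,2,3,6,2,3,4,1,2,3,6,5,1,3,2,1,6,3,2,1,3,2,3,5,4,2,3,1,2,3,6,4,2,3,5,1,5,6,3,4,1,2,3,6,3,4,3,2,3,5,1,3,2,3,5,6,3,2,3,5,6,3,4,1,2,3,6,1,0]))))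 (.node (.node (.node (.word [5,6,3,4,1,2,3,6,3,4,3,2,3,5,0,1,5,3,2,4,3,2,1,3,5,6,3,4,2,3,5,3,1,2,3,4,2,3,2,0,1,5,3,2,4,3,2,1,3,5,6,3,4,2,3,5,3,1,2,3,4,2,3,2,1,3,2,3,5,6,3,2,3,5,6,3,4,1,2,3,6,1,0,5,6,3,4,1,2,3,6,3,4,3,2,3,5,0]) (.node (.word [1,2,3,5,3,2,1,0,3,5,6,3,2,3,6,4,3,2,3,1,2,3,5,6,3,4,0,1,3,2,3,5,6,3,2,3,5,6,3,4,1,2,3,6,1,0,5,6,3,4,1,2,3,6,3,4,3,2,3,5,0]) (.node .none (.word [1,2,3,5,3,2,1,0,3,5,6,3,2,3,6,4,3,2,3,1,2,3,5,6,3,4,0,1,3,2,3,5,6,3,2,3,5,6,3,4,1,2,3,6,1,0,1,5,3,2,4,3,2,1,3,5,6,3,4,2,3,5,3,1,2,3,4,2,3,2,0,5,6,3,4,1,2,3,6,3,4,3,2,3,5,0,5,6,3,4,1,2,3,6,3,4,3,2,3,5,0])))) (.node (.node (.node (.word [1,2,3,5,3,2,1,0,3,5,6,3,2,3,6,4,3,2,3,1,2,3,5,6,3,4,1,5,3,2,4,3,2,1,3,5,6,3,4,2,3,5,3,1,2,3,4,2,3,2,0,1,2,3,5,3,2,1,0,3,5,6,3,2,3,6,4,3,2,3,1,2,3,5,6,3,4,5,6,3,4,1,2,3,6,3,4,3,2,3,5,0,5,6,3,4,1,2,3,6,3,4,3,2,3,5,0])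 (.word [1,2,3,5,3,2,1,0,3,5,6,3,2,3,6,4,3,2,3,1,2,3,5,6,3,4,5,6,3,2,1,4,3,6,2,3,2,3,6,2,3,4,1,2,3,6,5,1,2,3,5,3,2,1,0,3,5,6,3,2,3,6,4,3,2,3,1,2,3,5,6,3,4,5,6,3,4,1,2,3,6,3,4,3,2,3,5,0])) (.word [5,6,3,2,1,4,3,6,2,3,2,3,6,2,3,4,1,2,3,6,5,1,3,2,1,6,3,2,1,3,2,3,5,4,2,3,1,2,3,6,4,2,3,5,2,3,5,3,2,1,0,3,5,6,3,2,3,6,4,3,2,3,1,2,3,5,6,3,4,0,1,3,2,3,5,6,3,2,3,5,6,3,4,1,2,3,6,1,0,5,6,3,4,1,2,3,6,3,4,3,2,3,5,0])) (.node (.word [1,3,2,1,6,3,2,1,3,2,3,5,4,2,3,1,2,3,6,4,2,3,5,2,3,5,3,2,1,0,3,5,6,3,2,3,6,4,3,2,3,1,2,3,5,6,3,4,1,2,3,5,3,2,1,0,3,5,6,3,2,3,6,4,3,2,3,1,2,3,5,6,3,4,1,2,3,5,3,2,1,0,3,5,6,3,2,3,6,4,3,2,3,1,2,3,5,6,3,4,0,1,3,2,3,5,6,3,2,3,5,6,3,4,1,2,3,6,1,0,5,6,3,4,1,2,3,6,3,4,3,2,3,5,0])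 (.node (.word [5,6,3,2,1,4,3,6,2,3,2,3,6,2,3,4,1,2,3,6,5,1,5,3,2,4,3,2,1,3,5,6,3,4,2,3,5,3,1,2,3,4,2,3,2,1,3,2,3,5,6,3,2,3,5,6,3,4,1,2,3,6,1,0,5,6,3,4,1,2,3,6,3,4,3,2,3,5,0]) (.word [1,5,3,2,4,3,2,1,3,5,6,3,4,2,3,5,3,1,2,3,4,2,3,2,0,1,3,2,1,6,3,2,1,3,2,3,5,4,2,3,1,2,3,6,4,2,3,5,1,5,6,3,2,1,4,3,6,2,3,2,3,6,2,3,4,1,2,3,6,5,1,2,3,5,3,2,1,0,3,5,6,3,2,3,6,4,3,2,3,1,2,3,5,6,3,4,0,1,3,2,3,5,6,3,2,3,5,6,3,4,1,2,3,6,1,0]))))) (.node (.node (.node (.node .none (.word [0,1,3,2,3,5,6,3,2,3,5,6,3,4,1,2,3,6,1,0,5,6,3,4,1,2,3,6,3,4,3,2,3,5,1,3,2,3,5,6,3,2,3,5,6,3,4,1,2,3,6,1,0,5,6,3,4,1,2,3,6,3,4,3,2,3,5,0,5,6,3,4,1,2,3,6,3,4,3,2,3,5,0])) (.node (.word [1,2,3,5,3,2,1,0,3,5,6,3,2,3,6,4,3,2,3,1,2,3,5,6,3,4,5,6,3,4,1,2,3,6,3,4,3,2,3,5,1,3,2,3,5,6,3,2,3,5,6,3,4,1,2,3,6,1,0,1,3,2,1,6,3,2,1,3,2,3,5,4,2,3,1,2,3,6,4,2,3,5,1,5,6,3,4,1,2,3,6,3,4,3,2,3,5,0])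 (.word [0,1,3,2,3,5,6,3,2,3,5,6,3,4,1,2,3,6,1,0,5,6,3,4,1,2,3,6,3,4,3,2,3,5,0,5,6,3,4,1,2,3,6,3,4,3,2,3,5,0,5,6,3,2,1,4,3,6,2,3,2,3,6,2,3,4,1,2,3,6,5,1,3,2,1,6,3,2,1,3,2,3,5,4,2,3,1,2,3,6,4,2,3,5,1,5,6,3,4,1,2,3,6,3,4,3,2,3,5,0]))) (.word [1,5,3,2,4,3,2,1,3,5,6,3,4,2,3,5,3,1,2,3,4,2,3,2,0,5,6,3,4,1,2,3,6,3,4,3,2,3,5,0,5,6,3,4,1,2,3,6,3,4,3,2,3,5,1,3,2,3,5,6,3,2,3,5,6,3,4,1,2,3,6,1,0])) (.node (.node (.node (.word [1,5,3,2,4,3,2,1,3,5,6,3,4,2,3,5,3,1,2,3,4,2,3,2,0,1,5,3,2,4,3,2,1,3,5,6,3,4,2,3,5,3,1,2,3,4,2,3,2,0,1,5,3,2,4,3,2,1,3,5,6,3,4,2,3,5,3,1,2,3,4,2,3,2,0,5,6,3,4,1,2,3,6,3,4,3,2,3,5,0]) (.word [2,1,6,3,2,3,1,2,3,4,2,3,6,1,2,3,5,6,3,2,0,1,2,3,5,3,2,1,0,3,5,6,3,2,3,6,4,3,2,3,1,2,3,5,6,3,4,2,1,6,3,2,3,1,2,3,4,2,3,6,1,2,3,5,6,3,2,1,3,2,3,5,6,3,2,3,5,6,3,4,1,2,3,6,1,0,5,6,3,4,1,2,3,6,3,4,3,2,3,5,0]))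 (.word [0,1,3,2,3,5,6,3,2,3,5,6,3,4,1,2,3,6,1,0,2,1,6,3,2,3,1,2,3,4,2,3,6,1,2,3,5,6,3,2,0,1,2,3,5,3,2,1,0,3,5,6,3,2,3,6,4,3,2,3,1,2,3,5,6,3,4,5,6,3,2,1,4,3,6,2,3,2,3,6,2,3,4,1,2,4,1,2,3,6,3,4,3,2,3,5,0,5,6,3,4,1,2,3,6,3,4,3,2,3,5,0])) (.node (.node .none (.word [1,3,2,1,6,3,2,1,3,2,3,5,4,2,3,1,2,3,6,4,2,3,5,1,0,1,3,2,3,5,6,3,2,3,5,6,3,4,1,2,3,6,1,0,5,6,3,2,1,4,3,6,2,3,2,3,6,2,3,4,1,2,4,1,2,3,6,3,4,3,2,3,5,1,3,2,3,5,6,3,2,3,5,6,3,4,1,2,3,6,1,0,5,6,3,4,1,2,3,6,3,4,3,2,3,5,0])) (.node .none (.word [1,5,3,2,4,3,2,1,3,5,6,3,4,2,3,5,3,1,2,3,4,2,3,2,0,5,6,3,4,1,2,3,6,3,4,3,2,3,5,0,1,5,3,2,4,3,2,1,3,5,6,3,4,2,3,5,3,1,2,3,4,2,3,2,0,1,3,2,1,6,3,2,1,3,2,3,5,4,2,3,1,2,3,6,4,2,3,5,1,5,6,3,4,1,2,3,6,3,4,3,2,3,5,0,5,6,3,4,1,2,3,6,3,4,3,2,3,5,0]))))))))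

/-- A subtree. -/
def sub36 : WTree :=
  (.node (.node (.node (.node (.node (.node .none (.node .none (.word [1,5,3,2,4,3,2,1,3,5,6,3,4,2,3,5,3,1,2,3,4,2,3,2,0,2,1,6,3,2,3,1,2,3,4,2,3,6,1,2,3,5,6,3,2,0,1,5,3,2,4,3,2,1,3,5,6,3,4,2,3,5,3,1,2,3,4,2,3,2,1,3,2,3,5,6,3,2,3,5,6,3,4,1,2,3,6,1,0,5,6,3,4,1,2,3,6,3,4,3,2,3,5,0]))) (.node (.word [1,5,3,2,4,3,2,1,3,5,6,3,4,2,3,5,3,1,2,3,4,2,3,2,1,3,2,3,5,6,3,2,3,5,6,3,4,1,2,3,6,1,0,2,1,6,3,2,3,1,2,3,4,2,3,6,1,2,3,5,6,3,2,0,5,6,3,4,1,2,3,6,3,4,3,2,3,5,0]) (.word [0,1,3,2,3,5,6,3,2,3,5,6,3,4,1,2,3,6,1,0,1,5,3,2,4,3,2,1,3,5,6,3,4,2,3,5,3,1,2,3,4,2,3,2,1,3,2,3,5,6,3,2,3,5,6,3,4,1,2,3,6,1,0,2,1,6,3,2,3,1,2,3,4,2,3,6,1,2,3,5,6,3,2,1,3,2,3,5,6,3,2,3,5,6,3,4,1,2,3,6,1,0])))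 (.node (.node (.node (.word [1,3,2,1,6,3,2,1,3,2,3,5,4,2,3,1,2,3,6,3,2,1,3,5,6,3,4,2,3,5,3,1,2,3,4,2,3,2,1,3,2,3,5,6,3,2,3,5,6,3,4,1,2,3,6,1,0]) (.word [5,6,3,4,1,2,3,6,3,4,3,2,3,5,0,5,6,3,2,1,4,3,6,2,3,2,3,6,2,3,4,1,2,3,6,5,1,2,3,5,3,2,1,0,3,5,6,3,2,3,6,4,3,2,3,1,2,3,5,6,3,4,0,1,3,2,3,5,6,3,2,3,5,6,3,4,1,2,3,6,1,0])) (.word [5,6,3,4,1,2,3,6,3,4,3,2,3,5,0,1,3,2,1,6,3,2,1,3,2,3,5,4,2,3,1,2,3,6,4,2,3,5,2,3,5,3,2,1,0,3,5,6,3,2,3,6,4,3,2,3,1,2,3,5,6,3,4,5,6,3,4,1,2,3,6,3,4,3,2,3,5,1,3,2,3,5,6,3,2,3,5,6,3,4,1,2,3,6,1,0])) (.node (.node (.word [1,3,2,1,6,3,2,1,3,2,3,5,4,2,3,1,2,3,6,3,2,1,3,5,6,3,4,2,3,5,3,1,2,3,4,2,3,2,0,1,5,3,2,4,3,2,1,3,5,6,3,4,2,3,5,3,1,2,3,4,2,3,2,1,3,2,3,5,6,3,2,3,5,6,3,4,1,2,3,6,1,0,5,6,3,4,1,2,3,6,3,4,3,2,3,5,0])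 (.word [0,1,3,2,3,5,6,3,2,3,5,6,3,4,1,2,3,6,1,0,1,3,2,1,6,3,2,1,3,2,3,5,4,2,3,1,2,3,6,4,2,3,5,1,0,1,3,2,3,5,6,3,2,3,5,6,3,4,1,2,3,6,1,0,5,6,3,2,1,4,3,6,2,3,2,3,6,2,3,4,1,2,4,1,2,3,6,3,4,3,2,3,5,0])) (.word [5,6,3,2,1,4,3,6,2,3,2,3,6,2,3,4,1,2,4,1,2,3,6,3,4,3,2,3,5,0,1,3,2,1,6,3,2,1,3,2,3,5,4,2,3,1,2,3,6,4,2,3,5,1,5,6,3,4,1,2,3,6,3,4,3,2,3,5,0,5,6,3,4,1,2,3,6,3,4,3,2,3,5,0])))) (.node (.node (.node (.node .none (.word [5,6,3,4,1,2,3,6,3,4,3,2,3,5,1,3,2,3,5,6,3,2,3,5,6,3,4,1,2,3,6,1,0,1,3,2,1,6,3,2,1,3,2,3,5,4,2,3,1,2,3,6,4,2,3,5,1,0,1,3,2,3,5,6,3,2,3,5,6,3,4,1,2,3,6,1,0,5,6,3,4,1,2,3,6,3,4,3,2,3,5,0])) (.word [1,3,2,1,6,3,2,1,3,2,3,5,4,2,3,1,2,3,6,4,2,3,5,1,0,1,3,2,3,5,6,3,2,3,5,6,3,4,1,2,3,6,1,0,5,6,3,2,1,4,3,6,2,3,2,3,6,2,3,4,1,2,4,1,2,3,6,3,4,3,2,3,5,0]))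 (.node (.node .none (.word [5,6,3,2,1,4,3,6,2,3,2,3,6,2,3,4,1,2,4,1,2,3,6,3,4,3,2,3,5,0,5,6,3,2,1,4,3,6,2,3,2,3,6,2,3,4,1,2,4,1,2,3,6,3,4,3,2,3,5,0])) (.node (.word [5,6,3,4,1,2,3,6,3,4,3,2,3,5,0,2,1,6,3,2,3,1,2,3,4,2,3,6,1,2,3,5,6,3,2,1,3,2,3,5,6,3,2,3,5,6,3,4,1,2,3,6,1,0,5,6,3,4,1,2,3,6,3,4,3,2,3,5,0]) (.word [1,2,3,5,3,2,1,0,3,5,6,3,2,3,6,4,3,2,3,1,2,3,5,6,3,4,0,1,3,2,3,5,6,3,2,3,5,6,3,4,1,2,3,6,1,0,5,6,3,4,1,2,3,6,3,4,3,2,3,5,1,3,2,3,5,6,3,2,3,5,6,3,4,1,2,3,6,1,0,1,5,3,2,4,3,2,1,3,5,6,3,4,2,3,5,3,1,2,3,4,2,3,2,0,5,6,3,4,1,2,3,6,3,4,3,2,3,5,0])))) (.node (.node (.word [5,6,3,4,1,2,3,6,3,4,3,2,3,5,0,5,6,3,2,1,4,3,6,2,3,2,3,6,2,3,4,1,2,3,6,5,1,2,3,5,3,2,1,0,3,5,6,3,2,3,6,4,3,2,3,1,2,3,5,6,3,4,0,1,3,2,3,5,6,3,2,3,5,6,3,4,1,2,3,6,3,2,3,5,6,3,2,3,5,6,3,4,1,2,3,6,1,0])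 (.word [5,6,3,4,1,2,3,6,3,4,3,2,3,5,0,1,3,2,1,6,3,2,1,3,2,3,5,4,2,3,1,2,3,6,4,2,3,5,1,0,1,3,2,3,5,6,3,2,3,5,6,3,4,1,2,3,6,3,2,3,5,6,3,2,3,5,6,3,4,1,2,3,6,1,0,5,6,3,4,1,2,3,6,3,4,3,2,3,5,0,5,6,3,4,1,2,3,6,3,4,3,2,3,5,0])) (.node (.node (.word [0,1,3,2,3,5,6,3,2,3,5,6,3,4,1,2,3,6,1,0,1,5,3,2,4,3,2,1,3,5,6,3,4,2,3,5,3,1,2,3,4,2,3,2,1,3,2,3,5,6,3,2,3,5,6,3,4,1,2,3,6,1,0,1,2,3,5,3,2,1,0,3,5,6,3,2,3,6,4,3,2,3,1,2,3,5,6,3,4,0,1,3,2,3,5,6,3,2,3,5,6,3,4,1,2,3,6,1,0]) (.word [1,2,3,5,3,2,1,0,3,5,6,3,2,3,6,4,3,2,3,1,2,3,5,6,3,4,5,6,3,4,1,2,3,6,3,4,3,2,3,5,1,3,2,3,5,6,3,2,3,5,6,3,4,1,2,3,6,3,2,3,5,6,3,2,3,5,6,3,4,1,2,3,6,1,0,5,6,3,4,1,2,3,6,3,4,3,2,3,5,0])) (.node (.word [2,1,6,3,2,3,1,2,3,4,2,3,6,1,2,3,5,6,3,2,0,1,5,3,2,4,3,2,1,3,5,6,3,4,2,3,5,3,1,2,3,4,2,3,2,0,5,6,3,4,1,2,3,6,3,4,3,2,3,5,0,5,6,3,4,1,2,3,6,3,4,3,2,3,5,0,5,6,3,4,1,2,3,6,3,4,3,2,3,5,0])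 (.word [5,6,3,4,1,2,3,6,3,4,3,2,3,5,1,3,2,3,5,6,3,2,3,5,6,3,4,1,2,3,6,1,0,1,3,2,1,6,3,2,1,3,2,3,5,4,2,3,1,2,3,6,3,2,1,3,5,6,3,4,2,3,5,3,1,2,3,4,2,3,2,1,3,2,3,5,6,3,2,3,5,6,3,4,1,2,3,6,1,0])))))) (.node (.node (.node (.node (.node (.word [0,1,3,2,3,5,6,3,2,3,5,6,3,4,1,2,3,6,1,0,1,5,3,2,4,3,2,1,3,5,6,3,4,2,3,5,3,1,2,3,4,2,3,2,1,3,2,3,5,6,3,2,3,5,6,3,4,1,2,3,6,3,2,3,5,6,3,2,3,5,6,3,4,1,2,3,6,1,0]) (.word [0,1,3,2,3,5,6,3,2,3,5,6,3,4,1,2,3,6,1,0,1,2,3,5,3,2,1,0,3,5,6,3,2,3,6,4,3,2,3,1,2,3,5,6,3,4,5,6,3,4,1,2,3,6,3,4,3,2,3,5,0,2,1,6,3,2,3,1,2,3,4,2,3,6,1,2,3,5,6,3,2,1,3,2,3,5,6,3,2,3,5,6,3,4,1,2,3,6,1,0])) (.word [1,2,3,5,3,2,1,0,3,5,6,3,2,3,6,4,3,2,3,1,2,3,5,6,3,4,0,1,3,2,3,5,6,3,2,3,5,6,3,4,1,2,3,6,3,2,3,5,6,3,2,3,5,6,3,4,1,2,3,6,1,0,1,5,3,2,4,3,2,1,3,5,6,3,4,2,3,5,3,1,2,3,4,2,3,2,0,5,6,3,4,1,2,3,6,3,4,3,2,3,5,0]))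 (.node (.node (.word [1,2,3,5,3,2,1,0,3,5,6,3,2,3,6,4,3,2,3,1,2,3,5,6,3,4,1,5,3,2,4,3,2,1,3,5,6,3,4,2,3,5,3,1,2,3,4,2,3,2,1,3,2,3,5,6,3,2,3,5,6,3,4,1,2,3,6,1,0,1,5,3,2,4,3,2,1,3,5,6,3,4,2,3,5,3,1,2,3,4,2,3,2,0,5,6,3,4,1,2,3,6,3,4,3,2,3,5,0,5,6,3,4,1,2,3,6,3,4,3,2,3,5,0]) (.word [1,3,2,1,6,3,2,1,3,2,3,5,4,2,3,1,2,3,6,3,2,1,3,5,6,3,4,2,3,5,3,1,2,3,4,2,3,2,1,3,2,3,5,6,3,2,3,5,6,3,4,1,2,3,6,1,0,5,6,3,2,1,4,3,6,2,3,2,3,6,2,3,4,1,2,4,1,2,3,6,3,4,3,2,3,5,0,5,6,3,4,1,2,3,6,3,4,3,2,3,5,0])) (.node (.word [1,5,3,2,4,3,2,1,3,5,6,3,4,2,3,5,3,1,2,3,4,2,3,2,1,3,2,3,5,6,3,2,3,5,6,3,4,1,2,3,6,1,0,1,3,2,1,6,3,2,1,3,2,3,5,4,2,3,1,2,3,6,4,2,3,5,1,0,1,3,2,3,5,6,3,2,3,5,6,3,4,1,2,3,6,3,2,3,5,6,3,2,3,5,6,3,4,1,2,3,6,1,0])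 (.word [1,5,3,2,4,3,2,1,3,5,6,3,4,2,3,5,3,1,2,3,4,2,3,2,0,5,6,3,4,1,2,3,6,3,4,3,2,3,5,0,1,5,3,2,4,3,2,1,3,5,6,3,4,2,3,5,3,1,2,3,4,2,3,2,0,5,6,3,4,1,2,3,6,3,4,3,2,3,5,0,5,6,3,4,1,2,3,6,3,4,3,2,3,5,0])))) (.node (.node (.node (.word [1,5,3,2,4,3,2,1,3,5,6,3,4,2,3,5,3,1,2,3,4,2,3,2,1,3,2,3,5,6,3,2,3,5,6,3,4,1,2,3,6,1,0,5,6,3,2,1,4,3,6,2,3,2,3,6,2,3,4,1,2,3,6,5,1,2,3,5,3,2,1,0,3,5,6,3,2,3,6,4,3,2,3,1,2,3,5,6,3,4,5,6,3,4,1,2,3,6,3,4,3,2,3,5,0,5,6,3,4,1,2,3,6,3,4,3,2,3,5,0]) (.word [5,6,3,2,1,4,3,6,2,3,2,3,6,2,3,4,1,2,3,6,5,1,2,3,5,3,2,1,0,3,5,6,3,2,3,6,4,3,2,3,1,2,3,5,6,3,4,2,1,6,3,2,3,1,2,3,4,2,3,6,1,2,3,5,6,3,2,1,3,2,3,5,6,3,2,3,5,6,3,4,1,2,3,6,1,0,5,6,3,4,1,2,3,6,3,4,3,2,3,5,0]))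 (.node .none (.word [1,2,3,5,3,2,1,0,3,5,6,3,2,3,6,4,3,2,3,1,2,3,5,6,3,4,5,6,3,2,1,4,3,6,2,3,2,3,6,2,3,4,1,2,4,1,2,3,6,3,4,3,2,3,5,0,1,2,3,5,3,2,1,0,3,5,6,3,2,3,6,4,3,2,3,1,2,3,5,6,3,4,0,1,3,2,3,5,6,3,2,3,5,6,3,4,1,2,3,6,1,0]))) (.node (.node (.word [1,3,2,1,6,3,2,1,3,2,3,5,4,2,3,1,2,3,6,4,2,3,5,1,5,6,3,4,1,2,3,6,3,4,3,2,3,5,0,2,1,6,3,2,3,1,2,3,4,2,3,6,1,2,3,5,6,3,2,1,3,2,3,5,6,3,2,3,5,6,3,4,1,2,3,6,1,0,5,6,3,4,1,2,3,6,3,4,3,2,3,5,0]) (.word [0,1,3,2,3,5,6,3,2,3,5,6,3,4,1,2,3,6,1,0,1,5,3,2,4,3,2,1,3,5,6,3,4,2,3,5,3,1,2,3,4,2,3,2,1,3,2,3,5,6,3,2,3,5,6,3,4,1,2,3,6,1,0,2,1,6,3,2,3,1,2,3,4,2,3,6,1,2,3,5,6,3,2,0,5,6,3,4,1,2,3,6,3,4,3,2,3,5,0])) (.node (.word [2,1,6,3,2,3,1,2,3,4,2,3,6,1,2,3,5,6,3,2,0,5,6,3,4,1,2,3,6,3,4,3,2,3,5,0,1,2,3,5,3,2,1,0,3,5,6,3,2,3,6,4,3,2,3,1,2,3,5,6,3,4,5,6,3,4,1,2,3,6,3,4,3,2,3,5,0,5,6,3,4,1,2,3,6,3,4,3,2,3,5,0])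 (.word [5,6,3,4,1,2,3,6,3,4,3,2,3,5,0,1,2,3,5,3,2,1,0,3,5,6,3,2,3,6,4,3,2,3,1,2,3,5,6,3,4,1,5,3,2,4,3,2,1,3,5,6,3,4,2,3,5,3,1,2,3,4,2,3,2,0,1,3,2,1,6,3,2,1,3,2,3,5,4,2,3,1,2,3,6,4,2,3,5,1,5,6,3,4,1,2,3,6,3,4,3,2,3,5,0]))))) (.node (.node (.node (.node .none (.word [5,6,3,4,1,2,3,6,3,4,3,2,3,5,0,2,1,6,3,2,3,1,2,3,4,2,3,6,1,2,3,5,6,3,2,0,1,5,3,2,4,3,2,1,3,5,6,3,4,2,3,5,3,1,2,3,4,2,3,2,1,3,2,3,5,6,3,2,3,5,6,3,4,1,2,3,6,3,2,3,5,6,3,2,3,5,6,3,4,1,2,3,6,1,0])) (.node (.word [0,1,3,2,3,5,6,3,2,3,5,6,3,4,1,2,3,6,1,0,1,5,3,2,4,3,2,1,3,5,6,3,4,2,3,5,3,1,2,3,4,2,3,2,0,1,2,3,5,3,2,1,0,3,5,6,3,2,3,6,4,3,2,3,1,2,3,5,6,3,4,1,3,2,1,6,3,2,1,3,2,3,5,4,2,3,1,2,3,6,4,2,3,5,1,0,1,3,2,3,5,6,3,2,3,5,6,3,4,1,2,3,6,1,0])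 (.word [1,5,3,2,4,3,2,1,3,5,6,3,4,2,3,5,3,1,2,3,4,2,3,2,0,2,1,6,3,2,3,1,2,3,4,2,3,6,1,2,3,5,6,3,2,0,1,3,2,1,6,3,2,1,3,2,3,5,4,2,3,1,2,3,6,3,2,1,3,5,6,3,4,2,3,5,3,1,2,3,4,2,3,2,0,5,6,3,4,1,2,3,6,3,4,3,2,3,5,0,5,6,3,4,1,2,3,6,3,4,3,2,3,5,0]))) (.node (.node (.word [1,2,3,5,3,2,1,0,3,5,6,3,2,3,6,4,3,2,3,1,2,3,5,6,3,4,1,5,3,2,4,3,2,1,3,5,6,3,4,2,3,5,3,1,2,3,4,2,3,2,1,3,2,3,5,6,3,2,3,5,6,3,4,1,2,3,6,1,0,1,5,3,2,4,3,2,1,3,5,6,3,4,2,3,5,3,1,2,3,4,2,3,2,0,5,6,3,4,1,2,3,6,3,4,3,2,3,5,0]) (.word [1,2,3,5,3,2,1,0,3,5,6,3,2,3,6,4,3,2,3,1,2,3,5,6,3,4,5,6,3,4,1,2,3,6,3,4,3,2,3,5,1,3,2,3,5,6,3,2,3,5,6,3,4,1,2,3,6,3,2,3,5,6,3,2,3,5,6,3,4,1,2,3,6,1,0,5,6,3,4,1,2,3,6,3,4,3,2,3,5,0,5,6,3,4,1,2,3,6,3,4,3,2,3,5,0]))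 (.node .none (.word [0,1,3,2,3,5,6,3,2,3,5,6,3,4,1,2,3,6,3,2,3,5,6,3,2,3,5,6,3,4,1,2,3,6,1,0])))) (.node (.node (.node (.word [5,6,3,2,1,4,3,6,2,3,2,3,6,2,3,4,1,2,3,6,5,1,5,3,2,4,3,2,1,3,5,6,3,4,2,3,5,3,1,2,3,4,2,3,2,0,1,3,2,1,6,3,2,1,3,2,3,5,4,2,3,1,2,3,6,4,2,3,5,1,5,6,3,4,1,2,3,6,3,4,3,2,3,5,1,3,2,3,5,6,3,2,3,5,6,3,4,1,2,3,6,1,0,5,6,3,4,1,2,3,6,3,4,3,2,3,5,0]) (.word [1,5,3,2,4,3,2,1,3,5,6,3,4,2,3,5,3,1,2,3,4,2,3,2,1,3,2,3,5,6,3,2,3,5,6,3,4,1,2,3,6,3,2,3,5,6,3,2,3,5,6,3,4,1,2,3,6,1,0])) (.node (.word [1,2,3,5,3,2,1,0,3,5,6,3,2,3,6,4,3,2,3,1,2,3,5,6,3,4,5,6,3,2,1,4,3,6,2,3,2,3,6,2,3,4,1,2,3,6,5,1,5,3,2,4,3,2,1,3,5,6,3,4,2,3,5,3,1,2,3,4,2,3,2,0,2,1,6,3,2,3,1,2,3,4,2,3,6,1,2,3,5,6,3,2,1,3,2,3,5,6,3,2,3,5,6,3,4,1,2,3,6,1,0,5,6,3,4,1,2,3,6,3,4,3,2,3,5,0])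 (.word [1,3,2,1,6,3,2,1,3,2,3,5,4,2,3,1,2,3,6,4,2,3,5,1,0,1,3,2,3,5,6,3,2,3,5,6,3,4,1,2,3,6,1,0,5,6,3,4,1,2,3,6,3,4,3,2,3,5,0]))) (.node (.node (.word [1,5,3,2,4,3,2,1,3,5,6,3,4,2,3,5,3,1,2,3,4,2,3,2,0,5,6,3,2,1,4,3,6,2,3,2,3,6,2,3,4,1,2,3,6,5,1,2,3,5,3,2,1,0,3,5,6,3,2,3,6,4,3,2,3,1,2,3,5,6,3,4,5,6,3,4,1,2,3,6,3,4,3,2,3,5,0,5,6,3,4,1,2,3,6,3,4,3,2,3,5,0]) (.word [2,1,6,3,2,3,1,2,3,4,2,3,6,1,2,3,5,6,3,2,1,3,2,3,5,6,3,2,3,5,6,3,4,1,2,3,6,1,0,1,2,3,5,3,2,1,0,3,5,6,3,2,3,6,4,3,2,3,1,2,3,5,6,3,4,5,6,3,4,1,2,3,6,3,4,3,2,3,5,1,3,2,3,5,6,3,2,3,5,6,3,4,1,2,3,6,1,0,5,6,3,4,1,2,3,6,3,4,3,2,3,5,0])) (.word [5,6,3,2,1,4,3,6,2,3,2,3,6,2,3,4,1,2,3,6,5,0,1,3,2,3,5,6,3,2,3,5,6,3,4,1,2,3,6,1,0,5,6,3,4,1,2,3,6,3,4,3,2,3,5,0,5,6,3,4,1,2,3,6,3,4,3,2,3,5,0]))))))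 (.node (.node (.node (.node (.node (.node (.word [2,1,6,3,2,3,1,2,3,4,2,3,6,1,2,3,5,6,3,2,0,5,6,3,4,1,2,3,6,3,4,3,2,3,5,0,2,1,6,3,2,3,1,2,3,4,2,3,6,1,2,3,5,6,3,2,0,5,6,3,2,1,4,3,6,2,3,2,3,6,2,3,4,1,2,4,1,2,3,6,3,4,3,2,3,5,0]) (.word [1,2,3,5,3,2,1,0,3,5,6,3,2,3,6,4,3,2,3,1,2,3,5,6,3,4,1,3,2,1,6,3,2,1,3,2,3,5,4,2,3,1,2,3,6,4,2,3,5,1,5,6,3,4,1,2,3,6,3,4,3,2,3,5,1,3,2,3,5,6,3,2,3,5,6,3,4,1,2,3,6,1,0,5,6,3,4,1,2,3,6,3,4,3,2,3,5,0])) (.node (.word [5,6,3,4,1,2,3,6,3,4,3,2,3,5,0,1,2,3,5,3,2,1,0,3,5,6,3,2,3,6,4,3,2,3,1,2,3,5,6,3,4,2,1,6,3,2,3,1,2,3,4,2,3,6,1,2,3,5,6,3,2,1,3,2,3,5,6,3,2,3,5,6,3,4,1,2,3,6,3,2,3,5,6,3,2,3,5,6,3,4,1,2,3,6,1,0]) (.word [0,1,3,2,3,5,6,3,2,3,5,6,3,4,1,2,3,6,1,0,2,1,6,3,2,3,1,2,3,4,2,3,6,1,2,3,5,6,3,2,0,1,5,3,2,4,3,2,1,3,5,6,3,4,2,3,5,3,1,2,3,4,2,3,2,0,1,5,3,2,4,3,2,1,3,5,6,3,4,2,3,5,3,1,2,3,4,2,3,2,0,5,6,3,4,1,2,3,6,3,4,3,2,3,5,0])))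 (.node (.node (.word [1,5,3,2,4,3,2,1,3,5,6,3,4,2,3,5,3,1,2,3,4,2,3,2,1,3,2,3,5,6,3,2,3,5,6,3,4,1,2,3,6,3,2,3,5,6,3,2,3,5,6,3,4,1,2,3,6,1,0,5,6,3,4,1,2,3,6,3,4,3,2,3,5,0,5,6,3,4,1,2,3,6,3,4,3,2,3,5,0]) (.word [1,2,3,5,3,2,1,0,3,5,6,3,2,3,6,4,3,2,3,1,2,3,5,6,3,4,1,5,3,2,4,3,2,1,3,5,6,3,4,2,3,5,3,1,2,3,4,2,3,2,0,1,3,2,1,6,3,2,1,3,2,3,5,4,2,3,1,2,3,6,4,2,3,5,1,5,6,3,4,1,2,3,6,3,4,3,2,3,5,0,5,6,3,4,1,2,3,6,3,4,3,2,3,5,0])) (.node .none (.word [5,6,3,2,1,4,3,6,2,3,2,3,6,2,3,4,1,2,3,6,5,1,2,3,5,3,2,1,0,3,5,6,3,2,3,6,4,3,2,3,1,2,3,5,6,3,4,5,6,3,4,1,2,3,6,3,4,3,2,3,5,0,5,6,3,4,1,2,3,6,3,4,3,2,3,5,0])))) (.node (.node .none (.node .none (.word [1,3,2,1,6,3,2,1,3,2,3,5,4,2,3,1,2,3,6,4,2,3,5,1,0,1,3,2,3,5,6,3,2,3,5,6,3,4,1,2,3,6,3,2,3,5,6,3,2,3,5,6,3,4,1,2,3,6,1,0,1,2,3,5,3,2,1,0,3,5,6,3,2,3,6,4,3,2,3,1,2,3,5,6,3,4,5,6,3,4,1,2,3,6,3,4,3,2,3,5,0,5,6,3,4,1,2,3,6,3,4,3,2,3,5,0])))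 (.node (.node (.word [1,5,3,2,4,3,2,1,3,5,6,3,4,2,3,5,3,1,2,3,4,2,3,2,0,5,6,3,4,1,2,3,6,3,4,3,2,3,5,0,1,3,2,1,6,3,2,1,3,2,3,5,4,2,3,1,2,3,6,4,2,3,5,1,5,6,3,4,1,2,3,6,3,4,3,2,3,5,0,5,6,3,4,1,2,3,6,3,4,3,2,3,5,0]) (.word [1,2,3,5,3,2,1,0,3,5,6,3,2,3,6,4,3,2,3,1,2,3,5,6,3,4,5,6,3,4,1,2,3,6,3,4,3,2,3,5,0,1,2,3,5,3,2,1,0,3,5,6,3,2,3,6,4,3,2,3,1,2,3,5,6,3,4,5,6,3,4,1,2,3,6,3,4,3,2,3,5,1,3,2,3,5,6,3,2,3,5,6,3,4,1,2,3,6,1,0])) (.node (.word [5,6,3,2,1,4,3,6,2,3,2,3,6,2,3,4,1,2,3,6,5,1,5,3,2,4,3,2,1,3,5,6,3,4,2,3,5,3,1,2,3,4,2,3,2,0,5,6,3,4,1,2,3,6,3,4,3,2,3,5,0,1,3,2,1,6,3,2,1,3,2,3,5,4,2,3,1,2,3,6,4,2,3,5,1,0,1,3,2,3,5,6,3,2,3,5,6,3,4,1,2,3,6,1,0]) (.word [1,2,3,5,3,2,1,0,3,5,6,3,2,3,6,4,3,2,3,1,2,3,5,6,3,4,0,1,3,2,3,5,6,3,2,3,5,6,3,4,1,2,3,6,3,2,3,5,6,3,2,3,5,6,3,4,1,2,3,6,1,0,1,5,3,2,4,3,2,1,3,5,6,3,4,2,3,5,3,1,2,3,4,2,3,2,1,3,2,3,5,6,3,2,3,5,6,3,4,1,2,3,6,1,0,5,6,3,4,1,2,3,6,3,4,3,2,3,5,0])))))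 (.node (.node (.node (.word [0,1,3,2,3,5,6,3,2,3,5,6,3,4,1,2,3,6,1,0,2,1,6,3,2,3,1,2,3,4,2,3,6,1,2,3,5,6,3,2,0,5,6,3,2,1,4,3,6,2,3,2,3,6,2,3,4,1,2,4,1,2,3,6,3,4,3,2,3,5,0]) (.node (.word [5,6,3,2,1,4,3,6,2,3,2,3,6,2,3,4,1,2,4,1,2,3,6,3,4,3,2,3,5,0,1,3,2,1,6,3,2,1,3,2,3,5,4,2,3,1,2,3,6,4,2,3,5,1,5,6,3,2,1,4,3,6,2,3,2,3,6,2,3,4,1,2,3,6,5,0,1,3,2,3,5,6,3,2,3,5,6,3,4,1,2,3,6,1,0,5,6,3,4,1,2,3,6,3,4,3,2,3,5,0]) (.word [1,2,3,5,3,2,1,0,3,5,6,3,2,3,6,4,3,2,3,1,2,3,5,6,3,4,5,6,3,4,1,2,3,6,3,4,3,2,3,5,0,1,5,3,2,4,3,2,1,3,5,6,3,4,2,3,5,3,1,2,3,4,2,3,2,1,3,2,3,5,6,3,2,3,5,6,3,4,1,2,3,6,1,0]))) (.node (.word [1,2,3,5,3,2,1,0,3,5,6,3,2,3,6,4,3,2,3,1,2,3,5,6,3,4,5,6,3,4,1,2,3,6,3,4,3,2,3,5,0,5,6,3,4,1,2,3,6,3,4,3,2,3,5,0,1,3,2,1,6,3,2,1,3,2,3,5,4,2,3,1,2,3,6,4,2,3,5,1,5,6,3,4,1,2,3,6,3,4,3,2,3,5,0])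 (.word [1,3,2,1,6,3,2,1,3,2,3,5,4,2,3,1,2,3,6,4,2,3,5,1,5,6,3,4,1,2,3,6,3,4,3,2,3,5,0,5,6,3,4,1,2,3,6,3,4,3,2,3,5,0]))) (.node (.node .none (.word [1,2,3,5,3,2,1,0,3,5,6,3,2,3,6,4,3,2,3,1,2,3,5,6,3,4,5,6,3,4,1,2,3,6,3,4,3,2,3,5,0,5,6,3,4,1,2,3,6,3,4,3,2,3,5,0,1,2,3,5,3,2,1,0,3,5,6,3,2,3,6,4,3,2,3,1,2,3,5,6,3,4,5,6,3,4,1,2,3,6,3,4,3,2,3,5,0])) (.node (.node (.word [1,3,2,1,6,3,2,1,3,2,3,5,4,2,3,1,2,3,6,4,2,3,5,1,5,6,3,4,1,2,3,6,3,4,3,2,3,5,1,3,2,3,5,6,3,2,3,5,6,3,4,1,2,3,6,1,0,1,2,3,5,3,2,1,0,3,5,6,3,2,3,6,4,3,2,3,1,2,3,5,6,3,4,1,5,3,2,4,3,2,1,3,5,6,3,4,2,3,5,3,1,2,3,4,2,3,2,0,5,6,3,4,1,2,3,6,3,4,3,2,3,5,0]) (.word [1,2,3,5,3,2,1,0,3,5,6,3,2,3,6,4,3,2,3,1,2,3,5,6,3,4,1,5,3,2,4,3,2,1,3,5,6,3,4,2,3,5,3,1,2,3,4,2,3,2,1,3,2,3,5,6,3,2,3,5,6,3,4,1,2,3,6,1,0,2,1,6,3,2,3,1,2,3,4,2,3,6,1,2,3,5,6,3,2,1,3,2,3,5,6,3,2,3,5,6,3,4,1,2,3,6,1,0,5,6,3,4,1,2,3,6,3,4,3,2,3,5,0]))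 (.node .none (.word [0,1,3,2,3,5,6,3,2,3,5,6,3,4,1,2,3,6,1,0,5,6,3,4,1,2,3,6,3,4,3,2,3,5,0,5,6,3,4,1,2,3,6,3,4,3,2,3,5,0,1,3,2,1,6,3,2,1,3,2,3,5,4,2,3,1,2,3,6,4,2,3,5,1,5,6,3,4,1,2,3,6,3,4,3,2,3,5,0])))))) (.node (.node (.node .none (.node (.node .none (.word [1,5,3,2,4,3,2,1,3,5,6,3,4,2,3,5,3,1,2,3,4,2,3,2,0,1,5,3,2,4,3,2,1,3,5,6,3,4,2,3,5,3,1,2,3,4,2,3,2,0,5,6,3,2,1,4,3,6,2,3,2,3,6,2,3,4,1,2,4,1,2,3,6,3,4,3,2,3,5,1,3,2,3,5,6,3,2,3,5,6,3,4,1,2,3,6,1,0])) (.node (.word [1,2,3,5,3,2,1,0,3,5,6,3,2,3,6,4,3,2,3,1,2,3,5,6,3,4,1,2,3,5,3,2,1,0,3,5,6,3,2,3,6,4,3,2,3,1,2,3,5,6,3,4,5,6,3,2,1,4,3,6,2,3,2,3,6,2,3,4,1,2,4,1,2,3,6,3,4,3,2,3,5,0,5,6,3,4,1,2,3,6,3,4,3,2,3,5,0]) (.word [1,5,3,2,4,3,2,1,3,5,6,3,4,2,3,5,3,1,2,3,4,2,3,2,0,5,6,3,4,1,2,3,6,3,4,3,2,3,5,0,5,6,3,2,1,4,3,6,2,3,2,3,6,2,3,4,1,2,4,1,2,3,6,3,4,3,2,3,5,0,5,6,3,4,1,2,3,6,3,4,3,2,3,5,0]))))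 (.node (.node (.word [5,6,3,4,1,2,3,6,3,4,3,2,3,5,0,1,3,2,1,6,3,2,1,3,2,3,5,4,2,3,1,2,3,6,4,2,3,5,1,5,6,3,2,1,4,3,6,2,3,2,3,6,2,3,4,1,2,4,1,2,3,6,3,4,3,2,3,5,0]) (.node (.word [1,3,2,1,6,3,2,1,3,2,3,5,4,2,3,1,2,3,6,4,2,3,5,2,3,5,3,2,1,0,3,5,6,3,2,3,6,4,3,2,3,1,2,3,5,6,3,4,1,3,2,1,6,3,2,1,3,2,3,5,4,2,3,1,2,3,6,4,2,3,5,1,0,1,3,2,3,5,6,3,2,3,5,6,3,4,1,2,3,6,1,0,5,6,3,4,1,2,3,6,3,4,3,2,3,5,0]) (.word [5,6,3,2,1,4,3,6,2,3,2,3,6,2,3,4,1,2,3,6,5,1,5,3,2,4,3,2,1,3,5,6,3,4,2,3,5,3,1,2,3,4,2,3,2,0,5,6,3,4,1,2,3,6,3,4,3,2,3,5,0,1,5,3,2,4,3,2,1,3,5,6,3,4,2,3,5,3,1,2,3,4,2,3,2,0,5,6,3,4,1,2,3,6,3,4,3,2,3,5,0,5,6,3,4,1,2,3,6,3,4,3,2,3,5,0]))) (.node (.word [5,6,3,4,1,2,3,6,3,4,3,2,3,5,0,1,3,2,1,6,3,2,1,3,2,3,5,4,2,3,1,2,3,6,4,2,3,5,1,5,6,3,4,1,2,3,6,3,4,3,2,3,5,0,1,2,3,5,3,2,1,0,3,5,6,3,2,3,6,4,3,2,3,1,2,3,5,6,3,4,5,6,3,4,1,2,3,6,3,4,3,2,3,5,0,5,6,3,4,1,2,3,6,3,4,3,2,3,5,0])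 (.node (.word [1,3,2,1,6,3,2,1,3,2,3,5,4,2,3,1,2,3,6,4,2,3,5,1,5,6,3,2,1,4,3,6,2,3,2,3,6,2,3,4,1,2,3,6,5,1,5,3,2,4,3,2,1,3,5,6,3,4,2,3,5,3,1,2,3,4,2,3,2,1,3,2,3,5,6,3,2,3,5,6,3,4,1,2,3,6,1,0,5,6,3,4,1,2,3,6,3,4,3,2,3,5,0]) (.word [5,6,3,2,1,4,3,6,2,3,2,3,6,2,3,4,1,2,3,6,5,1,2,3,5,3,2,1,0,3,5,6,3,2,3,6,4,3,2,3,1,2,3,5,6,3,4,5,6,3,4,1,2,3,6,3,4,3,2,3,5,0]))))) (.node (.node (.node (.node (.word [1,5,3,2,4,3,2,1,3,5,6,3,4,2,3,5,3,1,2,3,4,2,3,2,0,5,6,3,4,1,2,3,6,3,4,3,2,3,5,0,1,2,3,5,3,2,1,0,3,5,6,3,2,3,6,4,3,2,3,1,2,3,5,6,3,4,0,1,3,2,3,5,6,3,2,3,5,6,3,4,1,2,3,6,1,0,5,6,3,4,1,2,3,6,3,4,3,2,3,5,0,5,6,3,4,1,2,3,6,3,4,3,2,3,5,0]) (.word [5,6,3,4,1,2,3,6,3,4,3,2,3,5,0,1,2,3,5,3,2,1,0,3,5,6,3,2,3,6,4,3,2,3,1,2,3,5,6,3,4,1,3,2,1,6,3,2,1,3,2,3,5,4,2,3,1,2,3,6,4,2,3,5,1,5,6,3,4,1,2,3,6,3,4,3,2,3,5,0]))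 (.node (.word [1,2,3,5,3,2,1,0,3,5,6,3,2,3,6,4,3,2,3,1,2,3,5,6,3,4,5,6,3,4,1,2,3,6,3,4,3,2,3,5,0,1,3,2,1,6,3,2,1,3,2,3,5,4,2,3,1,2,3,6,4,2,3,5,1,5,6,3,2,1,4,3,6,2,3,2,3,6,2,3,4,1,2,4,1,2,3,6,3,4,3,2,3,5,0]) (.word [1,2,3,5,3,2,1,0,3,5,6,3,2,3,6,4,3,2,3,1,2,3,5,6,3,4,5,6,3,2,1,4,3,6,2,3,2,3,6,2,3,4,1,2,3,6,5,1,2,3,5,3,2,1,0,3,5,6,3,2,3,6,4,3,2,3,1,2,3,5,6,3,4,0,1,3,2,3,5,6,3,2,3,5,6,3,4,1,2,3,6,1,0]))) (.node (.node (.word [0,1,3,2,3,5,6,3,2,3,5,6,3,4,1,2,3,6,1,0,5,6,3,2,1,4,3,6,2,3,2,3,6,2,3,4,1,2,4,1,2,3,6,3,4,3,2,3,5,1,3,2,3,5,6,3,2,3,5,6,3,4,1,2,3,6,1,0]) (.word [0,1,3,2,3,5,6,3,2,3,5,6,3,4,1,2,3,6,3,2,3,5,6,3,2,3,5,6,3,4,1,2,3,6,1,0,1,5,3,2,4,3,2,1,3,5,6,3,4,2,3,5,3,1,2,3,4,2,3,2,0,1,2,3,5,3,2,1,0,3,5,6,3,2,3,6,4,3,2,3,1,2,3,5,6,3,4,5,6,3,4,1,2,3,6,3,4,3,2,3,5,0]))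 (.node (.word [5,6,3,4,1,2,3,6,3,4,3,2,3,5,0,5,6,3,4,1,2,3,6,3,4,3,2,3,5,1,3,2,3,5,6,3,2,3,5,6,3,4,1,2,3,6,1,0,5,6,3,4,1,2,3,6,3,4,3,2,3,5,0]) (.word [5,6,3,4,1,2,3,6,3,4,3,2,3,5,0,1,5,3,2,4,3,2,1,3,5,6,3,4,2,3,5,3,1,2,3,4,2,3,2,1,3,2,3,5,6,3,2,3,5,6,3,4,1,2,3,6,1,0,5,6,3,2,1,4,3,6,2,3,2,3,6,2,3,4,1,2,4,1,2,3,6,3,4,3,2,3,5,0,5,6,3,4,1,2,3,6,3,4,3,2,3,5,0])))) (.node (.node (.node .none (.word [2,1,6,3,2,3,1,2,3,4,2,3,6,1,2,3,5,6,3,2,0,5,6,3,4,1,2,3,6,3,4,3,2,3,5,0,5,6,3,2,1,4,3,6,2,3,2,3,6,2,3,4,1,2,3,6,5,0,1,3,2,3,5,6,3,2,3,5,6,3,4,1,2,3,6,3,2,3,5,6,3,2,3,5,6,3,4,1,2,3,6,1,0,5,6,3,4,1,2,3,6,3,4,3,2,3,5,0])) (.node .none (.word [0,1,3,2,3,5,6,3,2,3,5,6,3,4,1,2,3,6,3,2,3,5,6,3,2,3,5,6,3,4,1,2,3,6,1,0,1,3,2,1,6,3,2,1,3,2,3,5,4,2,3,1,2,3,6,4,2,3,5,1,5,6,3,2,1,4,3,6,2,3,2,3,6,2,3,4,1,2,4,1,2,3,6,3,4,3,2,3,5,0])))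 (.node (.node (.word [1,2,3,5,3,2,1,0,3,5,6,3,2,3,6,4,3,2,3,1,2,3,5,6,3,4,2,1,6,3,2,3,1,2,3,4,2,3,6,1,2,3,5,6,3,2,0,1,3,2,1,6,3,2,1,3,2,3,5,4,2,3,1,2,3,6,4,2,3,5,1,0,1,3,2,3,5,6,3,2,3,5,6,3,4,1,2,3,6,1,0,5,6,3,4,1,2,3,6,3,4,3,2,3,5,0]) (.word [1,5,3,2,4,3,2,1,3,5,6,3,4,2,3,5,3,1,2,3,4,2,3,2,0,1,2,3,5,3,2,1,0,3,5,6,3,2,3,6,4,3,2,3,1,2,3,5,6,3,4,0,1,3,2,3,5,6,3,2,3,5,6,3,4,1,2,3,6,1,0,1,3,2,1,6,3,2,1,3,2,3,5,4,2,3,1,2,3,6,4,2,3,5,1,0,1,3,2,3,5,6,3,2,3,5,6,3,4,1,2,3,6,1,0])) (.node .none (.word [1,3,2,1,6,3,2,1,3,2,3,5,4,2,3,1,2,3,6,4,2,3,5,2,3,5,3,2,1,0,3,5,6,3,2,3,6,4,3,2,3,1,2,3,5,6,3,4,0,1,3,2,3,5,6,3,2,3,5,6,3,4,1,2,3,6,1,0,5,6,3,4,1,2,3,6,3,4,3,2,3,5,0,5,6,3,4,1,2,3,6,3,4,3,2,3,5,0]))))))))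

/-- A subtree. -/
def sub37 : WTree :=
  (.node (.node (.node (.node (.node (.node (.node (.node (.word [1,5,3,2,4,3,2,1,3,5,6,3,4,2,3,5,3,1,2,3,4,2,3,2,0,2,1,6,3,2,3,1,2,3,4,2,3,6,1,2,3,5,6,3,2,1,3,2,3,5,6,3,2,3,5,6,3,4,1,2,3,6,1,0]) (.word [1,5,3,2,4,3,2,1,3,5,6,3,4,2,3,5,3,1,2,3,4,2,3,2,0,1,3,2,1,6,3,2,1,3,2,3,5,4,2,3,1,2,3,6,3,2,1,3,5,6,3,4,2,3,5,3,1,2,3,4,2,3,2,1,3,2,3,5,6,3,2,3,5,6,3,4,1,2,3,6,1,0,5,6,3,4,1,2,3,6,3,4,3,2,3,5,0])) .none) (.node .none (.word [1,2,3,5,3,2,1,0,3,5,6,3,2,3,6,4,3,2,3,1,2,3,5,6,3,4,5,6,3,4,1,2,3,6,3,4,3,2,3,5,0,2,1,6,3,2,3,1,2,3,4,2,3,6,1,2,3,5,6,3,2,0,5,6,3,2,1,4,3,6,2,3,2,3,6,2,3,4,1,2,4,1,2,3,6,3,4,3,2,3,5,0]))) (.node (.node (.word [1,5,3,2,4,3,2,1,3,5,6,3,4,2,3,5,3,1,2,3,4,2,3,2,0,5,6,3,4,1,2,3,6,3,4,3,2,3,5,1,3,2,3,5,6,3,2,3,5,6,3,4,1,2,3,6,1,0])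 (.word [1,3,2,1,6,3,2,1,3,2,3,5,4,2,3,1,2,3,6,3,2,1,3,5,6,3,4,2,3,5,3,1,2,3,4,2,3,2,0,5,6,3,4,1,2,3,6,3,4,3,2,3,5,0])) (.node .none (.word [5,6,3,2,1,4,3,6,2,3,2,3,6,2,3,4,1,2,3,6,5,1,5,3,2,4,3,2,1,3,5,6,3,4,2,3,5,3,1,2,3,4,2,3,2,0,1,5,3,2,4,3,2,1,3,5,6,3,4,2,3,5,3,1,2,3,4,2,3,2,1,3,2,3,5,6,3,2,3,5,6,3,4,1,2,3,6,1,0,5,6,3,4,1,2,3,6,3,4,3,2,3,5,0])))) (.node (.node (.node .none (.word [5,6,3,2,1,4,3,6,2,3,2,3,6,2,3,4,1,2,4,1,2,3,6,3,4,3,2,3,5,0,1,3,2,1,6,3,2,1,3,2,3,5,4,2,3,1,2,3,6,3,2,1,3,5,6,3,4,2,3,5,3,1,2,3,4,2,3,2,1,3,2,3,5,6,3,2,3,5,6,3,4,1,2,3,6,1,0])) (.node (.word [1,3,2,1,6,3,2,1,3,2,3,5,4,2,3,1,2,3,6,4,2,3,5,1,0,1,3,2,3,5,6,3,2,3,5,6,3,4,1,2,3,6,3,2,3,5,6,3,2,3,5,6,3,4,1,2,3,6,1,0])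 (.word [0,1,3,2,3,5,6,3,2,3,5,6,3,4,1,2,3,6,1,0,5,6,3,2,1,4,3,6,2,3,2,3,6,2,3,4,1,2,3,6,5,1,5,3,2,4,3,2,1,3,5,6,3,4,2,3,5,3,1,2,3,4,2,3,2,0,5,6,3,4,1,2,3,6,3,4,3,2,3,5,1,3,2,3,5,6,3,2,3,5,6,3,4,1,2,3,6,1,0]))) (.node (.node (.word [0,1,3,2,3,5,6,3,2,3,5,6,3,4,1,2,3,6,1,0,1,5,3,2,4,3,2,1,3,5,6,3,4,2,3,5,3,1,2,3,4,2,3,2,0,5,6,3,4,1,2,3,6,3,4,3,2,3,5,0,1,5,3,2,4,3,2,1,3,5,6,3,4,2,3,5,3,1,2,3,4,2,3,2,0,5,6,3,4,1,2,3,6,3,4,3,2,3,5,0]) (.word [5,6,3,4,1,2,3,6,3,4,3,2,3,5,1,3,2,3,5,6,3,2,3,5,6,3,4,1,2,3,6,1,0,1,5,3,2,4,3,2,1,3,5,6,3,4,2,3,5,3,1,2,3,4,2,3,2,0,5,6,3,4,1,2,3,6,3,4,3,2,3,5,0])) (.node .none (.word [5,6,3,2,1,4,3,6,2,3,2,3,6,2,3,4,1,2,4,1,2,3,6,3,4,3,2,3,5,1,3,2,3,5,6,3,2,3,5,6,3,4,1,2,3,6,3,2,3,5,6,3,2,3,5,6,3,4,1,2,3,6,1,0,5,6,3,4,1,2,3,6,3,4,3,2,3,5,0])))))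 (.node (.node (.node (.word [0,1,3,2,3,5,6,3,2,3,5,6,3,4,1,2,3,6,1,0,5,6,3,4,1,2,3,6,3,4,3,2,3,5,0,1,3,2,1,6,3,2,1,3,2,3,5,4,2,3,1,2,3,6,4,2,3,5,2,3,5,3,2,1,0,3,5,6,3,2,3,6,4,3,2,3,1,2,3,5,6,3,4,5,6,3,4,1,2,3,6,3,4,3,2,3,5,0,5,6,3,4,1,2,3,6,3,4,3,2,3,5,0]) (.node (.word [1,5,3,2,4,3,2,1,3,5,6,3,4,2,3,5,3,1,2,3,4,2,3,2,0,5,6,3,4,1,2,3,6,3,4,3,2,3,5,1,3,2,3,5,6,3,2,3,5,6,3,4,1,2,3,6,1,0,1,3,2,1,6,3,2,1,3,2,3,5,4,2,3,1,2,3,6,4,2,3,5,1,5,6,3,4,1,2,3,6,3,4,3,2,3,5,0]) (.word [1,2,3,5,3,2,1,0,3,5,6,3,2,3,6,4,3,2,3,1,2,3,5,6,3,4,5,6,3,4,1,2,3,6,3,4,3,2,3,5,0,1,3,2,1,6,3,2,1,3,2,3,5,4,2,3,1,2,3,6,4,2,3,5,1,0,1,3,2,3,5,6,3,2,3,5,6,3,4,1,2,3,6,3,2,3,5,6,3,2,3,5,6,3,4,1,2,3,6,1,0]))) (.node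 (.node (.word [5,6,3,4,1,2,3,6,3,4,3,2,3,5,0,5,6,3,4,1,2,3,6,3,4,3,2,3,5,0,1,2,3,5,3,2,1,0,3,5,6,3,2,3,6,4,3,2,3,1,2,3,5,6,3,4,5,6,3,4,1,2,3,6,3,4,3,2,3,5,0]) (.word [2,1,6,3,2,3,1,2,3,4,2,3,6,1,2,3,5,6,3,2,0,1,3,2,1,6,3,2,1,3,2,3,5,4,2,3,1,2,3,6,4,2,3,5,1,0,1,3,2,3,5,6,3,2,3,5,6,3,4,1,2,3,6,1,0,1,2,3,5,3,2,1,0,3,5,6,3,2,3,6,4,3,2,3,1,2,3,5,6,3,4,0,1,3,2,3,5,6,3,2,3,5,6,3,4,1,2,3,6,1,0])) .none)) (.node (.node (.node .none (.word [2,1,6,3,2,3,1,2,3,4,2,3,6,1,2,3,5,6,3,2,0,1,5,3,2,4,3,2,1,3,5,6,3,4,2,3,5,3,1,2,3,4,2,3,2,0,5,6,3,2,1,4,3,6,2,3,2,3,6,2,3,4,1,2,4,1,2,3,6,3,4,3,2,3,5,0,5,6,3,4,1,2,3,6,3,4,3,2,3,5,0])) (.node (.word [0,1,3,2,3,5,6,3,2,3,5,6,3,4,1,2,3,6,1,0,1,2,3,5,3,2,1,0,3,5,6,3,2,3,6,4,3,2,3,1,2,3,5,6,3,4,5,6,3,4,1,2,3,6,3,4,3,2,3,5,0,5,6,3,2,1,4,3,6,2,3,2,3,6,2,3,4,1,2,4,1,2,3,6,3,4,3,2,3,5,0])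 (.word [2,1,6,3,2,3,1,2,3,4,2,3,6,1,2,3,5,6,3,2,0,5,6,3,4,1,2,3,6,3,4,3,2,3,5,1,3,2,3,5,6,3,2,3,5,6,3,4,1,2,3,6,1,0,5,6,3,4,1,2,3,6,3,4,3,2,3,5,0,5,6,3,4,1,2,3,6,3,4,3,2,3,5,0]))) .none))) (.node (.node (.node (.node (.node (.word [5,6,3,4,1,2,3,6,3,4,3,2,3,5,1,3,2,3,5,6,3,2,3,5,6,3,4,1,2,3,6,1,0,1,2,3,5,3,2,1,0,3,5,6,3,2,3,6,4,3,2,3,1,2,3,5,6,3,4,1,2,3,5,3,2,1,0,3,5,6,3,2,3,6,4,3,2,3,1,2,3,5,6,3,4,0,1,3,2,3,5,6,3,2,3,5,6,3,4,1,2,3,6,1,0,5,6,3,4,1,2,3,6,3,4,3,2,3,5,0]) (.word [2,1,6,3,2,3,1,2,3,4,2,3,6,1,2,3,5,6,3,2,0,1,2,3,5,3,2,1,0,3,5,6,3,2,3,6,4,3,2,3,1,2,3,5,6,3,4,0,1,3,2,3,5,6,3,2,3,5,6,3,4,1,2,3,6,1,0,5,6,3,4,1,2,3,6,3,4,3,2,3,5,0,5,6,3,4,1,2,3,6,3,4,3,2,3,5,0])) (.node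 (.word [1,3,2,1,6,3,2,1,3,2,3,5,4,2,3,1,2,3,6,4,2,3,5,1,5,6,3,4,1,2,3,6,3,4,3,2,3,5,0,1,5,3,2,4,3,2,1,3,5,6,3,4,2,3,5,3,1,2,3,4,2,3,2,0,1,5,3,2,4,3,2,1,3,5,6,3,4,2,3,5,3,1,2,3,4,2,3,2,1,3,2,3,5,6,3,2,3,5,6,3,4,1,2,3,6,1,0]) (.word [5,6,3,4,1,2,3,6,3,4,3,2,3,5,0,1,5,3,2,4,3,2,1,3,5,6,3,4,2,3,5,3,1,2,3,4,2,3,2,0,1,3,2,1,6,3,2,1,3,2,3,5,4,2,3,1,2,3,6,4,2,3,5,1,5,6,3,4,1,2,3,6,3,4,3,2,3,5,1,3,2,3,5,6,3,2,3,5,6,3,4,1,2,3,6,1,0,5,6,3,4,1,2,3,6,3,4,3,2,3,5,0]))) (.node (.node (.word [2,1,6,3,2,3,1,2,3,4,2,3,6,1,2,3,5,6,3,2,1,3,2,3,5,6,3,2,3,5,6,3,4,1,2,3,6,1,0,5,6,3,2,1,4,3,6,2,3,2,3,6,2,3,4,1,2,3,6,5,1,5,3,2,4,3,2,1,3,5,6,3,4,2,3,5,3,1,2,3,4,2,3,2,0,5,6,3,4,1,2,3,6,3,4,3,2,3,5,0])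 (.word [1,5,3,2,4,3,2,1,3,5,6,3,4,2,3,5,3,1,2,3,4,2,3,2,0,1,2,3,5,3,2,1,0,3,5,6,3,2,3,6,4,3,2,3,1,2,3,5,6,3,4,5,6,3,4,1,2,3,6,3,4,3,2,3,5,0,5,6,3,4,1,2,3,6,3,4,3,2,3,5,0,5,6,3,4,1,2,3,6,3,4,3,2,3,5,0])) (.word [1,2,3,5,3,2,1,0,3,5,6,3,2,3,6,4,3,2,3,1,2,3,5,6,3,4,5,6,3,4,1,2,3,6,3,4,3,2,3,5,0,5,6,3,2,1,4,3,6,2,3,2,3,6,2,3,4,1,2,3,6,5,1,2,3,5,3,2,1,0,3,5,6,3,2,3,6,4,3,2,3,1,2,3,5,6,3,4,0,1,3,2,3,5,6,3,2,3,5,6,3,4,1,2,3,6,1,0]))) (.node (.node (.word [5,6,3,4,1,2,3,6,3,4,3,2,3,5,1,3,2,3,5,6,3,2,3,5,6,3,4,1,2,3,6,1,0,1,2,3,5,3,2,1,0,3,5,6,3,2,3,6,4,3,2,3,1,2,3,5,6,3,4,0,1,3,2,3,5,6,3,2,3,5,6,3,4,1,2,3,6,1,0,5,6,3,4,1,2,3,6,3,4,3,2,3,5,0,5,6,3,4,1,2,3,6,3,4,3,2,3,5,0]) (.node (.word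 [0,1,3,2,3,5,6,3,2,3,5,6,3,4,1,2,3,6,1,0,2,1,6,3,2,3,1,2,3,4,2,3,6,1,2,3,5,6,3,2,1,3,2,3,5,6,3,2,3,5,6,3,4,1,2,3,6,1,0,1,2,3,5,3,2,1,0,3,5,6,3,2,3,6,4,3,2,3,1,2,3,5,6,3,4,5,6,3,4,1,2,3,6,3,4,3,2,3,5,0]) (.word [1,3,2,1,6,3,2,1,3,2,3,5,4,2,3,1,2,3,6,4,2,3,5,1,5,6,3,2,1,4,3,6,2,3,2,3,6,2,3,4,1,2,3,6,5,0,1,3,2,3,5,6,3,2,3,5,6,3,4,1,2,3,6,1,0,5,6,3,4,1,2,3,6,3,4,3,2,3,5,0,5,6,3,4,1,2,3,6,3,4,3,2,3,5,0]))) (.node (.node (.word [1,2,3,5,3,2,1,0,3,5,6,3,2,3,6,4,3,2,3,1,2,3,5,6,3,4,5,6,3,4,1,2,3,6,3,4,3,2,3,5,1,3,2,3,5,6,3,2,3,5,6,3,4,1,2,3,6,1,0,1,5,3,2,4,3,2,1,3,5,6,3,4,2,3,5,3,1,2,3,4,2,3,2,0,5,6,3,4,1,2,3,6,3,4,3,2,3,5,0]) (.word [0,1,3,2,3,5,6,3,2,3,5,6,3,4,1,2,3,6,1,0,5,6,3,4,1,2,3,6,3,4,3,2,3,5,1,3,2,3,5,6,3,2,3,5,6,3,4,1,2,3,6,1,0,5,6,3,4,1,2,3,6,3,4,3,2,3,5,0]))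 (.word [1,2,3,5,3,2,1,0,3,5,6,3,2,3,6,4,3,2,3,1,2,3,5,6,3,4,0,1,3,2,3,5,6,3,2,3,5,6,3,4,1,2,3,6,1,0,5,6,3,2,1,4,3,6,2,3,2,3,6,2,3,4,1,2,3,6,5,0,1,3,2,3,5,6,3,2,3,5,6,3,4,1,2,3,6,3,2,3,5,6,3,2,3,5,6,3,4,1,2,3,6,1,0])))) (.node (.node (.node (.word [1,3,2,1,6,3,2,1,3,2,3,5,4,2,3,1,2,3,6,4,2,3,5,2,3,5,3,2,1,0,3,5,6,3,2,3,6,4,3,2,3,1,2,3,5,6,3,4,5,6,3,4,1,2,3,6,3,4,3,2,3,5,0,5,6,3,4,1,2,3,6,3,4,3,2,3,5,1,3,2,3,5,6,3,2,3,5,6,3,4,1,2,3,6,1,0]) (.node (.word [1,5,3,2,4,3,2,1,3,5,6,3,4,2,3,5,3,1,2,3,4,2,3,2,0,5,6,3,4,1,2,3,6,3,4,3,2,3,5,0,5,6,3,2,1,4,3,6,2,3,2,3,6,2,3,4,1,2,4,1,2,3,6,3,4,3,2,3,5,0,1,2,3,5,3,2,1,0,3,5,6,3,2,3,6,4,3,2,3,1,2,3,5,6,3,4,5,6,3,4,1,2,3,6,3,4,3,2,3,5,0]) (.word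 [1,3,2,1,6,3,2,1,3,2,3,5,4,2,3,1,2,3,6,3,2,1,3,5,6,3,4,2,3,5,3,1,2,3,4,2,3,2,0,5,6,3,2,1,4,3,6,2,3,2,3,6,2,3,4,1,2,3,6,5,0,1,3,2,3,5,6,3,2,3,5,6,3,4,1,2,3,6,1,0,5,6,3,4,1,2,3,6,3,4,3,2,3,5,0]))) (.node (.word [1,3,2,1,6,3,2,1,3,2,3,5,4,2,3,1,2,3,6,4,2,3,5,1,0,1,3,2,3,5,6,3,2,3,5,6,3,4,1,2,3,6,1,0,1,2,3,5,3,2,1,0,3,5,6,3,2,3,6,4,3,2,3,1,2,3,5,6,3,4,0,1,3,2,3,5,6,3,2,3,5,6,3,4,1,2,3,6,1,0]) (.node (.word [0,1,3,2,3,5,6,3,2,3,5,6,3,4,1,2,3,6,3,2,3,5,6,3,2,3,5,6,3,4,1,2,3,6,1,0,5,6,3,2,1,4,3,6,2,3,2,3,6,2,3,4,1,2,3,6,5,0,1,3,2,3,5,6,3,2,3,5,6,3,4,1,2,3,6,3,2,3,5,6,3,2,3,5,6,3,4,1,2,3,6,1,0]) (.word [0,1,3,2,3,5,6,3,2,3,5,6,3,4,1,2,3,6,1,0,1,3,2,1,6,3,2,1,3,2,3,5,4,2,3,1,2,3,6,4,2,3,5,1,5,6,3,2,1,4,3,6,2,3,2,3,6,2,3,4,1,2,4,1,2,3,6,3,4,3,2,3,5,0]))))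 (.node (.node .none (.word [5,6,3,4,1,2,3,6,3,4,3,2,3,5,0,5,6,3,4,1,2,3,6,3,4,3,2,3,5,1,3,2,3,5,6,3,2,3,5,6,3,4,1,2,3,6,1,0])) (.node .none (.node (.word [2,1,6,3,2,3,1,2,3,4,2,3,6,1,2,3,5,6,3,2,0,1,5,3,2,4,3,2,1,3,5,6,3,4,2,3,5,3,1,2,3,4,2,3,2,0,1,2,3,5,3,2,1,0,3,5,6,3,2,3,6,4,3,2,3,1,2,3,5,6,3,4,1,2,3,5,3,2,1,0,3,5,6,3,2,3,6,4,3,2,3,1,2,3,5,6,3,4,5,6,3,4,1,2,3,6,3,4,3,2,3,5,0]) (.word [1,2,3,5,3,2,1,0,3,5,6,3,2,3,6,4,3,2,3,1,2,3,5,6,3,4,5,6,3,2,1,4,3,6,2,3,2,3,6,2,3,4,1,2,3,6,5,1,5,3,2,4,3,2,1,3,5,6,3,4,2,3,5,3,1,2,3,4,2,3,2,1,3,2,3,5,6,3,2,3,5,6,3,4,1,2,3,6,1,0,5,6,3,4,1,2,3,6,3,4,3,2,3,5,0]))))))) (.node (.node (.node (.node (.node (.node (.word [1,5,3,2,4,3,2,1,3,5,6,3,4,2,3,5,3,1,2,3,4,2,3,2,0,5,6,3,4,1,2,3,6,3,4,3,2,3,5,0,1,5,3,2,4,3,2,1,3,5,6,3,4,2,3,5,3,1,2,3,4,2,3,2,1,3,2,3,5,6,3,2,3,5,6,3,4,1,2,3,6,1,0,5,6,3,4,1,2,3,6,3,4,3,2,3,5,0])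 (.word [2,1,6,3,2,3,1,2,3,4,2,3,6,1,2,3,5,6,3,2,0,1,5,3,2,4,3,2,1,3,5,6,3,4,2,3,5,3,1,2,3,4,2,3,2,1,3,2,3,5,6,3,2,3,5,6,3,4,1,2,3,6,1,0,2,1,6,3,2,3,1,2,3,4,2,3,6,1,2,3,5,6,3,2,0,5,6,3,4,1,2,3,6,3,4,3,2,3,5,0])) .none) (.node (.node (.word [1,3,2,1,6,3,2,1,3,2,3,5,4,2,3,1,2,3,6,4,2,3,5,1,5,6,3,4,1,2,3,6,3,4,3,2,3,5,0,1,2,3,5,3,2,1,0,3,5,6,3,2,3,6,4,3,2,3,1,2,3,5,6,3,4,1,2,3,5,3,2,1,0,3,5,6,3,2,3,6,4,3,2,3,1,2,3,5,6,3,4,5,6,3,4,1,2,3,6,3,4,3,2,3,5,0,5,6,3,4,1,2,3,6,3,4,3,2,3,5,0]) (.word [0,1,3,2,3,5,6,3,2,3,5,6,3,4,1,2,3,6,1,0,2,1,6,3,2,3,1,2,3,4,2,3,6,1,2,3,5,6,3,2,0,1,2,3,5,3,2,1,0,3,5,6,3,2,3,6,4,3,2,3,1,2,3,5,6,3,4,5,6,3,4,1,2,3,6,3,4,3,2,3,5,1,3,2,3,5,6,3,2,3,5,6,3,4,1,2,3,6,1,0,5,6,3,4,1,2,3,6,3,4,3,2,3,5,0]))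 (.node (.word [1,2,3,5,3,2,1,0,3,5,6,3,2,3,6,4,3,2,3,1,2,3,5,6,3,4,1,5,3,2,4,3,2,1,3,5,6,3,4,2,3,5,3,1,2,3,4,2,3,2,0,1,5,3,2,4,3,2,1,3,5,6,3,4,2,3,5,3,1,2,3,4,2,3,2,0,1,5,3,2,4,3,2,1,3,5,6,3,4,2,3,5,3,1,2,3,4,2,3,2,0,5,6,3,4,1,2,3,6,3,4,3,2,3,5,0]) (.word [1,2,3,5,3,2,1,0,3,5,6,3,2,3,6,4,3,2,3,1,2,3,5,6,3,4,0,1,3,2,3,5,6,3,2,3,5,6,3,4,1,2,3,6,1,0,5,6,3,2,1,4,3,6,2,3,2,3,6,2,3,4,1,2,4,1,2,3,6,3,4,3,2,3,5,0,5,6,3,4,1,2,3,6,3,4,3,2,3,5,0])))) (.node (.node (.node (.word [1,5,3,2,4,3,2,1,3,5,6,3,4,2,3,5,3,1,2,3,4,2,3,2,1,3,2,3,5,6,3,2,3,5,6,3,4,1,2,3,6,1,0,1,2,3,5,3,2,1,0,3,5,6,3,2,3,6,4,3,2,3,1,2,3,5,6,3,4,1,2,3,5,3,2,1,0,3,5,6,3,2,3,6,4,3,2,3,1,2,3,5,6,3,4,0,1,3,2,3,5,6,3,2,3,5,6,3,4,1,2,3,6,1,0])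 (.word [5,6,3,4,1,2,3,6,3,4,3,2,3,5,0,5,6,3,4,1,2,3,6,3,4,3,2,3,5,0,1,5,3,2,4,3,2,1,3,5,6,3,4,2,3,5,3,1,2,3,4,2,3,2,1,3,2,3,5,6,3,2,3,5,6,3,4,1,2,3,6,1,0])) (.node (.word [5,6,3,2,1,4,3,6,2,3,2,3,6,2,3,4,1,2,3,6,5,0,1,3,2,3,5,6,3,2,3,5,6,3,4,1,2,3,6,1,0,5,6,3,4,1,2,3,6,3,4,3,2,3,5,0,1,5,3,2,4,3,2,1,3,5,6,3,4,2,3,5,3,1,2,3,4,2,3,2,0,5,6,3,4,1,2,3,6,3,4,3,2,3,5,0]) (.word [5,6,3,4,1,2,3,6,3,4,3,2,3,5,0,1,2,3,5,3,2,1,0,3,5,6,3,2,3,6,4,3,2,3,1,2,3,5,6,3,4,0,1,3,2,3,5,6,3,2,3,5,6,3,4,1,2,3,6,1,0]))) (.node (.node (.word [5,6,3,4,1,2,3,6,3,4,3,2,3,5,0,1,2,3,5,3,2,1,0,3,5,6,3,2,3,6,4,3,2,3,1,2,3,5,6,3,4,5,6,3,4,1,2,3,6,3,4,3,2,3,5,0]) (.word [1,5,3,2,4,3,2,1,3,5,6,3,4,2,3,5,3,1,2,3,4,2,3,2,0,5,6,3,4,1,2,3,6,3,4,3,2,3,5,0,2,1,6,3,2,3,1,2,3,4,2,3,6,1,2,3,5,6,3,2,0,5,6,3,2,1,4,3,6,2,3,2,3,6,2,3,4,1,2,4,1,2,3,6,3,4,3,2,3,5,0]))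 (.word [5,6,3,4,1,2,3,6,3,4,3,2,3,5,0,5,6,3,2,1,4,3,6,2,3,2,3,6,2,3,4,1,2,4,1,2,3,6,3,4,3,2,3,5,0,1,3,2,1,6,3,2,1,3,2,3,5,4,2,3,1,2,3,6,4,2,3,5,1,5,6,3,4,1,2,3,6,3,4,3,2,3,5,0])))) (.node (.node (.node (.node (.word [1,2,3,5,3,2,1,0,3,5,6,3,2,3,6,4,3,2,3,1,2,3,5,6,3,4,1,5,3,2,4,3,2,1,3,5,6,3,4,2,3,5,3,1,2,3,4,2,3,2,0,2,1,6,3,2,3,1,2,3,4,2,3,6,1,2,3,5,6,3,2,1,3,2,3,5,6,3,2,3,5,6,3,4,1,2,3,6,1,0,5,6,3,4,1,2,3,6,3,4,3,2,3,5,0]) (.word [1,3,2,1,6,3,2,1,3,2,3,5,4,2,3,1,2,3,6,4,2,3,5,1,5,6,3,4,1,2,3,6,3,4,3,2,3,5,1,3,2,3,5,6,3,2,3,5,6,3,4,1,2,3,6,3,2,3,5,6,3,2,3,5,6,3,4,1,2,3,6,1,0,5,6,3,4,1,2,3,6,3,4,3,2,3,5,0,5,6,3,4,1,2,3,6,3,4,3,2,3,5,0])) (.node .none (.word [1,2,3,5,3,2,1,0,3,5,6,3,2,3,6,4,3,2,3,1,2,3,5,6,3,4,5,6,3,2,1,4,3,6,2,3,2,3,6,2,3,4,1,2,3,6,5,1,3,2,1,6,3,2,1,3,2,3,5,4,2,3,1,2,3,6,4,2,3,5,2,3,5,3,2,1,0,3,5,6,3,2,3,6,4,3,2,3,1,2,3,5,6,3,4,5,6,3,4,1,2,3,6,3,4,3,2,3,5,0])))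 (.node (.node (.word [0,1,3,2,3,5,6,3,2,3,5,6,3,4,1,2,3,6,1,0,1,3,2,1,6,3,2,1,3,2,3,5,4,2,3,1,2,3,6,4,2,3,5,1,5,6,3,2,1,4,3,6,2,3,2,3,6,2,3,4,1,2,3,6,5,0,1,3,2,3,5,6,3,2,3,5,6,3,4,1,2,3,6,1,0,5,6,3,4,1,2,3,6,3,4,3,2,3,5,0,5,6,3,4,1,2,3,6,3,4,3,2,3,5,0]) (.word [5,6,3,4,1,2,3,6,3,4,3,2,3,5,0,5,6,3,2,1,4,3,6,2,3,2,3,6,2,3,4,1,2,3,6,5,1,2,3,5,3,2,1,0,3,5,6,3,2,3,6,4,3,2,3,1,2,3,5,6,3,4,5,6,3,4,1,2,3,6,3,4,3,2,3,5,1,3,2,3,5,6,3,2,3,5,6,3,4,1,2,3,6,1,0])) (.node .none (.word [5,6,3,2,1,4,3,6,2,3,2,3,6,2,3,4,1,2,3,6,5,1,5,3,2,4,3,2,1,3,5,6,3,4,2,3,5,3,1,2,3,4,2,3,2,0,5,6,3,4,1,2,3,6,3,4,3,2,3,5,1,3,2,3,5,6,3,2,3,5,6,3,4,1,2,3,6,1,0,5,6,3,4,1,2,3,6,3,4,3,2,3,5,0])))) (.node (.node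 (.node .none (.word [1,5,3,2,4,3,2,1,3,5,6,3,4,2,3,5,3,1,2,3,4,2,3,2,0,1,3,2,1,6,3,2,1,3,2,3,5,4,2,3,1,2,3,6,3,2,1,3,5,6,3,4,2,3,5,3,1,2,3,4,2,3,2,0,5,6,3,4,1,2,3,6,3,4,3,2,3,5,0,5,6,3,4,1,2,3,6,3,4,3,2,3,5,0])) (.word [5,6,3,2,1,4,3,6,2,3,2,3,6,2,3,4,1,2,3,6,5,1,2,3,5,3,2,1,0,3,5,6,3,2,3,6,4,3,2,3,1,2,3,5,6,3,4,5,6,3,2,1,4,3,6,2,3,2,3,6,2,3,4,1,2,4,1,2,3,6,3,4,3,2,3,5,0,5,6,3,4,1,2,3,6,3,4,3,2,3,5,0])) (.node (.node .none (.word [1,2,3,5,3,2,1,0,3,5,6,3,2,3,6,4,3,2,3,1,2,3,5,6,3,4,1,5,3,2,4,3,2,1,3,5,6,3,4,2,3,5,3,1,2,3,4,2,3,2,0,5,6,3,4,1,2,3,6,3,4,3,2,3,5,1,3,2,3,5,6,3,2,3,5,6,3,4,1,2,3,6,1,0])) .none)))) (.node (.node (.node (.node (.node (.word [0,1,3,2,3,5,6,3,2,3,5,6,3,4,1,2,3,6,1,0,5,6,3,4,1,2,3,6,3,4,3,2,3,5,0,5,6,3,4,1,2,3,6,3,4,3,2,3,5,0,5,6,3,4,1,2,3,6,3,4,3,2,3,5,0])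 (.word [0,1,3,2,3,5,6,3,2,3,5,6,3,4,1,2,3,6,1,0,1,2,3,5,3,2,1,0,3,5,6,3,2,3,6,4,3,2,3,1,2,3,5,6,3,4,1,2,3,5,3,2,1,0,3,5,6,3,2,3,6,4,3,2,3,1,2,3,5,6,3,4,0,1,3,2,3,5,6,3,2,3,5,6,3,4,1,2,3,6,1,0])) (.word [2,1,6,3,2,3,1,2,3,4,2,3,6,1,2,3,5,6,3,2,0,1,5,3,2,4,3,2,1,3,5,6,3,4,2,3,5,3,1,2,3,4,2,3,2,0,5,6,3,4,1,2,3,6,3,4,3,2,3,5,0,2,1,6,3,2,3,1,2,3,4,2,3,6,1,2,3,5,6,3,2,0,5,6,3,4,1,2,3,6,3,4,3,2,3,5,0])) (.node .none (.node .none (.word [1,3,2,1,6,3,2,1,3,2,3,5,4,2,3,1,2,3,6,4,2,3,5,1,0,1,3,2,3,5,6,3,2,3,5,6,3,4,1,2,3,6,1,0,5,6,3,4,1,2,3,6,3,4,3,2,3,5,0,5,6,3,2,1,4,3,6,2,3,2,3,6,2,3,4,1,2,4,1,2,3,6,3,4,3,2,3,5,0,5,6,3,4,1,2,3,6,3,4,3,2,3,5,0])))) (.node (.node (.node (.word [0,1,3,2,3,5,6,3,2,3,5,6,3,4,1,2,3,6,1,0,1,3,2,1,6,3,2,1,3,2,3,5,4,2,3,1,2,3,6,4,2,3,5,1,5,6,3,4,1,2,3,6,3,4,3,2,3,5,1,3,2,3,5,6,3,2,3,5,6,3,4,1,2,3,6,1,0,5,6,3,4,1,2,3,6,3,4,3,2,3,5,0])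 (.word [5,6,3,2,1,4,3,6,2,3,2,3,6,2,3,4,1,2,3,6,5,1,3,2,1,6,3,2,1,3,2,3,5,4,2,3,1,2,3,6,4,2,3,5,1,5,6,3,2,1,4,3,6,2,3,2,3,6,2,3,4,1,2,3,6,5,1,5,3,2,4,3,2,1,3,5,6,3,4,2,3,5,3,1,2,3,4,2,3,2,1,3,2,3,5,6,3,2,3,5,6,3,4,1,2,3,6,1,0,5,6,3,4,1,2,3,6,3,4,3,2,3,5,0])) (.node .none (.word [2,1,6,3,2,3,1,2,3,4,2,3,6,1,2,3,5,6,3,2,0,5,6,3,4,1,2,3,6,3,4,3,2,3,5,0,1,5,3,2,4,3,2,1,3,5,6,3,4,2,3,5,3,1,2,3,4,2,3,2,0,5,6,3,4,1,2,3,6,3,4,3,2,3,5,1,3,2,3,5,6,3,2,3,5,6,3,4,1,2,3,6,1,0]))) (.node (.word [0,1,3,2,3,5,6,3,2,3,5,6,3,4,1,2,3,6,3,2,3,5,6,3,2,3,5,6,3,4,1,2,3,6,1,0,5,6,3,2,1,4,3,6,2,3,2,3,6,2,3,4,1,2,3,6,5,1,5,3,2,4,3,2,1,3,5,6,3,4,2,3,5,3,1,2,3,4,2,3,2,0,5,6,3,4,1,2,3,6,3,4,3,2,3,5,0])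 (.word [0,1,3,2,3,5,6,3,2,3,5,6,3,4,1,2,3,6,1,0,1,3,2,1,6,3,2,1,3,2,3,5,4,2,3,1,2,3,6,4,2,3,5,1,0,1,3,2,3,5,6,3,2,3,5,6,3,4,1,2,3,6,1,0,5,6,3,4,1,2,3,6,3,4,3,2,3,5,0])))) (.node (.node (.node (.node .none (.word [5,6,3,4,1,2,3,6,3,4,3,2,3,5,0,1,3,2,1,6,3,2,1,3,2,3,5,4,2,3,1,2,3,6,4,2,3,5,1,0,1,3,2,3,5,6,3,2,3,5,6,3,4,1,2,3,6,3,2,3,5,6,3,2,3,5,6,3,4,1,2,3,6,1,0,5,6,3,4,1,2,3,6,3,4,3,2,3,5,0])) (.word [1,5,3,2,4,3,2,1,3,5,6,3,4,2,3,5,3,1,2,3,4,2,3,2,0,1,5,3,2,4,3,2,1,3,5,6,3,4,2,3,5,3,1,2,3,4,2,3,2,0,5,6,3,2,1,4,3,6,2,3,2,3,6,2,3,4,1,2,4,1,2,3,6,3,4,3,2,3,5,0,5,6,3,4,1,2,3,6,3,4,3,2,3,5,0])) (.node (.node (.word [1,3,2,1,6,3,2,1,3,2,3,5,4,2,3,1,2,3,6,3,2,1,3,5,6,3,4,2,3,5,3,1,2,3,4,2,3,2,1,3,2,3,5,6,3,2,3,5,6,3,4,1,2,3,6,1,0,5,6,3,4,1,2,3,6,3,4,3,2,3,5,0])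 (.word [1,5,3,2,4,3,2,1,3,5,6,3,4,2,3,5,3,1,2,3,4,2,3,2,0,1,2,3,5,3,2,1,0,3,5,6,3,2,3,6,4,3,2,3,1,2,3,5,6,3,4,5,6,3,4,1,2,3,6,3,4,3,2,3,5,0,1,2,3,5,3,2,1,0,3,5,6,3,2,3,6,4,3,2,3,1,2,3,5,6,3,4,1,5,3,2,4,3,2,1,3,5,6,3,4,2,3,5,3,1,2,3,4,2,3,2,0,5,6,3,4,1,2,3,6,3,4,3,2,3,5,0])) (.node .none (.word [5,6,3,2,1,4,3,6,2,3,2,3,6,2,3,4,1,2,3,6,5,0,1,3,2,3,5,6,3,2,3,5,6,3,4,1,2,3,6,3,2,3,5,6,3,2,3,5,6,3,4,1,2,3,6,1,0,1,2,3,5,3,2,1,0,3,5,6,3,2,3,6,4,3,2,3,1,2,3,5,6,3,4,5,6,3,4,1,2,3,6,3,4,3,2,3,5,0])))) (.node (.node (.node (.word [5,6,3,4,1,2,3,6,3,4,3,2,3,5,0,5,6,3,2,1,4,3,6,2,3,2,3,6,2,3,4,1,2,3,6,5,0,1,3,2,3,5,6,3,2,3,5,6,3,4,1,2,3,6,1,0,2,1,6,3,2,3,1,2,3,4,2,3,6,1,2,3,5,6,3,2,0,5,6,3,4,1,2,3,6,3,4,3,2,3,5,0])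 (.word [5,6,3,4,1,2,3,6,3,4,3,2,3,5,1,3,2,3,5,6,3,2,3,5,6,3,4,1,2,3,6,1,0,5,6,3,4,1,2,3,6,3,4,3,2,3,5,0])) (.word [5,6,3,4,1,2,3,6,3,4,3,2,3,5,0,1,5,3,2,4,3,2,1,3,5,6,3,4,2,3,5,3,1,2,3,4,2,3,2,0,1,5,3,2,4,3,2,1,3,5,6,3,4,2,3,5,3,1,2,3,4,2,3,2,0,1,2,3,5,3,2,1,0,3,5,6,3,2,3,6,4,3,2,3,1,2,3,5,6,3,4,0,1,3,2,3,5,6,3,2,3,5,6,3,4,1,2,3,6,1,0,5,6,3,4,1,2,3,6,3,4,3,2,3,5,0])) (.node (.word [0,1,3,2,3,5,6,3,2,3,5,6,3,4,1,2,3,6,3,2,3,5,6,3,2,3,5,6,3,4,1,2,3,6,3,2,3,5,6,3,2,3,5,6,3,4,1,2,3,6,1,0,1,3,2,1,6,3,2,1,3,2,3,5,4,2,3,1,2,3,6,4,2,3,5,2,3,5,3,2,1,0,3,5,6,3,2,3,6,4,3,2,3,1,2,3,5,6,3,4,5,6,3,4,1,2,3,6,3,4,3,2,3,5,0]) (.node (.word [0,1,3,2,3,5,6,3,2,3,5,6,3,4,1,2,3,6,1,0,1,2,3,5,3,2,1,0,3,5,6,3,2,3,6,4,3,2,3,1,2,3,5,6,3,4,5,6,3,2,1,4,3,6,2,3,2,3,6,2,3,4,1,2,4,1,2,3,6,3,4,3,2,3,5,0])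 (.word [1,5,3,2,4,3,2,1,3,5,6,3,4,2,3,5,3,1,2,3,4,2,3,2,1,3,2,3,5,6,3,2,3,5,6,3,4,1,2,3,6,1,0,1,2,3,5,3,2,1,0,3,5,6,3,2,3,6,4,3,2,3,1,2,3,5,6,3,4,5,6,3,4,1,2,3,6,3,4,3,2,3,5,0]))))))))

/-- A subtree. -/
def sub38 : WTree :=
  (.node (.node (.node (.node (.node (.node (.word [1,2,3,5,3,2,1,0,3,5,6,3,2,3,6,4,3,2,3,1,2,3,5,6,3,4,5,6,3,4,1,2,3,6,3,4,3,2,3,5,0,5,6,3,4,1,2,3,6,3,4,3,2,3,5,0,1,5,3,2,4,3,2,1,3,5,6,3,4,2,3,5,3,1,2,3,4,2,3,2,0,5,6,3,4,1,2,3,6,3,4,3,2,3,5,0,5,6,3,4,1,2,3,6,3,4,3,2,3,5,0]) (.word [0,1,3,2,3,5,6,3,2,3,5,6,3,4,1,2,3,6,1,0,5,6,3,4,1,2,3,6,3,4,3,2,3,5,0,1,3,2,1,6,3,2,1,3,2,3,5,4,2,3,1,2,3,6,4,2,3,5,2,3,5,3,2,1,0,3,5,6,3,2,3,6,4,3,2,3,1,2,3,5,6,3,4,5,6,3,4,1,2,3,6,3,4,3,2,3,5,0]))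 (.node .none (.node .none (.word [5,6,3,2,1,4,3,6,2,3,2,3,6,2,3,4,1,2,3,6,5,0,1,3,2,3,5,6,3,2,3,5,6,3,4,1,2,3,6,3,2,3,5,6,3,2,3,5,6,3,4,1,2,3,6,3,2,3,5,6,3,2,3,5,6,3,4,1,2,3,6,1,0])))) (.node (.node (.node (.word [5,6,3,2,1,4,3,6,2,3,2,3,6,2,3,4,1,2,3,6,5,1,5,3,2,4,3,2,1,3,5,6,3,4,2,3,5,3,1,2,3,4,2,3,2,0,5,6,3,4,1,2,3,6,3,4,3,2,3,5,1,3,2,3,5,6,3,2,3,5,6,3,4,1,2,3,6,1,0]) (.word [0,1,3,2,3,5,6,3,2,3,5,6,3,4,1,2,3,6,1,0,5,6,3,4,1,2,3,6,3,4,3,2,3,5,1,3,2,3,5,6,3,2,3,5,6,3,4,1,2,3,6,1,0,1,2,3,5,3,2,1,0,3,5,6,3,2,3,6,4,3,2,3,1,2,3,5,6,3,4,5,6,3,4,1,2,3,6,3,4,3,2,3,5,0,5,6,3,4,1,2,3,6,3,4,3,2,3,5,0])) (.node .none (.word [0,1,3,2,3,5,6,3,2,3,5,6,3,4,1,2,3,6,3,2,3,5,6,3,2,3,5,6,3,4,1,2,3,6,1,0,1,5,3,2,4,3,2,1,3,5,6,3,4,2,3,5,3,1,2,3,4,2,3,2,1,3,2,3,5,6,3,2,3,5,6,3,4,1,2,3,6,1,0,5,6,3,4,1,2,3,6,3,4,3,2,3,5,0])))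 .none)) (.node (.node (.node (.node (.word [0,1,3,2,3,5,6,3,2,3,5,6,3,4,1,2,3,6,1,0,1,3,2,1,6,3,2,1,3,2,3,5,4,2,3,1,2,3,6,4,2,3,5,2,3,5,3,2,1,0,3,5,6,3,2,3,6,4,3,2,3,1,2,3,5,6,3,4,5,6,3,4,1,2,3,6,3,4,3,2,3,5,0]) (.word [1,2,3,5,3,2,1,0,3,5,6,3,2,3,6,4,3,2,3,1,2,3,5,6,3,4,5,6,3,4,1,2,3,6,3,4,3,2,3,5,0,1,5,3,2,4,3,2,1,3,5,6,3,4,2,3,5,3,1,2,3,4,2,3,2,0,5,6,3,4,1,2,3,6,3,4,3,2,3,5,0,5,6,3,4,1,2,3,6,3,4,3,2,3,5,0])) (.word [0,1,3,2,3,5,6,3,2,3,5,6,3,4,1,2,3,6,1,0,1,2,3,5,3,2,1,0,3,5,6,3,2,3,6,4,3,2,3,1,2,3,5,6,3,4,5,6,3,4,1,2,3,6,3,4,3,2,3,5,1,3,2,3,5,6,3,2,3,5,6,3,4,1,2,3,6,1,0,5,6,3,4,1,2,3,6,3,4,3,2,3,5,0])) (.node (.node .none (.word [2,1,6,3,2,3,1,2,3,4,2,3,6,1,2,3,5,6,3,2,0,5,6,3,2,1,4,3,6,2,3,2,3,6,2,3,4,1,2,4,1,2,3,6,3,4,3,2,3,5,0]))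 (.node (.word [5,6,3,4,1,2,3,6,3,4,3,2,3,5,0,2,1,6,3,2,3,1,2,3,4,2,3,6,1,2,3,5,6,3,2,0,1,5,3,2,4,3,2,1,3,5,6,3,4,2,3,5,3,1,2,3,4,2,3,2,1,3,2,3,5,6,3,2,3,5,6,3,4,1,2,3,6,1,0,5,6,3,4,1,2,3,6,3,4,3,2,3,5,0]) (.word [1,5,3,2,4,3,2,1,3,5,6,3,4,2,3,5,3,1,2,3,4,2,3,2,1,3,2,3,5,6,3,2,3,5,6,3,4,1,2,3,6,1,0,5,6,3,4,1,2,3,6,3,4,3,2,3,5,0,5,6,3,4,1,2,3,6,3,4,3,2,3,5,0])))) (.node (.node (.word [2,1,6,3,2,3,1,2,3,4,2,3,6,1,2,3,5,6,3,2,1,3,2,3,5,6,3,2,3,5,6,3,4,1,2,3,6,1,0,1,2,3,5,3,2,1,0,3,5,6,3,2,3,6,4,3,2,3,1,2,3,5,6,3,4,0,1,3,2,3,5,6,3,2,3,5,6,3,4,1,2,3,6,1,0,5,6,3,4,1,2,3,6,3,4,3,2,3,5,0,5,6,3,4,1,2,3,6,3,4,3,2,3,5,0]) (.word [0,1,3,2,3,5,6,3,2,3,5,6,3,4,1,2,3,6,1,0,5,6,3,2,1,4,3,6,2,3,2,3,6,2,3,4,1,2,4,1,2,3,6,3,4,3,2,3,5,1,3,2,3,5,6,3,2,3,5,6,3,4,1,2,3,6,3,2,3,5,6,3,2,3,5,6,3,4,1,2,3,6,1,0]))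 (.node .none (.node (.word [0,1,3,2,3,5,6,3,2,3,5,6,3,4,1,2,3,6,1,0,1,2,3,5,3,2,1,0,3,5,6,3,2,3,6,4,3,2,3,1,2,3,5,6,3,4,1,5,3,2,4,3,2,1,3,5,6,3,4,2,3,5,3,1,2,3,4,2,3,2,0,1,5,3,2,4,3,2,1,3,5,6,3,4,2,3,5,3,1,2,3,4,2,3,2,1,3,2,3,5,6,3,2,3,5,6,3,4,1,2,3,6,1,0]) (.word [0,1,3,2,3,5,6,3,2,3,5,6,3,4,1,2,3,6,3,2,3,5,6,3,2,3,5,6,3,4,1,2,3,6,3,2,3,5,6,3,2,3,5,6,3,4,1,2,3,6,1,0,1,2,3,5,3,2,1,0,3,5,6,3,2,3,6,4,3,2,3,1,2,3,5,6,3,4,5,6,3,4,1,2,3,6,3,4,3,2,3,5,0])))))) (.node (.node (.node (.node (.word [1,3,2,1,6,3,2,1,3,2,3,5,4,2,3,1,2,3,6,3,2,1,3,5,6,3,4,2,3,5,3,1,2,3,4,2,3,2,0,5,6,3,4,1,2,3,6,3,4,3,2,3,5,1,3,2,3,5,6,3,2,3,5,6,3,4,1,2,3,6,1,0]) (.node .none (.word [1,5,3,2,4,3,2,1,3,5,6,3,4,2,3,5,3,1,2,3,4,2,3,2,0,5,6,3,4,1,2,3,6,3,4,3,2,3,5,0,1,2,3,5,3,2,1,0,3,5,6,3,2,3,6,4,3,2,3,1,2,3,5,6,3,4,5,6,3,4,1,2,3,6,3,4,3,2,3,5,1,3,2,3,5,6,3,2,3,5,6,3,4,1,2,3,6,1,0])))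 (.node (.node (.word [0,1,3,2,3,5,6,3,2,3,5,6,3,4,1,2,3,6,1,0,1,5,3,2,4,3,2,1,3,5,6,3,4,2,3,5,3,1,2,3,4,2,3,2,0,5,6,3,4,1,2,3,6,3,4,3,2,3,5,0,5,6,3,2,1,4,3,6,2,3,2,3,6,2,3,4,1,2,4,1,2,3,6,3,4,3,2,3,5,0]) (.word [0,1,3,2,3,5,6,3,2,3,5,6,3,4,1,2,3,6,1,0,1,5,3,2,4,3,2,1,3,5,6,3,4,2,3,5,3,1,2,3,4,2,3,2,0,2,1,6,3,2,3,1,2,3,4,2,3,6,1,2,3,5,6,3,2,1,3,2,3,5,6,3,2,3,5,6,3,4,1,2,3,6,1,0,5,6,3,4,1,2,3,6,3,4,3,2,3,5,0])) (.node (.word [2,1,6,3,2,3,1,2,3,4,2,3,6,1,2,3,5,6,3,2,0,1,5,3,2,4,3,2,1,3,5,6,3,4,2,3,5,3,1,2,3,4,2,3,2,1,3,2,3,5,6,3,2,3,5,6,3,4,1,2,3,6,1,0,5,6,3,4,1,2,3,6,3,4,3,2,3,5,0]) (.word [1,5,3,2,4,3,2,1,3,5,6,3,4,2,3,5,3,1,2,3,4,2,3,2,1,3,2,3,5,6,3,2,3,5,6,3,4,1,2,3,6,1,0,1,5,3,2,4,3,2,1,3,5,6,3,4,2,3,5,3,1,2,3,4,2,3,2,0,5,6,3,4,1,2,3,6,3,4,3,2,3,5,0]))))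 (.node (.node (.node (.word [1,3,2,1,6,3,2,1,3,2,3,5,4,2,3,1,2,3,6,4,2,3,5,2,3,5,3,2,1,0,3,5,6,3,2,3,6,4,3,2,3,1,2,3,5,6,3,4,5,6,3,2,1,4,3,6,2,3,2,3,6,2,3,4,1,2,3,6,5,0,1,3,2,3,5,6,3,2,3,5,6,3,4,1,2,3,6,1,0,5,6,3,4,1,2,3,6,3,4,3,2,3,5,0]) (.word [0,1,3,2,3,5,6,3,2,3,5,6,3,4,1,2,3,6,1,0,5,6,3,4,1,2,3,6,3,4,3,2,3,5,0,1,3,2,1,6,3,2,1,3,2,3,5,4,2,3,1,2,3,6,4,2,3,5,1,5,6,3,4,1,2,3,6,3,4,3,2,3,5,0])) (.node (.word [5,6,3,2,1,4,3,6,2,3,2,3,6,2,3,4,1,2,3,6,5,1,3,2,1,6,3,2,1,3,2,3,5,4,2,3,1,2,3,6,4,2,3,5,1,5,6,3,2,1,4,3,6,2,3,2,3,6,2,3,4,1,2,3,6,5,1,2,3,5,3,2,1,0,3,5,6,3,2,3,6,4,3,2,3,1,2,3,5,6,3,4,0,1,3,2,3,5,6,3,2,3,5,6,3,4,1,2,3,6,1,0,5,6,3,4,1,2,3,6,3,4,3,2,3,5,0]) (.word [1,5,3,2,4,3,2,1,3,5,6,3,4,2,3,5,3,1,2,3,4,2,3,2,0,2,1,6,3,2,3,1,2,3,4,2,3,6,1,2,3,5,6,3,2,1,3,2,3,5,6,3,2,3,5,6,3,4,1,2,3,6,1,0,1,5,3,2,4,3,2,1,3,5,6,3,4,2,3,5,3,1,2,3,4,2,3,2,0,5,6,3,4,1,2,3,6,3,4,3,2,3,5,0])))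 (.node (.node .none (.word [1,5,3,2,4,3,2,1,3,5,6,3,4,2,3,5,3,1,2,3,4,2,3,2,0,5,6,3,4,1,2,3,6,3,4,3,2,3,5,0,2,1,6,3,2,3,1,2,3,4,2,3,6,1,2,3,5,6,3,2,0,1,5,3,2,4,3,2,1,3,5,6,3,4,2,3,5,3,1,2,3,4,2,3,2,0,5,6,3,4,1,2,3,6,3,4,3,2,3,5,0])) (.node (.word [1,3,2,1,6,3,2,1,3,2,3,5,4,2,3,1,2,3,6,4,2,3,5,1,0,1,3,2,3,5,6,3,2,3,5,6,3,4,1,2,3,6,1,0]) (.word [1,2,3,5,3,2,1,0,3,5,6,3,2,3,6,4,3,2,3,1,2,3,5,6,3,4,0,1,3,2,3,5,6,3,2,3,5,6,3,4,1,2,3,6,1,0,5,6,3,2,1,4,3,6,2,3,2,3,6,2,3,4,1,2,4,1,2,3,6,3,4,3,2,3,5,0]))))) (.node (.node (.node (.word [2,1,6,3,2,3,1,2,3,4,2,3,6,1,2,3,5,6,3,2,0,5,6,3,4,1,2,3,6,3,4,3,2,3,5,0,1,5,3,2,4,3,2,1,3,5,6,3,4,2,3,5,3,1,2,3,4,2,3,2,0,1,3,2,1,6,3,2,1,3,2,3,5,4,2,3,1,2,3,6,4,2,3,5,1,5,6,3,4,1,2,3,6,3,4,3,2,3,5,0])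 (.node (.word [1,2,3,5,3,2,1,0,3,5,6,3,2,3,6,4,3,2,3,1,2,3,5,6,3,4,0,1,3,2,3,5,6,3,2,3,5,6,3,4,1,2,3,6,1,0,2,1,6,3,2,3,1,2,3,4,2,3,6,1,2,3,5,6,3,2,1,3,2,3,5,6,3,2,3,5,6,3,4,1,2,3,6,1,0]) (.word [1,2,3,5,3,2,1,0,3,5,6,3,2,3,6,4,3,2,3,1,2,3,5,6,3,4,1,5,3,2,4,3,2,1,3,5,6,3,4,2,3,5,3,1,2,3,4,2,3,2,0,5,6,3,2,1,4,3,6,2,3,2,3,6,2,3,4,1,2,4,1,2,3,6,3,4,3,2,3,5,1,3,2,3,5,6,3,2,3,5,6,3,4,1,2,3,6,1,0,5,6,3,4,1,2,3,6,3,4,3,2,3,5,0]))) .none) (.node (.node (.word [0,1,3,2,3,5,6,3,2,3,5,6,3,4,1,2,3,6,1,0,1,2,3,5,3,2,1,0,3,5,6,3,2,3,6,4,3,2,3,1,2,3,5,6,3,4,1,2,3,5,3,2,1,0,3,5,6,3,2,3,6,4,3,2,3,1,2,3,5,6,3,4,5,6,3,4,1,2,3,6,3,4,3,2,3,5,0,5,6,3,4,1,2,3,6,3,4,3,2,3,5,0]) (.node .none (.word [1,3,2,1,6,3,2,1,3,2,3,5,4,2,3,1,2,3,6,4,2,3,5,1,5,6,3,4,1,2,3,6,3,4,3,2,3,5,0,1,5,3,2,4,3,2,1,3,5,6,3,4,2,3,5,3,1,2,3,4,2,3,2,1,3,2,3,5,6,3,2,3,5,6,3,4,1,2,3,6,1,0,5,6,3,4,1,2,3,6,3,4,3,2,3,5,0,5,6,3,4,1,2,3,6,3,4,3,2,3,5,0])))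 (.node .none (.node (.word [5,6,3,4,1,2,3,6,3,4,3,2,3,5,0,1,2,3,5,3,2,1,0,3,5,6,3,2,3,6,4,3,2,3,1,2,3,5,6,3,4,5,6,3,4,1,2,3,6,3,4,3,2,3,5,0,1,2,3,5,3,2,1,0,3,5,6,3,2,3,6,4,3,2,3,1,2,3,5,6,3,4,5,6,3,4,1,2,3,6,3,4,3,2,3,5,0]) (.word [1,5,3,2,4,3,2,1,3,5,6,3,4,2,3,5,3,1,2,3,4,2,3,2,0,1,2,3,5,3,2,1,0,3,5,6,3,2,3,6,4,3,2,3,1,2,3,5,6,3,4,1,2,3,5,3,2,1,0,3,5,6,3,2,3,6,4,3,2,3,1,2,3,5,6,3,4,0,1,3,2,3,5,6,3,2,3,5,6,3,4,1,2,3,6,1,0]))))))) (.node (.node (.node (.node (.node (.node (.word [1,5,3,2,4,3,2,1,3,5,6,3,4,2,3,5,3,1,2,3,4,2,3,2,1,3,2,3,5,6,3,2,3,5,6,3,4,1,2,3,6,3,2,3,5,6,3,2,3,5,6,3,4,1,2,3,6,1,0,1,2,3,5,3,2,1,0,3,5,6,3,2,3,6,4,3,2,3,1,2,3,5,6,3,4,0,1,3,2,3,5,6,3,2,3,5,6,3,4,1,2,3,6,1,0])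 (.word [5,6,3,4,1,2,3,6,3,4,3,2,3,5,0,5,6,3,4,1,2,3,6,3,4,3,2,3,5,0,5,6,3,2,1,4,3,6,2,3,2,3,6,2,3,4,1,2,3,6,5,1,2,3,5,3,2,1,0,3,5,6,3,2,3,6,4,3,2,3,1,2,3,5,6,3,4,5,6,3,4,1,2,3,6,3,4,3,2,3,5,0])) (.node .none (.word [1,3,2,1,6,3,2,1,3,2,3,5,4,2,3,1,2,3,6,4,2,3,5,2,3,5,3,2,1,0,3,5,6,3,2,3,6,4,3,2,3,1,2,3,5,6,3,4,1,5,3,2,4,3,2,1,3,5,6,3,4,2,3,5,3,1,2,3,4,2,3,2,0,5,6,3,4,1,2,3,6,3,4,3,2,3,5,0,5,6,3,4,1,2,3,6,3,4,3,2,3,5,0]))) (.node (.word [1,5,3,2,4,3,2,1,3,5,6,3,4,2,3,5,3,1,2,3,4,2,3,2,0,5,6,3,2,1,4,3,6,2,3,2,3,6,2,3,4,1,2,4,1,2,3,6,3,4,3,2,3,5,0,1,5,3,2,4,3,2,1,3,5,6,3,4,2,3,5,3,1,2,3,4,2,3,2,0,5,6,3,4,1,2,3,6,3,4,3,2,3,5,0,5,6,3,4,1,2,3,6,3,4,3,2,3,5,0]) (.node (.word [5,6,3,2,1,4,3,6,2,3,2,3,6,2,3,4,1,2,3,6,5,0,1,3,2,3,5,6,3,2,3,5,6,3,4,1,2,3,6,1,0,2,1,6,3,2,3,1,2,3,4,2,3,6,1,2,3,5,6,3,2,0,1,2,3,5,3,2,1,0,3,5,6,3,2,3,6,4,3,2,3,1,2,3,5,6,3,4,0,1,3,2,3,5,6,3,2,3,5,6,3,4,1,2,3,6,1,0,5,6,3,4,1,2,3,6,3,4,3,2,3,5,0])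 (.word [0,1,3,2,3,5,6,3,2,3,5,6,3,4,1,2,3,6,1,0,5,6,3,2,1,4,3,6,2,3,2,3,6,2,3,4,1,2,3,6,5,1,5,3,2,4,3,2,1,3,5,6,3,4,2,3,5,3,1,2,3,4,2,3,2,1,3,2,3,5,6,3,2,3,5,6,3,4,1,2,3,6,1,0,5,6,3,4,1,2,3,6,3,4,3,2,3,5,0])))) (.node (.node (.node (.word [5,6,3,4,1,2,3,6,3,4,3,2,3,5,0,5,6,3,4,1,2,3,6,3,4,3,2,3,5,1,3,2,3,5,6,3,2,3,5,6,3,4,1,2,3,6,1,0,5,6,3,4,1,2,3,6,3,4,3,2,3,5,0,5,6,3,4,1,2,3,6,3,4,3,2,3,5,0,5,6,3,4,1,2,3,6,3,4,3,2,3,5,0]) (.word [0,1,3,2,3,5,6,3,2,3,5,6,3,4,1,2,3,6,1,0,1,2,3,5,3,2,1,0,3,5,6,3,2,3,6,4,3,2,3,1,2,3,5,6,3,4,0,1,3,2,3,5,6,3,2,3,5,6,3,4,1,2,3,6,1,0,5,6,3,4,1,2,3,6,3,4,3,2,3,5,1,3,2,3,5,6,3,2,3,5,6,3,4,1,2,3,6,1,0,5,6,3,4,1,2,3,6,3,4,3,2,3,5,0])) (.node (.word [1,5,3,2,4,3,2,1,3,5,6,3,4,2,3,5,3,1,2,3,4,2,3,2,1,3,2,3,5,6,3,2,3,5,6,3,4,1,2,3,6,1,0,5,6,3,4,1,2,3,6,3,4,3,2,3,5,0,1,2,3,5,3,2,1,0,3,5,6,3,2,3,6,4,3,2,3,1,2,3,5,6,3,4,5,6,3,4,1,2,3,6,3,4,3,2,3,5,0])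 (.word [0,1,3,2,3,5,6,3,2,3,5,6,3,4,1,2,3,6,1,0,1,2,3,5,3,2,1,0,3,5,6,3,2,3,6,4,3,2,3,1,2,3,5,6,3,4,5,6,3,4,1,2,3,6,3,4,3,2,3,5,1,3,2,3,5,6,3,2,3,5,6,3,4,1,2,3,6,1,0]))) (.node (.node (.word [0,1,3,2,3,5,6,3,2,3,5,6,3,4,1,2,3,6,1,0,5,6,3,4,1,2,3,6,3,4,3,2,3,5,0,1,2,3,5,3,2,1,0,3,5,6,3,2,3,6,4,3,2,3,1,2,3,5,6,3,4,1,3,2,1,6,3,2,1,3,2,3,5,4,2,3,1,2,3,6,4,2,3,5,1,5,6,3,4,1,2,3,6,3,4,3,2,3,5,0]) (.word [1,5,3,2,4,3,2,1,3,5,6,3,4,2,3,5,3,1,2,3,4,2,3,2,0,5,6,3,2,1,4,3,6,2,3,2,3,6,2,3,4,1,2,4,1,2,3,6,3,4,3,2,3,5,0,1,3,2,1,6,3,2,1,3,2,3,5,4,2,3,1,2,3,6,4,2,3,5,1,5,6,3,4,1,2,3,6,3,4,3,2,3,5,0])) .none))) (.node (.node (.node (.node (.word [1,3,2,1,6,3,2,1,3,2,3,5,4,2,3,1,2,3,6,4,2,3,5,1,5,6,3,2,1,4,3,6,2,3,2,3,6,2,3,4,1,2,4,1,2,3,6,3,4,3,2,3,5,0,2,1,6,3,2,3,1,2,3,4,2,3,6,1,2,3,5,6,3,2,0,5,6,3,4,1,2,3,6,3,4,3,2,3,5,0])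 (.word [2,1,6,3,2,3,1,2,3,4,2,3,6,1,2,3,5,6,3,2,1,3,2,3,5,6,3,2,3,5,6,3,4,1,2,3,6,3,2,3,5,6,3,2,3,5,6,3,4,1,2,3,6,1,0,5,6,3,4,1,2,3,6,3,4,3,2,3,5,0,5,6,3,4,1,2,3,6,3,4,3,2,3,5,0])) (.node .none (.word [1,3,2,1,6,3,2,1,3,2,3,5,4,2,3,1,2,3,6,4,2,3,5,1,5,6,3,4,1,2,3,6,3,4,3,2,3,5,0,1,3,2,1,6,3,2,1,3,2,3,5,4,2,3,1,2,3,6,4,2,3,5,1,5,6,3,2,1,4,3,6,2,3,2,3,6,2,3,4,1,2,4,1,2,3,6,3,4,3,2,3,5,0]))) (.node (.word [5,6,3,2,1,4,3,6,2,3,2,3,6,2,3,4,1,2,3,6,5,0,1,3,2,3,5,6,3,2,3,5,6,3,4,1,2,3,6,1,0,2,1,6,3,2,3,1,2,3,4,2,3,6,1,2,3,5,6,3,2,0,5,6,3,4,1,2,3,6,3,4,3,2,3,5,0]) (.word [5,6,3,4,1,2,3,6,3,4,3,2,3,5,0,5,6,3,4,1,2,3,6,3,4,3,2,3,5,1,3,2,3,5,6,3,2,3,5,6,3,4,1,2,3,6,1,0,1,5,3,2,4,3,2,1,3,5,6,3,4,2,3,5,3,1,2,3,4,2,3,2,0,5,6,3,4,1,2,3,6,3,4,3,2,3,5,0])))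 (.node (.node (.node (.word [5,6,3,2,1,4,3,6,2,3,2,3,6,2,3,4,1,2,3,6,5,1,2,3,5,3,2,1,0,3,5,6,3,2,3,6,4,3,2,3,1,2,3,5,6,3,4,2,1,6,3,2,3,1,2,3,4,2,3,6,1,2,3,5,6,3,2,0,1,5,3,2,4,3,2,1,3,5,6,3,4,2,3,5,3,1,2,3,4,2,3,2,1,3,2,3,5,6,3,2,3,5,6,3,4,1,2,3,6,1,0,5,6,3,4,1,2,3,6,3,4,3,2,3,5,0]) (.word [2,1,6,3,2,3,1,2,3,4,2,3,6,1,2,3,5,6,3,2,0,5,6,3,2,1,4,3,6,2,3,2,3,6,2,3,4,1,2,3,6,5,0,1,3,2,3,5,6,3,2,3,5,6,3,4,1,2,3,6,1,0,1,2,3,5,3,2,1,0,3,5,6,3,2,3,6,4,3,2,3,1,2,3,5,6,3,4,0,1,3,2,3,5,6,3,2,3,5,6,3,4,1,2,3,6,1,0])) (.node (.word [1,3,2,1,6,3,2,1,3,2,3,5,4,2,3,1,2,3,6,4,2,3,5,1,5,6,3,4,1,2,3,6,3,4,3,2,3,5,1,3,2,3,5,6,3,2,3,5,6,3,4,1,2,3,6,1,0,5,6,3,2,1,4,3,6,2,3,2,3,6,2,3,4,1,2,4,1,2,3,6,3,4,3,2,3,5,0])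 (.word [1,5,3,2,4,3,2,1,3,5,6,3,4,2,3,5,3,1,2,3,4,2,3,2,0,5,6,3,4,1,2,3,6,3,4,3,2,3,5,0,5,6,3,4,1,2,3,6,3,4,3,2,3,5,0,1,2,3,5,3,2,1,0,3,5,6,3,2,3,6,4,3,2,3,1,2,3,5,6,3,4,5,6,3,4,1,2,3,6,3,4,3,2,3,5,0,5,6,3,4,1,2,3,6,3,4,3,2,3,5,0]))) (.node (.node .none (.word [5,6,3,4,1,2,3,6,3,4,3,2,3,5,0,1,5,3,2,4,3,2,1,3,5,6,3,4,2,3,5,3,1,2,3,4,2,3,2,0,1,3,2,1,6,3,2,1,3,2,3,5,4,2,3,1,2,3,6,3,2,1,3,5,6,3,4,2,3,5,3,1,2,3,4,2,3,2,0,5,6,3,4,1,2,3,6,3,4,3,2,3,5,0])) (.node (.word [5,6,3,4,1,2,3,6,3,4,3,2,3,5,0,1,2,3,5,3,2,1,0,3,5,6,3,2,3,6,4,3,2,3,1,2,3,5,6,3,4,0,1,3,2,3,5,6,3,2,3,5,6,3,4,1,2,3,6,1,0,5,6,3,4,1,2,3,6,3,4,3,2,3,5,0]) (.word [1,3,2,1,6,3,2,1,3,2,3,5,4,2,3,1,2,3,6,4,2,3,5,1,0,1,3,2,3,5,6,3,2,3,5,6,3,4,1,2,3,6,1,0,2,1,6,3,2,3,1,2,3,4,2,3,6,1,2,3,5,6,3,2,0,1,2,3,5,3,2,1,0,3,5,6,3,2,3,6,4,3,2,3,1,2,3,5,6,3,4,0,1,3,2,3,5,6,3,2,3,5,6,3,4,1,2,3,6,1,0]))))))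 (.node (.node (.node (.node (.node (.word [2,1,6,3,2,3,1,2,3,4,2,3,6,1,2,3,5,6,3,2,0,5,6,3,4,1,2,3,6,3,4,3,2,3,5,0,1,3,2,1,6,3,2,1,3,2,3,5,4,2,3,1,2,3,6,4,2,3,5,1,5,6,3,4,1,2,3,6,3,4,3,2,3,5,0]) (.word [1,5,3,2,4,3,2,1,3,5,6,3,4,2,3,5,3,1,2,3,4,2,3,2,0,5,6,3,4,1,2,3,6,3,4,3,2,3,5,0,5,6,3,4,1,2,3,6,3,4,3,2,3,5,0,1,5,3,2,4,3,2,1,3,5,6,3,4,2,3,5,3,1,2,3,4,2,3,2,1,3,2,3,5,6,3,2,3,5,6,3,4,1,2,3,6,1,0])) .none) (.node (.node (.word [5,6,3,4,1,2,3,6,3,4,3,2,3,5,1,3,2,3,5,6,3,2,3,5,6,3,4,1,2,3,6,1,0,1,3,2,1,6,3,2,1,3,2,3,5,4,2,3,1,2,3,6,3,2,1,3,5,6,3,4,2,3,5,3,1,2,3,4,2,3,2,0,5,6,3,4,1,2,3,6,3,4,3,2,3,5,0]) (.word [1,2,3,5,3,2,1,0,3,5,6,3,2,3,6,4,3,2,3,1,2,3,5,6,3,4,0,1,3,2,3,5,6,3,2,3,5,6,3,4,1,2,3,6,1,0,2,1,6,3,2,3,1,2,3,4,2,3,6,1,2,3,5,6,3,2,0,5,6,3,4,1,2,3,6,3,4,3,2,3,5,0]))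 .none)) (.node (.node (.node (.word [1,2,3,5,3,2,1,0,3,5,6,3,2,3,6,4,3,2,3,1,2,3,5,6,3,4,1,3,2,1,6,3,2,1,3,2,3,5,4,2,3,1,2,3,6,4,2,3,5,1,5,6,3,2,1,4,3,6,2,3,2,3,6,2,3,4,1,2,3,6,5,0,1,3,2,3,5,6,3,2,3,5,6,3,4,1,2,3,6,1,0,5,6,3,4,1,2,3,6,3,4,3,2,3,5,0]) (.word [5,6,3,4,1,2,3,6,3,4,3,2,3,5,0,1,2,3,5,3,2,1,0,3,5,6,3,2,3,6,4,3,2,3,1,2,3,5,6,3,4,1,5,3,2,4,3,2,1,3,5,6,3,4,2,3,5,3,1,2,3,4,2,3,2,0,5,6,3,4,1,2,3,6,3,4,3,2,3,5,0])) (.node .none (.word [1,2,3,5,3,2,1,0,3,5,6,3,2,3,6,4,3,2,3,1,2,3,5,6,3,4,1,3,2,1,6,3,2,1,3,2,3,5,4,2,3,1,2,3,6,4,2,3,5,1,0,1,3,2,3,5,6,3,2,3,5,6,3,4,1,2,3,6,1,0,5,6,3,4,1,2,3,6,3,4,3,2,3,5,1,3,2,3,5,6,3,2,3,5,6,3,4,1,2,3,6,1,0]))) (.node (.node (.word [5,6,3,2,1,4,3,6,2,3,2,3,6,2,3,4,1,2,3,6,5,1,5,3,2,4,3,2,1,3,5,6,3,4,2,3,5,3,1,2,3,4,2,3,2,0,5,6,3,4,1,2,3,6,3,4,3,2,3,5,0])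 (.word [2,1,6,3,2,3,1,2,3,4,2,3,6,1,2,3,5,6,3,2,1,3,2,3,5,6,3,2,3,5,6,3,4,1,2,3,6,3,2,3,5,6,3,2,3,5,6,3,4,1,2,3,6,3,2,3,5,6,3,2,3,5,6,3,4,1,2,3,6,1,0])) (.node (.word [5,6,3,4,1,2,3,6,3,4,3,2,3,5,0,1,3,2,1,6,3,2,1,3,2,3,5,4,2,3,1,2,3,6,4,2,3,5,2,3,5,3,2,1,0,3,5,6,3,2,3,6,4,3,2,3,1,2,3,5,6,3,4,5,6,3,2,1,4,3,6,2,3,2,3,6,2,3,4,1,2,3,6,5,0,1,3,2,3,5,6,3,2,3,5,6,3,4,1,2,3,6,1,0,5,6,3,4,1,2,3,6,3,4,3,2,3,5,0]) (.word [0,1,3,2,3,5,6,3,2,3,5,6,3,4,1,2,3,6,1,0,1,2,3,5,3,2,1,0,3,5,6,3,2,3,6,4,3,2,3,1,2,3,5,6,3,4,2,1,6,3,2,3,1,2,3,4,2,3,6,1,2,3,5,6,3,2,1,3,2,3,5,6,3,2,3,5,6,3,4,1,2,3,6,1,0,5,6,3,4,1,2,3,6,3,4,3,2,3,5,0]))))) (.node (.node (.node (.node .none (.word [1,5,3,2,4,3,2,1,3,5,6,3,4,2,3,5,3,1,2,3,4,2,3,2,1,3,2,3,5,6,3,2,3,5,6,3,4,1,2,3,6,1,0,5,6,3,2,1,4,3,6,2,3,2,3,6,2,3,4,1,2,3,6,5,1,2,3,5,3,2,1,0,3,5,6,3,2,3,6,4,3,2,3,1,2,3,5,6,3,4,5,6,3,4,1,2,3,6,3,4,3,2,3,5,0]))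 (.node (.word [0,1,3,2,3,5,6,3,2,3,5,6,3,4,1,2,3,6,1,0,1,2,3,5,3,2,1,0,3,5,6,3,2,3,6,4,3,2,3,1,2,3,5,6,3,4,0,1,3,2,3,5,6,3,2,3,5,6,3,4,1,2,3,6,1,0,5,6,3,4,1,2,3,6,3,4,3,2,3,5,0,1,5,3,2,4,3,2,1,3,5,6,3,4,2,3,5,3,1,2,3,4,2,3,2,0,5,6,3,4,1,2,3,6,3,4,3,2,3,5,0]) (.word [5,6,3,4,1,2,3,6,3,4,3,2,3,5,0,1,3,2,1,6,3,2,1,3,2,3,5,4,2,3,1,2,3,6,4,2,3,5,1,0,1,3,2,3,5,6,3,2,3,5,6,3,4,1,2,3,6,1,0]))) (.node (.node (.word [1,5,3,2,4,3,2,1,3,5,6,3,4,2,3,5,3,1,2,3,4,2,3,2,0,5,6,3,4,1,2,3,6,3,4,3,2,3,5,1,3,2,3,5,6,3,2,3,5,6,3,4,1,2,3,6,1,0,1,3,2,1,6,3,2,1,3,2,3,5,4,2,3,1,2,3,6,4,2,3,5,1,0,1,3,2,3,5,6,3,2,3,5,6,3,4,1,2,3,6,1,0,5,6,3,4,1,2,3,6,3,4,3,2,3,5,0]) (.word [1,5,3,2,4,3,2,1,3,5,6,3,4,2,3,5,3,1,2,3,4,2,3,2,0,1,3,2,1,6,3,2,1,3,2,3,5,4,2,3,1,2,3,6,3,2,1,3,5,6,3,4,2,3,5,3,1,2,3,4,2,3,2,0,5,6,3,4,1,2,3,6,3,4,3,2,3,5,0]))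 (.node (.word [2,1,6,3,2,3,1,2,3,4,2,3,6,1,2,3,5,6,3,2,1,3,2,3,5,6,3,2,3,5,6,3,4,1,2,3,6,1,0,1,5,3,2,4,3,2,1,3,5,6,3,4,2,3,5,3,1,2,3,4,2,3,2,0,5,6,3,4,1,2,3,6,3,4,3,2,3,5,0]) (.word [0,1,3,2,3,5,6,3,2,3,5,6,3,4,1,2,3,6,3,2,3,5,6,3,2,3,5,6,3,4,1,2,3,6,1,0,1,3,2,1,6,3,2,1,3,2,3,5,4,2,3,1,2,3,6,4,2,3,5,2,3,5,3,2,1,0,3,5,6,3,2,3,6,4,3,2,3,1,2,3,5,6,3,4,5,6,3,4,1,2,3,6,3,4,3,2,3,5,0])))) (.node (.node (.node (.word [5,6,3,2,1,4,3,6,2,3,2,3,6,2,3,4,1,2,4,1,2,3,6,3,4,3,2,3,5,0,1,2,3,5,3,2,1,0,3,5,6,3,2,3,6,4,3,2,3,1,2,3,5,6,3,4,5,6,3,4,1,2,3,6,3,4,3,2,3,5,0,5,6,3,4,1,2,3,6,3,4,3,2,3,5,0,5,6,3,4,1,2,3,6,3,4,3,2,3,5,0]) (.word [5,6,3,2,1,4,3,6,2,3,2,3,6,2,3,4,1,2,3,6,5,1,3,2,1,6,3,2,1,3,2,3,5,4,2,3,1,2,3,6,4,2,3,5,2,3,5,3,2,1,0,3,5,6,3,2,3,6,4,3,2,3,1,2,3,5,6,3,4,5,6,3,4,1,2,3,6,3,4,3,2,3,5,0,5,6,3,4,1,2,3,6,3,4,3,2,3,5,0]))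 (.node (.word [5,6,3,2,1,4,3,6,2,3,2,3,6,2,3,4,1,2,4,1,2,3,6,3,4,3,2,3,5,0,1,3,2,1,6,3,2,1,3,2,3,5,4,2,3,1,2,3,6,4,2,3,5,1,0,1,3,2,3,5,6,3,2,3,5,6,3,4,1,2,3,6,1,0]) (.word [1,5,3,2,4,3,2,1,3,5,6,3,4,2,3,5,3,1,2,3,4,2,3,2,1,3,2,3,5,6,3,2,3,5,6,3,4,1,2,3,6,1,0,1,3,2,1,6,3,2,1,3,2,3,5,4,2,3,1,2,3,6,4,2,3,5,1,5,6,3,4,1,2,3,6,3,4,3,2,3,5,0]))) (.node (.node (.word [1,5,3,2,4,3,2,1,3,5,6,3,4,2,3,5,3,1,2,3,4,2,3,2,0,5,6,3,4,1,2,3,6,3,4,3,2,3,5,0]) (.word [5,6,3,4,1,2,3,6,3,4,3,2,3,5,0,2,1,6,3,2,3,1,2,3,4,2,3,6,1,2,3,5,6,3,2,1,3,2,3,5,6,3,2,3,5,6,3,4,1,2,3,6,1,0,1,3,2,1,6,3,2,1,3,2,3,5,4,2,3,1,2,3,6,4,2,3,5,1,0,1,3,2,3,5,6,3,2,3,5,6,3,4,1,2,3,6,1,0,5,6,3,4,1,2,3,6,3,4,3,2,3,5,0])) (.node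 (.word [1,2,3,5,3,2,1,0,3,5,6,3,2,3,6,4,3,2,3,1,2,3,5,6,3,4,5,6,3,2,1,4,3,6,2,3,2,3,6,2,3,4,1,2,3,6,5,1,2,3,5,3,2,1,0,3,5,6,3,2,3,6,4,3,2,3,1,2,3,5,6,3,4,0,1,3,2,3,5,6,3,2,3,5,6,3,4,1,2,3,6,1,0,5,6,3,4,1,2,3,6,3,4,3,2,3,5,0]) (.word [1,5,3,2,4,3,2,1,3,5,6,3,4,2,3,5,3,1,2,3,4,2,3,2,1,3,2,3,5,6,3,2,3,5,6,3,4,1,2,3,6,1,0,1,5,3,2,4,3,2,1,3,5,6,3,4,2,3,5,3,1,2,3,4,2,3,2,0,5,6,3,4,1,2,3,6,3,4,3,2,3,5,0,5,6,3,4,1,2,3,6,3,4,3,2,3,5,0]))))))))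

/-- A subtree. -/
def sub39 : WTree :=
  (.node (.node sub35 sub36) (.node sub37 sub38))

/-- Points. -/
def levX1pts0 : List ℕ := [0,1,2,3,4,6,7,13,15,19,21,22,23,25,26,27,28,29,30,31,32,35,36,37,39,42,43,45,46,47,48,49,50,51,52,53,54,55,57,58,61,62,63,64,65,67,68,69,71,72,73,76,77,78,79,81,85,86,87,89,90,91,92,95,98,99,100,103,106,109,110,111,112,113,114,117,120,121,122,123,125,126,128,129,130,133,134,136,139,140,141,142,143,144,145,146,147,148,149,150,151,152,156,157,158,159,160,161,162,163,164,166,167,170,171,172,175,178,179,180,183,184,185,187,190,191,193,195,197,198,202,203,204,205,207,208,209,212,213,214,216,217,218,220,221,222,223,224,225,226,227,229,230,234,235,236,237,239,240,241,242,243,245,246,247,248,249,250,252,253,255,256,259,260,261,262,263,264,265,266,267,269,270,272,273,275,276,278,279,280,281,283,285,286,287,289,290,291,292,295]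

/-- Points. -/
def levX1pts1 : List ℕ := [296,297,299,300,303,305,306,307,308,309,312,313,314,316,317,318,319,321,322,324,325,326,327,328,329,330,334,336,337,339,341,342,343,344,345,346,347,348,351,359,360,362,363,364,365,366,369,370,371,373,374,375,376,378,379,380,382,383,384,386,387,388,389,390,391,393,394,395,397,398,400,401,402,404,405,406,407,409,410,411,412,413,414,415,418,421,423,424,426,427,428,429,430,432,433,434,435,436,437,438,439,441,442,443,444,447,449,452,453,456,457,459,460,461,464,465,466,467,469,470,473,474,475,476,477,480,481,482,484,486,490,491,492,493,497,501,503,504,505,506,507,509,510,511,514,515,517,518,520,521,522,526,527,528,529,532,534,536,538,539,541,544,545,546,547,550,551,553,554,555,556,558,562,565,567,568,572,573,574,580,581,583,585,587,588,589,590,591,592,593,594,595,596,597,600,601,602,603,604,606]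

/-- Points. -/
def levX1pts2 : List ℕ := [608,609,610,611,612,614,615,616,618,619,621,622,623,624,625,626,627,628,629,630,631,632,633,635,636,639,640,641,642,643,644,645,646,647,649,651,652,653,654,657,659,660,662,663,664,665,668,669,670,671,674,675,676,678,679,681,684,685,686,687,688,690,691,693,694,696,697,698,699,702,704,705,706,709,710,711,713,715,717,718,719,720,722,723,725,726,727,729,730,731,734,735,736,738,739,743,744,746,747,750,754,755,758,759,760,764,765,766,767,770,773,774,776,777,778,779,780,781,782,785,786,787,789,790,791,792,794,797,799,800,802,804,806,807,809,810,811,812,813,815,816,817,818,821,822,824,825,826,827,829,830,832,833,835,836,840,841,843,845,847,851,852,853,854,857,858,859,861,863,864,865,866,869,870,871,872,873,874,876,877,878,880,882,889,890,891,894,895,896,900,902,904,905,907,908,909,910,912,914,916]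

/-- Points. -/
def levX1pts3 : List ℕ := [917,918,919,920,921,922,923,924,925,926,931,933,935,936,937,939,941,942,943,944,946,947,948,950,951,953,954,955,956,957,959,960,963,964,968,970,971,972,973,975,976,977,978,981,982,984,986,988,990,991,992,994,996,998,999,1000,1002,1003,1004,1005,1006,1007,1008,1009,1010,1013,1014,1015,1017,1018,1020,1021,1022,1023,1025,1026,1027,1028,1029,1030,1032,1033,1037,1038,1041,1042,1043,1044,1045,1046,1047,1049,1050,1051,1052,1054,1055,1057,1058,1059,1060,1061,1062,1063,1064,1066,1067,1068,1069,1073,1074,1076,1077,1079,1081,1082,1084,1085,1087,1088,1089,1090,1091,1092,1093,1094,1096,1098,1099,1100,1101,1103,1105,1106,1107,1109,1111,1112,1114,1117,1118,1119,1120,1121,1122,1124,1125,1126,1128,1129,1130,1131,1132,1133,1134,1136,1138,1139,1140,1141,1142,1143,1145,1147,1148,1149,1151,1152,1154,1156,1157,1159,1160,1161,1162,1163,1166,1167,1168,1169,1170,1171,1172,1173,1174,1175,1176,1177,1178,1181,1182,1183,1185,1187,1188,1189,1194,1195,1197,1198]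

/-- Points. -/
def levX1pts4 : List ℕ := [1199,1200,1203,1204,1205,1206,1207,1208,1209,1210,1212,1213,1215,1216,1218,1221,1222,1223,1225,1226,1228,1229,1230,1234,1235,1236,1238,1239,1240,1242,1244,1245,1246,1247,1248,1249,1251,1256,1257,1259,1260,1261,1264,1265,1266,1267,1269,1270,1271,1272,1274,1275,1279,1281,1282,1287,1288,1289,1290,1292,1294,1296,1298,1299,1300,1302,1303,1304,1306,1307,1309,1310,1312,1314,1315,1316,1317,1319,1320,1321,1322,1323,1325,1327,1329,1332,1334,1337,1338,1339,1341,1343,1346,1350,1351,1352,1353,1355,1356,1357,1358,1359,1362,1364,1365,1366,1367,1368,1369,1370,1372,1374,1377,1380,1381,1382,1385,1386,1387,1389,1392,1393,1394,1396,1397,1398,1399,1400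,1401,1402,1403,1404,1405,1406,1407,1408,1409,1411,1412,1413,1415,1419,1421,1422,1425,1427,1428,1430,1431,1432,1433,1434,1435,1436,1437,1438,1439,1440,1441,1443,1445,1446,1447,1449,1450,1451,1453,1454,1455,1458,1460,1461,1462,1464,1465,1466,1470,1471,1473,1474,1475,1478,1480,1481,1482,1483,1486,1488,1489,1490,1492,1495,1498,1499,1501,1502,1503,1505,1506,1507]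

/-- Points. -/
def levX1pts5 : List ℕ := [1509,1510,1512,1514,1515,1518,1521,1522,1523,1524,1526,1528,1531,1533,1535,1536,1539,1540,1541,1542,1543,1544,1545,1547,1548,1550,1552,1554,1555,1556,1560,1562,1563,1565,1566,1567,1568,1569,1571,1572,1574,1575,1578,1581,1583,1584,1588,1590,1592,1593,1596,1597,1600,1602,1603,1606,1607,1608,1609,1610,1612,1613,1614,1617,1618,1619,1620,1621,1622,1623,1624,1626,1627,1629,1630,1631,1634,1635,1636,1637,1639,1641,1642,1643,1644,1645,1646,1647,1648,1649,1650,1651,1653,1654,1656,1657,1659,1660,1661,1662,1663,1664,1666,1667,1668,1670,1671,1672,1674,1676,1677,1679,1680,1682,1683,1684,1685,1686,1687,1688,1689,1691,1693,1695,1697,1698,1701,1703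,1704,1707,1708,1709,1711,1713,1714,1716,1718,1719,1720,1722,1723,1725,1727,1728,1730,1732,1733,1734,1735,1736,1737,1738,1740,1741,1744,1745,1746,1747,1748,1749,1750,1752,1754,1759,1760,1761,1763,1764,1765,1766,1768,1770,1771,1772,1773,1774,1775,1776,1777,1778,1780,1781,1784,1785,1786,1787,1788,1789,1791,1792,1794,1795,1796,1797,1798,1799,1800,1801,1802,1804]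

/-- Points. -/
def levX1pts6 : List ℕ := [1806,1807,1809,1810,1811,1815,1817,1819,1820,1823,1824,1825,1828,1830,1833,1834,1835,1837,1839,1842,1843,1844,1845,1846,1847,1851,1852,1854,1856,1857,1858,1859,1860,1861,1862,1866,1867,1868,1869,1871,1872,1873,1874,1876,1877,1879,1880,1882,1884,1885,1886,1888,1890,1892,1893,1895,1898,1899,1900,1901,1902,1905,1906,1909,1911,1912,1913,1914,1915,1917,1918,1919,1920,1923,1924,1926,1927,1928,1930,1934,1939,1940,1941,1942,1945,1946,1947,1949,1952,1953,1954,1956,1957,1960,1961,1962,1963,1964,1966,1967,1968,1969,1970,1971,1973,1974,1976,1977,1978,1979,1981,1983,1984,1985,1986,1987,1989,1992,1993,1994,1995,1997,1998,1999,2001,2002,2005,2006,2008,2009,2011,2012,2013,2015,2016,2018,2019,2021,2022,2023,2025,2026,2029,2031,2032,2035,2037,2039,2041,2042,2043,2045,2047,2048,2050,2051,2052,2054,2055,2056]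

/-- A level. -/
def levX1 : Level :=
  ⟨1114, (.node (.node sub24 sub29) (.node sub34 sub39)), levX1pts0 ++ levX1pts1 ++ levX1pts2 ++ levX1pts3 ++ levX1pts4 ++ levX1pts5 ++ levX1pts6⟩

/-- A subtree. -/
def sub40 : WTree :=
  (.node (.node (.node (.node .none (.node .none (.word [1,3,2,1,6,3,2,1,3,2,3,5,4,2,3,1,2,3,6,4,2,3,5,2,3,5,3,2,1,0,3,5,6,3,2,3,6,4,3,2,3,1,2,3,5,6,3,4,5,6,3,2,1,4,3,6,2,3,2,3,6,2,3,4,1,2,3,6,5,1,2,3,5,3,2,1,0,3,5,6,3,2,3,6,4,3,2,3,1,2,3,5,6,3,4]))) (.node .none (.node (.node (.node .none (.word [1,2,3,5,3,2,1,0,3,5,6,3,2,3,6,4,3,2,3,1,2,3,5,6,3,4,1,5,3,2,4,3,2,1,3,5,6,3,4,2,3,5,3,1,2,3,4,2,3,2,0,1,2,3,5,3,2,1,0,3,5,6,3,2,3,6,4,3,2,3,1,2,3,5,6,3,4,1,2,3,5,3,2,1,0,3,5,6,3,2,3,6,4,3,2,3,1,2,3,5,6,3,4,1,2,3,5,3,2,1,0,3,5,6,3,2,3,6,4,3,2,3,1,2,3,5,6,3,4]))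 .none) .none))) .none) .none)

/-- A subtree. -/
def sub41 : WTree :=
  (.node (.node (.node (.node .none (.node (.node (.node .none (.word [1,3,2,1,6,3,2,1,3,2,3,5,4,2,3,1,2,3,6,4,2,3,5,1,5,6,3,2,1,4,3,6,2,3,2,3,6,2,3,4,1,2,3,6,5,1,5,3,2,4,3,2,1,3,5,6,3,4,2,3,5,3,1,2,3,4,2,3,2,0])) .none) .none)) .none) (.node (.node (.node .none (.node (.node .none (.word [5,6,3,2,1,4,3,6,2,3,2,3,6,2,3,4,1,2,3,6,5,1,2,3,5,3,2,1,0,3,5,6,3,2,3,6,4,3,2,3,1,2,3,5,6,3,4,1,3,2,1,6,3,2,1,3,2,3,5,4,2,3,1,2,3,6,4,2,3,5,2,3,5,3,2,1,0,3,5,6,3,2,3,6,4,3,2,3,1,2,3,5,6,3,4])) .none)) .none) .none)) (.node (.node .none (.node .none (.word [1,5,3,2,4,3,2,1,3,5,6,3,4,2,3,5,3,1,2,3,4,2,3,2,0,5,6,3,2,1,4,3,6,2,3,2,3,6,2,3,4,1,2,3,6,5,1,5,3,2,4,3,2,1,3,5,6,3,4,2,3,5,3,1,2,3,4,2,3,2,0,1,2,3,5,3,2,1,0,3,5,6,3,2,3,6,4,3,2,3,1,2,3,5,6,3,4])))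 (.node (.node .none (.node .none (.node (.node .none (.word [2,1,6,3,2,3,1,2,3,4,2,3,6,1,2,3,5,6,3,2,0,1,2,3,5,3,2,1,0,3,5,6,3,2,3,6,4,3,2,3,1,2,3,5,6,3,4,1,5,3,2,4,3,2,1,3,5,6,3,4,2,3,5,3,1,2,3,4,2,3,2,0,1,2,3,5,3,2,1,0,3,5,6,3,2,3,6,4,3,2,3,1,2,3,5,6,3,4])) .none))) .none)))

/-- A subtree. -/
def sub42 : WTree :=
  (.node (.node (.node (.node (.node (.node (.node (.node .none (.word [5,6,3,2,1,4,3,6,2,3,2,3,6,2,3,4,1,2,3,6,5,1,3,2,1,6,3,2,1,3,2,3,5,4,2,3,1,2,3,6,4,2,3,5,2,3,5,3,2,1,0,3,5,6,3,2,3,6,4,3,2,3,1,2,3,5,6,3,4,1,5,3,2,4,3,2,1,3,5,6,3,4,2,3,5,3,1,2,3,4,2,3,2,0])) .none) .none) .none) (.node .none (.node .none (.word [2,1,6,3,2,3,1,2,3,4,2,3,6,1,2,3,5,6,3,2,0,1,5,3,2,4,3,2,1,3,5,6,3,4,2,3,5,3,1,2,3,4,2,3,2,0,1,5,3,2,4,3,2,1,3,5,6,3,4,2,3,5,3,1,2,3,4,2,3,2,0,1,2,3,5,3,2,1,0,3,5,6,3,2,3,6,4,3,2,3,1,2,3,5,6,3,4]))))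 .none) .none) (.node (.node (.node (.node .none (.word [2,1,6,3,2,3,1,2,3,4,2,3,6,1,2,3,5,6,3,2,0,1,2,3,5,3,2,1,0,3,5,6,3,2,3,6,4,3,2,3,1,2,3,5,6,3,4,1,3,2,1,6,3,2,1,3,2,3,5,4,2,3,1,2,3,6,4,2,3,5,2,3,5,3,2,1,0,3,5,6,3,2,3,6,4,3,2,3,1,2,3,5,6,3,4])) (.node (.node (.node .none (.word [1,3,2,1,6,3,2,1,3,2,3,5,4,2,3,1,2,3,6,4,2,3,5,1,5,6,3,2,1,4,3,6,2,3,2,3,6,2,3,4,1,2,3,6,5,1,3,2,1,6,3,2,1,3,2,3,5,4,2,3,1,2,3,6,4,2,3,5,2,3,5,3,2,1,0,3,5,6,3,2,3,6,4,3,2,3,1,2,3,5,6,3,4])) (.word [5,6,3,2,1,4,3,6,2,3,2,3,6,2,3,4,1,2,3,6,5,1,2,3,5,3,2,1,0,3,5,6,3,2,3,6,4,3,2,3,1,2,3,5,6,3,4,1,5,3,2,4,3,2,1,3,5,6,3,4,2,3,5,3,1,2,3,4,2,3,2,0,1,2,3,5,3,2,1,0,3,5,6,3,2,3,6,4,3,2,3,1,2,3,5,6,3,4])) .none))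 (.node .none (.node .none (.node (.node .none (.word [1,3,2,1,6,3,2,1,3,2,3,5,4,2,3,1,2,3,6,3,2,1,3,5,6,3,4,2,3,5,3,1,2,3,4,2,3,2,0,5,6,3,2,1,4,3,6,2,3,2,3,6,2,3,4,1,2,3,6,5,1,2,3,5,3,2,1,0,3,5,6,3,2,3,6,4,3,2,3,1,2,3,5,6,3,4])) .none)))) (.node (.node (.node (.node .none (.node .none (.word [1,3,2,1,6,3,2,1,3,2,3,5,4,2,3,1,2,3,6,3,2,1,3,5,6,3,4,2,3,5,3,1,2,3,4,2,3,2,0]))) .none) .none) (.node .none (.node .none (.node (.node .none (.word [2,1,6,3,2,3,1,2,3,4,2,3,6,1,2,3,5,6,3,2,0,1,3,2,1,6,3,2,1,3,2,3,5,4,2,3,1,2,3,6,4,2,3,5,2,3,5,3,2,1,0,3,5,6,3,2,3,6,4,3,2,3,1,2,3,5,6,3,4])) .none))))))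

/-- A subtree. -/
def sub43 : WTree :=
  (.node .none (.node (.node (.node .none (.node (.node .none (.word [])) .none)) (.node .none (.node (.node (.node (.word [1,5,3,2,4,3,2,1,3,5,6,3,4,2,3,5,3,1,2,3,4,2,3,2,0,1,2,3,5,3,2,1,0,3,5,6,3,2,3,6,4,3,2,3,1,2,3,5,6,3,4,5,6,3,2,1,4,3,6,2,3,2,3,6,2,3,4,1,2,3,6,5,1,5,3,2,4,3,2,1,3,5,6,3,4,2,3,5,3,1,2,3,4,2,3,2,0]) (.word [2,1,6,3,2,3,1,2,3,4,2,3,6,1,2,3,5,6,3,2,0,1,2,3,5,3,2,1,0,3,5,6,3,2,3,6,4,3,2,3,1,2,3,5,6,3,4,1,5,3,2,4,3,2,1,3,5,6,3,4,2,3,5,3,1,2,3,4,2,3,2,0])) .none) .none))) (.node (.node (.node (.node (.node .none (.word [1,5,3,2,4,3,2,1,3,5,6,3,4,2,3,5,3,1,2,3,4,2,3,2,0])) .none) .none) .none) (.node (.node .none (.node (.node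 .none (.word [1,5,3,2,4,3,2,1,3,5,6,3,4,2,3,5,3,1,2,3,4,2,3,2,0,1,3,2,1,6,3,2,1,3,2,3,5,4,2,3,1,2,3,6,4,2,3,5,2,3,5,3,2,1,0,3,5,6,3,2,3,6,4,3,2,3,1,2,3,5,6,3,4,1,5,3,2,4,3,2,1,3,5,6,3,4,2,3,5,3,1,2,3,4,2,3,2,0])) .none)) .none))))

/-- A subtree. -/
def sub44 : WTree :=
  (.node (.node sub40 sub41) (.node sub42 sub43))

/-- A subtree. -/
def sub45 : WTree :=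
  (.node (.node (.node (.node (.node (.node (.node .none (.word [2,1,6,3,2,3,1,2,3,4,2,3,6,1,2,3,5,6,3,2,0,1,2,3,5,3,2,1,0,3,5,6,3,2,3,6,4,3,2,3,1,2,3,5,6,3,4,1,2,3,5,3,2,1,0,3,5,6,3,2,3,6,4,3,2,3,1,2,3,5,6,3,4,1,2,3,5,3,2,1,0,3,5,6,3,2,3,6,4,3,2,3,1,2,3,5,6,3,4])) .none) .none) .none) .none) (.node .none (.node (.node (.node .none (.node .none (.word [5,6,3,2,1,4,3,6,2,3,2,3,6,2,3,4,1,2,3,6,5,1,5,3,2,4,3,2,1,3,5,6,3,4,2,3,5,3,1,2,3,4,2,3,2,0,1,2,3,5,3,2,1,0,3,5,6,3,2,3,6,4,3,2,3,1,2,3,5,6,3,4,1,2,3,5,3,2,1,0,3,5,6,3,2,3,6,4,3,2,3,1,2,3,5,6,3,4,1,2,3,5,3,2,1,0,3,5,6,3,2,3,6,4,3,2,3,1,2,3,5,6,3,4]))) .none) .none))) (.node (.node (.node .none (.node (.node .none (.node .none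 (.word [1,3,2,1,6,3,2,1,3,2,3,5,4,2,3,1,2,3,6,4,2,3,5,2,3,5,3,2,1,0,3,5,6,3,2,3,6,4,3,2,3,1,2,3,5,6,3,4,1,5,3,2,4,3,2,1,3,5,6,3,4,2,3,5,3,1,2,3,4,2,3,2,0,1,2,3,5,3,2,1,0,3,5,6,3,2,3,6,4,3,2,3,1,2,3,5,6,3,4]))) .none)) .none) (.node (.node .none (.node (.node .none (.node .none (.word [1,2,3,5,3,2,1,0,3,5,6,3,2,3,6,4,3,2,3,1,2,3,5,6,3,4,5,6,3,2,1,4,3,6,2,3,2,3,6,2,3,4,1,2,3,6,5,1,3,2,1,6,3,2,1,3,2,3,5,4,2,3,1,2,3,6,4,2,3,5,2,3,5,3,2,1,0,3,5,6,3,2,3,6,4,3,2,3,1,2,3,5,6,3,4]))) .none)) (.word [1,5,3,2,4,3,2,1,3,5,6,3,4,2,3,5,3,1,2,3,4,2,3,2,0,1,5,3,2,4,3,2,1,3,5,6,3,4,2,3,5,3,1,2,3,4,2,3,2,0,1,2,3,5,3,2,1,0,3,5,6,3,2,3,6,4,3,2,3,1,2,3,5,6,3,4]))))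

/-- A subtree. -/
def sub46 : WTree :=
  (.node (.node (.node (.node (.node (.node .none (.word [1,2,3,5,3,2,1,0,3,5,6,3,2,3,6,4,3,2,3,1,2,3,5,6,3,4,1,2,3,5,3,2,1,0,3,5,6,3,2,3,6,4,3,2,3,1,2,3,5,6,3,4,1,2,3,5,3,2,1,0,3,5,6,3,2,3,6,4,3,2,3,1,2,3,5,6,3,4])) (.node .none (.word [1,3,2,1,6,3,2,1,3,2,3,5,4,2,3,1,2,3,6,4,2,3,5,2,3,5,3,2,1,0,3,5,6,3,2,3,6,4,3,2,3,1,2,3,5,6,3,4,1,5,3,2,4,3,2,1,3,5,6,3,4,2,3,5,3,1,2,3,4,2,3,2,0]))) (.node (.node (.node .none (.word [1,5,3,2,4,3,2,1,3,5,6,3,4,2,3,5,3,1,2,3,4,2,3,2,0,1,2,3,5,3,2,1,0,3,5,6,3,2,3,6,4,3,2,3,1,2,3,5,6,3,4,1,5,3,2,4,3,2,1,3,5,6,3,4,2,3,5,3,1,2,3,4,2,3,2,0,1,2,3,5,3,2,1,0,3,5,6,3,2,3,6,4,3,2,3,1,2,3,5,6,3,4])) .none) .none))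 (.node .none (.node .none (.node .none (.word [5,6,3,2,1,4,3,6,2,3,2,3,6,2,3,4,1,2,3,6,5,1,3,2,1,6,3,2,1,3,2,3,5,4,2,3,1,2,3,6,4,2,3,5,1,5,6,3,2,1,4,3,6,2,3,2,3,6,2,3,4,1,2,3,6,5,1,2,3,5,3,2,1,0,3,5,6,3,2,3,6,4,3,2,3,1,2,3,5,6,3,4]))))) (.node .none (.node .none (.node (.node .none (.word [2,1,6,3,2,3,1,2,3,4,2,3,6,1,2,3,5,6,3,2,0,1,3,2,1,6,3,2,1,3,2,3,5,4,2,3,1,2,3,6,4,2,3,5,2,3,5,3,2,1,0,3,5,6,3,2,3,6,4,3,2,3,1,2,3,5,6,3,4,1,5,3,2,4,3,2,1,3,5,6,3,4,2,3,5,3,1,2,3,4,2,3,2,0,1,2,3,5,3,2,1,0,3,5,6,3,2,3,6,4,3,2,3,1,2,3,5,6,3,4])) .none)))) (.node .none (.node .none (.node .none (.node (.node (.node .none (.word [1,2,3,5,3,2,1,0,3,5,6,3,2,3,6,4,3,2,3,1,2,3,5,6,3,4,2,1,6,3,2,3,1,2,3,4,2,3,6,1,2,3,5,6,3,2,0,1,2,3,5,3,2,1,0,3,5,6,3,2,3,6,4,3,2,3,1,2,3,5,6,3,4]))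 .none) .none)))))

/-- A subtree. -/
def sub47 : WTree :=
  (.node (.node (.node (.node (.node (.node .none (.word [1,3,2,1,6,3,2,1,3,2,3,5,4,2,3,1,2,3,6,4,2,3,5,1,5,6,3,2,1,4,3,6,2,3,2,3,6,2,3,4,1,2,3,6,5,1,2,3,5,3,2,1,0,3,5,6,3,2,3,6,4,3,2,3,1,2,3,5,6,3,4])) (.node .none (.word [1,5,3,2,4,3,2,1,3,5,6,3,4,2,3,5,3,1,2,3,4,2,3,2,0,1,5,3,2,4,3,2,1,3,5,6,3,4,2,3,5,3,1,2,3,4,2,3,2,0]))) (.node .none (.node .none (.word [1,5,3,2,4,3,2,1,3,5,6,3,4,2,3,5,3,1,2,3,4,2,3,2,0,1,2,3,5,3,2,1,0,3,5,6,3,2,3,6,4,3,2,3,1,2,3,5,6,3,4,1,2,3,5,3,2,1,0,3,5,6,3,2,3,6,4,3,2,3,1,2,3,5,6,3,4,1,2,3,5,3,2,1,0,3,5,6,3,2,3,6,4,3,2,3,1,2,3,5,6,3,4])))) (.node (.node .none (.word [1,5,3,2,4,3,2,1,3,5,6,3,4,2,3,5,3,1,2,3,4,2,3,2,0,1,2,3,5,3,2,1,0,3,5,6,3,2,3,6,4,3,2,3,1,2,3,5,6,3,4,1,2,3,5,3,2,1,0,3,5,6,3,2,3,6,4,3,2,3,1,2,3,5,6,3,4]))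 .none)) .none) (.node (.node .none (.node (.node (.node .none (.node .none (.word [1,2,3,5,3,2,1,0,3,5,6,3,2,3,6,4,3,2,3,1,2,3,5,6,3,4,1,5,3,2,4,3,2,1,3,5,6,3,4,2,3,5,3,1,2,3,4,2,3,2,0]))) (.node .none (.word [1,2,3,5,3,2,1,0,3,5,6,3,2,3,6,4,3,2,3,1,2,3,5,6,3,4,1,3,2,1,6,3,2,1,3,2,3,5,4,2,3,1,2,3,6,4,2,3,5,1,5,6,3,2,1,4,3,6,2,3,2,3,6,2,3,4,1,2,3,6,5,1,2,3,5,3,2,1,0,3,5,6,3,2,3,6,4,3,2,3,1,2,3,5,6,3,4]))) .none)) (.node (.node .none (.node .none (.node .none (.word [2,1,6,3,2,3,1,2,3,4,2,3,6,1,2,3,5,6,3,2,0,5,6,3,2,1,4,3,6,2,3,2,3,6,2,3,4,1,2,3,6,5,1,2,3,5,3,2,1,0,3,5,6,3,2,3,6,4,3,2,3,1,2,3,5,6,3,4,1,2,3,5,3,2,1,0,3,5,6,3,2,3,6,4,3,2,3,1,2,3,5,6,3,4,1,2,3,5,3,2,1,0,3,5,6,3,2,3,6,4,3,2,3,1,2,3,5,6,3,4]))))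 .none)))

/-- A subtree. -/
def sub48 : WTree :=
  (.node (.node (.node (.node (.node (.node (.node .none (.word [1,3,2,1,6,3,2,1,3,2,3,5,4,2,3,1,2,3,6,4,2,3,5,2,3,5,3,2,1,0,3,5,6,3,2,3,6,4,3,2,3,1,2,3,5,6,3,4])) .none) .none) .none) .none) .none) (.node (.node .none (.node .none (.node .none (.node (.node .none (.word [2,1,6,3,2,3,1,2,3,4,2,3,6,1,2,3,5,6,3,2,0,1,2,3,5,3,2,1,0,3,5,6,3,2,3,6,4,3,2,3,1,2,3,5,6,3,4])) .none)))) (.node .none (.node (.node .none (.node .none (.word [2,1,6,3,2,3,1,2,3,4,2,3,6,1,2,3,5,6,3,2,0,1,3,2,1,6,3,2,1,3,2,3,5,4,2,3,1,2,3,6,4,2,3,5,1,5,6,3,2,1,4,3,6,2,3,2,3,6,2,3,4,1,2,3,6,5,1,2,3,5,3,2,1,0,3,5,6,3,2,3,6,4,3,2,3,1,2,3,5,6,3,4]))) (.node .none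 (.word [1,2,3,5,3,2,1,0,3,5,6,3,2,3,6,4,3,2,3,1,2,3,5,6,3,4,1,5,3,2,4,3,2,1,3,5,6,3,4,2,3,5,3,1,2,3,4,2,3,2,0,1,5,3,2,4,3,2,1,3,5,6,3,4,2,3,5,3,1,2,3,4,2,3,2,0,1,2,3,5,3,2,1,0,3,5,6,3,2,3,6,4,3,2,3,1,2,3,5,6,3,4]))))))

/-- A subtree. -/
def sub49 : WTree :=
  (.node (.node sub45 sub46) (.node sub47 sub48))

/-- A subtree. -/
def sub50 : WTree :=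
  (.node (.node (.node (.node (.node (.node (.node .none (.word [2,1,6,3,2,3,1,2,3,4,2,3,6,1,2,3,5,6,3,2,0,1,5,3,2,4,3,2,1,3,5,6,3,4,2,3,5,3,1,2,3,4,2,3,2,0,1,2,3,5,3,2,1,0,3,5,6,3,2,3,6,4,3,2,3,1,2,3,5,6,3,4,1,2,3,5,3,2,1,0,3,5,6,3,2,3,6,4,3,2,3,1,2,3,5,6,3,4,1,2,3,5,3,2,1,0,3,5,6,3,2,3,6,4,3,2,3,1,2,3,5,6,3,4])) .none) .none) .none) (.node .none (.node .none (.node (.node .none (.word [5,6,3,2,1,4,3,6,2,3,2,3,6,2,3,4,1,2,3,6,5,1,3,2,1,6,3,2,1,3,2,3,5,4,2,3,1,2,3,6,4,2,3,5,1,5,6,3,2,1,4,3,6,2,3,2,3,6,2,3,4,1,2,3,6,5,1,3,2,1,6,3,2,1,3,2,3,5,4,2,3,1,2,3,6,4,2,3,5,2,3,5,3,2,1,0,3,5,6,3,2,3,6,4,3,2,3,1,2,3,5,6,3,4])) .none)))) (.node (.node .none (.node (.node .none (.node .none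 (.word [1,5,3,2,4,3,2,1,3,5,6,3,4,2,3,5,3,1,2,3,4,2,3,2,0,1,2,3,5,3,2,1,0,3,5,6,3,2,3,6,4,3,2,3,1,2,3,5,6,3,4,1,5,3,2,4,3,2,1,3,5,6,3,4,2,3,5,3,1,2,3,4,2,3,2,0]))) (.node (.node .none (.word [1,5,3,2,4,3,2,1,3,5,6,3,4,2,3,5,3,1,2,3,4,2,3,2,0,2,1,6,3,2,3,1,2,3,4,2,3,6,1,2,3,5,6,3,2,0,1,5,3,2,4,3,2,1,3,5,6,3,4,2,3,5,3,1,2,3,4,2,3,2,0])) .none))) .none)) (.node (.node .none (.node .none (.node .none (.word [1,3,2,1,6,3,2,1,3,2,3,5,4,2,3,1,2,3,6,3,2,1,3,5,6,3,4,2,3,5,3,1,2,3,4,2,3,2,0,1,2,3,5,3,2,1,0,3,5,6,3,2,3,6,4,3,2,3,1,2,3,5,6,3,4])))) (.node (.node .none (.node .none (.word [2,1,6,3,2,3,1,2,3,4,2,3,6,1,2,3,5,6,3,2,0,1,2,3,5,3,2,1,0,3,5,6,3,2,3,6,4,3,2,3,1,2,3,5,6,3,4,5,6,3,2,1,4,3,6,2,3,2,3,6,2,3,4,1,2,3,6,5,1,5,3,2,4,3,2,1,3,5,6,3,4,2,3,5,3,1,2,3,4,2,3,2,0])))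 (.node .none (.node .none (.node .none (.word [1,3,2,1,6,3,2,1,3,2,3,5,4,2,3,1,2,3,6,3,2,1,3,5,6,3,4,2,3,5,3,1,2,3,4,2,3,2,0,1,2,3,5,3,2,1,0,3,5,6,3,2,3,6,4,3,2,3,1,2,3,5,6,3,4,1,2,3,5,3,2,1,0,3,5,6,3,2,3,6,4,3,2,3,1,2,3,5,6,3,4])))))))

/-- A subtree. -/
def sub51 : WTree :=
  (.node (.node (.node (.node (.node .none (.node .none (.word [1,2,3,5,3,2,1,0,3,5,6,3,2,3,6,4,3,2,3,1,2,3,5,6,3,4,1,5,3,2,4,3,2,1,3,5,6,3,4,2,3,5,3,1,2,3,4,2,3,2,0,1,5,3,2,4,3,2,1,3,5,6,3,4,2,3,5,3,1,2,3,4,2,3,2,0]))) .none) (.node .none (.node (.node .none (.word [5,6,3,2,1,4,3,6,2,3,2,3,6,2,3,4,1,2,3,6,5,1,3,2,1,6,3,2,1,3,2,3,5,4,2,3,1,2,3,6,3,2,1,3,5,6,3,4,2,3,5,3,1,2,3,4,2,3,2,0])) (.node .none (.node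 .none (.word [1,2,3,5,3,2,1,0,3,5,6,3,2,3,6,4,3,2,3,1,2,3,5,6,3,4,2,1,6,3,2,3,1,2,3,4,2,3,6,1,2,3,5,6,3,2,0,1,5,3,2,4,3,2,1,3,5,6,3,4,2,3,5,3,1,2,3,4,2,3,2,0])))))) .none) (.node (.node .none (.node (.node .none (.node .none (.word [1,2,3,5,3,2,1,0,3,5,6,3,2,3,6,4,3,2,3,1,2,3,5,6,3,4,5,6,3,2,1,4,3,6,2,3,2,3,6,2,3,4,1,2,3,6,5,1,5,3,2,4,3,2,1,3,5,6,3,4,2,3,5,3,1,2,3,4,2,3,2,0]))) (.node (.node .none (.word [1,2,3,5,3,2,1,0,3,5,6,3,2,3,6,4,3,2,3,1,2,3,5,6,3,4,2,1,6,3,2,3,1,2,3,4,2,3,6,1,2,3,5,6,3,2,0,5,6,3,2,1,4,3,6,2,3,2,3,6,2,3,4,1,2,3,6,5,1,2,3,5,3,2,1,0,3,5,6,3,2,3,6,4,3,2,3,1,2,3,5,6,3,4])) .none))) (.node (.node (.node .none (.node .none (.word [1,2,3,5,3,2,1,0,3,5,6,3,2,3,6,4,3,2,3,1,2,3,5,6,3,4,1,5,3,2,4,3,2,1,3,5,6,3,4,2,3,5,3,1,2,3,4,2,3,2,0,5,6,3,2,1,4,3,6,2,3,2,3,6,2,3,4,1,2,3,6,5,1,2,3,5,3,2,1,0,3,5,6,3,2,3,6,4,3,2,3,1,2,3,5,6,3,4])))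 .none) .none)))

/-- A subtree. -/
def sub52 : WTree :=
  (.node (.node (.node .none (.node .none (.node (.node .none (.node .none (.word [1,2,3,5,3,2,1,0,3,5,6,3,2,3,6,4,3,2,3,1,2,3,5,6,3,4,1,2,3,5,3,2,1,0,3,5,6,3,2,3,6,4,3,2,3,1,2,3,5,6,3,4,1,5,3,2,4,3,2,1,3,5,6,3,4,2,3,5,3,1,2,3,4,2,3,2,0]))) .none))) (.node (.node .none (.node (.node (.node .none (.word [5,6,3,2,1,4,3,6,2,3,2,3,6,2,3,4,1,2,3,6,5,1,2,3,5,3,2,1,0,3,5,6,3,2,3,6,4,3,2,3,1,2,3,5,6,3,4,1,2,3,5,3,2,1,0,3,5,6,3,2,3,6,4,3,2,3,1,2,3,5,6,3,4])) .none) (.node .none (.node (.word [5,6,3,2,1,4,3,6,2,3,2,3,6,2,3,4,1,2,3,6,5,1,3,2,1,6,3,2,1,3,2,3,5,4,2,3,1,2,3,6,4,2,3,5,2,3,5,3,2,1,0,3,5,6,3,2,3,6,4,3,2,3,1,2,3,5,6,3,4])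 (.word [1,2,3,5,3,2,1,0,3,5,6,3,2,3,6,4,3,2,3,1,2,3,5,6,3,4,1,5,3,2,4,3,2,1,3,5,6,3,4,2,3,5,3,1,2,3,4,2,3,2,0,1,3,2,1,6,3,2,1,3,2,3,5,4,2,3,1,2,3,6,4,2,3,5,2,3,5,3,2,1,0,3,5,6,3,2,3,6,4,3,2,3,1,2,3,5,6,3,4]))))) (.node (.node .none (.node (.node .none (.word [1,2,3,5,3,2,1,0,3,5,6,3,2,3,6,4,3,2,3,1,2,3,5,6,3,4,1,2,3,5,3,2,1,0,3,5,6,3,2,3,6,4,3,2,3,1,2,3,5,6,3,4,1,3,2,1,6,3,2,1,3,2,3,5,4,2,3,1,2,3,6,4,2,3,5,2,3,5,3,2,1,0,3,5,6,3,2,3,6,4,3,2,3,1,2,3,5,6,3,4])) .none)) .none))) (.node (.node .none (.node (.node .none (.node .none (.word [1,2,3,5,3,2,1,0,3,5,6,3,2,3,6,4,3,2,3,1,2,3,5,6,3,4,1,2,3,5,3,2,1,0,3,5,6,3,2,3,6,4,3,2,3,1,2,3,5,6,3,4]))) .none)) (.node .none (.word [5,6,3,2,1,4,3,6,2,3,2,3,6,2,3,4,1,2,3,6,5,1,5,3,2,4,3,2,1,3,5,6,3,4,2,3,5,3,1,2,3,4,2,3,2,0]))))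

/-- A subtree. -/
def sub53 : WTree :=
  (.node (.node (.node .none (.node .none (.node .none (.word [2,1,6,3,2,3,1,2,3,4,2,3,6,1,2,3,5,6,3,2,0,5,6,3,2,1,4,3,6,2,3,2,3,6,2,3,4,1,2,3,6,5,1,2,3,5,3,2,1,0,3,5,6,3,2,3,6,4,3,2,3,1,2,3,5,6,3,4])))) (.node (.node .none (.node (.node .none (.word [1,5,3,2,4,3,2,1,3,5,6,3,4,2,3,5,3,1,2,3,4,2,3,2,0,1,3,2,1,6,3,2,1,3,2,3,5,4,2,3,1,2,3,6,4,2,3,5,1,5,6,3,2,1,4,3,6,2,3,2,3,6,2,3,4,1,2,3,6,5,1,2,3,5,3,2,1,0,3,5,6,3,2,3,6,4,3,2,3,1,2,3,5,6,3,4])) .none)) (.node .none (.word [1,5,3,2,4,3,2,1,3,5,6,3,4,2,3,5,3,1,2,3,4,2,3,2,0,1,3,2,1,6,3,2,1,3,2,3,5,4,2,3,1,2,3,6,4,2,3,5,2,3,5,3,2,1,0,3,5,6,3,2,3,6,4,3,2,3,1,2,3,5,6,3,4])))) (.node (.node (.node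 (.node (.node .none (.node .none (.word [1,5,3,2,4,3,2,1,3,5,6,3,4,2,3,5,3,1,2,3,4,2,3,2,0,5,6,3,2,1,4,3,6,2,3,2,3,6,2,3,4,1,2,3,6,5,1,2,3,5,3,2,1,0,3,5,6,3,2,3,6,4,3,2,3,1,2,3,5,6,3,4]))) .none) .none) (.node (.node .none (.node .none (.word [1,2,3,5,3,2,1,0,3,5,6,3,2,3,6,4,3,2,3,1,2,3,5,6,3,4,1,2,3,5,3,2,1,0,3,5,6,3,2,3,6,4,3,2,3,1,2,3,5,6,3,4,5,6,3,2,1,4,3,6,2,3,2,3,6,2,3,4,1,2,3,6,5,1,2,3,5,3,2,1,0,3,5,6,3,2,3,6,4,3,2,3,1,2,3,5,6,3,4]))) .none)) .none))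

/-- A subtree. -/
def sub54 : WTree :=
  (.node (.node sub50 sub51) (.node sub52 sub53))

/-- A subtree. -/
def sub55 : WTree :=
  (.node (.node (.node .none (.word [1,2,3,5,3,2,1,0,3,5,6,3,2,3,6,4,3,2,3,1,2,3,5,6,3,4])) .none) (.node (.node .none (.node .none (.node (.node (.node .none (.word [1,5,3,2,4,3,2,1,3,5,6,3,4,2,3,5,3,1,2,3,4,2,3,2,0,1,5,3,2,4,3,2,1,3,5,6,3,4,2,3,5,3,1,2,3,4,2,3,2,0,1,5,3,2,4,3,2,1,3,5,6,3,4,2,3,5,3,1,2,3,4,2,3,2,0,1,2,3,5,3,2,1,0,3,5,6,3,2,3,6,4,3,2,3,1,2,3,5,6,3,4])) .none) .none))) (.node .none (.node (.node .none (.word [2,1,6,3,2,3,1,2,3,4,2,3,6,1,2,3,5,6,3,2,0,1,5,3,2,4,3,2,1,3,5,6,3,4,2,3,5,3,1,2,3,4,2,3,2,0,5,6,3,2,1,4,3,6,2,3,2,3,6,2,3,4,1,2,3,6,5,1,2,3,5,3,2,1,0,3,5,6,3,2,3,6,4,3,2,3,1,2,3,5,6,3,4]))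 .none))))

/-- A subtree. -/
def sub56 : WTree :=
  (.node (.node (.node (.node .none (.node .none (.node .none (.word [2,1,6,3,2,3,1,2,3,4,2,3,6,1,2,3,5,6,3,2,0,1,3,2,1,6,3,2,1,3,2,3,5,4,2,3,1,2,3,6,4,2,3,5,2,3,5,3,2,1,0,3,5,6,3,2,3,6,4,3,2,3,1,2,3,5,6,3,4,1,5,3,2,4,3,2,1,3,5,6,3,4,2,3,5,3,1,2,3,4,2,3,2,0])))) (.node .none (.node .none (.node .none (.word [2,1,6,3,2,3,1,2,3,4,2,3,6,1,2,3,5,6,3,2,0,1,5,3,2,4,3,2,1,3,5,6,3,4,2,3,5,3,1,2,3,4,2,3,2,0]))))) (.node .none (.node .none (.node .none (.node .none (.word [1,2,3,5,3,2,1,0,3,5,6,3,2,3,6,4,3,2,3,1,2,3,5,6,3,4,1,3,2,1,6,3,2,1,3,2,3,5,4,2,3,1,2,3,6,4,2,3,5,2,3,5,3,2,1,0,3,5,6,3,2,3,6,4,3,2,3,1,2,3,5,6,3,4])))))) (.node (.node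 (.node .none (.node .none (.word [1,2,3,5,3,2,1,0,3,5,6,3,2,3,6,4,3,2,3,1,2,3,5,6,3,4,1,2,3,5,3,2,1,0,3,5,6,3,2,3,6,4,3,2,3,1,2,3,5,6,3,4,1,5,3,2,4,3,2,1,3,5,6,3,4,2,3,5,3,1,2,3,4,2,3,2,0,1,5,3,2,4,3,2,1,3,5,6,3,4,2,3,5,3,1,2,3,4,2,3,2,0]))) .none) (.node (.node (.node .none (.node .none (.node .none (.word [1,5,3,2,4,3,2,1,3,5,6,3,4,2,3,5,3,1,2,3,4,2,3,2,0,2,1,6,3,2,3,1,2,3,4,2,3,6,1,2,3,5,6,3,2,0,1,2,3,5,3,2,1,0,3,5,6,3,2,3,6,4,3,2,3,1,2,3,5,6,3,4])))) .none) (.node (.node (.node (.node .none (.word [1,2,3,5,3,2,1,0,3,5,6,3,2,3,6,4,3,2,3,1,2,3,5,6,3,4,5,6,3,2,1,4,3,6,2,3,2,3,6,2,3,4,1,2,3,6,5,1,2,3,5,3,2,1,0,3,5,6,3,2,3,6,4,3,2,3,1,2,3,5,6,3,4,1,2,3,5,3,2,1,0,3,5,6,3,2,3,6,4,3,2,3,1,2,3,5,6,3,4]))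 .none) (.word [1,5,3,2,4,3,2,1,3,5,6,3,4,2,3,5,3,1,2,3,4,2,3,2,0,5,6,3,2,1,4,3,6,2,3,2,3,6,2,3,4,1,2,3,6,5,1,3,2,1,6,3,2,1,3,2,3,5,4,2,3,1,2,3,6,4,2,3,5,2,3,5,3,2,1,0,3,5,6,3,2,3,6,4,3,2,3,1,2,3,5,6,3,4])) (.node .none (.node .none (.node .none (.word [1,5,3,2,4,3,2,1,3,5,6,3,4,2,3,5,3,1,2,3,4,2,3,2,0,1,2,3,5,3,2,1,0,3,5,6,3,2,3,6,4,3,2,3,1,2,3,5,6,3,4,5,6,3,2,1,4,3,6,2,3,2,3,6,2,3,4,1,2,3,6,5,1,2,3,5,3,2,1,0,3,5,6,3,2,3,6,4,3,2,3,1,2,3,5,6,3,4]))))))))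

/-- A subtree. -/
def sub57 : WTree :=
  (.node (.node (.node (.node .none (.node .none (.node (.node .none (.word [5,6,3,2,1,4,3,6,2,3,2,3,6,2,3,4,1,2,3,6,5,1,2,3,5,3,2,1,0,3,5,6,3,2,3,6,4,3,2,3,1,2,3,5,6,3,4])) .none))) .none) (.node (.node (.node (.node (.node .none (.word [1,5,3,2,4,3,2,1,3,5,6,3,4,2,3,5,3,1,2,3,4,2,3,2,0,1,2,3,5,3,2,1,0,3,5,6,3,2,3,6,4,3,2,3,1,2,3,5,6,3,4,2,1,6,3,2,3,1,2,3,4,2,3,6,1,2,3,5,6,3,2,0,1,2,3,5,3,2,1,0,3,5,6,3,2,3,6,4,3,2,3,1,2,3,5,6,3,4])) .none) (.node (.node .none (.word [1,5,3,2,4,3,2,1,3,5,6,3,4,2,3,5,3,1,2,3,4,2,3,2,0,1,2,3,5,3,2,1,0,3,5,6,3,2,3,6,4,3,2,3,1,2,3,5,6,3,4])) .none)) (.node (.node .none (.node (.word [5,6,3,2,1,4,3,6,2,3,2,3,6,2,3,4,1,2,3,6,5,1,2,3,5,3,2,1,0,3,5,6,3,2,3,6,4,3,2,3,1,2,3,5,6,3,4,1,2,3,5,3,2,1,0,3,5,6,3,2,3,6,4,3,2,3,1,2,3,5,6,3,4,1,2,3,5,3,2,1,0,3,5,6,3,2,3,6,4,3,2,3,1,2,3,5,6,3,4])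 (.word [5,6,3,2,1,4,3,6,2,3,2,3,6,2,3,4,1,2,3,6,5,1,5,3,2,4,3,2,1,3,5,6,3,4,2,3,5,3,1,2,3,4,2,3,2,0,1,2,3,5,3,2,1,0,3,5,6,3,2,3,6,4,3,2,3,1,2,3,5,6,3,4]))) (.word [1,2,3,5,3,2,1,0,3,5,6,3,2,3,6,4,3,2,3,1,2,3,5,6,3,4,5,6,3,2,1,4,3,6,2,3,2,3,6,2,3,4,1,2,3,6,5,1,2,3,5,3,2,1,0,3,5,6,3,2,3,6,4,3,2,3,1,2,3,5,6,3,4]))) (.node (.node (.word [1,2,3,5,3,2,1,0,3,5,6,3,2,3,6,4,3,2,3,1,2,3,5,6,3,4,1,5,3,2,4,3,2,1,3,5,6,3,4,2,3,5,3,1,2,3,4,2,3,2,0,1,2,3,5,3,2,1,0,3,5,6,3,2,3,6,4,3,2,3,1,2,3,5,6,3,4]) (.node .none (.node .none (.word [2,1,6,3,2,3,1,2,3,4,2,3,6,1,2,3,5,6,3,2,0,1,2,3,5,3,2,1,0,3,5,6,3,2,3,6,4,3,2,3,1,2,3,5,6,3,4,1,5,3,2,4,3,2,1,3,5,6,3,4,2,3,5,3,1,2,3,4,2,3,2,0,1,3,2,1,6,3,2,1,3,2,3,5,4,2,3,1,2,3,6,4,2,3,5,2,3,5,3,2,1,0,3,5,6,3,2,3,6,4,3,2,3,1,2,3,5,6,3,4]))))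 (.node (.node .none (.word [1,5,3,2,4,3,2,1,3,5,6,3,4,2,3,5,3,1,2,3,4,2,3,2,0,1,5,3,2,4,3,2,1,3,5,6,3,4,2,3,5,3,1,2,3,4,2,3,2,0,2,1,6,3,2,3,1,2,3,4,2,3,6,1,2,3,5,6,3,2,0,1,2,3,5,3,2,1,0,3,5,6,3,2,3,6,4,3,2,3,1,2,3,5,6,3,4])) .none)))) (.node (.node (.node .none (.node .none (.word [1,5,3,2,4,3,2,1,3,5,6,3,4,2,3,5,3,1,2,3,4,2,3,2,0,5,6,3,2,1,4,3,6,2,3,2,3,6,2,3,4,1,2,3,6,5,1,2,3,5,3,2,1,0,3,5,6,3,2,3,6,4,3,2,3,1,2,3,5,6,3,4,1,2,3,5,3,2,1,0,3,5,6,3,2,3,6,4,3,2,3,1,2,3,5,6,3,4]))) .none) .none))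

/-- A subtree. -/
def sub58 : WTree :=
  (.node (.node (.node .none (.node (.node .none (.node .none (.node .none (.word [1,2,3,5,3,2,1,0,3,5,6,3,2,3,6,4,3,2,3,1,2,3,5,6,3,4,1,2,3,5,3,2,1,0,3,5,6,3,2,3,6,4,3,2,3,1,2,3,5,6,3,4,5,6,3,2,1,4,3,6,2,3,2,3,6,2,3,4,1,2,3,6,5,1,2,3,5,3,2,1,0,3,5,6,3,2,3,6,4,3,2,3,1,2,3,5,6,3,4,1,2,3,5,3,2,1,0,3,5,6,3,2,3,6,4,3,2,3,1,2,3,5,6,3,4])))) .none)) (.node (.node .none (.node .none (.node (.node .none (.word [2,1,6,3,2,3,1,2,3,4,2,3,6,1,2,3,5,6,3,2,0,1,2,3,5,3,2,1,0,3,5,6,3,2,3,6,4,3,2,3,1,2,3,5,6,3,4,1,2,3,5,3,2,1,0,3,5,6,3,2,3,6,4,3,2,3,1,2,3,5,6,3,4,1,5,3,2,4,3,2,1,3,5,6,3,4,2,3,5,3,1,2,3,4,2,3,2,0])) .none))) .none)) (.node (.node (.node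 .none (.node (.node .none (.node .none (.word [1,2,3,5,3,2,1,0,3,5,6,3,2,3,6,4,3,2,3,1,2,3,5,6,3,4,1,2,3,5,3,2,1,0,3,5,6,3,2,3,6,4,3,2,3,1,2,3,5,6,3,4,1,2,3,5,3,2,1,0,3,5,6,3,2,3,6,4,3,2,3,1,2,3,5,6,3,4,1,2,3,5,3,2,1,0,3,5,6,3,2,3,6,4,3,2,3,1,2,3,5,6,3,4]))) .none)) .none) .none))

/-- A subtree. -/
def sub59 : WTree :=
  (.node (.node sub55 sub56) (.node sub57 sub58))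

/-- Points. -/
def levX2pts0 : List ℕ := [67,103,114,117,216,220,237,276,326,371,379,384,407,411,423,433,461,465,510,518,522,660,668,679,685,713,729,743,746,774,777,778,825,853,854,857,861,894,900,902,907,933,950,970,971,1003,1009,1025,1026,1038,1063,1084,1147,1160,1162,1172,1189,1216,1235,1244,1274,1319,1320,1381,1404,1415,1441,1455,1464,1473,1492,1502,1524,1565,1588,1622,1634,1682,1695,1697,1703,1714,1733,1851,1871,1895,1957,1993,2043,2052]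

/-- A level. -/
def levX2 : Level :=
  ⟨668, (.node (.node sub44 sub49) (.node sub54 sub59)), levX2pts0⟩

/-- A subtree. -/
def sub60 : WTree :=
  (.node .none (.node .none (.node (.node .none (.node .none (.node .none (.node .none (.word [2,1,6,3,2,3,1,2,3,4,2,3,6,1,2,3,5,6,3,2,0,5,6,3,2,1,4,3,6,2,3,2,3,6,2,3,4,1,2,3,6,5,1,3,2,1,6,3,2,1,3,2,3,5,4,2,3,1,2,3,6,4,2,3,5,1,5,6,3,2,1,4,3,6,2,3,2,3,6,2,3,4,1,2,3,6,5,1,3,2,1,6,3,2,1,3,2,3,5,4,2,3,1,2,3,6,4,2,3,5,1]))))) .none)))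

/-- A subtree. -/
def sub61 : WTree :=
  (.node (.node (.node (.node (.node (.node (.node (.node .none (.word [])) .none) .none) .none) .none) .none) .none) (.node (.node (.node (.node .none (.node .none (.word [2,1,6,3,2,3,1,2,3,4,2,3,6,1,2,3,5,6,3,2,0,5,6,3,2,1,4,3,6,2,3,2,3,6,2,3,4,1,2,3,6,5,1,3,2,1,6,3,2,1,3,2,3,5,4,2,3,1,2,3,6,4,2,3,5,1]))) .none) .none) .none))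

/-- A subtree. -/
def sub62 : WTree :=
  (.node (.node (.node (.node .none (.word [2,1,6,3,2,3,1,2,3,4,2,3,6,1,2,3,5,6,3,2,0,5,6,3,2,1,4,3,6,2,3,2,3,6,2,3,4,1,2,3,6,5,1,3,2,1,6,3,2,1,3,2,3,5,4,2,3,1,2,3,6,4,2,3,5,1,5,6,3,2,1,4,3,6,2,3,2,3,6,2,3,4,1,2,3,6,5])) .none) (.node .none (.node .none (.node (.node .none (.node .none (.word [5,6,3,2,1,4,3,6,2,3,2,3,6,2,3,4,1,2,3,6,5]))) .none)))) (.word [5,6,3,2,1,4,3,6,2,3,2,3,6,2,3,4,1,2,3,6,5,1,3,2,1,6,3,2,1,3,2,3,5,4,2,3,1,2,3,6,4,2,3,5,1,5,6,3,2,1,4,3,6,2,3,2,3,6,2,3,4,1,2,3,6,5,1,3,2,1,6,3,2,1,3,2,3,5,4,2,3,1,2,3,6,4,2,3,5,1]))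

/-- A subtree. -/
def sub63 : WTree :=
  (.node (.node sub60 sub61) (.node .none sub62))

/-- A subtree. -/
def sub64 : WTree :=
  (.node .none (.node (.node (.node .none (.node (.node (.node .none (.word [5,6,3,2,1,4,3,6,2,3,2,3,6,2,3,4,1,2,3,6,5,1,3,2,1,6,3,2,1,3,2,3,5,4,2,3,1,2,3,6,4,2,3,5,1])) .none) .none)) .none) .none))

/-- A subtree. -/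
def sub65 : WTree :=
  (.node (.node .none (.node (.node .none (.node .none (.node .none (.node .none (.word [2,1,6,3,2,3,1,2,3,4,2,3,6,1,2,3,5,6,3,2,0,1,3,2,1,6,3,2,1,3,2,3,5,4,2,3,1,2,3,6,4,2,3,5,1]))))) .none)) .none)

/-- A subtree. -/
def sub66 : WTree :=
  (.node (.node .none (.node (.node .none (.word [2,1,6,3,2,3,1,2,3,4,2,3,6,1,2,3,5,6,3,2,0,1,3,2,1,6,3,2,1,3,2,3,5,4,2,3,1,2,3,6,4,2,3,5,1,5,6,3,2,1,4,3,6,2,3,2,3,6,2,3,4,1,2,3,6,5])) .none)) (.node .none (.node .none (.node (.node (.node (.node .none (.word [1,3,2,1,6,3,2,1,3,2,3,5,4,2,3,1,2,3,6,4,2,3,5,1,5,6,3,2,1,4,3,6,2,3,2,3,6,2,3,4,1,2,3,6,5,1,3,2,1,6,3,2,1,3,2,3,5,4,2,3,1,2,3,6,4,2,3,5,1])) .none) .none) .none))))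

/-- A subtree. -/
def sub67 : WTree :=
  (.node .none (.node (.node (.node .none (.node .none (.node (.node .none (.word [2,1,6,3,2,3,1,2,3,4,2,3,6,1,2,3,5,6,3,2,0,5,6,3,2,1,4,3,6,2,3,2,3,6,2,3,4,1,2,3,6,5])) .none))) .none) .none))

/-- A subtree. -/
def sub68 : WTree :=
  (.node (.node sub64 sub65) (.node sub66 sub67))

/-- A subtree. -/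
def sub69 : WTree :=
  (.node (.node (.node (.node .none (.word [2,1,6,3,2,3,1,2,3,4,2,3,6,1,2,3,5,6,3,2,0])) .none) .none) (.node .none (.node (.node (.node (.node (.node .none (.word [2,1,6,3,2,3,1,2,3,4,2,3,6,1,2,3,5,6,3,2,0,1,3,2,1,6,3,2,1,3,2,3,5,4,2,3,1,2,3,6,4,2,3,5,1,5,6,3,2,1,4,3,6,2,3,2,3,6,2,3,4,1,2,3,6,5,1,3,2,1,6,3,2,1,3,2,3,5,4,2,3,1,2,3,6,4,2,3,5,1])) .none) .none) .none) .none)))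

/-- A subtree. -/
def sub70 : WTree :=
  (.node (.node .none (.node (.node .none (.node (.node (.node .none (.word [1,3,2,1,6,3,2,1,3,2,3,5,4,2,3,1,2,3,6,4,2,3,5,1])) .none) .none)) (.node (.node .none (.node .none (.node .none (.word [5,6,3,2,1,4,3,6,2,3,2,3,6,2,3,4,1,2,3,6,5,1,3,2,1,6,3,2,1,3,2,3,5,4,2,3,1,2,3,6,4,2,3,5,1,5,6,3,2,1,4,3,6,2,3,2,3,6,2,3,4,1,2,3,6,5])))) .none))) .none)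

/-- A subtree. -/
def sub71 : WTree :=
  (.node (.node sub69 .none) (.node .none sub70))

/-- A subtree. -/
def sub72 : WTree :=
  (.node (.node (.node (.node .none (.word [1,3,2,1,6,3,2,1,3,2,3,5,4,2,3,1,2,3,6,4,2,3,5,1,5,6,3,2,1,4,3,6,2,3,2,3,6,2,3,4,1,2,3,6,5])) .none) .none) .none)

/-- A subtree. -/
def sub73 : WTree :=
  (.node (.node .none sub72) .none)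

/-- Points. -/
def levX3pts0 : List ℕ := [28,129,139,140,166,792,1073,1142,1170,1197,1438,1772,1901,1962,1968,2056]

/-- A level. -/
def levX3 : Level :=
  ⟨2056, (.node (.node sub63 sub68) (.node sub71 sub73)), levX3pts0⟩

/-- The levels. -/
def levX : List Level := [levX0,levX1,levX2,levX3]

/-- A subtree. -/
def sub74 : WTree :=
  (.node (.node (.node (.node (.node (.node (.node (.node (.word [1,2,3,2,3,6,5,3,1]) (.word [3,5,1,2,3,6,5,3,2,3,2])) (.word [5,3,0,1,2,3,5,2,3])) (.node (.word [3,4,2,3,6,4,3]) (.word [3,5,4,3,2,3,6,3,0]))) (.node (.node (.word [1,2,3,6,4,3,0]) (.word [6,5,3,2])) (.node (.word [3,2,3,5,4,3,0]) (.word [5,4,3,2,3,2,0])))) (.node (.node (.node (.word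 [3,6,4,3]) (.word [3,4,2,3,5,2,3,0])) (.node (.word [2,3,1,2,3,4,1,2,3,2]) (.word [6,5,3,2,3,2,3]))) (.node (.node (.word [6,5,1,2,3,2,3]) (.word [4,3,6,3,4,1,2,3,2,3])) (.node (.word [4,3,6,2,3,0,1,2,3,6]) (.word [6,4,3,2,3,2]))))) (.node (.node (.node (.node (.word [2,3,2,3,1,2,3,5,3,2,3]) (.word [1,2,3,5,3,2,3,2,0])) (.node (.word [6,4,3,1,2,3,6]) (.word [5,3,1,2,3,6,2,3]))) (.node (.node (.word [6]) (.word [3,6,3,4,2,3,2,3,2])) (.node (.word [4,1,2,3,6,3]) (.word [3,6,4,3,5,2,3,2,0])))) (.node (.node (.node (.word [3,6,4,3,0]) (.word [3,6,4,3,2,3])) (.node (.word [4,3,0,1,2,3,6]) (.word [3,2,3,1,2,0]))) (.node (.node (.word [5,3,1,2,3,5,3,2,3]) (.word [5,4,3,1,2,3,6,3,0]))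 (.node (.word [3,6,3,1,2,3,4,2,3]) (.word [3,2,3,5,4,3,2,3,6,0])))))) (.node (.node (.node (.node (.node (.word [4,2,3,2,3,6,4,3,1]) (.word [2,3,0,1,2,3,1,2,3,2])) (.node (.word [2,3,2,1]) (.word [5,2,3,2,3,2]))) (.node (.node (.word [1,2,3,6,0,1,2,3,2,3]) (.word [3,1,2,3,2,3,1,2,3,6])) (.node (.word [5,2,3,6,3,2,3]) (.word [6,5,1,2,3,2,3,2])))) (.node (.node (.node (.word [6,5,3,1,2,3,6,1]) (.word [4,3,2,3,6,2,3])) (.node (.word [4,3,6,3,0,1,2,3,2,3]) (.word [3,5,4,3,2,3,5,4,3]))) (.node (.node (.word [3,2,3,6,0,1,2,3,2,3,2]) (.word [2,3,2,3,5,1,2,3,1,2,3,2])) (.node (.word [6,5,2,3,2,3,1,2,3,6]) (.word [3,6,4,3,2,3,2,0]))))) (.node (.node (.node (.node (.word [1,2,3,6,4,3,1])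 (.word [6,2,3,2,3,1,2,3,5,4,2,3])) (.node (.word [3,6,2,3,2,3,1,2,3,6,1]) (.word [6,2,3,5,4,3,2,3]))) (.node (.node (.word [6,2,3,0,1,2,3,6]) (.word [1,2,3,4,1,2,3,2])) (.node (.word [5,2,3,2,3,5,3,2,3,0]) (.word [3,6,3,5,3,2,3,2,0])))) (.node (.node (.node (.word [3,4,1,2,3,6,1]) (.word [3,4,3,2,3,6,3])) (.node (.word [2,3,5,4,3,1,2,3,6,3,0]) (.word [2,3,6,4,3,1,2,3,6,3]))) (.node (.node (.word [1,2,3,6,4,2,3]) (.word [4,2,3,5,4,3,2,3,6])) (.node (.word [6,4,3,1,2,3,2,3]) (.word [1,2,3,6,3,2,3,4,2,3]))))))) (.node (.node (.node (.node (.node (.node (.word [5,4,2,3,2,3,6,4,3,1]) (.word [6,1,2,3,4,2,3,2])) (.node (.word [5,3,6,3,2,3,2,3]) (.word [2,3,6,3,4,3,2,3]))) (.node (.node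 (.word [2,3,6,0,1,2,3,2,3,2]) (.word [3,6,4,3,2,3,2,3])) (.node (.word [3,2,3,6,2,3]) (.word [2,3,6,4,1,2,3,2,3,0])))) (.node (.node (.node (.word [5,1,2,3,6,4,3,1]) (.word [4,3,2,3,5,4,3,0])) (.node (.word [4,3,6,4,1,2,3,2,3,2]) (.word [5,6,3,2,3,2]))) (.node (.node (.word [4,2,3,2,3,1,2,3,2,3]) (.word [3,5,6,3,1,2,3,2,3])) (.node (.word [6,3,2,3,6,0]) (.word [1,2,3,6,4,3,2,3,6,0]))))) (.node (.node (.node (.node (.word [3,6,4,3,1]) (.word [2,3,4,2,3,1,2,3,2,3])) (.node (.word [2,3,1,2,3,1,2,3,0]) (.word [3,6,4,3,2,3,6,3,0]))) (.node (.node (.word [4,3,6,1]) (.word [2,3,6,2,3,1,2,3,6,0])) (.node (.word [6,4,2,3,2,3]) (.word [4,3,1,2,3,6,2,3,0])))) (.node (.node (.node (.word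 [5,3,6,2,3,2,3]) (.word [3,5,2,3,2,3])) (.node (.word [6,2,3,5,3,4,3,1,2,3,6]) (.word [3,5,3,2,3,1,2,3,6,3,2,3]))) (.node (.node (.word [2,3,6,3,0]) (.word [3,4,1,2,3,2,3,0,1,2,3,6])) (.node (.word [4,3,1,2,3,5,4,3,0]) (.word [3,1,2,3,6,4,3,1,2,3,6,0])))))) (.node (.node (.node (.node (.node (.word [5,3,6,5,3,1,0]) (.word [5,3,4,2,3,6])) (.node (.word [2,3,0,1,2,3,6]) (.word [2,3,2,3,6,3,2,3,0]))) (.node (.node (.word [3,5,4,2,3]) (.word [4,3,2,3,0,1,2,3,6])) (.node (.word [4,3,2,3,5,2,3]) (.word [2,3,4,1,2,3,5,2,3,0])))) (.node (.node (.node (.word [6,3,2,3,6,3,1,2,3,2,3]) (.word [3,5,6,3,1,2,3,0])) (.node (.word [6,5,3,4,2,3,6]) (.word [4,3,5,6,2,3,2,3,2]))) (.node (.node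 (.word [1,2,3,5,3,2,3,0]) (.word [4,1,2,3,5,4,3,2,3,6])) (.node (.word [4,3,1,2,3,4,2,3]) (.word [3,5,6,3,2,3,2,0]))))) (.node (.node (.node (.node (.word [2,3,5,6,3,0,1,2,3,6]) (.word [0,1,2,3,6,2,3,0])) (.node (.word [6,3,1,2,3,2,3]) (.word [1,2,3,4,2,3,5,2,3]))) (.node (.node (.word [3,6,2,3,1,2,3,6]) (.word [3,4,1,2,3,2,3,1,2,3,6,1])) (.node (.word [3,1,2,0]) (.word [5,6,3,4,2,3,2])))) (.node (.node (.node (.word [5,6,3,1,2,3,6]) (.word [5,3,2,3,6,3,2,3])) (.node (.word [6,3,1,2,3,0]) (.word [5,2,3,4,2,3,2]))) (.node (.node (.word [6,3,5,3,2,3]) (.word [6,3,2,3,4,2,3,1,2,3,6])) (.node (.word [3,1,2,3,4,1,2,3,2]) (.word [2,3,5,2,3,2,3,2]))))))))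

/-- A subtree. -/
def sub75 : WTree :=
  (.node (.node (.node (.node (.node (.node (.node (.node (.word [5,2,3,2,3,6,4,3,1]) (.word [2,3,2,3,5,4,3,2,3,6,0])) (.word [3,5,2,3,6,1,2,3,2,3,2])) (.node (.word [6,5,3,6,1,2,3,2,3]) (.word [3,2,3,6,3,2,3,0]))) (.node (.node (.word [2,3,6,3,1,2,3,2,3]) (.word [4,3,6,3,4,2,3,2,3])) (.node (.word [5,1,2,3,6,2,3,2,3,0]) (.word [3,5,4,3,1,2,3,5,4,3,0])))) (.node (.node (.node (.word [3,6,3,1]) (.word [6,4,3,2,3,0])) (.node (.word [3,5,1,2,3,6,1,2,3,2,3]) (.word [6,3,2,3,2,3,6,3]))) (.node (.node (.word [3,2,3,6,1,2,3,2,3,2]) (.word [6,3,5,1,2,3,2,3])) (.node (.word [2,3,5,2,3,6,1,2,3,2,3]) (.word [5,3,6,5,3,4,2,3,2]))))) (.node (.node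 (.node (.node (.word [6,5,2,3]) (.word [4,3,0,1,2,3,6,3])) (.node (.word [5,4,2,3,1,2,3,6,0]) (.word [6,3,2,3,6,3,2,3]))) (.node (.node (.word [3,5,4,2,3,6,4,3]) (.word [2,3,5,4,3,2,3,6])) (.node (.word [5,2,3,6]) (.word [3,0,1,2,3,6,1,2,3,4,2,3])))) (.node (.node (.node (.word [3,5,2,3]) (.word [3,4,3,2,3,5,2,3])) (.node (.word [6,3,5,3,4,3,1,2,3,6]) (.word [3,2,3,6,4,3,1,2,3,6,0]))) (.node (.node (.word [2,3,6,1,2,3,0]) (.word [4,2,3,6,4,1,2,3,2,3])) (.node (.word [5,3,2,3,1,2,3,5,4,2,3]) (.word [5,4,3,2,3,5,4,3,2])))))) (.node (.node (.node (.node (.node (.word [1,2,3,6,4,3,5,2,3,2,1]) (.word [5,6,3,0,1,2,3,2,3])) (.node (.word [5,6,2,3,4,1,2,3,6]) (.word [6,5,3,2,3,6,3,0])))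 (.node (.node (.word [2,3,0]) (.word [2,3,5,2,3,0,1,2,3,6])) (.node (.word [3,2,3,4,2,3]) (.word [3,4,3,2,3,2])))) (.node (.node (.node (.word [2,3,6,1]) (.word [6,3,2,3,5,4,2,3])) (.node (.word [6,3,0,1,2,3,2,3]) (.word [4,1,2,3,2]))) (.node (.node (.word [4,3,2,3,5,3,2,3]) (.word [3,2,3,1,2,3,5,2,3,2,0])) (.node (.word [4,2,3,6,2,3,1,2,3,6]) (.word [4,2,3,6,3,2,3,4,2,3]))))) (.node (.node (.node (.node (.word [2,3,6,5,3,6,1]) (.word [1,2,3,6,2,3,0])) (.node (.word [5,1,2,3,2,3]) (.word [2,3,5,3,4,3,2,3]))) (.node (.node (.word [5,6,0,1,2,3,2,3]) (.word [4,2,3,2,3,0,1,2,3,6])) (.node (.word [6,5,3,2,3,5,3,2,3]) (.word [5,4,3,2,3,6,3,2,3,0])))) (.node (.node (.node (.word [5,6,2,3,0,1,2,3,6])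 (.word [2,3,1,2,3,5,4,3])) (.node (.word [2,3,5,1,2,3,0]) (.word [3,2,3,5,1,2,3,1,2,3,2]))) (.node (.node (.word [3,4,3,2,3]) (.word [2,3,6,4,3,0,1,2,3,6])) (.node (.word [6,2,3,5,3,2,3,0]) (.word [4,1,2,3,6,1,2,3,4,2,3]))))))) (.node (.node (.node (.node (.node (.node (.word [6,5,3,1]) (.word [4,3,6,4,1,2,3,2,3])) (.node (.word [4,3,6,5,2,3,6,4,3]) (.word [3,6,4,3,2,3,0]))) (.node (.node (.word [0,1,2,3,6,2,3,2,3]) (.word [4,3,1,2,0])) (.node (.word [3,1,2,3,6,4,2,3]) (.word [3,4,1,2,3,2,3,1,2,3,6])))) (.node (.node (.node (.word [4,3,0,1,2,3,6,1]) (.word [3,2,3,6,2,3,2,3,0])) (.node (.word [4,3,6,4,2,3,1,2,3,0]) (.word [6,4,3,1,2,3,5,4,3]))) (.node (.node (.word [4,3,6,1,2,3,2,3,2])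 (.word [6,3,5,4,3,1,2,3,6,3,0])) (.node (.word [3,6,4,3,1,2,3,6]) (.word [5,3,0,1,2,3,6,3,2,3]))))) (.node (.node (.node (.node (.word [6,5,3,6,4,3,1]) (.word [3,6,2,3,1,2,3,5,4,3,0])) (.node (.word [4,2,3,1,2,3,6,0]) (.word [3,0,1,2,3,6,3,2,3]))) (.node (.node (.word [6,1,2,0]) (.word [6,5,3,1,2,3,5,4,3,0])) (.node (.word [5,4,3,6,0,1,2,3,2,3]) (.word [5,6,3,2,3,6,2,3,0])))) (.node (.node (.node (.word [3,6,1]) (.word [4,3,1,2,3,6,3])) (.node (.word [5,3,2,3,5,3,2,3]) (.word [3,6,3,4,2,3,2,3,0]))) (.node (.node (.word [3,6,2,3,2,3,0]) (.word [2,3,5,1,2,3,0,1,2,3,6])) (.node (.word [5,1,2,3,2,3,0]) (.word [2,3,2,3,5,4,3,2,3,6])))))) (.node (.node (.node (.node (.node (.word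 [5,6,3,2,3,6,1]) (.word [5,3,2,3,5,2,3,0])) (.node (.word [6,5,0,1,2,3,2,3]) (.word [5,3,6,3,2,3,4,2,3]))) (.node (.node (.word [3,2,3]) (.word [5,3,2,3,1,2,3,6,3,2,3])) (.node (.word [5,4,3,2,3]) (.word [5,2,3,4,2,3,2,0])))) (.node (.node (.node (.word [2,3,1,2,3,5,3,2,3]) (.word [4,3,6,5,3,1,2,3,2])) (.node (.word [4,3,2,3,6,2,3,2,3]) (.word [6,3,5,6,3,4,2,3,2]))) (.node (.node (.word [2,3,4,1,2,3,1,2,3,2]) (.word [4,3,5,4,3,2,3,2,0])) (.node (.word [5,2,3,2,3,1,2,3,6,1]) (.word [0,1,2,3,1,2,3,5,4,3]))))) (.node (.node (.node (.node (.word [6,4,3,0]) (.word [3,5,3,6,3,2,3,0])) (.node (.word [3,2,3,1,2,3,2,0]) (.word [6,3,5,2,3,2,3]))) (.node (.node (.word [6,2,3,1,2,3,4,2,3])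 (.word [3,2,3,6,4,3,0,1,2,3,6])) (.node (.word [2,3,4,1,2,3,6]) (.word [5,3,1,2,3,6,3,2,3,0])))) (.node (.node (.node (.word [6,4,2,3,1,2,3,6,1]) (.word [3,6,4,2,3,2,3])) (.node (.word [5,3,2,3,0]) (.word [3,1,2,3,1,2,3,5,4,3]))) (.node (.node (.word [4,3,6]) (.word [4,3,1,2,3,6,4,1,2,3,2,3])) (.node (.word [1,2,3,4,2,3,1,2,3,6]) (.word [6,3,1,2,3,6,3,2,3,0]))))))))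

/-- A subtree. -/
def sub76 : WTree :=
  (.node (.node (.node (.node (.node (.node (.node (.node (.word [6,2,3,2,3,6,5,3,1]) (.word [1,2,3,6,4,3,2,3,6,3,0])) (.word [4,3,6,4,2,3,2,3,2])) (.node (.word [5,3,6,0,1,2,3,2,3]) (.word [1,2,3,6,3,2,3,0]))) (.node (.node (.word [3,2,3,6,3,1]) (.word [3,6,5,3,2,3,6,3])) (.node (.word [5,4,2,3,2,3,0]) (.word [4,3,2,3,1,2,3,5,4,3,0])))) (.node (.node (.node (.word [5,4,3,6,4,3]) (.word [6,5,3,2,3,0])) (.node (.word [0,1,2,3,2,3,1,2,3,6,0]) (.word [5,6,3,2,3,2,0]))) (.node (.node (.word [5,6,1,2,3,2,3,0]) (.word [6,2,3,1,2,3,5,4,3,0])) (.node (.word [2,3,4,1,2,3,2,3,0]) (.word [5,4,3,1,2,3,6,2,3]))))) (.node (.node (.node (.node (.word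 [6,1,2,3,2,3,6,3,1,2,3,2,3]) (.word [3,1,2,3,5,2,3,2,0])) (.node (.word [3,5,4,3,1,2,3,6]) (.word [5,2,3,2,3,6,2,3]))) (.node (.node (.word [5,2,3,6,2,3,2,3]) (.word [3,5,0,1,2,3,2,3])) (.node (.word [6,3,2,3,6,3]) (.word [2,3,6,4,3,1,2,3,2])))) (.node (.node (.node (.word [6,2,3]) (.word [3,6,5,3,4,2,3])) (.node (.word [1,2,3,5,2,3,2,0]) (.word [4,3,2,3,1,2,3,6,3,2,3]))) (.node (.node (.word [2,3,6,2,3,1,2,3,2,3]) (.word [3,2,3,1,2,3,6,3,0])) (.node (.word [0,1,2,3,2,3,1,2,3,6,1]) (.word [3,5,6,3,4,2,3,2,0])))))) (.node (.node (.node (.node (.node (.word [2,3,5,1,2,3,1,2,3,6,4,3,1]) (.word [3,4,2,3,2,3,1,2,3,6,0])) (.node (.word [6,2,0]) (.word [5,2,3,2,3,6,3,0]))) (.node (.node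 (.word [5,1,2,3,0]) (.word [6,3,4,3,1,2,3,2,3])) (.node (.word [6,3,4,3,2,3]) (.word [6,3,5,6,3,2,3,2,0])))) (.node (.node (.node (.word [4,1,2,3,6,4,3,1]) (.word [3,1,2,3,5,4,2,3])) (.node (.word [1,2,3,0,1,2,3,5,2,3]) (.word [3,6,3,4,2,3,2,3]))) (.node (.node (.word [4,3,2,3,2,3,1,2,3,6,0]) (.word [4,3,2,3,6,1,2,3,4,2,3])) (.node (.word [5,3,2,3,1,2,3,6,0]) (.word [1,2,3,4,3,2,3,5,2,3]))))) (.node (.node (.node (.node (.word [6,4,3,2,3,6,1]) (.word [3,6,4,1,2,3,1,2,3,2])) (.node (.word [6,3,1,2,3,1,2,3,0]) (.word [5,4,3,2,3,6,3,2,3]))) (.node (.node (.word [6,2,3,4,1,2,3,2,3,2]) (.word [3,6,4,3,1,2,3,6,3,0])) (.node (.word [5,2,3,2,3,5,3,2,3]) (.word [2,3,2,3,6,4,3,2,3]))))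 (.node (.node (.node (.word [6,1,0]) (.word [5,6,3,1,2,3,2])) (.node (.word [2,3,6,3,2,3,0,1,2,3,2,3]) (.word [1,2,3,6,2,3,1,2,3,6,0]))) (.node (.node (.word [5,3,6,3,2,3]) (.word [6,4,3,5,2,3,2,0])) (.node (.word [1,2,3,5,4,3,1,2,3,6,0]) (.word [2,3,5,2,3,1,2,3,6,2,3,0]))))))) (.node (.node (.node (.node (.node (.node (.word [5,1,2,3,0,1,2,3,6,4,3,1]) (.word [0,1,2,3,2,3,2])) (.node (.word [2,3,5,4,2,3,6,4,3]) (.word [3,2,3,6,4,3,2,3]))) (.node (.node (.word [3,5,6,3,5,2,3,6]) (.word [2,3,6,5,2,3,6])) (.node (.word [3,2,3,5,4,2,3]) (.word [3,1,2,3,2,3,6,3,2,3])))) (.node (.node (.node (.word [3,6,1,2,1,0]) (.word [2,3,2,0])) (.node (.word [2,3,2,3,1,2,3,6,1,0]) (.word [4,2,3,1,2,3,5,4,3])))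 (.node (.node (.word [5,1,2,3,6,1,2,3,2,3]) (.word [2,3,4,1,2,3,2])) (.node (.word [5,3,2,3,6]) (.word [1,2,3,6,5,3,2,3,2]))))) (.node (.node (.node (.node (.word [5,3,1,0]) (.word [1,2,3,5,2,3,1,2,3,6])) (.node (.word [1,2,3,5,3,4,2,3]) (.word [4,3,0,1,2,3,6,2,3]))) (.node (.node (.word [3,2,1]) (.word [5,6,2,3,2,3,1,2,3,6])) (.node (.word [3,1,2]) (.word [5,4,3,2,3,6,2,3,0])))) (.node (.node (.node (.word [3,6,3,1,0]) (.word [4,3,2,3,2,3])) (.node (.word [5,1,2,3,2,3,1,2,3,6,0]) (.word [0,1,2,3,2,3,1,2,3,6]))) (.node (.node (.word [2,0]) (.word [6,5,2,3,4,2,3,2,0])) (.node (.word [5,0,1,2,3,2,3,0]) (.word [2,3,6,3,4,2,3,2,3,0])))))) (.node (.node (.node (.node (.node (.word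 [5,4,3,1,2,3,6,1]) (.word [3,6,3,5,2,3,6])) (.node (.word [4,3,1,2,3,0,1,2,3,6,1]) (.word [5,2,3,2,0]))) (.node (.node (.word [3,4,2,3]) (.word [3,4,3,1,2,3,2,3])) (.node (.word [4,2,3,5,3,2,3]) (.word [2,3,5,2,3,2,3,0])))) (.node (.node (.node (.word [3,5,6,3,0,1,2,3,6]) (.word [2,3,6,4,3,1,2,3,0])) (.node (.word [2,3,5,3,2,3,0]) (.word [4,3,2,3,5,4,3,2]))) (.node (.node (.word [6,3,2,3,0,1,2,3,2,3]) (.word [3,6,2,3,4,2,3,2,0])) (.node (.word [6,4,3,2,3,6,0]) (.word [2,3,5,2,3,2,3,6,3]))))) (.node (.node (.node (.node (.word [1,2,3,2,3,6,2,3,1,2,3,2,3]) (.word [3,4,2,3,6,2,3,0])) (.node (.word [4,2,3,6,1,2,3,2,3]) (.word [6,3,5,6,3,2,3,2]))) (.node (.node (.word [6,5,3,1,2,3,6,0])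 (.word [0,1,2,3,2,3,0,1,2,3,6])) (.node (.word [5,1,2,3,0,1,2,3,6]) (.word [5,3,4,3,1,2,3,2])))) (.node (.node (.node (.word [6,5,2,3,1,2,3,6,0]) (.word [2,3,2,3,6,3,2,3])) (.node (.word [5,3,1,2,3,0]) (.word [1,2,3,1,2,3,0,1,2,3,6]))) (.node (.node (.word [1,2,3,6,3]) (.word [6,3,4,2,3,5,4,2,3])) (.node (.word [3,5,4,3,1,2,3,6,0]) (.word [5,3,6,4,3,2,3,2,0]))))))))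

/-- A subtree. -/
def sub77 : WTree :=
  (.node (.node (.node (.node (.node (.node (.node (.word [3,6,5,3,1]) (.word [3,6,2,3,4,2,3,2])) (.node (.word [2,3,6,2,3,2,3]) (.word [0,1,2,3,6,4,3,2,3]))) (.node (.node (.word [1,2,3,6,1,2,3,2,3]) (.word [6,3,2,3,2,0])) (.node (.word [4,3,6,2,3,2,3,0]) (.word [1,2,3,6,4,1,2,3,2,3])))) (.node (.node (.node (.word [2,3,1,0]) (.word [5,3,2,3,6,3,0])) (.node (.word [4,1,2,3,6,2,3,2,3,0]) (.word [3,5,2,3,2,3,6,3]))) (.node (.node (.word [4,3,5,6,3,1,2,3,6]) (.word [4,3,1,2,3,2,3])) (.node (.word [6,3,4,1,2,3,2,3,0]) (.word [2,3,5,2,3,1,2,3,2]))))) (.node (.node (.node (.node (.word [5,3,6,4,3]) (.word [6,3,4,1,2,3,6])) (.node (.word [4,3,6,2,3,1,2,3,6])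 (.word [1,2,3,2,3,5,4,2,3]))) (.node (.node (.word [2,3,6,3,1,0]) (.word [3,6,4,3,1,2,3,6,3])) (.node (.word [5,3,2,3,5,4,3]) (.word [2,3,2,3,5,0,1,2,3,2,3])))) (.node (.node (.node (.word [2,3,6,4,3]) (.word [5,3,4,2,3,5,2,3])) (.node (.word [0,1,2,3,6,2,3,2,3,0]) (.word [1,2,3,1,2,3,6,3,2,3]))) (.node (.node (.word [2,3,5,2,3,0]) (.word [2,3,5,3,4,3,2,3,6])) (.node (.word [6,3,2,3,1,2,3,0]) (.word [4,1,2,3,6,2,3,4,2,3])))))) (.node (.node (.node (.node (.node (.word [5,6,3,1]) (.word [5,3,4,3,2,3,6])) (.node (.word [6,2,3,4,1,2,3,2,3]) (.word [5,3,2,3,6,3,2,3,0]))) (.node (.node (.word [0]) (.word [6,5,2,3,1,2,3,5,4,3])) (.node (.word [6,5,3,4,2,3]) (.word [3,0,1,2,3,1,2,3,5,4,3,0]))))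 (.node (.node (.node (.word [6,3,5,2,3,6,1]) (.word [4,3,1,2,3,6,4,2,3])) (.node (.word [5,2,3,6,0,1,2,3,2,3]) (.word [3,5,4,3,2]))) (.node (.node (.word [6,3,5,6,3,5,2,3,6]) (.word [6,4,1,2,3,2,3,2])) (.node (.word [4,3,2,3,1,2,3,6]) (.word [6,3,5,2,3,2,3,2]))))) (.node (.node (.node (.node (.word [3,2,3,5,6,3,1,2,3,6]) (.word [3,2,3,5,1,2,3,0])) (.node (.word [6,5,1,2,3,2,3,0]) (.word [3,4,3,1,2,3,5,2,3]))) (.node (.node (.word [5,4,3,1,2,3,6]) (.word [3,2,3,1,2,3,5,4,3])) (.node (.word [3,6,5,2,3,6]) (.word [2,3,6,5,3,2,3,0])))) (.node (.node (.node (.word [3,1,2,3,5,4,3,1]) (.word [1,2,3,2,3,5,4,3])) (.node (.word [2,3,5,6,3,2,3]) (.word [5,1,2,3,1,2,3,5,4,3,0]))) (.node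 (.node (.word [4,2,3,5,2,3]) (.word [2,3,4,2,3,2,0])) (.node (.word [4,2,3,1,2,3,2,3]) (.word [4,3,1,2,3,6,4,3,2,3]))))))) (.node (.node (.node (.node (.node (.node (.word [5,3,1,2,3,6,4,3,1]) (.word [2,3,0,1,2,3,5,2,3,0])) (.node (.word [1,2,3,6,3,1,0]) (.word [3,5,2,3,2,3,0]))) (.node (.node (.word [3,1,2,3,2,3,1,2,3,6,0]) (.word [3,5,1,2,3,0,1,2,3,6])) (.node (.word [4,3,2,3,6,4,2,3]) (.word [3,2,3,6,1,2,3,4,2,3])))) (.node (.node (.node (.word [5,2,3,1,2,3,6,1]) (.word [6,2,3,2,3,2])) (.node (.word [5,3,6,0,1,2,3,2,3,2]) (.word [3,1,2,3,2,3,5,4,3]))) (.node (.node (.word [4,3,6,1,2,3,4,2,3,2]) (.word [4,2,3,6,4,1,2,3,2,3,0])) (.node (.word [6,3,1,2,3,6,0]) (.word [5,4,3,6,5,3,2,3,2])))))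 (.node (.node (.node (.node (.word [5,4,2,3,1,2,3,6,1]) (.word [3,1,2,3,1,2,3,2])) (.node (.word [4,3,2,3,1,2,3,6,1]) (.word [4,3,2,3,6,4,3,2,3,0]))) (.node (.node (.word [6,5,2,3,4,1,2,3,6]) (.word [6,2,3,2,3,1,2,3,6])) (.node (.word [6,3,5,4,3,2,3,6,3]) (.word [1,2,3,6,3,4,3,2,3])))) (.node (.node (.node (.word [6,1]) (.word [3,2,3,2,3,6,3])) (.node (.word [6,3,4,1,2,3,1,2,3,2]) (.word [2,3,5,4,3,2,3,6,0]))) (.node (.node (.word [3,6,3,2,3]) (.word [4,3,2,3,2,3,6,3,2,3])) (.node (.word [0,1,2,3,2,3,0]) (.word [6,2,3,1,2,3,6,3,2,3,0])))))) (.node (.node (.node (.node (.node (.word [2,3,6,4,3,5,2,3,2,1]) (.word [4,2,3,2,3,6,2,3,2,3])) (.node (.word [6,5,3,2,3,6]) (.word [6,4,2,3,2,3,2])))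 (.node (.node (.word [2,3,5,4,3]) (.word [3,6,4,2,3,1,2,3,5,4,3])) (.node (.word [4,2,3,2,3]) (.word [2,3,6,2,3,4,2,3,6])))) (.node (.node (.node (.word [6,1,2,3,0]) (.word [3,6,3,4,3,2,3])) (.node (.word [5,3,0,1,2,3,6]) (.word [4,3,6,3,2,3,4,2,3]))) (.node (.node (.word [1,2,3,2,3,1,2,3,6,0]) (.word [6,5,2,3,4,2,3,2])) (.node (.word [1,2,3,2,3,1,2,3,6,1]) (.word [3,5,4,3,1,2,3,5,4,3]))))) (.node (.node (.node (.node (.word [6,4,2,3]) (.word [4,3,6,4,3,2,3,0])) (.node (.word [2,3,1,2,3,2,3]) (.word [4,3,2,3,2,0]))) (.node (.node (.word [6,2,3,1,2,3,1,2,3,0]) (.word [3,5,4,3,2,3,2,0])) (.node (.word [6,2,3,4,3,1,2,3,2,3]) (.word [0,1,2,3,6,2,3,4,2,3])))) (.node (.node (.node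 (.word [1,2,3,5,2,3,1,0]) (.word [1,2,3,2])) (.node (.word [6,3,2,3,0]) (.word [3,0,1,2,3,6,4,1,2,3,2,3]))) (.node (.node (.word [5,6,3,2,3]) (.word [1,2,3,5,2,3,0,1,2,3,6])) (.node (.word [4,3,6,2,3,1,2,3,5,4,3]) (.word [1,2,3,6,5,3,2,3,0]))))))))

/-- A subtree. -/
def sub78 : WTree :=
  (.node (.node sub74 sub75) (.node sub76 sub77))

/-- A subtree. -/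
def sub79 : WTree :=
  (.node (.node (.node (.node (.node (.node (.node (.node (.word [6,1,2,3,2,3,6,5,3,1]) (.word [1,2,3,5,2,3,1,2,3,2])) (.word [1,2,3,2,3,4,1,2,3,6])) (.node (.word [3,2]) (.word [5,2,3,2,3,5,1,2,3,2,3]))) (.node (.node (.word [3,5,2,3,2,1]) (.word [6,3,5,2,3,6,1,2,3,2,3])) (.node (.word [6,5,2,3,2,3,0]) (.word [2,3,6,3,2,3,1,2,3,0])))) (.node (.node (.node (.word [3]) (.word [5,2,3,2,3,0])) (.node (.word [2,3,5,4,3,1,2,3,6,0]) (.word [6,5,3,2,3,2]))) (.node (.node (.word [5,4,1,2,3,2,3]) (.word [3,2,3,1,2,3,5,4,3,0])) (.node (.word [3,2,3,0,1,2,3,6]) (.word [4,2,3,1,2,3,6,2,3]))))) (.node (.node (.node (.node (.word [1,2,3,2,3,6,3,0,1,2,3,2,3]) (.word [3,1,2,3,5,2,3,0]))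 (.node (.word [6,3,1,2,3,6,3]) (.word [3,6,5,3,4,2,3,2]))) (.node (.node (.word [5,3,6,1,2,3,2,3]) (.word [3,6,3,4,1,2,3,2,3,0])) (.node (.word [4,3,2,3,6,3]) (.word [5,3,6,4,3,1,2,3,2])))) (.node (.node (.node (.word [3,0]) (.word [5,2,3,4,3,2,3])) (.node (.word [5,3,1,2,3,5,2,3,0]) (.word [3,5,1,2,3,1,2,3,2]))) (.node (.node (.word [6,5,2,3,1,2,3,5,3,2,3]) (.word [5,3,2,3,1,2,3,5,4,3,0])) (.node (.word [4,1,2,3,2,3,1,2,3,6,1]) (.word [1,2,3,6,4,2,3,2,3])))))) (.node (.node (.node (.node (.node (.word [3,5,2,3,1,2,3,6,4,3,1]) (.word [5,2,3,2,3,1,2,3,6,0])) (.node (.word [1,2,3,6,0]) (.word [6,5,3,4,2,3,2]))) (.node (.node (.word [3,2,3,6,2,3,0,1,2,3,2,3]) (.word [6,3,4,2,3,2,3]))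 (.node (.word [3,5,3,6,3,2,3]) (.word [3,5,4,3,1,2,3,2])))) (.node (.node (.node (.word [6,3,1,2,3,6,1]) (.word [6,3,2,3,6,2,3])) (.node (.word [4,2,3,6,0,1,2,3,2,3]) (.word [3,6,5,3,2,3,5,4,3]))) (.node (.node (.word [2,3,6,0,1,2,3,2,3,0]) (.word [6,3,2,3,4,1,2,3,5,2,3])) (.node (.word [5,3,2,3,1,2,3,6]) (.word [2,3,4,3,1,2,3,5,2,3]))))) (.node (.node (.node (.node (.word [3,2,3,6,1]) (.word [3,5,4,3,2,3,6,3])) (.node (.word [6,3,2,3,4,2,3,2]) (.word [5,2,3,6,5,3,2,3,2]))) (.node (.node (.word [3,1,2,3,0,1,2,3,6,1]) (.word [5,2,3,4,2,3,1,2,3,6])) (.node (.word [2,3,2,3,5,4,3,2]) (.word [6,3,2,3,6,5,3,2,3])))) (.node (.node (.node (.word [6,5,3,6,1]) (.word [6,4,3,2,3,6,3]))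 (.node (.word [2,3,6,3,2,3,1,2,3,2,3]) (.word [3,5,1,2,3,2,3,2]))) (.node (.node (.word [4,2,3,6,4,2,3]) (.word [4,3,1,2,3,2,0])) (.node (.word [2,3,6,4,3,1,2,3,2,3]) (.word [4,3,1,2,3,1,2,3,5,4,3]))))))) (.node (.node (.node (.node (.node (.node (.word [5,2,3,1,2,3,6,4,3,1]) (.word [5,3,1,2,3,6,3,0])) (.node (.word [2,3,4,2,3,1,2,3,2]) (.word [2,3,6,4,3,2,3]))) (.node (.node (.word [4,2,3,6,0,1,2,3,2,3,0]) (.word [3,6,4,2,3,1,2,3,2])) (.node (.word [2,3,6,3,2,3]) (.word [3,5,6,1,2,3,2,3,2])))) (.node (.node (.node (.word [4,3,2,3,6,1,0]) (.word [6,3,2,3,5,4,3,0])) (.node (.word [6,3,2,3,1,2,3,6,1,0]) (.word [5,4,3,1,2,3,2]))) (.node (.node (.word [6,2,3,2,3,1,2,3,2,3]) (.word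 [1,2,3,5,4,3,2,3,6,0])) (.node (.word [3,6,5,3,2,3,6]) (.word [2,3,2,3,5,3,2,3,2,0]))))) (.node (.node (.node (.node (.word [3,1]) (.word [3,4,2,3,5,4,2,3])) (.node (.word [3,4,2,3,1,2,3,6]) (.word [1,2,3,6,4,3,2,3,0]))) (.node (.node (.word [1,2,3,5,4,3,1]) (.word [6,0,1,2,3,2,3,1,2,3,6])) (.node (.word [6,4,2,3,1,2,3,0]) (.word [6,3,1,2,3,6,2,3,0])))) (.node (.node (.node (.word [6,5,2,3,6,4,3]) (.word [2,3,6,3,5,3,2,3])) (.node (.word [5,2,3,0,1,2,3,5,2,3]) (.word [3,5,2,3,0,1,2,3,6,3,2,3]))) (.node (.node (.word [2,3,5,4,3,0]) (.word [6,3,4,3,2,3,2,0])) (.node (.word [6,3,1,2,3,5,4,3,0]) (.word [3,1,2,3,6,4,3,1,2,3,6])))))) (.node (.node (.node (.node (.node (.word [2,3,6,2,1,0])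 (.word [6,2,3,4,2,3,6])) (.node (.word [4,2,3,0,1,2,3,6]) (.word [1,2,3,2,0]))) (.node (.node (.word [4,3,6,4,2,3]) (.word [4,1,2,3,2,3,2])) (.node (.word [6,3,2,3,5,2,3]) (.word [2,3,5,1,2,3,2,3,2])))) (.node (.node (.node (.word [4,2,3,6,0,1,2,3,2,3,2]) (.word [5,3,6,4,3,2,3,0])) (.node (.word [6,3,5,2,3,6]) (.word [4,2,3,6,3,4,2,3,2,3]))) (.node (.node (.word [6,3,1,2,3,5,3,2,3,0]) (.word [3,2,3,1,2,3,1,2,3,2])) (.node (.word [2,3,4,2,3,1,2,3,6]) (.word [6,5,3,2,3,2,3,6,3]))))) (.node (.node (.node (.node (.word [2,3,2,3,6,3,0,1,2,3,2,3]) (.word [4,2,3,5,6,3,2,3])) (.node (.word [5,3,6,3,1,2,3,2,3]) (.word [5,2,3,4,2,3,5,2,3]))) (.node (.node (.word [2,3,1,2,3,4,2,3,2]) (.word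 [3,1,2,3,1,2,3,0,1,2,3,6])) (.node (.word [5,3,4,1,2,3,6]) (.word [4,2,3,6,5,3,2,3,0])))) (.node (.node (.node (.word [6,2,3,1,2,3,6]) (.word [6,4,3,2,3,5,4,3])) (.node (.word [2,3,1,2,3,0]) (.word [2,3,6,4,3,1,2,3,6,3,0]))) (.node (.node (.word [4,3,2,3]) (.word [1,2,3,1,2,3,2])) (.node (.word [2,3,5,4,3,0,1,2,3,6]) (.word [1,2,3,6,2,3,4,2,3,6]))))))))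

/-- A subtree. -/
def sub80 : WTree :=
  (.node (.node (.node (.node (.node (.node (.node (.word [5,4,1,2,3,2,3,6,4,3,1]) (.word [4,3,6,2,3,4,2,3,2,0])) (.node (.word [5,1,2,3,6,2,3,2,3]) (.word [4,1,2,3,6,3,2,3,0]))) (.node (.node (.word [6,3,2,3,1,2,3,5,2,3]) (.word [4,2,3,2,3,5,4,3,2])) (.node (.word [2,3,6,2,3,2,3,0]) (.word [6,2,3,5,1,2,3,2,3])))) (.node (.node (.node (.word [4,3,6,4,3,1]) (.word [2,3,2,3,6,3,0])) (.node (.word [0,1,2,3,5,3,2,3]) (.word [6,3,1,2,3,2,0]))) (.node (.node (.word [2,3,6,1,2,3,2,3]) (.word [2,3,5,1,2,3,2,3])) (.node (.word [6,3,4,2,3,2,3,2]) (.word [1,2,3,5,3,2,3,2,3]))))) (.node (.node (.node (.node (.word [6,4,3]) (.word [2,3,2,3,5,0,1,2,3,2,3,2]))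 (.node (.word [3,5,2,3,1,2,3,6]) (.word [2,3,1,2,3,5,4,2,3]))) (.node (.node (.word [2,3,6,5,3,6]) (.word [3,1,2,3,5,1,2,3,0])) (.node (.word [2,3,2,3,5,4,3]) (.word [3,1,2,3,6,4,1,2,3,2,3])))) (.node (.node (.node (.word [3,6,3]) (.word [3,2,3,5,2,3,2,0])) (.node (.word [5,6,3,4,1,2,3,6]) (.word [2,3,0,1,2,3,6,3,2,3]))) (.node (.node (.word [3,6,3,1,2,3,0]) (.word [1,2,3,5,4,3,1,2,3,2])) (.node (.word [6,4,3,2,3,4,2,3]) (.word [3,5,6,3,4,2,3,2])))))) (.node (.node (.node (.node (.node (.word [6,5,3]) (.word [6,2,3,2,3,4,1,2,3,6])) (.node (.word [5,2,3,4,1,2,3,6]) (.word [4,2,3,2,3,5,4,3,0]))) (.node (.node (.word [3,5,4,3,0]) (.word [4,3,2,3,4,1,2,3,6])) (.node (.word [5,2,3,4,2,3])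 (.word [0,1,2,3,6,4,2,3,2,3])))) (.node (.node (.node (.word [5,3,2,3,5,4,3,1]) (.word [4,1,2,3,6,3,2,3])) (.node (.word [3,6,0,1,2,3,2,3]) (.word [5,3,2,3,2]))) (.node (.node (.word [3,2,3,5,3,2,3,0]) (.word [6,3,5,3,4,3,2,3,2,0])) (.node (.word [6,3,2,3,1,2,3,6]) (.word [2,3,5,3,2,3,2,3]))))) (.node (.node (.node (.node (.word [2,3,6,2,3,1,0]) (.word [4,2,3,6,2,3,0])) (.node (.word [5,4,1,2,3,2,3,0]) (.word [3,5,6,3,1,2,3,2]))) (.node (.node (.word [6,5,3,1,2,3,6]) (.word [3,4,2,3,2,3,1,2,3,6,1])) (.node (.word [6,2,3,4,3,2,3]) (.word [1,2,3,4,2,3,5,2,3,0])))) (.node (.node (.node (.word [1,2,3,1,2,3,5,4,3,1]) (.word [5,3,1,2,3,5,4,3])) (.node (.word [3,5,3,1,2,3,0]) (.word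 [3,0,1,2,3,6,3,2,3,0]))) (.node (.node (.word [1,2,3,5,2,3]) (.word [5,3,2,3,4,3,2,3])) (.node (.word [0,1,2,3,5,2,3,0]) (.word [0,1,2,3,4,1,2,3,5,2,3]))))))) (.node (.node (.node (.node (.node (.node (.word [5,3,6,5,3,1]) (.word [4,3,6,0,1,2,3,2,3])) (.node (.word [6,5,2,3,4,2,3]) (.word [2,3,4,2,3,5,2,3,0]))) (.node (.node (.word [5,2,3,1,2,3,5,3,2,3,0]) (.word [5,3,4,1,2,3,5,2,3])) (.node (.word [1,2,3,6,3,4,2,3]) (.word [3,5,2,3,1,2,3,6,3,2,3])))) (.node (.node (.node (.word [0,1,2,3,6,4,3,1]) (.word [4,3,6,4,2,3,2,3,0])) (.node (.word [4,1,2,3,5,4,3,2,3,2,0]) (.word [1,2,3,2,3,6,3,2,3]))) (.node (.node (.word [6,2,3,2,3,1,2,3,6,1,0]) (.word [2,3,1,2,3,5,2,3,2,0])) (.node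 (.word [6,4,3,1,2,3,6,3]) (.word [5,3,6,5,3,1,2,3,2]))))) (.node (.node (.node (.node (.word [5,4,3,0,1,2,3,6,1]) (.word [2,3,2,3,6,4,1,2,3,2,3])) (.node (.word [2,3,1,2,3,6,0]) (.word [6,3,5,4,3,2,3,0]))) (.node (.node (.word [1,2,1,0]) (.word [6,4,2,3,1,2,3,5,4,3,0])) (.node (.word [3,5,2,3,6,1,2,3,2,3]) (.word [1,2,3,6,4,3,2,3])))) (.node (.node (.node (.word [2,1]) (.word [3,4,1,2,3,6,3])) (.node (.word [4,1,2,3,5,3,2,3]) (.word [2,3,6,1,2,3,4,2,3]))) (.node (.node (.word [2,3,6,2,3]) (.word [2,3,1,2,3,2])) (.node (.word [3,4,1,2,3,2,3]) (.word [1,2,3,6,4,3,1,2,3,6,3])))))) (.node (.node (.node (.node (.node (.word [4,3,2,3,6,4,3,1]) (.word [2,3,5,2,3,2,0])) (.node (.word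 [5,1,2,3,4,2,3]) (.word [3,5,6,2,3,2,3,2]))) (.node (.node (.word [4,3,6,3]) (.word [3,0,1,2,3,2,3,1,2,3,6])) (.node (.word [3,6,3,5,3,2,3]) (.word [6,4,3,1,2,3,2])))) (.node (.node (.node (.word [3,2,3,2,3,6,3,1,2,3,2,3]) (.word [4,2,3,6,5,3,2,3,2])) (.node (.word [4,1,2,3,5,3,2,3,0]) (.word [3,6,3,4,3,2,3,2,3]))) (.node (.node (.word [2,3,5,3,4,3,1,2,3,6]) (.word [5,3,6,3,4,2,3,2,3])) (.node (.word [3,1,2,3,4,2,3]) (.word [5,2,3,1,2,3,6,3,2,3]))))) (.node (.node (.node (.node (.word [5,3,6,4,3,0]) (.word [6,4,3,1,2,3,0])) (.node (.word [4,3,2,3,1,2,3,2,3]) (.word [3,2,3,5,4,3,2,3,0]))) (.node (.node (.word [3,4,3,2,3,1,2,3,6,1]) (.word [3,2,3,1,2,3,5,4,2,3])) (.node (.word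 [4,3,2,3,0,1,2,3,6,1]) (.word [3,6,4,3,2,3,5,4,3,0])))) (.node (.node (.node (.word [6,2,3,1,2,3,6,1]) (.word [2,3,1,2])) (.node (.word [2,3,2,3,0]) (.word [5,3,2,3,1,2,3,5,4,3]))) (.node (.node (.word [1,2,3,5,4,3]) (.word [6,2,3,1,2,3,5,4,2,3])) (.node (.word [4,3,6,4,1,2,3,2,3,0]) (.word [5,6,3,0,1,2,3,6,2,3,0]))))))))

/-- A subtree. -/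
def sub81 : WTree :=
  (.node (.node (.node (.node (.node (.node (.node (.node (.word [2,3,6,5,3,1]) (.word [1,2,3,6,4,3,2,3,6,3])) (.word [6,1,2,3,2,3,2])) (.node (.word [5,4,3,6,1,2,3,2,3]) (.word [5,3,2,3,6,2,3,0]))) (.node (.node (.word [6,3,5,2,3,2,1]) (.word [6,2,3,2,3,5,4,3,2])) (.node (.word [4,3,2,3,1,2,3,6,1,0]) (.word [3,1,2,3,1,2,3,5,4,3,0])))) (.node (.node (.node (.word [6,3,1,0]) (.word [2,3,2,3,2])) (.node (.word [2,3,6,1,2,3,2,3,0]) (.word [3,2,3,6,5,3,2,3]))) (.node (.node (.word [3,0,1,2,3,6,3,1]) (.word [6,4,3,1,2,3,5,4,3,0])) (.node (.word [3,4,2,3,0,1,2,3,6]) (.word [2,3,1,2,3,6,3,2,3]))))) (.node (.node (.node (.node (.word [6,5,3,0]) (.word [1,2,3,4,2,3,2,0]))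 (.node (.word [5,6,3,1,2,3,6,0]) (.word [6,4,3,2,3,6,2,3]))) (.node (.node (.word [3,6,2,3,2,3]) (.word [4,3,2,3,6,0])) (.node (.word [4,2,3,6]) (.word [2,3,1,2,3,5,3,2,3,2,0])))) (.node (.node (.node (.word [3,6,4,2,3]) (.word [6,3,1,2,3,5,2,3])) (.node (.word [3,6,3,2,3,0,1,2,3,2,3]) (.word [0,1,2,3,5,4,3,2,3,2]))) (.node (.node (.word [3,6,2,3,0]) (.word [0,1,2,3,6,4,1,2,3,2,3])) (.node (.word [3,2,3,1,2,3,0,1,2,3,6]) (.word [5,6,3,2,3,5,4,3,2])))))) (.node (.node (.node (.node (.node (.word [1,2,3,2,3,5,6,3,1,2,3,6]) (.word [6,3,2,3,4,3,2,3])) (.node (.word [1,2,0]) (.word [5,4,3,2,3,6,3,0]))) (.node (.node (.word [1,2,3,0]) (.word [6,3,1,2,3,0,1,2,3,6])) (.node (.word [4,3,6,4,3,2,3])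 (.word [3,6,5,2,3,2,3,2])))) (.node (.node (.node (.word [3,5,2,3,6,1]) (.word [4,3,2,3,5,4,2,3])) (.node (.word [3,4,3,2,3,2,3,1,2,3,6,0]) (.word [4,2,3,1,2]))) (.node (.node (.word [5,2,3,6,3,0,1,2,3,2,3]) (.word [1,2,3,2,3,4,1,2,3,5,2,3])) (.node (.word [1,2,3,6,2,3,1,2,3,6]) (.word [5,1,2,3,4,2,3,5,2,3]))))) (.node (.node (.node (.node (.word [2,3,5,2,3,6,1]) (.word [2,3,6,3,4,1,2,3,1,2,3,2])) (.node (.word [3,6,5,1,2,3,2,3]) (.word [2,3,6,2,3,1,2,3,0]))) (.node (.node (.word [0,1,2,3,6,1]) (.word [2,3,4,2,3,1,2,3,6,0])) (.node (.word [3,2,3,5,4,2,3,6,4,3]) (.word [6,3,2,3,6,4,3,2,3])))) (.node (.node (.node (.word [2,1,0]) (.word [6,3,4,2,3,6,3])) (.node (.word [4,3,6,2,3,0])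 (.word [2,3,1,2,3,4,1,2,3,5,2,3]))) (.node (.node (.word [4,3,6,3,2,3]) (.word [5,2,3,6,4,3,1,2,3,2])) (.node (.word [6,2,3,2,3,1,2,3,6,0]) (.word [2,3,6,4,3,5,2,3,2,0]))))))) (.node (.node (.node (.node (.node (.node (.word [4,1,2,3,2,3,6,4,3,1]) (.word [4,2,3,6,1,2,3,1,2,3,0])) (.node (.word [6,3,5,4,2,3,6,4,3]) (.word [4,3,2,3,6,3,2,3,0]))) (.node (.node (.word [3,1,2,3,5,3,2,3,0]) (.word [5,3,6,5,2,3,6])) (.node (.word [2,3,5,3,4,2,3]) (.word [0,1,2,3,6,1,2,3,4,2,3])))) (.node (.node (.node (.word [5,1,2,3,0,1,2,3,6,1]) (.word [5,3,2,0])) (.node (.word [4,3,6,2,3,4,2,3,2]) (.word [6,2,3,1,2,3,5,4,3]))) (.node (.node (.word [4,2,3,1,2,3,4,1,2,3,2]) (.word [3,0,1,2,3,5,2,3,0]))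 (.node (.word [4,3,2,3,6]) (.word [5,2,3,0,1,2,3,6,2,3]))))) (.node (.node (.node (.node (.word [5,2,3,6,4,3,1]) (.word [4,3,5,2,3,1,2,3,6,3,2,3,0])) (.node (.word [5,3,1,2,3,6,0]) (.word [2,3,0,1,2,3,6,2,3]))) (.node (.node (.word [4,1,2,3,6,1]) (.word [2,3,0,1,2,3,6,3,2,3,0])) (.node (.word [4,3,2]) (.word [6,5,3,2,3,6,2,3,0])))) (.node (.node (.node (.word [2,3,6,3,1]) (.word [3,4,2,3,2,3])) (.node (.word [2,3,6,2,3,1,2,3,5,4,3,0]) (.word [3,2,3,4,1,2,3,5,2,3]))) (.node (.node (.word [5,2,3,6,2,3,2,3,0]) (.word [6,3,2,3,1,2,3,6,3,0])) (.node (.word [3,5,1,2,3,2,3]) (.word [1,2,3,6,1,2,3,4,2,3])))))) (.node (.node (.node (.node (.node (.word [5,3,2,3,6,1]) (.word [4,3,5,4,3,2,3,6]))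 (.node (.word [6,2,3,4,1,2,3,2,3,0]) (.word [3,6,5,3,2,3,6,3,0]))) (.node (.node (.word [4,3,5,2,3]) (.word [2,3,4,2,3,0,1,2,3,6])) (.node (.word [4,3,5,4,3,2,3]) (.word [6,5,3,4,2,3,2,0])))) (.node (.node (.node (.word [2,3,2,3,0,1,2,3,2,3]) (.word [4,2,3,6,4,3,2,3,0])) (.node (.word [6,3,2,3,5,3,2,3,0]) (.word [4,3,5,6,3,2,3,2,3]))) (.node (.node (.word [5,0,1,2,3,6,2,3,2,3]) (.word [4,2,3,5,4,3,2,3,0])) (.node (.word [3,6,4,3,1,2,3,6,0]) (.word [5,3,1,2,3,2]))))) (.node (.node (.node (.node (.word [6,5,2,3,0]) (.word [5,2,3,6,3,2,3,0])) (.node (.word [3,5,6,3,2,3,6,0]) (.word [2,3,5,2,3,2,3]))) (.node (.node (.word [5,2,3,1,2,3,6,0]) (.word [6,3,5,2,3,6,0,1,2,3,2,3])) (.node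 (.word [1,2,3,0,1,2,3,6]) (.word [0,1,2,3,2,3,5,4,3,0])))) (.node (.node (.node (.word [6,5,2,3,1,2,3,6,1]) (.word [5,3,6,4,3,2,3])) (.node (.word [4,2,3,5,2,3,0]) (.word [6,1,2,3,2,3,0,1,2,3,6]))) (.node (.node (.word [4,2,3,6,3]) (.word [6,3,1,2,3,1,2,3,5,4,2,3])) (.node (.word [4,2,3,1,2,3,5,2,3]) (.word [5,4,3,1,2,3,6,2,3,0]))))))))

/-- A subtree. -/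
def sub82 : WTree :=
  (.node (.node (.node (.node (.node (.node (.node (.word [5,2,3,6,5,3,1]) (.word [6,2,3,4,3,2,3,2])) (.node (.word [3,5,4,3,6,2,3,2,3]) (.word [0,1,2,3,6,3,2,3,0]))) (.node (.node (.word [4,2,3,6,1,2,3,2,3,2]) (.word [5,6,3,2,3,2,3])) (.node (.word [3,6,2,3,2,3,2]) (.word [3,2,3,5,1,2,3,2,3])))) (.node (.node (.node (.word [3,1,0]) (.word [3,2,3,6,0])) (.node (.word [5,3,2,3,6,1,2,3,2,3]) (.word [6,5,3,1,2,3,2]))) (.node (.node (.word [1,2,3,6,2,3,2,3]) (.word [1,2,3,2,3,2])) (.node (.word [5,0,1,2,3,2,3]) (.word [0,1,2,3,2,3,5,4,2,3]))))) (.node (.node (.node (.node (.word [6,3,1]) (.word [4,1,2,3,1,2,3,2])) (.node (.word [3,2,3,1,2,3,6]) (.word [2,3,6,4,3,2,3,6,0])))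 (.node (.node (.word [1,2,3,6,3,1]) (.word [5,4,3,1,2,3,2,3])) (.node (.word [3,5,6,3,2,3]) (.word [2,3,2,3,5,1,2,3,2,3])))) (.node (.node (.node (.word []) (.word [4,2,3,5,4,3,2,3])) (.node (.word [6,2,3,0,1,2,3,5,2,3]) (.word [5,4,1,2,3,2,3,2]))) (.node (.node (.word [3,5,3,2,3,0]) (.word [3,4,3,2,3,5,4,2,3])) (.node (.word [3,6,3,1,2,3,1,2,3,0]) (.word [2,3,5,1,2,3,1,2,3,2])))))) (.node (.node (.node (.node (.node (.word [5,3,1]) (.word [6,3,5,3,4,3,2,3,6])) (.node (.word [5,2,3,0,1,2,3,6]) (.word [6,4,3,2,3,5,4,3,0]))) (.node (.node (.word [5,3,6,2,3,2,3,0]) (.word [3,1,2,3,1,2,3,6,3,2,3])) (.node (.word [3,1,2,3,5,2,3]) (.word [4,1,2,3,6,4,1,2,3,2,3])))) (.node (.node (.node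 (.word [3,2,3,6,3,1,2,3,2,3]) (.word [3,0,1,2,3,6,2,3])) (.node (.word [3,4,2,3,1,2,3,2]) (.word [1,2,3,2,3,6,2,3,2,3]))) (.node (.node (.word [6,3,0,1,2,3,6]) (.word [5,6,1,2,3,2,3,2])) (.node (.word [1,2,3,4,2,3,2]) (.word [2,3,5,6,3,4,2,3,2]))))) (.node (.node (.node (.node (.word [2,3,4,2,3,6,1,2,3,2,3,2]) (.word [4,1,2,3,6,2,3,0])) (.node (.word [5,1,2,3,1,2,3,0]) (.word [2,3,4,3,2,3,5,2,3]))) (.node (.node (.word [6,4,2,3,1,2,3,6]) (.word [5,3,6,3,1,2,3,4,2,3])) (.node (.word [3,1,2,3,6,0]) (.word [5,4,2,3,2,3,2])))) (.node (.node (.node (.word [6,3,0,1,2,3,6,1]) (.word [4,2,3,2,3,5,4,3])) (.node (.word [2,3,6,3,1,2,3,0]) (.word [5,4,2,3,1,2,3,5,4,3,0]))) (.node (.node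 (.word [4,3,5,3,2,3]) (.word [4,3,2,3,4,1,2,3,5,2,3])) (.node (.word [2,3,1,2,3,6,2,3,2,3]) (.word [4,1,2,3,1,2,3,5,4,2,3]))))))) (.node (.node (.node (.node (.node (.node (.word [5,4,3,2,3,6,4,3,1]) (.word [2,3,2,3,5,1,2,3,2,3,2])) (.node (.word [4,1,2,3,6,3,1]) (.word [2,3,6,3,5,3,2,3,0]))) (.node (.node (.word [3,1,2,3,5,3,2,3]) (.word [3,1,2,3,0,1,2,3,6])) (.node (.word [3,4,2,3,6,2,3]) (.word [6,3,5,6,3,4,2,3,2,0])))) (.node (.node (.node (.word [5,6,2,3,1,2,3,6,1]) (.word [1,2,3,6,3,2,3])) (.node (.word [4,3,6,1,2,3,1,2,3,0]) (.word [5,3,1,2,3,6,3,2,3]))) (.node (.node (.word [6,3,2,3,4,1,2,3,6,1]) (.word [3,4,2,3,2,3,1,2,3,6])) (.node (.word [3,6,2,3,1,2,3,6,0]) (.word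 [5,3,6,5,3,2,3,2]))))) (.node (.node (.node (.node (.word [4,3,1,2,3,6,1]) (.word [1,2,3,4,2,3,0,1,2,3,6])) (.node (.word [6,4,2,3,1,2,3,4,2,3]) (.word [2,3,6,2,3,4,2,3]))) (.node (.node (.word [2,3,1,2,3,5,4,3,1]) (.word [4,2,3,2,3,1,2,3,6])) (.node (.word [3,2,3,6,2,3,2,3]) (.word [3,1,2,3,6,4,3,2,3])))) (.node (.node (.node (.word [2,3,6,1,0]) (.word [5,2,3,2,3,6,3])) (.node (.word [3,6,2,3,4,1,2,3,1,2,3,2]) (.word [2,3,1,2,3,5,1,2,3,0]))) (.node (.node (.word [4,3,5,4,2,3]) (.word [4,3,5,3,2,3,2,0])) (.node (.word [1,2,3,2,3,0]) (.word [1,2,3,1,2,3,5,3,2,3,2,0])))))) (.node (.node (.node (.node (.node (.word [2,3,0,1,2,3,6,4,3,1]) (.word [3,6,4,3,0,1,2,3,6])) (.node (.word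 [5,4,3,2,3,6]) (.word [2,3,1,2,3,6,2,3]))) (.node (.node (.word [4,2,3,6,4,3]) (.word [5,2,3,2,3,1,2,3,6])) (.node (.word [0,1,2,3,6,3]) (.word [3,5,3,2,3,2,0])))) (.node (.node (.node (.word [6,3,0]) (.word [3,5,6,3,4,2,3])) (.node (.word [3,0,1,2,3,6]) (.word [6,3,5,3,2,3,2,0]))) (.node (.node (.word [3,2,3,5,3,2,3]) (.word [4,2,3,6,2,3,1,2,3,0])) (.node (.word [4,2,3,2,3,1,2,3,6,1]) (.word [1,2,3,6,4,3,2,3,6]))))) (.node (.node (.node (.node (.word [6,3]) (.word [4,2,3,1,2,3,0])) (.node (.word [3,1,2,3,6,2,3,2,3]) (.word [3,4,3,2,3,2,3]))) (.node (.node (.word [1,2,3,5,4,3,0]) (.word [3,6,3,2,3,1,2,3,0])) (.node (.word [3,5,2,3,0,1,2,3,6]) (.word [2,3,6,5,3,2])))) (.node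 (.node (.node (.word [5,6,1,2,3,2,3]) (.word [4,2,3,2])) (.node (.word [3,2,3,6,3,0]) (.word [3,1,2,3,1,2,3,5,4,2,3]))) (.node (.node (.word [6,2,3,2,3]) (.word [2,3,2,3,1,2,3,5,4,2,3])) (.node (.word [3,2,3,1,2,3,6,2,3,2,3,0]) (.word [3,2,3,5,2,3,2,3,6,3]))))))))

/-- A subtree. -/
def sub83 : WTree :=
  (.node (.node sub79 sub80) (.node sub81 sub82))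

/-- A subtree. -/
def sub84 : WTree :=
  (.node (.node (.node (.node (.node (.node (.node (.node (.word [2,3,2,3,6,5,3,1]) (.word [6,2,3,1,2,3,6,3,2,3])) (.word [6,3,1,2,3,4,1,2,3,2])) (.node (.word [1,2]) (.word [2,3,6,4,3,1,2,3,5,4,3,0]))) (.node (.node (.word [5,2,3,6,1]) (.word [3,2,3,4,2,3,1,2,3,6])) (.node (.word [5,6,3,2,3,0]) (.word [3,5,3,4,3,2,3,2,0])))) (.node (.node (.node (.word [4,3]) (.word [4,3,5,4,3,2,3,0])) (.node (.word [1,2,3,6,1,2,3,2,3,0]) (.word [3,4,3,1,2,3,6,3]))) (.node (.node (.word [6,1,2,3,2,3]) (.word [1,2,3,1,2,3,5,4,3,0])) (.node (.word [3,6,3,2,3,0,1,2,3,6]) (.word [6,3,1,2,3,6,3,2,3]))))) (.node (.node (.node (.node (.word [6,3,5,2,3,1,2,3,6,4,3,1])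 (.word [3,0,1,2,3,6,3])) (.node (.word [5,3,1,2,3,6]) (.word [3,1,2,3,6,3,2,3]))) (.node (.node (.word [5,0,1,2,3,6,4,3]) (.word [6,3,4,2,3,2,3,0])) (.node (.word [2,3,2,3,6,3]) (.word [2,3,5,0,1,2,3,2,3,2])))) (.node (.node (.node (.word [4,3,0]) (.word [4,3,2,3,4,2,3])) (.node (.word [1,2,3,5,2,3,0]) (.word [5,2,3,4,1,2,3,5,2,3]))) (.node (.node (.word [6,3,1,2,3,5,3,2,3]) (.word [4,2,3,1,2,3,6,3,0])) (.node (.word [6,4,3,1,2,3,4,2,3]) (.word [3,1,2,3,5,1,2,3,2,3])))))) (.node (.node (.node (.node (.node (.word [5,2,3,0,1,2,3,6,4,3,1]) (.word [4,2,3,2,3,1,2,3,6,0])) (.node (.word [5,3,2,1]) (.word [3,4,2,3,2,3,0]))) (.node (.node (.word [3,2,3,6,2,3,1,2,3,2,3]) (.word [4,3,2,3,2,3,1,2,3,6]))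 (.node (.word [4,2,3,6,3,2,3]) (.word [6,3,5,4,3,2,3,2])))) (.node (.node (.node (.word [6,4,3,1,2,3,6,1]) (.word [5,3,2,3,6,2,3])) (.node (.word [1,2,3,4,1,2,3,1,2,3,2]) (.word [3,6,4,3,2,3,5,4,3]))) (.node (.node (.word [5,2,3,6,0,1,2,3,2,3,2]) (.word [4,3,5,2,3,1,2,3,6,3,2,3])) (.node (.word [5,6,3,2,3,1,2,3,6]) (.word [3,5,6,3,2,3,2]))))) (.node (.node (.node (.node (.word [3,5,3,2,3,6,1]) (.word [3,2,3,1,2,3,6,2,3,2,3])) (.node (.word [6,4,2,3,2,3,1,2,3,6,1]) (.word [6,5,3,6,5,3,2,3,2]))) (.node (.node (.word [5,4,2,3,0,1,2,3,6]) (.word [5,1,2,3,4,2,3,2])) (.node (.word [4,3,6,4,2,3,2,3]) (.word [2,3,6,5,3,2,3,2,0])))) (.node (.node (.node (.word [4,2,3,6,1]) (.word [5,4,3,2,3,6,3]))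 (.node (.word [2,3,6,4,1,2,3,1,2,3,2]) (.word [2,3,5,3,1,2,3,2,3]))) (.node (.node (.word [3,2,3,6,4,2,3]) (.word [3,4,3,2,3,2,0])) (.node (.word [5,6,3,1,2,3,2,3]) (.word [3,0,1,2,3,1,2,3,5,4,3]))))))) (.node (.node (.node (.node (.node (.node (.word [2,3,2,3,6,4,3,1]) (.word [5,3,6,3,4,1,2,3,2,3])) (.node (.word [3,6,3,2,3,2,3]) (.word [2,3,5,6,3,4,2,3]))) (.node (.node (.word [6,3,2,3,2,3,1,2,3,6,0]) (.word [2,3,5,3,4,3,2,3,2])) (.node (.word [4,2,3,6,2,3]) (.word [5,1,2,3,2,3,2])))) (.node (.node (.node (.word [3,4,2,3,6,1]) (.word [5,3,2,3,5,4,3,0])) (.node (.word [3,6,1,2,3,2,3,2]) (.word [6,3,1,2,3,2]))) (.node (.node (.word [3,2,3,1,2,3,5,2,3]) (.word [1,2,3,5,3,4,3,2,3,2]))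 (.node (.word [5,4,3,2,3,6,0]) (.word [2,3,6,4,3,2,3,6,3,0]))))) (.node (.node (.node (.node (.word [4,3,1]) (.word [3,5,3,4,3,2,3,6])) (.node (.word [4,2,3,1,2,3,4,2,3]) (.word [3,2,3,5,3,2,3,2,0]))) (.node (.node (.word [5,3,6,1]) (.word [6,2,3,5,2,3,1,2,3,6])) (.node (.word [6,5,3,1,2,3,0]) (.word [5,3,1,2,3,6,2,3,0])))) (.node (.node (.node (.word [5,4,2,3,6,4,3]) (.word [3,6,5,3,2,3])) (.node (.word [3,0,1,2,3,5,2,3]) (.word [3,1,2,3,4,2,3,1,2,3,6,0]))) (.node (.node (.word [3,6,0]) (.word [5,3,2,3,6,4,1,2,3,2,3])) (.node (.word [5,3,1,2,3,5,4,3,0]) (.word [5,2,3,0,1,2,3,6,3,2,3])))))) (.node (.node (.node (.node (.node (.word [5,3,6,4,3,1]) (.word [4,2,3,5,3,2,3,0])) (.node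 (.word [2,3,4,1,2,3,2,3,2]) (.word [3,6,4,2,3,2,3,0]))) (.node (.node (.word [2,3,6,4,2,3]) (.word [3,4,2,3,2,3,2])) (.node (.word [5,3,2,3,5,2,3]) (.word [3,1,2,3,5,4,3,2,3,6])))) (.node (.node (.node (.word [3,4,2,3,6,1,2,3,2,3,2]) (.word [4,3,5,6,3,2,3,0])) (.node (.word [6,3,5,3,2,3,6]) (.word [4,1,2,3,6,4,2,3,2,3]))) (.node (.node (.word [5,3,1,2,3,5,3,2,3,0]) (.word [4,2,3,2,3,4,1,2,3,6])) (.node (.word [5,3,4,2,3,1,2,3,6]) (.word [3,5,3,2,3,2,3,6,3]))))) (.node (.node (.node (.node (.word [3,2,3,1,2,3,5,3,2,3]) (.word [1,2,3,6,3,1,2,3,0])) (.node (.word [4,3,6,3,1,2,3,2,3]) (.word [3,2,3,4,2,3,5,2,3]))) (.node (.node (.word [2,3,1,2,3,6]) (.word [3,5,2,3,0,1,2,3,6,3,2,3,0]))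 (.node (.word [6,3,4,3,1,2,3,6]) (.word [5,3,4,2,3,2])))) (.node (.node (.node (.word [6,5,2,3,1,2,3,6]) (.word [5,4,3,2,3,5,4,3])) (.node (.word [4,3,6,3,2,3,0]) (.word [1,2,3,6,4,3,1,2,3,6,0]))) (.node (.node (.word [2,3,2,3]) (.word [6,3,4,1,2,3,6,3])) (.node (.word [1,2,3,6,2,3,2,3,0]) (.word [1,2,3,5,2,3,2,3,2]))))))))

/-- A subtree. -/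
def sub85 : WTree :=
  (.node (.node (.node (.node (.node (.node (.node (.node (.word [5,1,2,3,1,2,3,6,4,3,1]) (.word [1,2,3,6,3,4,2,3,2,3,0])) (.word [2,3,2,3,4,1,2,3,6])) (.node (.word [3,2,3,4,1,2,3,6,1]) (.word [3,4,1,2,3,6,2,3,0]))) (.node (.node (.word [3,5,6,3,1,2,3,6]) (.word [3,2,3,5,4,3,2])) (.node (.word [6,3,2,3,4,1,2,3,2]) (.word [3,6,4,3,1,2,3,5,4,3,0])))) (.node (.node (.node (.word [3,5,4,3,1]) (.word [3,1,2,3,6,3,0])) (.node (.word [3,6,2,3,5,3,2,3]) (.word [4,2,3,6,5,3,2,3]))) (.node (.node (.word [1,2,3,2,3,1,2,3,2,3]) (.word [2,3,6,4,1,2,3,2,3])) (.node (.word [3,5,2,3,2,3,1,2,3,6]) (.word [5,4,2,3,2,3,6,2,3]))))) (.node (.node (.node (.node (.word [5,6,3])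 (.word [3,6,3,4,1,2,3,1,2,3,2])) (.node (.word [6,5,3,2,3,1,2,3,6]) (.word [5,6,3,2,3,6,2,3]))) (.node (.node (.word [3,6,5,2,3,6,4,3]) (.word [3,4,3,2,3,6])) (.node (.word [3,1,2,3,5,4,3]) (.word [5,1,2,3,1,2,3,2])))) (.node (.node (.node (.word [2,3]) (.word [3,2,3,1,2,3,2])) (.node (.word [6,5,3,1,2,3,5,3,2,3]) (.word [3,2,3,1,2,3,6,3,2,3]))) (.node (.node (.word [4,3,6,1,2,3,0]) (.word [3,6,1,2,3,4,2,3,2,0])) (.node (.word [5,2,3,2,3,0,1,2,3,6]) (.word [3,5,3,4,3,1,2,3,2])))))) (.node (.node (.node (.node (.node (.word [3,6,5,3,0]) (.word [0,1,2,3,2,3,5,4,3,2])) (.node (.word [6,1,2,3,0,1,2,3,6]) (.word [1,2,3,2,3,5,4,3,0]))) (.node (.node (.word [3,6,3,0]) (.word [5,3,2,3,4,1,2,3,6]))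 (.node (.word [2,3,4,3,2,3]) (.word [5,2,3,4,3,2,3,2])))) (.node (.node (.node (.word [2,3,5,2,3,1,0]) (.word [3,4,1,2,3,6,2,3])) (.node (.word [5,3,6,3,0,1,2,3,2,3]) (.word [4,3,2,3,2]))) (.node (.node (.word [5,6,3,5,2,3,6]) (.word [5,3,2,3,4,2,3,1,2,3,6])) (.node (.word [2,3,6,3,2,3,1,2,3,6]) (.word [1,2,3,5,4,3,2,3]))))) (.node (.node (.node (.node (.word [4,2,3,6,4,3,1]) (.word [3,2,3,6,2,3,0])) (.node (.word [1,2,3,2,3]) (.word [4,3,6,5,3,2,3]))) (.node (.node (.word [5,6,3,2,3,6]) (.word [6,2,3,2,3,0,1,2,3,6])) (.node (.word [4,3,6,2,3,4,3,2,3]) (.word [2,3,5,4,3,1,2,3,0])))) (.node (.node (.node (.word [1,2,3,0,1,2,3,6,1]) (.word [4,3,1,2,3,5,4,3])) (.node (.word [4,3,5,1,2,3,0])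 (.word [2,3,1,2,3,6,3,2,3,0]))) (.node (.node (.word [5,3,4,2,3]) (.word [3,1,2,3,5,3,2,3,2,0])) (.node (.word [2,3,1,2,3,2,0]) (.word [3,1,2,3,6,1,2,3,4,2,3]))))))) (.node (.node (.node (.node (.node (.node (.word [3,6,5,3,1,0]) (.word [2,3,6,1,2,3,4,2,3,2,0])) (.node (.word [3,6,2,3,4,3,2,3]) (.word [3,5,4,3,1,2,3,0]))) (.node (.node (.word [4,2,3,1,2,3,5,3,2,3]) (.word [5,3,1,2,0])) (.node (.word [0,1,2,3,6,2,3]) (.word [6,3,1,2,3,4,1,2,3,5,2,3])))) (.node (.node (.node (.word [4,3,1,2,3,5,4,3,1]) (.word [5,3,4,2,3,5,4,2,3])) (.node (.word [3,6,1,2,3,4,2,3,2]) (.word [6,5,3,1,2,3,5,4,3]))) (.node (.node (.word [2,3,6,1,2,3,2,3,2]) (.word [1,2,3,1,2,3,6,2,3,2,3])) (.node (.word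 [5,3,1,2,3,2,3]) (.word [3,6,5,3,2,3,2]))))) (.node (.node (.node (.node (.word [3,6,2,1,0]) (.word [4,3,2,3,6,4,1,2,3,2,3])) (.node (.word [2,3,1,2,3,4,2,3]) (.word [4,3,6,5,3,2,3,0]))) (.node (.node (.word [6,1,2,1]) (.word [1,2,3,1,2,3,6,3,2,3,0])) (.node (.word [1,2,3,4,2,3,1,2,3,2]) (.word [1,2,3,5,6,3,4,2,3])))) (.node (.node (.node (.word [2,3,5,4,3,1]) (.word [5,3,1,2,3,6,3])) (.node (.word [6,3,2,3,5,3,2,3]) (.word [2,3,6,3,4,1,2,3,2,3,0]))) (.node (.node (.word [6,5,3,6,2,3,2,3,0]) (.word [4,3,1,2,3,2])) (.node (.word [4,1,2,3,2,3,0]) (.word [1,2,3,5,1,2,3,1,2,3,2])))))) (.node (.node (.node (.node (.node (.word [2,3,5,3,2,3,6,1]) (.word [4,3,5,2,3,2,0])) (.node (.word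 [6,0,1,2,3,2,3]) (.word [3,2,3,6,5,3,2]))) (.node (.node (.word [2,3,6,3]) (.word [1,2,3,5,2,3,6,1,2,3,2,3])) (.node (.word [6,5,3,2,3]) (.word [3,4,3,1,2,3,2])))) (.node (.node (.node (.word [2,3,2,3,6,2,3,1,2,3,2,3]) (.word [3,2,3,6,4,3,2,3,0])) (.node (.word [6,5,3,2,3,5,3,2,3,0]) (.word [3,5,3,4,3,2,3,2]))) (.node (.node (.word [0,1,2,3,6,1,2,3,2,3,0]) (.word [6,2,3,4,2,3,2])) (.node (.word [3,4,2,3,1,2,3,6,0]) (.word [5,1,2,3,1,2,3,5,4,3]))))) (.node (.node (.node (.node (.word [5,3,0]) (.word [6,2,3,1,2,3,0])) (.node (.word [0,1,2,3,5,3,2,3,0]) (.word [2,3,6,5,3,2,3]))) (.node (.node (.word [6,2,3,2,3,1,2,3,6,1]) (.word [4,3,2,3,1,2,3,5,4,2,3])) (.node (.word [3,2,3,2,3,1,2,3,6])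 (.word [3,5,4,3,2,3,5,4,3,0])))) (.node (.node (.node (.word [3,5,6,2,3,1,2,3,6,1]) (.word [3,6,5,3,1,2,3,0])) (.node (.word [6,3,5,3,2,3,0]) (.word [4,3,2,3,1,2,3,5,4,3]))) (.node (.node (.word [5,3,6]) (.word [3,2,3,6,4,1,2,3,2,3])) (.node (.word [3,5,2,3,1,2,3,5,2,3]) (.word [5,6,3,1,2,3,6,2,3,0]))))))))

/-- A subtree. -/
def sub86 : WTree :=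
  (.node (.node (.node (.node (.node (.node (.node (.node (.word [5,1,2,3,2,3,6,4,3,1]) (.word [1,2,3,4,3,1,2,3,5,2,3])) (.word [3,6,4,1,2,3,2,3,2])) (.node (.word [5,2,3,6,1,2,3,2,3]) (.word [4,3,2,3,6,2,3,0]))) (.node (.node (.word [4,3,2,3,6,3,1]) (.word [3,4,2,3,5,1,2,3,0])) (.node (.word [3,2,0]) (.word [0,1,2,3,1,2,3,5,4,3,0])))) (.node (.node (.node (.word [6,5,3,6,4,3]) (.word [3,6,3,5,3,2,3,0])) (.node (.word [4,3,6,1,2,3,2,3,0]) (.word [6,4,3,2,3,2,0]))) (.node (.node (.word [5,2,3,2,1]) (.word [5,4,3,1,2,3,5,4,3,0])) (.node (.word [2,3,4,3,1,2,3,2,3]) (.word [6,5,3,1,2,3,6,2,3]))))) (.node (.node (.node (.node (.word [1,2,3,4,2,3,6,1,2,3,2,3,2]) (.word [3,2,3,4,3,2,3]))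 (.node (.word [4,3,1,2,3,6]) (.word [5,4,3,2,3,6,2,3]))) (.node (.node (.word [5,4,3,6,2,3,2,3]) (.word [3,5,4,3,2,3,6,0])) (.node (.word [3,4,2,3,6,3]) (.word [1,2,3,6,4,3,0,1,2,3,6])))) (.node (.node (.node (.word [5,4,2,3]) (.word [4,3,1,2,3,5,2,3])) (.node (.word [6,2,3,0,1,2,3,2,3]) (.word [5,3,6,2,3,1,2,3,5,4,3]))) (.node (.node (.word [2,3,6,2,3,0,1,2,3,2,3]) (.word [5,0,1,2,3,2,3,2])) (.node (.word [3,5,2,3,6,0,1,2,3,2,3]) (.word [3,4,2,3,1,2])))))) (.node (.node (.node (.node (.node (.word [1,2,3,2,3,1,2,3,5,3,2,3]) (.word [3,2,3,2,3,5,1,2,3,2,3,2])) (.node (.word [6,1,2]) (.word [5,3,4,1,2,3,2]))) (.node (.node (.word [3,6,1,2,3,0]) (.word [6,5,2,3,2,3,0,1,2,3,6]))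 (.node (.word [5,6,3,4,2,3]) (.word [6,3,4,2,3,2])))) (.node (.node (.node (.word [1,2,3,6,2,3,1,0]) (.word [2,3,2,3,5,4,2,3])) (.node (.word [2,3,2,3,1,2,3,6,0]) (.word [3,2,3,6,5,2,3,6]))) (.node (.node (.word [3,6,3,0,1,2,3,2,3]) (.word [2,3,2,3,6,1,2,3,4,2,3])) (.node (.word [4,3,2,3,1,2,3,6,0]) (.word [0,1,2,3,4,2,3,5,2,3]))))) (.node (.node (.node (.node (.word [6,3,2,3,6,1]) (.word [6,2,3,5,4,3,1,2,3,6,3,0])) (.node (.word [3,1,2,3,5,4,3,0]) (.word [4,1,2,3,6,4,3,2,3]))) (.node (.node (.word [6,2,3,0,1,2,3,6,1]) (.word [5,1,2,3,2,3,1,2,3,6,1])) (.node (.word [4,3,6,4,3,2,3,2,3]) (.word [4,3,6,5,3,2,3,2,0])))) (.node (.node (.node (.word [6,2,1]) (.word [6,2,3,1,2,3,2]))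 (.node (.word [2,3,6,2,3,0]) (.word [6,1,2,3,2,3,1,2,3,6]))) (.node (.node (.word [6,3,4,2,3]) (.word [3,2,3,5,0,1,2,3,2,3,2])) (.node (.word [2,3,1,2,3,5,2,3,0]) (.word [1,2,3,6,3,4,2,3,2,3]))))))) (.node (.node (.node (.node (.node (.node (.word [1,2,3,1,2,3,6,4,3,1]) (.word [5,3,2,3,1,2,3,6,3,0])) (.node (.word [3,6,4,2,3,1,2,3,0]) (.word [4,2,3,6,5,3,2,3,2,0]))) (.node (.node (.word [5,6,3,0,1,2,3,6]) (.word [4,3,6,5,2,3,6])) (.node (.word [4,2,3,5,4,2,3]) (.word [3,4,1,2,3,2])))) (.node (.node (.node (.word [6,2,1,0]) (.word [4,3,2,0])) (.node (.word [4,2,3,2,3,5,3,2,3]) (.word [5,2,3,1,2,3,5,4,3]))) (.node (.node (.word [3,0,1,2,3,5,3,2,3]) (.word [3,1,2,3,2,0])) (.node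 (.word [3,5,4,3,2,3,6]) (.word [5,4,3,0,1,2,3,6,2,3]))))) (.node (.node (.node (.node (.word [5,3,6,2,3,1,0]) (.word [4,3,5,2,3,1,2,3,5,2,3])) (.node (.word [6,4,3,1,2,3,6,0]) (.word [1,2,3,6,4,3,1,2,3,0]))) (.node (.node (.word [1,2,3,6,1,0]) (.word [3,2,3,1,2,3,6,3,2,3,0])) (.node (.word [2,3,2]) (.word [6,4,3,2,3,6,2,3,0])))) (.node (.node (.node (.word [3,5,2,3,1,0]) (.word [5,3,2,3,2,3])) (.node (.word [4,3,6,2,3,1,2,3,5,4,3,0]) (.word [3,2,3,6,4,3,1,2,3,6]))) (.node (.node (.word [3,2,3,1,2,3,6,1,0]) (.word [2,3,0,1,2,3,6,3])) (.node (.word [3,6,4,1,2,3,2,3]) (.word [1,2,3,6,3,4,1,2,3,2,3,0])))))) (.node (.node (.node (.node (.node (.word [3,1,2,3,6,4,3,1]) (.word [3,5,2,3,6]))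 (.node (.word [6,3,4,1,2,3,2,3,2]) (.word [3,2,3,2,3,6,3,2,3]))) (.node (.node (.word [2,3,5,2,3]) (.word [3,2,3,4,3,1,2,3,2,3])) (.node (.word [6,2,3,5,3,2,3]) (.word [6,3,4,2,3,2,0])))) (.node (.node (.node (.word [2,3,1,2,3,5,3,2,3,0]) (.word [3,4,3,2,3,6,2,3])) (.node (.word [5,3,2,3,5,3,2,3,0]) (.word [5,3,2,3,5,4,3,2]))) (.node (.node (.word [3,0,1,2,3,6,2,3,2,3]) (.word [2,3,5,4,3,1,2,3,2])) (.node (.word [5,3,2,3,6,0]) (.word [3,6,4,3,1,2,3,2]))))) (.node (.node (.node (.node (.word [3,1,2,3,2,3,6,3,1,2,3,2,3]) (.word [3,4,2,3,6,1,2,3,0])) (.node (.word [5,4,2,3,6,1,2,3,2,3]) (.word [2,3,5,4,3,2,3]))) (.node (.node (.word [6,4,2,3,1,2,3,6,0]) (.word [3,2,3,4,2,3,0,1,2,3,6]))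 (.node (.word [5,3,2,3,0,1,2,3,6,1]) (.word [1,2,3,5,2,3,2,3])))) (.node (.node (.node (.word [2,3,1,2,3,6,1]) (.word [4,3,5,6,3,2,3])) (.node (.word [3,2,3,5,2,3,0]) (.word [4,1,2,3,2,3,0,1,2,3,6]))) (.node (.node (.word [3,2,3,6,3]) (.word [6,3,4,1,2,3,5,2,3])) (.node (.word [2,3,1,2,3,6,2,3,2,3,0]) (.word [5,2,3,1,2,3,6,2,3,0]))))))))

/-- A subtree. -/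
def sub87 : WTree :=
  (.node (.node (.node (.node (.node (.node (.node (.word [2,3,6,5,3,1,0]) (.word [4,2,3,5,4,3,2,3,2,0])) (.node (.word [4,3,2,3,1,2,3,2,0]) (.word [3,0,1,2,3,6,2,3,0]))) (.node (.node (.word [6,3,2,3,6,1,2,3,2,3]) (.word [6,4,3,2,3,2,3])) (.node (.word [5,3,6,2,3,2,3,2]) (.word [1,2,3,5,1,2,3,2,3])))) (.node (.node (.node (.word [1]) (.word [6,3,2,3,6,3,0])) (.node (.word [1,2,3,2,3,1,2,3,6,1,0]) (.word [5,3,4,2,3,2,0]))) (.node (.node (.word [3,2,3,1,2,3,2,3]) (.word [3,6,4,1,2,3,2,3,0])) (.node (.word [6,1,2,3,4,2,3]) (.word [1,2,3,1,2,3,5,4,2,3]))))) (.node (.node (.node (.node (.word [5,6,3,1,0]) (.word [5,3,4,3,1,2,3,6])) (.node (.word [3,6,3,2,3,1,2,3,6])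 (.word [4,2,3,2,3,5,4,2,3]))) (.node (.node (.word [3,6,1,0]) (.word [3,5,3,1,2,3,2,3])) (.node (.word [6,3,2,3,5,4,3]) (.word [5,3,2,3,5,1,2,3,2,3])))) (.node (.node (.node (.word [4,3,6,4,3]) (.word [6,3,4,2,3,5,2,3])) (.node (.word [2,3,5,4,3,1,2,3,6]) (.word [6,4,2,3,1,2,3,5,4,3]))) (.node (.node (.word [4,3,5,2,3,0]) (.word [3,2,3,5,1,2,3,2,3,2])) (.node (.word [1,2,3,5,3,4,3,2,3,2,0]) (.word [5,1,2,3,4,1,2,3,5,2,3])))))) (.node (.node (.node (.node (.node (.word [6,4,3,1]) (.word [4,2,3,1,2,3,2])) (.node (.word [6,4,2,3,0,1,2,3,6]) (.word [5,4,3,2,3,5,4,3,0]))) (.node (.node (.word [2,3,1,2,3,6,1,0]) (.word [4,2,3,6,2,3,0,1,2,3,6])) (.node (.word [0,1,2,3,5,2,3]) (.word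 [1,2,3,6,1,2,3,1,2,3,0])))) (.node (.node (.node (.word [6,4,3,5,2,3,2,1]) (.word [5,3,1,2,3,6,4,2,3])) (.node (.word [5,6,3,4,2,3,6]) (.word [3,6,5,3,2]))) (.node (.node (.word [6,5,3,0,1,2,3,6]) (.word [6,1,2,3,1,2,3,2])) (.node (.word [3,2,3,4,2,3,2]) (.word [1,2,3,6,5,3,2,3]))))) (.node (.node (.node (.node (.word [6,2,3,2,3,6,3,1,2,3,2,3]) (.word [4,2,3,5,1,2,3,0])) (.node (.word [6,0,1,2,3,2,3,0]) (.word [2,3,4,1,2,3,5,2,3]))) (.node (.node (.word [5,6,2,3,1,2,3,6,0]) (.word [4,3,6,3,1,2,3,4,2,3])) (.node (.word [5,3,1,2,1]) (.word [0,1,2,3,5,4,3,2,3,0])))) (.node (.node (.node (.word [5,3,1,2,3,5,4,3,1]) (.word [3,2,3,2,3,5,4,3])) (.node (.word [4,2,3,6,1,2,3,0]) (.word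 [2,3,5,3,0,1,2,3,2,3]))) (.node (.node (.word [2,3,5,3,2,3]) (.word [4,3,1,2,3,6,3,0])) (.node (.word [3,6,3,2,3,1,2,3,2,3]) (.word [5,3,6,3,5,3,2,3,2,0]))))))) (.node (.node (.node (.node (.node (.node (.word [5,4,3,2,3,6,1]) (.word [1,2,3,5,3,4,3,2,3,6])) (.node (.word [0,1,2,3,6,3,1]) (.word [3,6,5,3,2,3,0]))) (.node (.node (.word [5,0,1,2,3,6,1,2,3,2,3]) (.word [5,3,2,3,2,3,1,2,3,6])) (.node (.word [5,3,2,3,6,4,2,3]) (.word [6,2,3,4,1,2,3,5,2,3])))) (.node (.node (.node (.word [4,2,3,1,2,3,6,1]) (.word [3,1,2,3,6,2,3])) (.node (.word [3,6,0,1,2,3,2,3,0]) (.word [5,1,2,3,2,3,5,4,3]))) (.node (.node (.word [3,6,0,1,2,3,2,3,2]) (.word [4,3,6,1,2,3,4,2,3])) (.node (.word [5,4,3,1,2,3,6,0])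 (.word [5,3,2,3,6,5,3,2,3]))))) (.node (.node (.node (.node (.word [5,3,1,2,3,6,1]) (.word [4,1,2,3,2,3,4,1,2,3,6])) (.node (.word [6,3,1,2,3,4,2,3]) (.word [2,3,6,5,3,2,3,2]))) (.node (.node (.word [2,3,0,1,2,3,6,1]) (.word [1,2,3,2,3,1,2,3,6])) (.node (.word [4,2,3,6,2,3,2,3]) (.word [2,3,0,1,2,3,6,2,3,0])))) (.node (.node (.node (.word [3,1,2,3,6,1,0]) (.word [4,2,3,2,3,6,3])) (.node (.word [0,1,2,3,2,3,4,1,2,3,6]) (.word [3,2,3,5,4,3,2,3,6]))) (.node (.node (.word [2,3,5,4,2,3]) (.word [3,6,2,3,4,2,3,6])) (.node (.word [1,2,3,1,2,3,0]) (.word [5,3,0,1,2,3,6,3,2,3,0])))))) (.node (.node (.node (.node (.node (.word [2,3,2,3,5,6,3,1,2,3,6]) (.word [4,1,2,3,5,2,3,0])) (.node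 (.word [6,3,2,3,6]) (.word [5,6,2,3,2,3,2]))) (.node (.node (.word [5,6,2,3,2,3]) (.word [3,6,2,3,2,3,1,2,3,6])) (.node (.word [6,4,3,2,3]) (.word [5,3,4,3,2,3,2,0])))) (.node (.node (.node (.word [5,2,3,0]) (.word [3,6,2,3,4,2,3])) (.node (.word [6,3,0,1,2,3,6,3]) (.word [5,6,3,4,2,3,2,0]))) (.node (.node (.word [3,5,0,1,2,3,6,1,2,3,2,3]) (.word [2,3,4,3,2,3,2])) (.node (.word [2,3,2,3,0,1,2,3,6]) (.word [2,3,1,2,3,2,3,5,4,3]))))) (.node (.node (.node (.node (.word [5,2,3]) (.word [3,2,3,1,2,3,0])) (.node (.word [6,3,2,3,1,2,3,2,3]) (.word [5,3,2,3,2,0]))) (.node (.node (.word [1,2,3,6]) (.word [2,3,5,3,4,3,2,3,2,0])) (.node (.word [6,5,3,2,3,0,1,2,3,6]) (.word [3,5,2,3,6,5,3,2,3,2]))))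 (.node (.node (.node (.word [1,2,3,5,2,3,2,1]) (.word [3,2,3,2])) (.node (.word [1,2,3,6,3,0]) (.word [2,3,1,2,3,1,2,3,5,4,2,3]))) (.node (.node (.word [6,5,2,3,2,3]) (.word [2,3,2,3,1,2,3,5,2,3,2,0])) (.node (.word [2,3,6,2,3,1,2,3,5,4,3]) (.word [3,5,6,3,2,3,5,4,3,2]))))))))

/-- A subtree. -/
def sub88 : WTree :=
  (.node (.node sub84 sub85) (.node sub86 sub87))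

/-- A subtree. -/
def sub89 : WTree :=
  (.node (.node (.node (.node (.node (.node (.node (.node (.word [3,2,3,6,5,3,1]) (.word [1,2,3,2,3,5,3,2,3,2,0])) (.word [3,5,3,2,3,6,1,2,3,2,3])) (.node (.word [6,2]) (.word [3,1,2,3,6,2,3,0]))) (.node (.node (.word [4,2,3,5,2,3,2,1]) (.word [2,3,2,3,6,2,3,2,3])) (.node (.word [6,2,3,2,3,0]) (.word [1,2,3,6,3,1,2,3,1,2,3,0])))) (.node (.node (.node (.word [5,2,3,6,4,3]) (.word [5,4,3,2,3,0])) (.node (.word [2,3,1,2,3,5,2,3]) (.word [3,6,5,3,2,3,2,0]))) (.node (.node (.word [3,4,1,2,3,6,4,3]) (.word [4,2,3,1,2,3,5,4,3,0])) (.node (.word [3,4,1,2,3,2,3,2]) (.word [5,2,3,1,2,3,6,2,3]))))) (.node (.node (.node (.node (.word [1,2,3,2,3,6,3,1,2,3,2,3])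 (.word [5,2,3,1,2,3,5,2,3,0])) (.node (.word [3,1,2,3,6]) (.word [4,2,3,2,3,6,2,3]))) (.node (.node (.word [2,3,4,1,2,3,6,1]) (.word [3,6,1,2,3,4,2,3])) (.node (.word [5,3,2,3,6,3]) (.word [3,6,5,3,2,3,5,4,3,0])))) (.node (.node (.node (.word [5,2,3,6,4,3,0]) (.word [3,5,3,4,3,2,3])) (.node (.word [3,0,1,2,3,2,3]) (.word [2,3,6,2,3,4,1,2,3,6]))) (.node (.node (.word [6,2,3,4,1,2,3,1,2,3,2]) (.word [0,1,2,3,1,2,3,2])) (.node (.word [3,6,1,2,3,2,3,1,2,3,6,1]) (.word [2,3,6,3,4,2,3,2,3])))))) (.node (.node (.node (.node (.node (.word [2,3,1,2,3,6,4,3,1]) (.word [3,4,2,3,2,3,0,1,2,3,6])) (.node (.word [4,1,2,3,6]) (.word [4,2,3,2,3,6,3,0]))) (.node (.node (.word [6,2,3,0]) (.word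 [3,6,3,4,1,2,3,2,3])) (.node (.word [6,2,3,4,2,3]) (.word [2,3,5,4,3,2,3,0])))) (.node (.node (.node (.word [1,2,3,6,4,3]) (.word [3,2,3,6,3,2,3])) (.node (.word [1,2,3,5,3,4,3,1,2,3,6]) (.word [2,3,6,4,2,3,2,3]))) (.node (.node (.word [3,2,3,2,3,1,2,3,6,0]) (.word [3,6,2,3,1,2,3,5,4,3])) (.node (.word [2,3,5,2,3,1,2,3,6]) (.word [1,2,3,4,1,2,3,5,2,3]))))) (.node (.node (.node (.node (.word [6,5,3,2,3,6,1]) (.word [3,5,4,3,1,2,3,6,3,0])) (.node (.word [1,2,3,5,4,3,2,3,2,0]) (.word [3,2,3,6,4,3,2,3,6]))) (.node (.node (.word [5,2,3,1,2,3,5,4,3,1]) (.word [2,3,6,4,3,1,2,3,6,0])) (.node (.word [6,3,2,3,2,3]) (.word [6,2,3,5,4,3,2,3,0])))) (.node (.node (.node (.word [6,1,2,1,0])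 (.word [6,5,3,2,3,6,3])) (.node (.word [3,6,2,3,0,1,2,3,2,3]) (.word [6,4,3,1,2,3,6,3,0]))) (.node (.node (.word [2,3,6,3,4,2,3]) (.word [3,5,2,3,2,0])) (.node (.word [1,2,3,2,3,5,4,3,2]) (.word [1,2,3,6,3,2,3,1,2,3,0]))))))) (.node (.node (.node (.node (.node (.node (.word [3,5,1,2,3,1,2,3,6,4,3,1]) (.word [2,3,1,2,3,6,3,0])) (.node (.word [4,3,6,3,2,3,2,3]) (.word [4,3,6,3,5,3,2,3,2,0]))) (.node (.node (.word [2,3,6,3,0,1,2,3,2,3]) (.word [4,3,6,2,3,4,2,3])) (.node (.word [1,2,3,5,4,2,3]) (.word [3,1,2,3,5,4,3,2,3,6,0])))) (.node (.node (.node (.word [3,6,5,3,6,1]) (.word [6,4,2,3,2,3,0])) (.node (.word [5,2,3,6,1,2,3,2,3,2]) (.word [1,2,3,1,2,3,5,4,3]))) (.node (.node (.word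 [4,2,3,6,1,2,3,2,3,0]) (.word [2,3,1,2,3,2,3,6,3,2,3])) (.node (.word [6,4,3,2,3,6]) (.word [1,2,3,6,2,3,4,2,3]))))) (.node (.node (.node (.node (.word [6,2,3,1,0]) (.word [5,2,3,0,1,2,3,5,2,3,0])) (.node (.word [6,5,3,2,3,6,0]) (.word [4,1,2,3,6,4,3,2,3,0]))) (.node (.node (.word [1,2,1]) (.word [3,6,5,2,3,2,3,1,2,3,6])) (.node (.word [5,2,3,1,2,3,0]) (.word [3,1,2,3,6,3,2,3,0])))) (.node (.node (.node (.word [3,6,5,3,6]) (.word [3,2,3,2,0])) (.node (.word [4,1,2,3,2,3,1,2,3,6,0]) (.word [3,6,1,2,3,2,3,1,2,3,6]))) (.node (.node (.word [5,6,2,3,2,3,0]) (.word [6,2,3,4,2,3,2,0])) (.node (.word [6,1,2,3,1,2,3,0]) (.word [3,1,2,3,4,1,2,3,5,2,3])))))) (.node (.node (.node (.node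 (.node (.word [5,3,0,1,2,3,6,4,3,1]) (.word [3,5,3,2,3,6])) (.node (.word [6,3,2,3,2,3,1,2,3,6]) (.word [4,2,3,2,0]))) (.node (.node (.word [3,6,3,4,2,3]) (.word [3,4,1,2,3,2,3,0])) (.node (.word [3,4,2,3,5,2,3]) (.word [5,3,1,2,3,6,4,1,2,3,2,3])))) (.node (.node (.node (.word [3,2,3,6,3,0,1,2,3,2,3]) (.word [2,3,6,5,3,1,2,3,2])) (.node (.word [4,3,5,3,2,3,6]) (.word [2,3,5,4,3,2]))) (.node (.node (.word [2,3,0,1,2,3,2,3]) (.word [6,3,5,4,3,1,2,3,2])) (.node (.word [6,3,2,3,1,2,3,6,0]) (.word [3,2,3,5,2,3,2,3,2]))))) (.node (.node (.node (.node (.word [2,3,2,3,6,3,1,2,3,2,3]) (.word [2,3,5,3,6,3,2,3])) (.node (.word [6,5,2,3,6,1,2,3,2,3]) (.word [3,6,4,3,2,3,6,3]))) (.node (.node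 (.word [4,2,3,1,2,3,6]) (.word [5,3,1,2,3,1,2,3,5,4,2,3])) (.node (.word [6,2,3,4,1,2,3,6]) (.word [6,3,4,1,2,3,2])))) (.node (.node (.node (.word [5,4,2,3,1,2,3,6]) (.word [6,5,3,2,3,5,4,3])) (.node (.word [4,3,1,2,3,0]) (.word [1,2,3,4,2,3,1,2,3,6,0]))) (.node (.node (.word [6,3,2,3]) (.word [6,4,1,2,3,1,2,3,2])) (.node (.word [6,2,3,1,2,3,5,2,3]) (.word [5,3,6,4,3,2,3,2]))))))))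

/-- A subtree. -/
def sub90 : WTree :=
  (.node (.node (.node (.node (.node (.node (.node (.word [1,2,3,2,3,6,4,3,1]) (.word [6,4,3,5,4,3,2,3,2,0])) (.node (.word [6,3,2,3,1,2,3,2,0]) (.word [4,1,2,3,5,6,3,2,3]))) (.node (.node (.word [2,3,2,3,1,2,3,2,3]) (.word [3,5,6,3,2,3,2,3])) (.node (.word [4,3,2,3,4,1,2,3,2]) (.word [3,5,0,1,2,3,2,3,2])))) (.node (.node (.node (.word [3,6,2,3,1,0]) (.word [4,3,2,3,6,3,0])) (.node (.word [4,3,1,2,3,4,1,2,3,2]) (.word [5,4,3,1,2,3,2,0]))) (.node (.node (.word [3,5,6,3,2,3,6]) (.word [3,5,1,2,3,2,3,0])) (.node (.word [3,6,3,4,1,2,3,2,3,2]) (.word [6,5,2,3,2,3,6,2,3]))))) (.node (.node (.node (.node (.word [5,3]) (.word [6,3,5,3,2,3,6,1,2,3,2,3]))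 (.node (.word [2,3,6,2,3,1,2,3,6]) (.word [6,3,1,2,3,5,4,2,3]))) (.node (.node (.word [6,5,3,6]) (.word [2,3,6,4,3,1,2,3,6])) (.node (.word [4,3,2,3,5,4,3]) (.word [0,1,2,3,1,2,3,5,4,2,3])))) (.node (.node (.node (.word [3,5,4,3]) (.word [2,3,4,2,3,5,2,3])) (.node (.word [3,4,1,2,3,1,2,3,2]) (.word [2,3,2,3,1,2,3,6,3,2,3]))) (.node (.node (.word [3,1,2,3,0]) (.word [1,2,3,5,4,3,2,3,6])) (.node (.word [2,3,5,4,3,2,3,2,0]) (.word [5,3,4,3,2,3,2])))))) (.node (.node (.node (.node (.node (.word [5,3,6,5,3]) (.word [6,3,4,2,3,6])) (.node (.word [3,2,3,0,1,2,3,6,1]) (.word [5,2,3,2,3,5,4,3,0]))) (.node (.node (.word [2,3,6,4,3,0]) (.word [3,2,3,0,1,2,3,6,3,2,3])) (.node (.word [5,3,4,3,2,3])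 (.word [4,3,2,3,6,4,3,2,3])))) (.node (.node (.node (.word [2,3,5,2,3,2,1]) (.word [2,3,1,2,3,6,4,2,3])) (.node (.word [5,4,2,3,6,0,1,2,3,2,3]) (.word [3,4,2,3,2]))) (.node (.node (.word [3,4,2,3,5,2,3,2,0]) (.word [3,6,4,2,3,2,3,2])) (.node (.word [2,3,2,3,1,2,3,6]) (.word [3,6,4,3,2,3,2]))))) (.node (.node (.node (.node (.word [3,6,4,3,5,2,3,2,1]) (.word [2,3,6,3,2,3,0])) (.node (.word [4,1,2,3,2,3]) (.word [6,3,5,4,3,2,3]))) (.node (.node (.word [6,3,1,2,3,6]) (.word [3,6,3,2,3,4,2,3])) (.node (.word [5,6,2,3,4,2,3]) (.word [3,5,2,3,2,3,2])))) (.node (.node (.node (.word [3,0,1,2,3,6,1]) (.word [6,3,1,2,3,5,4,3])) (.node (.word [1,2,3,6,1,2,3,0]) (.word [5,2,3,0,1,2,3,6,3,2,3,0])))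 (.node (.node (.word [3,2,3,5,2,3]) (.word [3,5,3,0,1,2,3,2,3])) (.node (.word [5,3,0,1,2,3,5,2,3,0]) (.word [0,1,2,3,6,3,4,2,3,2,3]))))))) (.node (.node (.node (.node (.node (.node (.word [3,2,3,6,2,1,0]) (.word [1,2,3,5,4,3,1,2,3,6])) (.node (.word [6,5,2,3,6]) (.word [3,5,4,3,2,3,0]))) (.node (.node (.word [3,2,3,0,1,2,3,5,2,3]) (.word [3,6,2,3,4,1,2,3,6])) (.node (.word [3,5,6,3,2,3,0]) (.word [4,3,1,2,3,6,1,2,3,4,2,3])))) (.node (.node (.node (.word [5,6,2,3,1,2,3,6]) (.word [2,3,2,3,6,5,3,2])) (.node (.word [6,0,1,2,3,2,3,2]) (.word [0,1,2,3,2,3,5,4,3]))) (.node (.node (.word [2,3,5,6,3,5,2,3,6]) (.word [2,3,1,2,3,1,2,3,2])) (.node (.word [3,4,3,1,2,3,6]) (.word [4,3,5,6,3,2,3,2])))))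 (.node (.node (.node (.node (.word [3,0,1,2,3,6,4,3,1]) (.word [6,3,4,2,3,2,3,1,2,3,6,0])) (.node (.word [2,3,2,3,1,2,3,6,1]) (.word [3,6,5,3,1,2,3,2]))) (.node (.node (.word [6,0]) (.word [5,2,3,1,2,3,5,4,3,0])) (.node (.word [4,3,6,1,2,3,2,3]) (.word [4,3,0,1,2,3,6,2,3,0])))) (.node (.node (.node (.word [1,0]) (.word [6,5,3,2,3,2,0])) (.node (.word [5,3,1,2,3,5,2,3]) (.word [2,3,5,0,1,2,3,2,3]))) (.node (.node (.word [4,3,6,2,3]) (.word [6,4,2,3,1,2,3,2])) (.node (.word [6,4,1,2,3,2,3,0]) (.word [3,1,2,3,5,1,2,3,1,2,3,2])))))) (.node (.node (.node (.node (.node (.word [2,3,6,4,3,1]) (.word [5,4,3,6,5,2,3,6])) (.node (.word [5,6,3,2,3,6,0]) (.word [6,3,2,3,2]))) (.node (.node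 (.word [3,6]) (.word [3,2,3,4,2,3,1,2,3,6,0])) (.node (.word [3,2,3,2,3]) (.word [1,2,3,5,1,2,3,2,3,2])))) (.node (.node (.node (.word [5,6,2,3,0]) (.word [4,3,2,3,6,3,2,3])) (.node (.word [6,4,3,0,1,2,3,6]) (.word [4,2,3,6,2,3,4,2,3]))) (.node (.node (.word [2,3,0,1,2,3,5,2,3]) (.word [6,3,4,3,2,3,2])) (.node (.word [3,2,3,1,2,3,6,0]) (.word [5,4,2,3,1,2,3,5,4,3]))))) (.node (.node (.node (.node (.word [5,6,2,3]) (.word [5,6,3,1,2,3,0])) (.node (.word [4,1,2,3,6,2,3,2,3]) (.word [1,2,3,5,4,3,2,3,0]))) (.node (.node (.word [6,3,1,2,3,4,2,3,2]) (.word [2,3,5,4,3,2,3,2])) (.node (.word [6,3,4,1,2,3,2,3]) (.word [2,3,6,4,2,3,2,3,0])))) (.node (.node (.node (.word [1,2,3,6,1]) (.word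 [4,3,1,2])) (.node (.word [4,3,2,3,0]) (.word [2,3,1,2,3,6,4,1,2,3,2,3]))) (.node (.node (.word [3,2,3,5,4,3]) (.word [6,3,4,2,3,2,3,1,2,3,6,1])) (.node (.word [2,3,4,2,3,2,3,1,2,3,6]) (.word [5,4,3,6,5,3,2,3,2,0]))))))))

/-- A subtree. -/
def sub91 : WTree :=
  (.node (.node (.node (.node (.node (.node (.node (.node (.word [6,3,2,3,6,5,3,1]) (.word [4,1,2,3,6,3,2,3,4,2,3])) (.word [5,3,6,1,2,3,2,3,2])) (.node (.word [3,6,1,2,3,2,3]) (.word [6,3,2,3,6,2,3,0]))) (.node (.node (.word [4,3,5,2,3,2,1]) (.word [4,2,3,6,4,2,3,2,3])) (.node (.word [3,6,1,2,3,2,3,0]) (.word [5,2,3,1,2,3,6,3,2,3,0])))) (.node (.node (.node (.word [5,2,3,1,0]) (.word [4,2,3,2,3,0])) (.node (.word [4,2,3,2,3,1,2,3,6,1,0])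 (.word [5,3,2,3,2,3,6,3]))) (.node (.node (.word [3,6,3,1,2,3,2,3]) (.word [1,2,3,2,3,6,3,2,3,0])) (.node (.word [2,3,1,2,3,2,3,1,2,3,6]) (.word [4,3,6,5,3,4,2,3,2]))))) (.node (.node (.node (.node (.word [5,3,6,5,3,0]) (.word [5,3,0,1,2,3,6,3])) (.node (.word [6,2,3,1,2,3,6,0]) (.word [6,5,3,2,3,6,2,3]))) (.node (.node (.word [6,5,3,6,2,3,2,3]) (.word [3,6,4,3,2,3,6])) (.node (.word [3,2,3,6]) (.word [6,3,5,3,2,3,2,3])))) (.node (.node (.node (.word [4,2,3]) (.word [3,4,1,2,3,5,2,3])) (.node (.word [2,3,0,1,2,3,6,2,3,2,3]) (.word [6,0,1,2,3,2,3,0,1,2,3,6]))) (.node (.node (.word [3,5,1,2,3,0]) (.word [2,3,6,1,2,3,1,2,3,0])) (.node (.word [3,6,4,2,3,1,2,3,5,4,3,0]) (.word [3,5,2,3,1,2,3,6,2,3,0]))))))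 (.node (.node (.node (.node (.node (.word [1,2,3,0,1,2,3,6,4,3,1]) (.word [6,1,2,3,4,2,3,2,0])) (.node (.word [6,5,3,4,1,2,3,6]) (.word [6,4,3,2,3,6,3,0]))) (.node (.node (.word [3,5,2,3,0]) (.word [5,3,2,3,0,1,2,3,6])) (.node (.word [1,2,3,4,2,3]) (.word [5,2,3,6,3,4,2,3,2,3])))) (.node (.node (.node (.word [3,2,3,5,4,3,1]) (.word [3,6,4,3,2,3,6,0])) (.node (.word [2,3,2,3,5,3,2,3]) (.word [3,1,2,3,2]))) (.node (.node (.word [2,3,6,0,1,2,3,2,3]) (.word [3,0,1,2,3,1,2,3,2])) (.node (.word [3,2,3,6,2,3,1,2,3,6]) (.word [2,3,6,4,3,2,3,6,3]))))) (.node (.node (.node (.node (.word [2,3,2,3,5,4,3,1]) (.word [3,5,4,3,6,5,2,3,6])) (.node (.word [6,4,1,2,3,2,3]) (.word [6,3,5,2,3,2,3,0])))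 (.node (.node (.word [0,1,2,3,5,2,3,2,1]) (.word [1,2,3,2,3,0,1,2,3,6])) (.node (.word [3,6,3,4,2,3,1,2,3,2]) (.word [3,2,3,6,4,3,2,3,6,0])))) (.node (.node (.node (.word [5,2,3,0,1,2,3,6,1]) (.word [3,4,2,3,6])) (.node (.word [3,6,3,2,3,0]) (.word [5,6,1,2,3,2,3,1,2,3,6]))) (.node (.node (.word [2,3,4,2,3]) (.word [3,4,1,2,3,5,2,3,0])) (.node (.word [3,2,3,4,1,2,3,2]) (.word [1,2,3,6,4,1,2,3,2,3,0]))))))) (.node (.node (.node (.node (.node (.node (.word [3,6,5,3]) (.word [3,6,1,2,3,1,2,3,0])) (.node (.word [6,3,4,2,3,1,2,3,2]) (.word [3,6,4,3,1,2,3,0]))) (.node (.node (.word [3,2,3,0,1,2,3,2,3]) (.word [2,3,1,2,0])) (.node (.word [4,1,2,3,6,2,3]) (.word [4,2,3,6,1,2,3,4,2,3]))))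 (.node (.node (.node (.word [5,3,0,1,2,3,6,1]) (.word [6,3,5,4,3,2,3,6,3,0])) (.node (.word [2,3,2,3,5,3,2,3,0]) (.word [5,4,3,1,2,3,5,4,3]))) (.node (.node (.word [3,2,3,6,1,2,3,2,3]) (.word [3,4,2,3,1,2,3,2,3])) (.node (.word [1,2,3,5,1,2,3,0]) (.word [5,1,2,3,6,5,3,2,3,2]))))) (.node (.node (.node (.node (.word [5,4,3,6,4,3,1]) (.word [6,3,2,3,1,2,3,5,4,2,3])) (.node (.word [5,3,2,3,1,2,3,6,1]) (.word [5,3,0,1,2,3,6,2,3]))) (.node (.node (.word [6,5,2,3,6,1]) (.word [4,1,2,3,6,2,3,1,2,3,6])) (.node (.word [5,3,2]) (.word [6,3,2,3,6,3,2,3,0])))) (.node (.node (.node (.word [4,3,6,3,1]) (.word [2,3,1,2,3,6,3])) (.node (.word [4,2,3,2,3,6,4,1,2,3,2,3]) (.word [3,5,4,3,1,2,3,2,0])))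 (.node (.node (.word [5,4,3,6,2,3,2,3,0]) (.word [5,1,2,3,4,2,3,2,0])) (.node (.word [3,1,2,3,2,3]) (.word [3,2,3,5,0,1,2,3,2,3])))))) (.node (.node (.node (.node (.node (.word [4,3,2,3,6,1]) (.word [2,3,4,2,3,6])) (.node (.word [0,1,2,3,6]) (.word [3,2,3,6,4,3,1,2,3,0]))) (.node (.node (.word [3,5,3,2,3]) (.word [6,3,2,3,4,1,2,3,6])) (.node (.word [5,2,3,2,3]) (.word [3,6,5,3,2,3,2,3])))) (.node (.node (.node (.word [0,1,2,3,6,1,2,3,2,3]) (.word [2,3,6,4,3,2,3,0])) (.node (.word [4,2,3,5,2,3,2,0]) (.word [5,6,3,5,4,3,2,3,2]))) (.node (.node (.word [4,3,1,2,3,5,3,2,3]) (.word [6,3,5,4,3,2,3,2,0])) (.node (.word [4,3,1,2,3,6,0]) (.word [5,4,3,2,3,2]))))) (.node (.node (.node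 (.node (.word [5,6,3,0]) (.word [4,2,3,6,3,2,3,0])) (.node (.word [4,3,5,6,3,2,3,6]) (.word [3,5,3,2,3,2,3]))) (.node (.node (.word [3,2,3,1,2,3,6,1]) (.word [2,3,1,2,3,0,1,2,3,6])) (.node (.word [2,3,4,1,2,3,2,3]) (.word [5,1,2,3,2,3,5,4,3,0])))) (.node (.node (.node (.word [6,3,2,3,1,2,3,6,1]) (.word [5,4,2,3,1,2,3,0])) (.node (.word [4,3,5,3,2,3,0]) (.word [2,3,6,3,2,3,4,2,3]))) (.node (.node (.word [2,3,6]) (.word [3,5,2,3,1,2,3,6,3,2,3,0])) (.node (.word [5,2,3,1,2,3,5,2,3]) (.word [6,5,3,1,2,3,6,2,3,0]))))))))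

/-- A subtree. -/
def sub92 : WTree :=
  (.node (.node (.node (.node (.node (.node (.node (.word [5,3,2,3,6,4,3,1]) (.word [4,3,6,2,3,1,2,3,0])) (.node (.word [4,3,6,2,3,2,3]) (.word [3,4,2,3,5,6,3,2,3]))) (.node (.node (.word [4,3,6,0,1,2,3,2,3,2]) (.word [6,3,5,3,4,3,2,3,2])) (.node (.word [1,2,3,6,2,3]) (.word [2,3,5,1,2,3,2,3,0])))) (.node (.node (.node (.word [3,2,3,6,1,0]) (.word [2,3,2,3,5,4,3,0])) (.node (.word [4,3,6,2,3,2,3,2]) (.word [5,2,3,1,2,3,2]))) (.node (.node (.word [2,3,5,6,3,1,2,3,6,0]) (.word [3,6,4,3,1,2,3,2,3])) (.node (.word [0,1,2,3,2,3]) (.word [4,1,2,3,2,3,5,4,2,3]))))) (.node (.node (.node (.node (.word [5,4,3,1]) (.word [6,3,0,1,2,3,5,2,3])) (.node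 (.word [3,1,2,3,4,2,3,2]) (.word [6,2,3,2,3,5,4,2,3]))) (.node (.node (.word [4,2,3,6,3,1]) (.word [6,3,1,2,3,6,3,0])) (.node (.word [3,6,5,2,3,2,3]) (.word [2,3,1,2,3,6,2,3,0])))) (.node (.node (.node (.word [5,1,2,3,6,4,3]) (.word [3,5,4,3,2,3])) (.node (.word [3,5,3,4,3,1,2,3,6]) (.word [6,3,2,3,1,2,3,1,2,3,2]))) (.node (.node (.word [3,2,3,0]) (.word [4,3,1,2,3,5,4,2,3])) (.node (.word [2,3,1,2,3,5,4,3,0]) (.word [1,2,3,6,2,3,4,1,2,3,6])))))) (.node (.node (.node (.node (.node (.word [6,5,3,1,0]) (.word [6,3,4,3,2,3,6])) (.node (.word [3,6,2,3,0,1,2,3,6]) (.word [6,5,3,2,3,5,4,3,0]))) (.node (.node (.word [3,6,2,3]) (.word [6,3,2,3,0,1,2,3,6])) (.node (.word [4,1,2,3,5,2,3])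 (.word [4,2,3,1,2,3,5,4,2,3])))) (.node (.node (.node (.word [2,3,5,6,3,1,2,3,6]) (.word [0,1,2,3,6,3,2,3])) (.node (.word [6,4,3,2,3,5,3,2,3]) (.word [6,3,2,3,5,4,3,2]))) (.node (.node (.word [5,4,3,0,1,2,3,6]) (.word [1,2,3,2,3,6,5,3,2])) (.node (.word [3,1,2,3,1,2,3,0]) (.word [5,3,6,5,3,2,3,2,0]))))) (.node (.node (.node (.node (.word [5,3,2,3,6,3,1,2,3,2,3]) (.word [1,2,3,5,6,3,2,3])) (.node (.word [6,1,2,3,2,3,0]) (.word [3,5,2,3,1,2,3,2]))) (.node (.node (.word [5,2,3,1,2,3,6]) (.word [1,2,3,5,4,3,2,3,2])) (.node (.word [3,4,1,2,3,6]) (.word [6,5,2,3,2,3,2])))) (.node (.node (.node (.word [0,1,2,3,6,4,3]) (.word [5,2,3,2,3,5,4,3])) (.node (.word [5,3,6,3,2,3,0]) (.word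 [4,1,2,3,2,3,1,2,3,6]))) (.node (.node (.word [5,3,2,3]) (.word [2,3,2,3,4,1,2,3,5,2,3])) (.node (.word [3,1,2,3,6,2,3,2,3,0]) (.word [1,2,3,4,1,2,3,5,2,3,0]))))))) (.node (.node (.node (.node (.node (.node (.word [3,2,3,6,4,3,1]) (.word [4,3,0,1,2,3,5,2,3])) (.node (.word [3,1,2,1]) (.word [4,2,3,2,3,2]))) (.node (.node (.word [5,2,3,1,2,3,5,3,2,3]) (.word [3,2,3,4,1,2,3,6])) (.node (.word [3,4,2,3,6,4,2,3]) (.word [2,3,6,4,2,3,2,3,2])))) (.node (.node (.node (.word [3,1,2,3,6,1]) (.word [2,3,2,3,6,2,3])) (.node (.word [4,3,2,3,4,1,2,3,6,1]) (.word [2,3,6,4,3,2,3,6]))) (.node (.node (.word [4,3,6,0,1,2,3,2,3,0]) (.word [3,4,2,3,2,3,4,1,2,3,6])) (.node (.word [6,3,5,2,3,1,2,3,6])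 (.word [1,2,3,6,2,3,1,2,3,0]))))) (.node (.node (.node (.node (.word [5,6,3,1,2,3,6,1]) (.word [3,2,3,4,2,3,1,2,3,2,3])) (.node (.word [6,1,2,3,2,3,1,2,3,6,1]) (.word [4,3,6,5,3,2,3,2]))) (.node (.node (.word [6,5,2,3,0,1,2,3,6]) (.word [2,3,4,2,3,2])) (.node (.word [2,3,6,5,3,2,3,6,3]) (.word [6,3,0,1,2,3,6,2,3,0])))) (.node (.node (.node (.word [4,3,1,2,3,6,1,0]) (.word [5,3,1,2,3,2,0])) (.node (.word [3,6,2,3,1,2,3,2,3]) (.word [1,2,3,6,4,3,1,2,3,6]))) (.node (.node (.word [3,5,3,4,2,3]) (.word [2,3,5,3,2,3,2,0])) (.node (.word [6,2,3,1,2,3,2,3]) (.word [1,2,3,6,4,3,1,2,3,6,3,0])))))) (.node (.node (.node (.node (.node (.word [4,3,2,3,1,2,3,5,3,2,3]) (.word [5,3,0,1,2,3,2,3]))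 (.node (.word [3,6,5,3,1,2,3,6]) (.word [4,3,1,2,3,6,2,3]))) (.node (.node (.word [2]) (.word [6,3,4,3,2,3,2,3])) (.node (.word [3,1,2,3,6,3]) (.word [3,4,2,3,2,0])))) (.node (.node (.node (.word [5,4,3,0]) (.word [4,2,3,6,4,3,2,3])) (.node (.word [3,5,4,3,0,1,2,3,6]) (.word [6,3,5,2,3,2,0]))) (.node (.node (.word [1,2,3,5,3,2,3]) (.word [3,6,2,3,1,2,3,0])) (.node (.word [6,3,2,3,4,2,3]) (.word [3,5,4,3,2,3,5,4,3,2]))))) (.node (.node (.node (.node (.word [5,4,3]) (.word [5,4,3,1,2,3,0])) (.node (.word [3,5,6,3,1,2,3,6,0]) (.word [5,4,3,2,3,2,3]))) (.node (.node (.word [3,1,2,3,6,3,1]) (.word [2,3,6,3,1,2,3,1,2,3,0])) (.node (.word [2,3,6,2,3,0,1,2,3,6]) (.word [5,3,2,3,6,5,3,2]))))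 (.node (.node (.node (.word [4,1,2,3,6,4,3]) (.word [5,4,3,2])) (.node (.word [2,3,6,0]) (.word [3,5,4,3,2,3,2]))) (.node (.node (.word [5,4,2,3,2,3]) (.word [5,3,2,3,1,2,3,6,2,3,2,3])) (.node (.word [4,2,3,6,2,3,2,3,0]) (.word [1,2,3,6,4,2,3,2,3,0]))))))))

/-- A subtree. -/
def sub93 : WTree :=
  (.node (.node sub89 sub90) (.node sub91 sub92))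

/-- Points. -/
def levY0pts0 : List ℕ := [0,1,2,3,4,5,6,7,8,9,10,11,12,13,14,15,16,17,18,19,20,21,22,23,24,25,26,27,28,29,30,31,32,33,34,35,36,37,38,39,40,41,42,43,44,45,46,47,48,49,50,51,52,53,54,55,56,57,58,59,60,61,62,63,64,65,66,67,68,69,70,71,72,73,74,75,76,77,78,79,80,81,82,83,84,85,86,87,88,89,90,91,92,93,94,95,96,97,98,99,100,101,102,103,104,105,106,107,108,109,110,111,112,113,114,115,116,117,118,119,120,121,122,123,124,125,126,127,128,129,130,131,132,133,134,135,136,137,138,139,140,141,142,143,144,145,146,147,148,149,150,151,152,153,154,155,156,157,158,159,160,161,162,163,164,165,166,167,168,169,170,171,172,173,174,175,176,177,178,179,180,181,182,183,184,185,186,187,188,189,190,191,192,193,194,195,196,197,198,199]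

/-- Points. -/
def levY0pts1 : List ℕ := [200,201,202,203,204,205,206,207,208,209,210,211,212,213,214,215,216,217,218,219,220,221,222,223,224,225,226,227,228,229,230,231,232,233,234,235,236,237,238,239,240,241,242,243,244,245,246,247,248,249,250,251,252,253,254,255,256,257,258,259,260,261,262,263,264,265,266,267,268,269,270,271,272,273,274,275,276,277,278,279,280,281,282,283,284,285,286,287,288,289,290,291,292,293,294,295,296,297,298,299,300,301,302,303,304,305,306,307,308,309,310,311,312,313,314,315,316,317,318,319,320,321,322,323,324,325,326,327,328,329,330,331,332,333,334,335,336,337,338,339,340,341,342,343,344,345,346,347,348,349,350,351,352,353,354,355,356,357,358,359,360,361,362,363,364,365,366,367,368,369,370,371,372,373,374,375,376,377,378,379,380,381,382,383,384,385,386,387,388,389,390,391,392,393,394,395,396,397,398,399]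

/-- Points. -/
def levY0pts2 : List ℕ := [400,401,402,403,404,405,406,407,408,409,410,411,412,413,414,415,416,417,418,419,420,421,422,423,424,425,426,427,428,429,430,431,432,433,434,435,436,437,438,439,440,441,442,443,444,445,446,447,448,449,450,451,452,453,454,455,456,457,458,459,460,461,462,463,464,465,466,467,468,469,470,471,472,473,474,475,476,477,478,479,480,481,482,483,484,485,486,487,488,489,490,491,492,493,494,495,496,497,498,499,500,501,502,503,504,505,506,507,508,509,510,511,512,513,514,515,516,517,518,519,520,521,522,523,524,525,526,527,528,529,530,531,532,533,534,535,536,537,538,539,540,541,542,543,544,545,546,547,548,549,550,551,552,553,554,555,556,557,558,559,560,561,562,563,564,565,566,567,568,569,570,571,572,573,574,575,576,577,578,579,580,581,582,583,584,585,586,587,588,589,590,591,592,593,594,595,596,597,598,599]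

/-- Points. -/
def levY0pts3 : List ℕ := [600,601,602,603,604,605,606,607,608,609,610,611,612,613,614,615,616,617,618,619,620,621,622,623,624,625,626,627,628,629,630,631,632,633,634,635,636,637,638,639,640,641,642,643,644,645,646,647,648,649,650,651,652,653,654,655,656,657,658,659,660,661,662,663,664,665,666,667,668,669,670,671,672,673,674,675,676,677,678,679,680,681,682,683,684,685,686,687,688,689,690,691,692,693,694,695,696,697,698,699,700,701,702,703,704,705,706,707,708,709,710,711,712,713,714,715,716,717,718,719,720,721,722,723,724,725,726,727,728,729,730,731,732,733,734,735,736,737,738,739,740,741,742,743,744,745,746,747,748,749,750,751,752,753,754,755,756,757,758,759,760,761,762,763,764,765,766,767,768,769,770,771,772,773,774,775,776,777,778,779,780,781,782,783,784,785,786,787,788,789,790,791,792,793,794,795,796,797,798,799]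

/-- Points. -/
def levY0pts4 : List ℕ := [800,801,802,803,804,805,806,807,808,809,810,811,812,813,814,815,816,817,818,819,820,821,822,823,824,825,826,827,828,829,830,831,832,833,834,835,836,837,838,839,840,841,842,843,844,845,846,847,848,849,850,851,852,853,854,855,856,857,858,859,860,861,862,863,864,865,866,867,868,869,870,871,872,873,874,875,876,877,878,879,880,881,882,883,884,885,886,887,888,889,890,891,892,893,894,895,896,897,898,899,900,901,902,903,904,905,906,907,908,909,910,911,912,913,914,915,916,917,918,919,920,921,922,923,924,925,926,927,928,929,930,931,932,933,934,935,936,937,938,939,940,941,942,943,944,945,946,947,948,949,950,951,952,953,954,955,956,957,958,959,960,961,962,963,964,965,966,967,968,969,970,971,972,973,974,975,976,977,978,979,980,981,982,983,984,985,986,987,988,989,990,991,992,993,994,995,996,997,998,999]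

/-- Points. -/
def levY0pts5 : List ℕ := [1000,1001,1002,1003,1004,1005,1006,1007,1008,1009,1010,1011,1012,1013,1014,1015,1016,1017,1018,1019,1020,1021,1022,1023,1024,1025,1026,1027,1028,1029,1030,1031,1032,1033,1034,1035,1036,1037,1038,1039,1040,1041,1042,1043,1044,1045,1046,1047,1048,1049,1050,1051,1052,1053,1054,1055,1056,1057,1058,1059,1060,1061,1062,1063,1064,1065,1066,1067,1068,1069,1070,1071,1072,1073,1074,1075,1076,1077,1078,1079,1080,1081,1082,1083,1084,1085,1086,1087,1088,1089,1090,1091,1092,1093,1094,1095,1096,1097,1098,1099,1100,1101,1102,1103,1104,1105,1106,1107,1108,1109,1110,1111,1112,1113,1114,1115,1116,1117,1118,1119,1120,1121,1122,1123,1124,1125,1126,1127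,1128,1129,1130,1131,1132,1133,1134,1135,1136,1137,1138,1139,1140,1141,1142,1143,1144,1145,1146,1147,1148,1149,1150,1151,1152,1153,1154,1155,1156,1157,1158,1159,1160,1161,1162,1163,1164,1165,1166,1167,1168,1169,1170,1171,1172,1173,1174,1175,1176,1177,1178,1179,1180,1181,1182,1183,1184,1185,1186,1187,1188,1189,1190,1191,1192,1193,1194,1195,1196,1197,1198,1199]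

/-- Points. -/
def levY0pts6 : List ℕ := [1200,1201,1202,1203,1204,1205,1206,1207,1208,1209,1210,1211,1212,1213,1214,1215,1216,1217,1218,1219,1220,1221,1222,1223,1224,1225,1226,1227,1228,1229,1230,1231,1232,1233,1234,1235,1236,1237,1238,1239,1240,1241,1242,1243,1244,1245,1246,1247,1248,1249,1250,1251,1252,1253,1254,1255,1256,1257,1258,1259,1260,1261,1262,1263,1264,1265,1266,1267,1268,1269,1270,1271,1272,1273,1274,1275,1276,1277,1278,1279,1280,1281,1282,1283,1284,1285,1286,1287,1288,1289,1290,1291,1292,1293,1294,1295,1296,1297,1298,1299,1300,1301,1302,1303,1304,1305,1306,1307,1308,1309,1310,1311,1312,1313,1314,1315,1316,1317,1318,1319,1320,1321,1322,1323,1324,1325,1326,1327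,1328,1329,1330,1331,1332,1333,1334,1335,1336,1337,1338,1339,1340,1341,1342,1343,1344,1345,1346,1347,1348,1349,1350,1351,1352,1353,1354,1355,1356,1357,1358,1359,1360,1361,1362,1363,1364,1365,1366,1367,1368,1369,1370,1371,1372,1373,1374,1375,1376,1377,1378,1379,1380,1381,1382,1383,1384,1385,1386,1387,1388,1389,1390,1391,1392,1393,1394,1395,1396,1397,1398,1399]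

/-- Points. -/
def levY0pts7 : List ℕ := [1400,1401,1402,1403,1404,1405,1406,1407,1408,1409,1410,1411,1412,1413,1414,1415,1416,1417,1418,1419,1420,1421,1422,1423,1424,1425,1426,1427,1428,1429,1430,1431,1432,1433,1434,1435,1436,1437,1438,1439,1440,1441,1442,1443,1444,1445,1446,1447,1448,1449,1450,1451,1452,1453,1454,1455,1456,1457,1458,1459,1460,1461,1462,1463,1464,1465,1466,1467,1468,1469,1470,1471,1472,1473,1474,1475,1476,1477,1478,1479,1480,1481,1482,1483,1484,1485,1486,1487,1488,1489,1490,1491,1492,1493,1494,1495,1496,1497,1498,1499,1500,1501,1502,1503,1504,1505,1506,1507,1508,1509,1510,1511,1512,1513,1514,1515,1516,1517,1518,1519,1520,1521,1522,1523,1524,1525,1526,1527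,1528,1529,1530,1531,1532,1533,1534,1535,1536,1537,1538,1539,1540,1541,1542,1543,1544,1545,1546,1547,1548,1549,1550,1551,1552,1553,1554,1555,1556,1557,1558,1559,1560,1561,1562,1563,1564,1565,1566,1567,1568,1569,1570,1571,1572,1573,1574,1575,1576,1577,1578,1579,1580,1581,1582,1583,1584,1585,1586,1587,1588,1589,1590,1591,1592,1593,1594,1595,1596,1597,1598,1599]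

/-- Points. -/
def levY0pts8 : List ℕ := [1600,1601,1602,1603,1604,1605,1606,1607,1608,1609,1610,1611,1612,1613,1614,1615,1616,1617,1618,1619,1620,1621,1622,1623,1624,1625,1626,1627,1628,1629,1630,1631,1632,1633,1634,1635,1636,1637,1638,1639,1640,1641,1642,1643,1644,1645,1646,1647,1648,1649,1650,1651,1652,1653,1654,1655,1656,1657,1658,1659,1660,1661,1662,1663,1664,1665,1666,1667,1668,1669,1670,1671,1672,1673,1674,1675,1676,1677,1678,1679,1680,1681,1682,1683,1684,1685,1686,1687,1688,1689,1690,1691,1692,1693,1694,1695,1696,1697,1698,1699,1700,1701,1702,1703,1704,1705,1706,1707,1708,1709,1710,1711,1712,1713,1714,1715,1716,1717,1718,1719,1720,1721,1722,1723,1724,1725,1726,1727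,1728,1729,1730,1731,1732,1733,1734,1735,1736,1737,1738,1739,1740,1741,1742,1743,1744,1745,1746,1747,1748,1749,1750,1751,1752,1753,1754,1755,1756,1757,1758,1759,1760,1761,1762,1763,1764,1765,1766,1767,1768,1769,1770,1771,1772,1773,1774,1775,1776,1777,1778,1779,1780,1781,1782,1783,1784,1785,1786,1787,1788,1789,1790,1791,1792,1793,1794,1795,1796,1797,1798,1799]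

/-- Points. -/
def levY0pts9 : List ℕ := [1800,1801,1802,1803,1804,1805,1806,1807,1808,1809,1810,1811,1812,1813,1814,1815,1816,1817,1818,1819,1820,1821,1822,1823,1824,1825,1826,1827,1828,1829,1830,1831,1832,1833,1834,1835,1836,1837,1838,1839,1840,1841,1842,1843,1844,1845,1846,1847,1848,1849,1850,1851,1852,1853,1854,1855,1856,1857,1858,1859,1860,1861,1862,1863,1864,1865,1866,1867,1868,1869,1870,1871,1872,1873,1874,1875,1876,1877,1878,1879,1880,1881,1882,1883,1884,1885,1886,1887,1888,1889,1890,1891,1892,1893,1894,1895,1896,1897,1898,1899,1900,1901,1902,1903,1904,1905,1906,1907,1908,1909,1910,1911,1912,1913,1914,1915,1916,1917,1918,1919,1920,1921,1922,1923,1924,1925,1926,1927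,1928,1929,1930,1931,1932,1933,1934,1935,1936,1937,1938,1939,1940,1941,1942,1943,1944,1945,1946,1947,1948,1949,1950,1951,1952,1953,1954,1955,1956,1957,1958,1959,1960,1961,1962,1963,1964,1965,1966,1967,1968,1969,1970,1971,1972,1973,1974,1975,1976,1977,1978,1979,1980,1981,1982,1983,1984,1985,1986,1987,1988,1989,1990,1991,1992,1993,1994,1995,1996,1997,1998,1999]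

/-- Points. -/
def levY0pts10 : List ℕ := [2000,2001,2002,2003,2004,2005,2006,2007,2008,2009,2010,2011,2012,2013,2014,2015,2016,2017,2018,2019,2020,2021,2022,2023,2024,2025,2026,2027,2028,2029,2030,2031,2032,2033,2034,2035,2036,2037,2038,2039,2040,2041,2042,2043,2044,2045,2046,2047,2048,2049,2050,2051,2052,2053,2054,2055,2056,2057]

/-- A level. -/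
def levY0 : Level :=
  ⟨206, (.node (.node sub78 sub83) (.node sub88 sub93)), levY0pts0 ++ levY0pts1 ++ levY0pts2 ++ levY0pts3 ++ levY0pts4 ++ levY0pts5 ++ levY0pts6 ++ levY0pts7 ++ levY0pts8 ++ levY0pts9 ++ levY0pts10⟩

/-- A subtree. -/
def sub94 : WTree :=
  (.node (.node (.node (.node (.node (.node (.node (.node (.word [0,1,3,2,1,3,4,5,3,2,1,6,3,4,2,3,2,3,6,3,1,2,3,5,2,3,1,3,2,3,2,1,5,6,3,2,5,3,2,1,3,6,2,3,2,3,6,4,3,1,2,3,5,2,3,0,1,2,3,5,4,3,1,2,3,6,5,3,1,2,0,1,3,2,3,2,1,5,6,3,2,5,3,2,1,3,6,2,3,2,3,6,4,3,1,2,3,5,2,3,0,1,3,6,3,4,2,3,5,4,3,6,2,3,1,2,3,6,2]) (.word [1,3,6,3,4,2,3,5,4,3,6,2,3,1,2,3,6,2,1,3,6,3,4,2,3,5,4,3,6,2,3,1,2,3,6,2,1,3,6,3,4,2,3,5,4,3,6,2,3,1,2,3,6,2,1,2,3,5,4,3,1,2,3,6,5,3,1,2,0,1]))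 .none) (.node (.word [3,2,3,2,1,5,6,3,2,5,3,2,1,3,6,2,3,2,3,6,4,3,1,2,3,5,2,3,0,3,2,3,2,1,5,6,3,2,5,3,2,1,3,6,2,3,2,3,6,4,3,1,2,3,5,2,3,0,1,3,6,3,4,2,3,5,4,3,6,2,3,1,2,3,6,2,1,3,6,3,4,2,3,5,4,3,6,2,3,1,2,3,6,2]) (.word [1,3,6,3,4,2,3,5,4,3,6,2,3,1,2,3,6,2,1,3,6,3,4,2,3,5,4,3,6,2,3,1,2,3,6,2,0,1,3,2,1,3,4,5,3,2,1,6,3,4,2,3,2,3,6,3,1,2,3,5,2,3,2,3,5,4,3,1,2,3,6,5,3,1,2,0,3,6,3,4,2,3,5,4,3,6,2,3,1,2,3,6,2]))) (.node (.node .none (.word [1,3,5,6,3,2,1,0,3,5,4,2,3,2,3,1,2,3,6,5,2,3,2,3,5,4,3,1,2,3,6,5,3,1,2,0,1,0,1,3,2,1,3,4,5,3,2,1,6,3,4,2,3,2,3,6,3,1,2,3,5,2,6,3,4,2,3,5,4,3,6,2,3,1,2,3,6,2])) (.node (.word [1,3,6,3,4,2,3,5,4,3,6,2,3,1,2,3,6,2,1,2,3,5,4,3,1,2,3,6,5,3,1,2,0,1,3,2,3,2,1,5,6,3,2,5,3,2,1,3,6,2,3,2,3,6,4,3,1,2,3,5,2,3,0,1,2,3,5,4,3,1,2,3,6,5,3,1,2,0,2,3,5,4,3,1,2,3,6,5,3,1,2,0,1])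 (.word [0,1,3,2,1,3,4,5,3,2,1,6,3,4,2,3,2,3,6,3,1,2,3,5,2,3,1,3,2,3,2,1,5,6,3,2,5,3,2,1,3,6,2,3,2,3,6,4,3,1,2,3,5,2,3,0,1,2,3,5,4,3,1,2,3,6,5,3,1,2,0,3,6,3,4,2,3,5,4,3,6,2,3,1,2,3,6,2,1,3,6,3,4,2,3,5,4,3,6,2,3,1,2,3,6,2])))) (.node (.node (.node (.word [1,3,5,6,3,2,1,0,3,5,4,2,3,2,3,1,2,3,6,5,2,3,2,3,5,4,3,1,2,3,6,5,3,1,2,0,2,3,5,4,3,1,2,3,6,5,3,1,2,0,1,0,1,3,2,1,3,4,5,3,2,1,6,3,4,2,3,2,3,6,3,1,2,3,5,2,3,2,3,5,4,3,1,2,3,6,5,3,1,2,0,1]) (.word [1,3,5,6,3,2,1,0,3,5,4,2,3,2,3,1,2,3,6,5,2,6,3,4,2,3,5,4,3,6,2,3,1,2,3,6,2,1,0,2,3,2,6,3,2,1,0,5,3,4,2,3,2,3,5,1,2,3,6,2,5,4,3,1,2,3,6,5,3,1,2,0,1])) (.node (.word [1,3,6,3,4,2,3,5,4,3,6,2,3,1,2,3,6,2,1,3,6,3,4,2,3,5,4,3,6,2,3,1,2,3,6,2,1,3,5,6,3,2,1,0,3,5,4,2,3,2,3,1,2,3,6,5,2,6,3,4,2,3,5,4,3,6,2,3,1,2,3,6,2,1,3,6,3,4,2,3,5,4,3,6,2,3,1,2,3,6,2])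 (.word [3,2,3,2,1,5,6,3,2,5,3,2,1,3,6,2,3,2,3,6,4,3,1,2,3,5,2,3,1,3,2,1,3,4,5,3,2,1,6,3,4,2,3,2,3,6,3,1,2,3,5,2,3,2,3,5,4,3,1,2,3,6,5,3,1,2,0,3,5,6,3,2,1,0,3,5,4,2,3,2,3,1,2,3,6,5,2,6,3,4,2,3,5,4,3,6,2,3,1,2,3,6,2]))) (.node (.word [1,3,5,6,3,2,1,0,3,5,4,2,3,2,3,1,2,3,6,5,2,5,6,3,2,1,0,3,5,4,2,3,2,3,1,2,3,6,5,2,3,1,3,2,3,2,1,5,6,3,2,5,3,2,1,3,6,2,3,2,3,6,4,3,1,2,3,5,2,3,0,1,3,5,6,3,2,1,0,3,5,4,2,3,2,3,1,2,3,6,5,2,6,3,4,2,3,5,4,3,6,2,3,1,2,3,6,2]) (.node (.word [0,1,3,2,1,3,4,5,3,2,1,6,3,4,2,3,2,3,6,3,1,2,3,5,2,3,0,2,3,2,6,3,2,1,0,5,3,4,2,3,2,3,5,1,2,3,6,2,3,2,3,5,6,3,2,1,0,3,5,4,2,3,2,3,1,2,3,6,5,2,6,3,4,2,3,5,4,3,6,2,3,1,2,3,6,2,1,2,3,5,4,3,1,2,3,6,5,3,1,2,0,3,6,3,4,2,3,5,4,3,6,2,3,1,2,3,6,2])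 (.word [1,0,2,3,2,6,3,2,1,0,5,3,4,2,3,2,3,5,1,2,3,6,2,3,2,3,5,6,3,2,1,0,3,5,4,2,3,2,3,1,2,3,6,5,2,3,1,0,1,3,2,1,3,4,5,3,2,1,6,3,4,2,3,2,3,6,3,1,2,3,5,2,3,2,3,5,4,3,1,2,3,6,5,3,1,2,0,3,6,3,4,2,3,5,4,3,6,2,3,1,2,3,6,2,1,2,3,5,4,3,1,2,3,6,5,3,1,2,0,1]))))) (.node (.node (.node (.word [1,3,6,3,4,2,3,5,4,3,6,2,3,1,2,3,6,2,0,1,3,2,1,3,4,5,3,2,1,6,3,4,2,3,2,3,6,3,1,2,3,5,2,3,2,3,5,4,3,1,2,3,6,5,3,1,2,0,3,6,3,4,2,3,5,4,3,6,2,3,1,2,3,6,2,1,3,6,3,4,2,3,5,4,3,6,2,3,1,2,3,6,2]) (.node (.word [1,2,3,5,4,3,1,2,3,6,5,3,1,2,0,3,5,6,3,2,1,0,3,5,4,2,3,2,3,1,2,3,6,5,2,3,1,0,1,3,2,1,3,4,5,3,2,1,6,3,4,2,3,2,3,6,3,1,2,3,5,2,3,2,3,5,4,3,1,2,3,6,5,3,1,2,0,2,3,5,4,3,1,2,3,6,5,3,1,2,0,1]) (.word [1,3,6,3,4,2,3,5,4,3,6,2,3,1,2,3,6,2,1,2,3,5,4,3,1,2,3,6,5,3,1,2,0,3,5,6,3,2,1,0,3,5,4,2,3,2,3,1,2,3,6,5,2,3,1,3,2,3,2,1,5,6,3,2,5,3,2,1,3,6,2,3,2,3,6,4,3,1,2,3,5,2,3,0,1,2,3,5,4,3,1,2,3,6,5,3,1,2,0,1])))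 (.node (.node .none (.word [1,0,2,3,2,6,3,2,1,0,5,3,4,2,3,2,3,5,1,2,3,6,2,3,2,1,0,1,3,2,1,3,4,5,3,2,1,6,3,4,2,3,2,3,6,3,1,2,3,5,2,5,6,3,2,1,0,3,5,4,2,3,2,3,1,2,3,6,5,2,3,2,3,5,4,3,1,2,3,6,5,3,1,2,0,3,6,3,4,2,3,5,4,3,6,2,3,1,2,3,6,2,1,3,6,3,4,2,3,5,4,3,6,2,3,1,2,3,6,2])) (.node (.word [3,2,3,2,1,5,6,3,2,5,3,2,1,3,6,2,3,2,3,6,4,3,1,2,3,5,2,3,1,3,2,1,3,4,5,3,2,1,6,3,4,2,3,2,3,6,3,1,2,3,5,2,3,2,3,5,4,3,1,2,3,6,5,3,1,2,0,1]) (.word [1,3,5,6,3,2,1,0,3,5,4,2,3,2,3,1,2,3,6,5,2,5,6,3,2,1,0,3,5,4,2,3,2,3,1,2,3,6,5,2,5,6,3,2,1,0,3,5,4,2,3,2,3,1,2,3,6,5,2,6,3,4,2,3,5,4,3,6,2,3,1,2,3,6,2,1,3,6,3,4,2,3,5,4,3,6,2,3,1,2,3,6,2,1,3,6,3,4,2,3,5,4,3,6,2,3,1,2,3,6,2])))) (.node (.node .none (.node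 .none (.word [1,3,5,6,3,2,1,0,3,5,4,2,3,2,3,1,2,3,6,5,2,5,6,3,2,1,0,3,5,4,2,3,2,3,1,2,3,6,5,2,3,1,0,1,3,2,1,3,4,5,3,2,1,6,3,4,2,3,2,3,6,3,1,2,3,5,2,3,2,3,5,4,3,1,2,3,6,5,3,1,2,0,3,6,3,4,2,3,5,4,3,6,2,3,1,2,3,6,2,1,2,3,5,4,3,1,2,3,6,5,3,1,2,0,1]))) (.node (.node .none (.word [1,0,2,3,2,6,3,2,1,0,5,3,4,2,3,2,3,5,1,2,3,6,2,3,2,3,5,6,3,2,1,0,3,5,4,2,3,2,3,1,2,3,6,5,2,3,2,3,5,4,3,1,2,3,6,5,3,1,2,0,1,3,2,3,2,1,5,6,3,2,5,3,2,1,3,6,2,3,2,3,6,4,3,1,2,3,5,2,3,0,1,3,6,3,4,2,3,5,4,3,6,2,3,1,2,3,6,2])) (.node .none (.word [1,3,5,6,3,2,1,0,3,5,4,2,3,2,3,1,2,3,6,5,2,5,6,3,2,1,0,3,5,4,2,3,2,3,1,2,3,6,5,2,3,2,3,5,4,3,1,2,3,6,5,3,1,2,0,1,0,1,3,2,1,3,4,5,3,2,1,6,3,4,2,3,2,3,6,3,1,2,3,5,2,6,3,4,2,3,5,4,3,6,2,3,1,2,3,6,2]))))))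 (.node (.node (.node (.node (.node (.word [1,2,3,5,4,3,1,2,3,6,5,3,1,2,0,3,6,3,4,2,3,5,4,3,6,2,3,1,2,3,6,2,1,0,2,3,2,6,3,2,1,0,5,3,4,2,3,2,3,5,1,2,3,6,2,3,2,1,3,2,3,2,1,5,6,3,2,5,3,2,1,3,6,2,3,2,3,6,4,3,1,2,3,5,2,3,0,1,3,6,3,4,2,3,5,4,3,6,2,3,1,2,3,6,2]) (.word [1,0,2,3,2,6,3,2,1,0,5,3,4,2,3,2,3,5,1,2,3,6,2,3,2,1,3,2,3,2,1,5,6,3,2,5,3,2,1,3,6,2,3,2,3,6,4,3,1,2,3,5,2,3,0,1,0,2,3,2,6,3,2,1,0,5,3,4,2,3,2,3,5,1,2,3,6,2,3,2,3,6,3,4,2,3,5,4,3,6,2,3,1,2,3,6,2,1,3,6,3,4,2,3,5,4,3,6,2,3,1,2,3,6,2])) .none) (.node (.node (.word [3,2,3,2,1,5,6,3,2,5,3,2,1,3,6,2,3,2,3,6,4,3,1,2,3,5,2,3,0,1,3,6,3,4,2,3,5,4,3,6,2,3,1,2,3,6,2,0,1,3,2,1,3,4,5,3,2,1,6,3,4,2,3,2,3,6,3,1,2,3,5,2,6,3,4,2,3,5,4,3,6,2,3,1,2,3,6,2])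 (.word [1,2,3,5,4,3,1,2,3,6,5,3,1,2,0,3,6,3,4,2,3,5,4,3,6,2,3,1,2,3,6,2,1,3,6,3,4,2,3,5,4,3,6,2,3,1,2,3,6,2,1,2,3,5,4,3,1,2,3,6,5,3,1,2,0,2,3,5,4,3,1,2,3,6,5,3,1,2,0,1])) (.node .none (.word [1,0,2,3,2,6,3,2,1,0,5,3,4,2,3,2,3,5,1,2,3,6,2,3,2,3,5,6,3,2,1,0,3,5,4,2,3,2,3,1,2,3,6,5,2,5,6,3,2,1,0,3,5,4,2,3,2,3,1,2,3,6,5,2,6,3,4,2,3,5,4,3,6,2,3,1,2,3,6,2,1,3,6,3,4,2,3,5,4,3,6,2,3,1,2,3,6,2])))) (.node (.node (.node (.word [1,3,5,6,3,2,1,0,3,5,4,2,3,2,3,1,2,3,6,5,2,6,3,4,2,3,5,4,3,6,2,3,1,2,3,6,2,1,2,3,5,4,3,1,2,3,6,5,3,1,2,0,3,6,3,4,2,3,5,4,3,6,2,3,1,2,3,6,2]) (.word [1,3,6,3,4,2,3,5,4,3,6,2,3,1,2,3,6,2,1,3,5,6,3,2,1,0,3,5,4,2,3,2,3,1,2,3,6,5,2,3,1,3,2,3,2,1,5,6,3,2,5,3,2,1,3,6,2,3,2,3,6,4,3,1,2,3,5,2,3,1,3,2,1,3,4,5,3,2,1,6,3,4,2,3,2,3,6,3,1,2,3,5,2,6,3,4,2,3,5,4,3,6,2,3,1,2,3,6,2]))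 .none) (.node (.node (.word [1,3,5,6,3,2,1,0,3,5,4,2,3,2,3,1,2,3,6,5,2,3,1,3,2,3,2,1,5,6,3,2,5,3,2,1,3,6,2,3,2,3,6,4,3,1,2,3,5,2,3,1,3,2,1,3,4,5,3,2,1,6,3,4,2,3,2,3,6,3,1,2,3,5,2,6,3,4,2,3,5,4,3,6,2,3,1,2,3,6,2]) (.word [1,3,6,3,4,2,3,5,4,3,6,2,3,1,2,3,6,2,1,3,5,6,3,2,1,0,3,5,4,2,3,2,3,1,2,3,6,5,2,3,1,3,2,3,2,1,5,6,3,2,5,3,2,1,3,6,2,3,2,3,6,4,3,1,2,3,5,2,3,0,1,2,3,5,4,3,1,2,3,6,5,3,1,2,0,3,6,3,4,2,3,5,4,3,6,2,3,1,2,3,6,2,1,3,6,3,4,2,3,5,4,3,6,2,3,1,2,3,6,2])) (.node (.word [1,3,5,6,3,2,1,0,3,5,4,2,3,2,3,1,2,3,6,5,2,6,3,4,2,3,5,4,3,6,2,3,1,2,3,6,2,1,3,6,3,4,2,3,5,4,3,6,2,3,1,2,3,6,2,1,2,3,5,4,3,1,2,3,6,5,3,1,2,0,3,6,3,4,2,3,5,4,3,6,2,3,1,2,3,6,2]) (.word [1,2,3,5,4,3,1,2,3,6,5,3,1,2,0,3,5,6,3,2,1,0,3,5,4,2,3,2,3,1,2,3,6,5,2,3,2,3,5,4,3,1,2,3,6,5,3,1,2,0,3,6,3,4,2,3,5,4,3,6,2,3,1,2,3,6,2])))))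 (.node (.node (.node (.node .none (.word [1,2,3,5,4,3,1,2,3,6,5,3,1,2,0,1,0,1,3,2,1,3,4,5,3,2,1,6,3,4,2,3,2,3,6,3,1,2,3,5,2,3,2,3,5,4,3,1,2,3,6,5,3,1,2,0,2,3,5,4,3,1,2,3,6,5,3,1,2,0,3,6,3,4,2,3,5,4,3,6,2,3,1,2,3,6,2])) (.node .none (.word [1,3,5,6,3,2,1,0,3,5,4,2,3,2,3,1,2,3,6,5,2,3,1,0,1,3,2,1,3,4,5,3,2,1,6,3,4,2,3,2,3,6,3,1,2,3,5,2,6,3,4,2,3,5,4,3,6,2,3,1,2,3,6,2,1,2,3,5,4,3,1,2,3,6,5,3,1,2,0,3,6,3,4,2,3,5,4,3,6,2,3,1,2,3,6,2]))) (.node .none (.node (.word [0,1,3,2,1,3,4,5,3,2,1,6,3,4,2,3,2,3,6,3,1,2,3,5,2,3,1,0,1,3,2,1,3,4,5,3,2,1,6,3,4,2,3,2,3,6,3,1,2,3,5,2,3,0,2,3,2,6,3,2,1,0,5,3,4,2,3,2,3,5,1,2,3,6,2,5,4,3,1,2,3,6,5,3,1,2,0,2,3,5,4,3,1,2,3,6,5,3,1,2,0,1]) (.word [1,0,2,3,2,6,3,2,1,0,5,3,4,2,3,2,3,5,1,2,3,6,2,3,2,3,5,6,3,2,1,0,3,5,4,2,3,2,3,1,2,3,6,5,2,3,1,3,2,3,2,1,5,6,3,2,5,3,2,1,3,6,2,3,2,3,6,4,3,1,2,3,5,2,3,0,1,2,3,5,4,3,1,2,3,6,5,3,1,2,0,3,6,3,4,2,3,5,4,3,6,2,3,1,2,3,6,2]))))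 (.node (.node (.node (.word [3,2,3,2,1,5,6,3,2,5,3,2,1,3,6,2,3,2,3,6,4,3,1,2,3,5,2,3,0,1,2,3,5,4,3,1,2,3,6,5,3,1,2,0,1,3,2,3,2,1,5,6,3,2,5,3,2,1,3,6,2,3,2,3,6,4,3,1,2,3,5,2,3,0,1,3,6,3,4,2,3,5,4,3,6,2,3,1,2,3,6,2]) (.word [0,1,3,2,1,3,4,5,3,2,1,6,3,4,2,3,2,3,6,3,1,2,3,5,2,3,1,0,1,3,2,1,3,4,5,3,2,1,6,3,4,2,3,2,3,6,3,1,2,3,5,2,6,3,4,2,3,5,4,3,6,2,3,1,2,3,6,2,1,2,3,5,4,3,1,2,3,6,5,3,1,2,0,3,6,3,4,2,3,5,4,3,6,2,3,1,2,3,6,2])) (.node (.word [1,2,3,5,4,3,1,2,3,6,5,3,1,2,0,2,3,5,4,3,1,2,3,6,5,3,1,2,0,3,5,6,3,2,1,0,3,5,4,2,3,2,3,1,2,3,6,5,2,3,2,3,5,4,3,1,2,3,6,5,3,1,2,0,1]) (.word [1,2,3,5,4,3,1,2,3,6,5,3,1,3,2,6,3,2,1,0,5,3,4,2,3,2,3,5,1,2,3,6,2,3,2,3,5,6,3,2,1,0,3,5,4,2,3,2,3,1,2,3,6,5,2,5,6,3,2,1,0,3,5,4,2,3,2,3,1,2,3,6,5,2,6,3,4,2,3,5,4,3,6,2,3,1,2,3,6,2,1,3,6,3,4,2,3,5,4,3,6,2,3,1,2,3,6,2])))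 (.node (.node .none (.word [1,2,3,5,4,3,1,2,3,6,5,3,1,2,0,3,6,3,4,2,3,5,4,3,6,2,3,1,2,3,6,2,1,3,6,3,4,2,3,5,4,3,6,2,3,1,2,3,6,2,0,1,3,2,1,3,4,5,3,2,1,6,3,4,2,3,2,3,6,3,1,2,3,5,2,6,3,4,2,3,5,4,3,6,2,3,1,2,3,6,2])) (.node (.word [1,3,5,6,3,2,1,0,3,5,4,2,3,2,3,1,2,3,6,5,2,6,3,4,2,3,5,4,3,6,2,3,1,2,3,6,2,1,3,6,3,4,2,3,5,4,3,6,2,3,1,2,3,6,2]) (.word [1,2,3,5,4,3,1,2,3,6,5,3,1,2,0,1,0,1,3,2,1,3,4,5,3,2,1,6,3,4,2,3,2,3,6,3,1,2,3,5,2,6,3,4,2,3,5,4,3,6,2,3,1,2,3,6,2,0,1,3,2,1,3,4,5,3,2,1,6,3,4,2,3,2,3,6,3,1,2,3,5,2,6,3,4,2,3,5,4,3,6,2,3,1,2,3,6,2]))))))) (.node (.node (.node (.node (.node (.node (.word [1,3,5,6,3,2,1,0,3,5,4,2,3,2,3,1,2,3,6,5,2,3,2,3,5,4,3,1,2,3,6,5,3,1,2,0,1,0,1,3,2,1,3,4,5,3,2,1,6,3,4,2,3,2,3,6,3,1,2,3,5,2,3,2,3,5,4,3,1,2,3,6,5,3,1,2,0,1])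 (.word [1,0,2,3,2,6,3,2,1,0,5,3,4,2,3,2,3,5,1,2,3,6,2,5,4,3,1,2,3,6,5,3,1,2,0,1,0,1,3,2,1,3,4,5,3,2,1,6,3,4,2,3,2,3,6,3,1,2,3,5,2,3,1,3,2,3,2,1,5,6,3,2,5,3,2,1,3,6,2,3,2,3,6,4,3,1,2,3,5,2,3,0,1,2,3,5,4,3,1,2,3,6,5,3,1,2,0,3,6,3,4,2,3,5,4,3,6,2,3,1,2,3,6,2])) (.node (.word [1,3,5,6,3,2,1,0,3,5,4,2,3,2,3,1,2,3,6,5,2,3,2,3,5,4,3,1,2,3,6,5,3,1,2,0,3,5,6,3,2,1,0,3,5,4,2,3,2,3,1,2,3,6,5,2,5,6,3,2,1,0,3,5,4,2,3,2,3,1,2,3,6,5,2,6,3,4,2,3,5,4,3,6,2,3,1,2,3,6,2]) (.word [1,3,5,6,3,2,1,0,3,5,4,2,3,2,3,1,2,3,6,5,2,3,2,3,5,4,3,1,2,3,6,5,3,1,2,0,3,5,6,3,2,1,0,3,5,4,2,3,2,3,1,2,3,6,5,2,6,3,4,2,3,5,4,3,6,2,3,1,2,3,6,2,1,2,3,5,4,3,1,2,3,6,5,3,1,2,0,1]))) (.node .none (.node .none (.word [1,3,6,3,4,2,3,5,4,3,6,2,3,1,2,3,6,2,1,3,6,3,4,2,3,5,4,3,6,2,3,1,2,3,6,2]))))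 (.node (.node (.node .none (.word [])) (.word [1,3,6,3,4,2,3,5,4,3,6,2,3,1,2,3,6,2,0,1,3,2,1,3,4,5,3,2,1,6,3,4,2,3,2,3,6,3,1,2,3,5,2,3,1,0,1,3,2,1,3,4,5,3,2,1,6,3,4,2,3,2,3,6,3,1,2,3,5,2,3,2,3,5,4,3,1,2,3,6,5,3,1,2,0,3,6,3,4,2,3,5,4,3,6,2,3,1,2,3,6,2,1,3,6,3,4,2,3,5,4,3,6,2,3,1,2,3,6,2])) (.node (.word [1,0,2,3,2,6,3,2,1,0,5,3,4,2,3,2,3,5,1,2,3,6,2,3,2,1,0,1,3,2,1,3,4,5,3,2,1,6,3,4,2,3,2,3,6,3,1,2,3,5,2,3,2,3,5,4,3,1,2,3,6,5,3,1,2,0,3,6,3,4,2,3,5,4,3,6,2,3,1,2,3,6,2,1,2,3,5,4,3,1,2,3,6,5,3,1,2,0,3,6,3,4,2,3,5,4,3,6,2,3,1,2,3,6,2]) (.node .none (.word [1,3,6,3,4,2,3,5,4,3,6,2,3,1,2,3,6,2,1,3,6,3,4,2,3,5,4,3,6,2,3,1,2,3,6,2,3,2,3,2,1,5,6,3,2,5,3,2,1,3,6,2,3,2,3,6,4,3,1,2,3,5,2,3,0,1,3,6,3,4,2,3,5,4,3,6,2,3,1,2,3,6,2])))))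 (.node (.node (.node (.node (.word [0,1,3,2,1,3,4,5,3,2,1,6,3,4,2,3,2,3,6,3,1,2,3,5,2,3,0,2,3,2,6,3,2,1,0,5,3,4,2,3,2,3,5,1,2,3,6,2,3,2,3,5,6,3,2,1,0,3,5,4,2,3,2,3,1,2,3,6,5,2,6,3,4,2,3,5,4,3,6,2,3,1,2,3,6,2,1,3,6,3,4,2,3,5,4,3,6,2,3,1,2,3,6,2,1,3,6,3,4,2,3,5,4,3,6,2,3,1,2,3,6,2]) (.word [0,1,3,2,1,3,4,5,3,2,1,6,3,4,2,3,2,3,6,3,1,2,3,5,2,6,3,4,2,3,5,4,3,6,2,3,1,2,3,6,2,1,3,5,6,3,2,1,0,3,5,4,2,3,2,3,1,2,3,6,5,2,3,2,3,5,4,3,1,2,3,6,5,3,1,2,0,2,3,5,4,3,1,2,3,6,5,3,1,2,0,1])) (.node (.word [1,0,2,3,2,6,3,2,1,0,5,3,4,2,3,2,3,5,1,2,3,6,2,5,4,3,1,2,3,6,5,3,1,2,0,1,0,1,3,2,1,3,4,5,3,2,1,6,3,4,2,3,2,3,6,3,1,2,3,5,2,3,0,2,3,2,6,3,2,1,0,5,3,4,2,3,2,3,5,1,2,3,6,2,5,4,3,1,2,3,6,5,3,1,2,0,1])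 (.word [1,0,2,3,2,6,3,2,1,0,5,3,4,2,3,2,3,5,1,2,3,6,2,3,2,1,3,2,3,2,1,5,6,3,2,5,3,2,1,3,6,2,3,2,3,6,4,3,1,2,3,5,2,3,0,1,0,2,3,2,6,3,2,1,0,5,3,4,2,3,2,3,5,1,2,3,6,2,3,2,3,6,3,4,2,3,5,4,3,6,2,3,1,2,3,6,2,1,2,3,5,4,3,1,2,3,6,5,3,1,2,0,1]))) (.node (.node (.word [3,2,3,2,1,5,6,3,2,5,3,2,1,3,6,2,3,2,3,6,4,3,1,2,3,5,2,3,0,3,2,3,2,1,5,6,3,2,5,3,2,1,3,6,2,3,2,3,6,4,3,1,2,3,5,2,3,0,1,3,6,3,4,2,3,5,4,3,6,2,3,1,2,3,6,2,1,2,3,5,4,3,1,2,3,6,5,3,1,2,0,3,6,3,4,2,3,5,4,3,6,2,3,1,2,3,6,2]) (.word [1,0,2,3,2,6,3,2,1,0,5,3,4,2,3,2,3,5,1,2,3,6,2,3,2,3,5,6,3,2,1,0,3,5,4,2,3,2,3,1,2,3,6,5,2,6,3,4,2,3,5,4,3,6,2,3,1,2,3,6,2,0,1,3,2,1,3,4,5,3,2,1,6,3,4,2,3,2,3,6,3,1,2,3,5,2,6,3,4,2,3,5,4,3,6,2,3,1,2,3,6,2]))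 (.node (.word [1,2,3,5,4,3,1,2,3,6,5,3,1,2,0,2,3,5,4,3,1,2,3,6,5,3,1,3,2,6,3,2,1,0,5,3,4,2,3,2,3,5,1,2,3,6,2,3,2,3,6,3,4,2,3,5,4,3,6,2,3,1,2,3,6,2,1,2,3,5,4,3,1,2,3,6,5,3,1,2,0,1]) (.word [1,3,5,6,3,2,1,0,3,5,4,2,3,2,3,1,2,3,6,5,2,3,1,3,2,3,2,1,5,6,3,2,5,3,2,1,3,6,2,3,2,3,6,4,3,1,2,3,5,2,3,0,1,2,3,5,4,3,1,2,3,6,5,3,1,2,0,3,6,3,4,2,3,5,4,3,6,2,3,1,2,3,6,2])))) (.node (.node .none (.node .none (.word [3,2,3,2,1,5,6,3,2,5,3,2,1,3,6,2,3,2,3,6,4,3,1,2,3,5,2,3,0,1,3,5,6,3,2,1,0,3,5,4,2,3,2,3,1,2,3,6,5,2,6,3,4,2,3,5,4,3,6,2,3,1,2,3,6,2,1,3,6,3,4,2,3,5,4,3,6,2,3,1,2,3,6,2,1,3,6,3,4,2,3,5,4,3,6,2,3,1,2,3,6,2]))) (.node (.node (.word [1,3,5,6,3,2,1,0,3,5,4,2,3,2,3,1,2,3,6,5,2,5,6,3,2,1,0,3,5,4,2,3,2,3,1,2,3,6,5,2,3,2,3,5,4,3,1,2,3,6,5,3,1,2,0,2,3,5,4,3,1,2,3,6,5,3,1,2,0,1])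 (.word [1,3,5,6,3,2,1,0,3,5,4,2,3,2,3,1,2,3,6,5,2,6,3,4,2,3,5,4,3,6,2,3,1,2,3,6,2,1,0,2,3,2,6,3,2,1,0,5,3,4,2,3,2,3,5,1,2,3,6,2,3,2,1,0,1,3,2,1,3,4,5,3,2,1,6,3,4,2,3,2,3,6,3,1,2,3,5,2,6,3,4,2,3,5,4,3,6,2,3,1,2,3,6,2])) (.word [1,3,5,6,3,2,1,0,3,5,4,2,3,2,3,1,2,3,6,5,2,6,3,4,2,3,5,4,3,6,2,3,1,2,3,6,2,1,2,3,5,4,3,1,2,3,6,5,3,1,2,0,3,5,6,3,2,1,0,3,5,4,2,3,2,3,1,2,3,6,5,2,6,3,4,2,3,5,4,3,6,2,3,1,2,3,6,2]))))) (.node (.node (.node (.node (.node (.word [1,2,3,5,4,3,1,2,3,6,5,3,1,2,0,3,5,6,3,2,1,0,3,5,4,2,3,2,3,1,2,3,6,5,2,3,1,3,2,3,2,1,5,6,3,2,5,3,2,1,3,6,2,3,2,3,6,4,3,1,2,3,5,2,3,0,1,2,3,5,4,3,1,2,3,6,5,3,1,2,0,1]) (.word [0,1,3,2,1,3,4,5,3,2,1,6,3,4,2,3,2,3,6,3,1,2,3,5,2,3,2,3,5,4,3,1,2,3,6,5,3,1,2,0,3,6,3,4,2,3,5,4,3,6,2,3,1,2,3,6,2,1,3,6,3,4,2,3,5,4,3,6,2,3,1,2,3,6,2,1,3,6,3,4,2,3,5,4,3,6,2,3,1,2,3,6,2]))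 (.node (.word [1,3,6,3,4,2,3,5,4,3,6,2,3,1,2,3,6,2,1,3,6,3,4,2,3,5,4,3,6,2,3,1,2,3,6,2,1,3,5,6,3,2,1,0,3,5,4,2,3,2,3,1,2,3,6,5,2,6,3,4,2,3,5,4,3,6,2,3,1,2,3,6,2,1,0,2,3,2,6,3,2,1,0,5,3,4,2,3,2,3,5,1,2,3,6,2,3,2,3,6,3,4,2,3,5,4,3,6,2,3,1,2,3,6,2]) (.word [0,1,3,2,1,3,4,5,3,2,1,6,3,4,2,3,2,3,6,3,1,2,3,5,2,3,1,0,1,3,2,1,3,4,5,3,2,1,6,3,4,2,3,2,3,6,3,1,2,3,5,2,6,3,4,2,3,5,4,3,6,2,3,1,2,3,6,2,1,0,2,3,2,6,3,2,1,0,5,3,4,2,3,2,3,5,1,2,3,6,2,3,2,3,6,3,4,2,3,5,4,3,6,2,3,1,2,3,6,2,1,3,6,3,4,2,3,5,4,3,6,2,3,1,2,3,6,2]))) (.node .none (.node (.word [1,3,5,6,3,2,1,0,3,5,4,2,3,2,3,1,2,3,6,5,2,3,1,0,1,3,2,1,3,4,5,3,2,1,6,3,4,2,3,2,3,6,3,1,2,3,5,2,3,1,3,2,3,2,1,5,6,3,2,5,3,2,1,3,6,2,3,2,3,6,4,3,1,2,3,5,2,3,0,1,2,3,5,4,3,1,2,3,6,5,3,1,2,0,1])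 (.word [1,3,6,3,4,2,3,5,4,3,6,2,3,1,2,3,6,2,0,1,3,2,1,3,4,5,3,2,1,6,3,4,2,3,2,3,6,3,1,2,3,5,2,3,0,2,3,2,6,3,2,1,0,5,3,4,2,3,2,3,5,1,2,3,6,2,3,2,1,3,2,3,2,1,5,6,3,2,5,3,2,1,3,6,2,3,2,3,6,4,3,1,2,3,5,2,3,0,1,3,6,3,4,2,3,5,4,3,6,2,3,1,2,3,6,2])))) (.node (.node .none (.node .none (.word [1,2,3,5,4,3,1,2,3,6,5,3,1,2,0,2,3,5,4,3,1,2,3,6,5,3,1,2,0,3,6,3,4,2,3,5,4,3,6,2,3,1,2,3,6,2,1,3,6,3,4,2,3,5,4,3,6,2,3,1,2,3,6,2]))) (.node (.word [1,3,5,6,3,2,1,0,3,5,4,2,3,2,3,1,2,3,6,5,2,6,3,4,2,3,5,4,3,6,2,3,1,2,3,6,2,1,0,2,3,2,6,3,2,1,0,5,3,4,2,3,2,3,5,1,2,3,6,2,3,2,3,6,3,4,2,3,5,4,3,6,2,3,1,2,3,6,2]) (.node .none (.word [1,3,6,3,4,2,3,5,4,3,6,2,3,1,2,3,6,2,1,2,3,5,4,3,1,2,3,6,5,3,1,2,0,1,0,1,3,2,1,3,4,5,3,2,1,6,3,4,2,3,2,3,6,3,1,2,3,5,2,3,1,0,1,3,2,1,3,4,5,3,2,1,6,3,4,2,3,2,3,6,3,1,2,3,5,2,3,2,3,5,4,3,1,2,3,6,5,3,1,2,0,1])))))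 (.node (.node (.node (.node (.word [0,1,3,2,1,3,4,5,3,2,1,6,3,4,2,3,2,3,6,3,1,2,3,5,2,3,1,3,2,3,2,1,5,6,3,2,5,3,2,1,3,6,2,3,2,3,6,4,3,1,2,3,5,2,3,0,1,3,6,3,4,2,3,5,4,3,6,2,3,1,2,3,6,2]) (.word [1,2,3,5,4,3,1,2,3,6,5,3,1,2,0,3,5,6,3,2,1,0,3,5,4,2,3,2,3,1,2,3,6,5,2,3,1,0,1,3,2,1,3,4,5,3,2,1,6,3,4,2,3,2,3,6,3,1,2,3,5,2,6,3,4,2,3,5,4,3,6,2,3,1,2,3,6,2])) (.node (.word [3,2,3,2,1,5,6,3,2,5,3,2,1,3,6,2,3,2,3,6,4,3,1,2,3,5,2,3,1,3,2,1,3,4,5,3,2,1,6,3,4,2,3,2,3,6,3,1,2,3,5,2,3,1,0,1,3,2,1,3,4,5,3,2,1,6,3,4,2,3,2,3,6,3,1,2,3,5,2,6,3,4,2,3,5,4,3,6,2,3,1,2,3,6,2,1,3,6,3,4,2,3,5,4,3,6,2,3,1,2,3,6,2]) (.word [1,3,5,6,3,2,1,0,3,5,4,2,3,2,3,1,2,3,6,5,2,3,1,3,2,3,2,1,5,6,3,2,5,3,2,1,3,6,2,3,2,3,6,4,3,1,2,3,5,2,3,0,1,3,5,6,3,2,1,0,3,5,4,2,3,2,3,1,2,3,6,5,2,5,6,3,2,1,0,3,5,4,2,3,2,3,1,2,3,6,5,2,6,3,4,2,3,5,4,3,6,2,3,1,2,3,6,2,1,3,6,3,4,2,3,5,4,3,6,2,3,1,2,3,6,2])))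 (.node (.node (.word [3,2,3,2,1,5,6,3,2,5,3,2,1,3,6,2,3,2,3,6,4,3,1,2,3,5,2,3,0,1,0,2,3,2,6,3,2,1,0,5,3,4,2,3,2,3,5,1,2,3,6,2,3,2,1,3,2,3,2,1,5,6,3,2,5,3,2,1,3,6,2,3,2,3,6,4,3,1,2,3,5,2,3,0,1,2,3,5,4,3,1,2,3,6,5,3,1,2,0,2,3,5,4,3,1,2,3,6,5,3,1,2,0,1]) (.word [1,2,3,5,4,3,1,2,3,6,5,3,1,3,2,6,3,2,1,0,5,3,4,2,3,2,3,5,1,2,3,6,2,3,2,1,3,2,3,2,1,5,6,3,2,5,3,2,1,3,6,2,3,2,3,6,4,3,1,2,3,5,2,3,0,1,3,5,6,3,2,1,0,3,5,4,2,3,2,3,1,2,3,6,5,2,6,3,4,2,3,5,4,3,6,2,3,1,2,3,6,2])) (.node (.word [1,0,2,3,2,6,3,2,1,0,5,3,4,2,3,2,3,5,1,2,3,6,2,5,4,3,1,2,3,6,5,3,1,3,2,6,3,2,1,0,5,3,4,2,3,2,3,5,1,2,3,6,2,3,2,1,0,1,3,2,1,3,4,5,3,2,1,6,3,4,2,3,2,3,6,3,1,2,3,5,2,6,3,4,2,3,5,4,3,6,2,3,1,2,3,6,2]) (.word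 [0,1,3,2,1,3,4,5,3,2,1,6,3,4,2,3,2,3,6,3,1,2,3,5,2,3,0,2,3,2,6,3,2,1,0,5,3,4,2,3,2,3,5,1,2,3,6,2,3,2,3,6,3,4,2,3,5,4,3,6,2,3,1,2,3,6,2,1,2,3,5,4,3,1,2,3,6,5,3,1,2,0,1])))) (.node (.node (.word [0,1,3,2,1,3,4,5,3,2,1,6,3,4,2,3,2,3,6,3,1,2,3,5,2,3,1,0,1,3,2,1,3,4,5,3,2,1,6,3,4,2,3,2,3,6,3,1,2,3,5,2,6,3,4,2,3,5,4,3,6,2,3,1,2,3,6,2,1,3,6,3,4,2,3,5,4,3,6,2,3,1,2,3,6,2,1,3,6,3,4,2,3,5,4,3,6,2,3,1,2,3,6,2]) (.node .none (.word [1,3,5,6,3,2,1,0,3,5,4,2,3,2,3,1,2,3,6,5,2,3,1,3,2,3,2,1,5,6,3,2,5,3,2,1,3,6,2,3,2,3,6,4,3,1,2,3,5,2,3,0,1,3,6,3,4,2,3,5,4,3,6,2,3,1,2,3,6,2,1,2,3,5,4,3,1,2,3,6,5,3,1,2,0,3,6,3,4,2,3,5,4,3,6,2,3,1,2,3,6,2]))) (.node (.node (.word [1,0,2,3,2,6,3,2,1,0,5,3,4,2,3,2,3,5,1,2,3,6,2,5,4,3,1,2,3,6,5,3,1,2,0,2,3,5,4,3,1,2,3,6,5,3,1,2,0,1,0,1,3,2,1,3,4,5,3,2,1,6,3,4,2,3,2,3,6,3,1,2,3,5,2,6,3,4,2,3,5,4,3,6,2,3,1,2,3,6,2])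 (.word [1,2,3,5,4,3,1,2,3,6,5,3,1,2,0,2,3,5,4,3,1,2,3,6,5,3,1,2,0,3,6,3,4,2,3,5,4,3,6,2,3,1,2,3,6,2,3,2,3,2,1,5,6,3,2,5,3,2,1,3,6,2,3,2,3,6,4,3,1,2,3,5,2,3,0,1,3,6,3,4,2,3,5,4,3,6,2,3,1,2,3,6,2,1,3,6,3,4,2,3,5,4,3,6,2,3,1,2,3,6,2])) .none))))))

/-- A subtree. -/
def sub95 : WTree :=
  (.node (.node (.node (.node (.node (.node (.node (.word [0,1,3,2,1,3,4,5,3,2,1,6,3,4,2,3,2,3,6,3,1,2,3,5,2,6,3,4,2,3,5,4,3,6,2,3,1,2,3,6,2,0,1,3,2,1,3,4,5,3,2,1,6,3,4,2,3,2,3,6,3,1,2,3,5,2,6,3,4,2,3,5,4,3,6,2,3,1,2,3,6,2,1,2,3,5,4,3,1,2,3,6,5,3,1,2,0,3,6,3,4,2,3,5,4,3,6,2,3,1,2,3,6,2]) (.word [1,3,6,3,4,2,3,5,4,3,6,2,3,1,2,3,6,2,0,1,3,2,1,3,4,5,3,2,1,6,3,4,2,3,2,3,6,3,1,2,3,5,2,6,3,4,2,3,5,4,3,6,2,3,1,2,3,6,2,1,2,3,5,4,3,1,2,3,6,5,3,1,2,0,1]))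 (.word [1,0,2,3,2,6,3,2,1,0,5,3,4,2,3,2,3,5,1,2,3,6,2,3,2,3,5,6,3,2,1,0,3,5,4,2,3,2,3,1,2,3,6,5,2,6,3,4,2,3,5,4,3,6,2,3,1,2,3,6,2,1,3,5,6,3,2,1,0,3,5,4,2,3,2,3,1,2,3,6,5,2,6,3,4,2,3,5,4,3,6,2,3,1,2,3,6,2])) (.node (.node (.word [1,3,6,3,4,2,3,5,4,3,6,2,3,1,2,3,6,2,0,1,3,2,1,3,4,5,3,2,1,6,3,4,2,3,2,3,6,3,1,2,3,5,2,6,3,4,2,3,5,4,3,6,2,3,1,2,3,6,2,1,2,3,5,4,3,1,2,3,6,5,3,1,2,0,2,3,5,4,3,1,2,3,6,5,3,1,2,0,1]) (.word [1,3,6,3,4,2,3,5,4,3,6,2,3,1,2,3,6,2,1,3,5,6,3,2,1,0,3,5,4,2,3,2,3,1,2,3,6,5,2,5,6,3,2,1,0,3,5,4,2,3,2,3,1,2,3,6,5,2,3,1,0,1,3,2,1,3,4,5,3,2,1,6,3,4,2,3,2,3,6,3,1,2,3,5,2,6,3,4,2,3,5,4,3,6,2,3,1,2,3,6,2])) .none)) (.node (.node (.word [1,3,6,3,4,2,3,5,4,3,6,2,3,1,2,3,6,2,1,3,6,3,4,2,3,5,4,3,6,2,3,1,2,3,6,2,3,2,3,2,1,5,6,3,2,5,3,2,1,3,6,2,3,2,3,6,4,3,1,2,3,5,2,3,0,1,0,2,3,2,6,3,2,1,0,5,3,4,2,3,2,3,5,1,2,3,6,2,3,2,3,6,3,4,2,3,5,4,3,6,2,3,1,2,3,6,2])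 (.node .none (.word [0,1,3,2,1,3,4,5,3,2,1,6,3,4,2,3,2,3,6,3,1,2,3,5,2,3,2,3,5,4,3,1,2,3,6,5,3,1,3,2,6,3,2,1,0,5,3,4,2,3,2,3,5,1,2,3,6,2,5,4,3,1,2,3,6,5,3,1,2,0,2,3,5,4,3,1,2,3,6,5,3,1,2,0,1]))) (.node (.node .none (.word [0,1,3,2,1,3,4,5,3,2,1,6,3,4,2,3,2,3,6,3,1,2,3,5,2,5,6,3,2,1,0,3,5,4,2,3,2,3,1,2,3,6,5,2,3,1,3,2,3,2,1,5,6,3,2,5,3,2,1,3,6,2,3,2,3,6,4,3,1,2,3,5,2,3,0,1,3,6,3,4,2,3,5,4,3,6,2,3,1,2,3,6,2,0,1,3,2,1,3,4,5,3,2,1,6,3,4,2,3,2,3,6,3,1,2,3,5,2,6,3,4,2,3,5,4,3,6,2,3,1,2,3,6,2])) .none))) (.node (.node (.node (.node (.word [1,0,2,3,2,6,3,2,1,0,5,3,4,2,3,2,3,5,1,2,3,6,2,5,4,3,1,2,3,6,5,3,1,2,0,3,6,3,4,2,3,5,4,3,6,2,3,1,2,3,6,2,1,3,6,3,4,2,3,5,4,3,6,2,3,1,2,3,6,2,1,2,3,5,4,3,1,2,3,6,5,3,1,2,0,1])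 (.word [1,3,6,3,4,2,3,5,4,3,6,2,3,1,2,3,6,2,0,1,3,2,1,3,4,5,3,2,1,6,3,4,2,3,2,3,6,3,1,2,3,5,2,5,6,3,2,1,0,3,5,4,2,3,2,3,1,2,3,6,5,2,3,2,3,5,4,3,1,2,3,6,5,3,1,2,0,2,3,5,4,3,1,2,3,6,5,3,1,2,0,1])) (.node (.word [1,2,3,5,4,3,1,2,3,6,5,3,1,2,0,2,3,5,4,3,1,2,3,6,5,3,1,2,0,3,6,3,4,2,3,5,4,3,6,2,3,1,2,3,6,2,1,3,6,3,4,2,3,5,4,3,6,2,3,1,2,3,6,2,1,3,6,3,4,2,3,5,4,3,6,2,3,1,2,3,6,2]) (.word [1,0,2,3,2,6,3,2,1,0,5,3,4,2,3,2,3,5,1,2,3,6,2,3,2,3,6,3,4,2,3,5,4,3,6,2,3,1,2,3,6,2,0,1,3,2,1,3,4,5,3,2,1,6,3,4,2,3,2,3,6,3,1,2,3,5,2,6,3,4,2,3,5,4,3,6,2,3,1,2,3,6,2,1,3,6,3,4,2,3,5,4,3,6,2,3,1,2,3,6,2]))) (.node (.node (.word [0,1,3,2,1,3,4,5,3,2,1,6,3,4,2,3,2,3,6,3,1,2,3,5,2,3,1,0,1,3,2,1,3,4,5,3,2,1,6,3,4,2,3,2,3,6,3,1,2,3,5,2,6,3,4,2,3,5,4,3,6,2,3,1,2,3,6,2,0,1,3,2,1,3,4,5,3,2,1,6,3,4,2,3,2,3,6,3,1,2,3,5,2,6,3,4,2,3,5,4,3,6,2,3,1,2,3,6,2])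 (.word [1,3,5,6,3,2,1,0,3,5,4,2,3,2,3,1,2,3,6,5,2,3,1,3,2,3,2,1,5,6,3,2,5,3,2,1,3,6,2,3,2,3,6,4,3,1,2,3,5,2,3,0,3,2,3,2,1,5,6,3,2,5,3,2,1,3,6,2,3,2,3,6,4,3,1,2,3,5,2,3,0,1,3,6,3,4,2,3,5,4,3,6,2,3,1,2,3,6,2])) .none)) (.node (.node (.node (.word [0,1,3,2,1,3,4,5,3,2,1,6,3,4,2,3,2,3,6,3,1,2,3,5,2,3,1,0,1,3,2,1,3,4,5,3,2,1,6,3,4,2,3,2,3,6,3,1,2,3,5,2,3,1,3,2,3,2,1,5,6,3,2,5,3,2,1,3,6,2,3,2,3,6,4,3,1,2,3,5,2,3,0,1,3,6,3,4,2,3,5,4,3,6,2,3,1,2,3,6,2,1,3,5,6,3,2,1,0,3,5,4,2,3,2,3,1,2,3,6,5,2,6,3,4,2,3,5,4,3,6,2,3,1,2,3,6,2]) (.word [3,2,3,2,1,5,6,3,2,5,3,2,1,3,6,2,3,2,3,6,4,3,1,2,3,5,2,3,0,1,2,3,5,4,3,1,2,3,6,5,3,1,2,0,2,3,5,4,3,1,2,3,6,5,3,1,2,0,2,3,5,4,3,1,2,3,6,5,3,1,2,0,1])) (.node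 .none (.word [1,3,5,6,3,2,1,0,3,5,4,2,3,2,3,1,2,3,6,5,2,3,2,3,5,4,3,1,2,3,6,5,3,1,2,0,3,6,3,4,2,3,5,4,3,6,2,3,1,2,3,6,2,1,3,6,3,4,2,3,5,4,3,6,2,3,1,2,3,6,2,1,2,3,5,4,3,1,2,3,6,5,3,1,2,0,1]))) (.node (.node (.word [1,2,3,5,4,3,1,2,3,6,5,3,1,2,0,1,0,1,3,2,1,3,4,5,3,2,1,6,3,4,2,3,2,3,6,3,1,2,3,5,2,5,6,3,2,1,0,3,5,4,2,3,2,3,1,2,3,6,5,2,3,2,3,5,4,3,1,2,3,6,5,3,1,2,0,1]) (.word [3,2,3,2,1,5,6,3,2,5,3,2,1,3,6,2,3,2,3,6,4,3,1,2,3,5,2,3,0,1,3,6,3,4,2,3,5,4,3,6,2,3,1,2,3,6,2,0,1,3,2,1,3,4,5,3,2,1,6,3,4,2,3,2,3,6,3,1,2,3,5,2,6,3,4,2,3,5,4,3,6,2,3,1,2,3,6,2,1,2,3,5,4,3,1,2,3,6,5,3,1,2,0,1])) (.node (.word [3,2,3,2,1,5,6,3,2,5,3,2,1,3,6,2,3,2,3,6,4,3,1,2,3,5,2,3,1,3,2,1,3,4,5,3,2,1,6,3,4,2,3,2,3,6,3,1,2,3,5,2,3,1,0,1,3,2,1,3,4,5,3,2,1,6,3,4,2,3,2,3,6,3,1,2,3,5,2,6,3,4,2,3,5,4,3,6,2,3,1,2,3,6,2,1,2,3,5,4,3,1,2,3,6,5,3,1,2,0,1])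 (.word [1,2,3,5,4,3,1,2,3,6,5,3,1,2,0,1,3,2,3,2,1,5,6,3,2,5,3,2,1,3,6,2,3,2,3,6,4,3,1,2,3,5,2,3,0,1,0,2,3,2,6,3,2,1,0,5,3,4,2,3,2,3,5,1,2,3,6,2,3,2,3,5,6,3,2,1,0,3,5,4,2,3,2,3,1,2,3,6,5,2,6,3,4,2,3,5,4,3,6,2,3,1,2,3,6,2,1,3,6,3,4,2,3,5,4,3,6,2,3,1,2,3,6,2])))))) (.node (.node (.node (.node (.node (.word [1,3,6,3,4,2,3,5,4,3,6,2,3,1,2,3,6,2,1,3,6,3,4,2,3,5,4,3,6,2,3,1,2,3,6,2,1,2,3,5,4,3,1,2,3,6,5,3,1,2,0,1,3,2,3,2,1,5,6,3,2,5,3,2,1,3,6,2,3,2,3,6,4,3,1,2,3,5,2,3,0,1,3,6,3,4,2,3,5,4,3,6,2,3,1,2,3,6,2]) (.word [1,0,2,3,2,6,3,2,1,0,5,3,4,2,3,2,3,5,1,2,3,6,2,3,2,3,6,3,4,2,3,5,4,3,6,2,3,1,2,3,6,2,1,3,5,6,3,2,1,0,3,5,4,2,3,2,3,1,2,3,6,5,2,6,3,4,2,3,5,4,3,6,2,3,1,2,3,6,2])) (.node .none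 (.word [1,3,5,6,3,2,1,0,3,5,4,2,3,2,3,1,2,3,6,5,2,6,3,4,2,3,5,4,3,6,2,3,1,2,3,6,2,1,3,6,3,4,2,3,5,4,3,6,2,3,1,2,3,6,2,1,2,3,5,4,3,1,2,3,6,5,3,1,2,0,2,3,5,4,3,1,2,3,6,5,3,1,2,0,1]))) (.node (.node .none (.word [0,1,3,2,1,3,4,5,3,2,1,6,3,4,2,3,2,3,6,3,1,2,3,5,2,6,3,4,2,3,5,4,3,6,2,3,1,2,3,6,2,1,3,6,3,4,2,3,5,4,3,6,2,3,1,2,3,6,2,1,2,3,5,4,3,1,2,3,6,5,3,1,3,2,6,3,2,1,0,5,3,4,2,3,2,3,5,1,2,3,6,2,3,2,3,6,3,4,2,3,5,4,3,6,2,3,1,2,3,6,2])) (.node .none (.word [3,2,3,2,1,5,6,3,2,5,3,2,1,3,6,2,3,2,3,6,4,3,1,2,3,5,2,3,0,3,2,3,2,1,5,6,3,2,5,3,2,1,3,6,2,3,2,3,6,4,3,1,2,3,5,2,3,1,3,2,1,3,4,5,3,2,1,6,3,4,2,3,2,3,6,3,1,2,3,5,2,6,3,4,2,3,5,4,3,6,2,3,1,2,3,6,2,1,3,6,3,4,2,3,5,4,3,6,2,3,1,2,3,6,2]))))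 (.node (.node (.node (.word [1,3,6,3,4,2,3,5,4,3,6,2,3,1,2,3,6,2,1,3,5,6,3,2,1,0,3,5,4,2,3,2,3,1,2,3,6,5,2,3,1,0,1,3,2,1,3,4,5,3,2,1,6,3,4,2,3,2,3,6,3,1,2,3,5,2,3,2,3,5,4,3,1,2,3,6,5,3,1,2,0,3,6,3,4,2,3,5,4,3,6,2,3,1,2,3,6,2,1,3,6,3,4,2,3,5,4,3,6,2,3,1,2,3,6,2]) (.word [1,3,5,6,3,2,1,0,3,5,4,2,3,2,3,1,2,3,6,5,2,3,1,0,1,3,2,1,3,4,5,3,2,1,6,3,4,2,3,2,3,6,3,1,2,3,5,2,3,2,3,5,4,3,1,2,3,6,5,3,1,2,0,3,6,3,4,2,3,5,4,3,6,2,3,1,2,3,6,2,1,3,6,3,4,2,3,5,4,3,6,2,3,1,2,3,6,2])) (.word [3,2,3,2,1,5,6,3,2,5,3,2,1,3,6,2,3,2,3,6,4,3,1,2,3,5,2,3,1,3,2,1,3,4,5,3,2,1,6,3,4,2,3,2,3,6,3,1,2,3,5,2,6,3,4,2,3,5,4,3,6,2,3,1,2,3,6,2,1,3,6,3,4,2,3,5,4,3,6,2,3,1,2,3,6,2,1,3,6,3,4,2,3,5,4,3,6,2,3,1,2,3,6,2]))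 (.node (.node .none (.word [3,2,3,2,1,5,6,3,2,5,3,2,1,3,6,2,3,2,3,6,4,3,1,2,3,5,2,3,0,3,2,3,2,1,5,6,3,2,5,3,2,1,3,6,2,3,2,3,6,4,3,1,2,3,5,2,3,0,1,3,6,3,4,2,3,5,4,3,6,2,3,1,2,3,6,2,0,1,3,2,1,3,4,5,3,2,1,6,3,4,2,3,2,3,6,3,1,2,3,5,2,3,2,3,5,4,3,1,2,3,6,5,3,1,2,0,1])) (.node .none (.word [1,3,6,3,4,2,3,5,4,3,6,2,3,1,2,3,6,2,1,3,6,3,4,2,3,5,4,3,6,2,3,1,2,3,6,2,0,1,3,2,1,3,4,5,3,2,1,6,3,4,2,3,2,3,6,3,1,2,3,5,2,3,1,3,2,3,2,1,5,6,3,2,5,3,2,1,3,6,2,3,2,3,6,4,3,1,2,3,5,2,3,0,1,3,6,3,4,2,3,5,4,3,6,2,3,1,2,3,6,2,1,3,6,3,4,2,3,5,4,3,6,2,3,1,2,3,6,2]))))) (.node (.node (.node (.word [0,1,3,2,1,3,4,5,3,2,1,6,3,4,2,3,2,3,6,3,1,2,3,5,2,6,3,4,2,3,5,4,3,6,2,3,1,2,3,6,2,0,1,3,2,1,3,4,5,3,2,1,6,3,4,2,3,2,3,6,3,1,2,3,5,2,3,1,3,2,3,2,1,5,6,3,2,5,3,2,1,3,6,2,3,2,3,6,4,3,1,2,3,5,2,3,0,1,2,3,5,4,3,1,2,3,6,5,3,1,2,0,1])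 (.node .none (.word [1,2,3,5,4,3,1,2,3,6,5,3,1,2,0,1,3,2,3,2,1,5,6,3,2,5,3,2,1,3,6,2,3,2,3,6,4,3,1,2,3,5,2,3,0,1,3,6,3,4,2,3,5,4,3,6,2,3,1,2,3,6,2]))) (.node (.word [3,2,3,2,1,5,6,3,2,5,3,2,1,3,6,2,3,2,3,6,4,3,1,2,3,5,2,3,0,1,2,3,5,4,3,1,2,3,6,5,3,1,2,0,2,3,5,4,3,1,2,3,6,5,3,1,2,0,1,0,1,3,2,1,3,4,5,3,2,1,6,3,4,2,3,2,3,6,3,1,2,3,5,2,3,2,3,5,4,3,1,2,3,6,5,3,1,2,0,1]) (.word [1,2,3,5,4,3,1,2,3,6,5,3,1,2,0,3,6,3,4,2,3,5,4,3,6,2,3,1,2,3,6,2,1,0,2,3,2,6,3,2,1,0,5,3,4,2,3,2,3,5,1,2,3,6,2,3,2,3,6,3,4,2,3,5,4,3,6,2,3,1,2,3,6,2,1,3,6,3,4,2,3,5,4,3,6,2,3,1,2,3,6,2]))) (.node (.node (.node .none (.word [1,2,3,5,4,3,1,2,3,6,5,3,1,2,0,3,6,3,4,2,3,5,4,3,6,2,3,1,2,3,6,2])) (.node .none (.word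 [1,3,6,3,4,2,3,5,4,3,6,2,3,1,2,3,6,2,3,2,3,2,1,5,6,3,2,5,3,2,1,3,6,2,3,2,3,6,4,3,1,2,3,5,2,3,1,3,2,1,3,4,5,3,2,1,6,3,4,2,3,2,3,6,3,1,2,3,5,2,5,6,3,2,1,0,3,5,4,2,3,2,3,1,2,3,6,5,2,6,3,4,2,3,5,4,3,6,2,3,1,2,3,6,2]))) (.node (.node .none (.word [1,0,2,3,2,6,3,2,1,0,5,3,4,2,3,2,3,5,1,2,3,6,2,3,2,1,0,1,3,2,1,3,4,5,3,2,1,6,3,4,2,3,2,3,6,3,1,2,3,5,2,3,1,0,1,3,2,1,3,4,5,3,2,1,6,3,4,2,3,2,3,6,3,1,2,3,5,2,3,2,3,5,4,3,1,2,3,6,5,3,1,2,0,2,3,5,4,3,1,2,3,6,5,3,1,2,0,1])) (.word [0,1,3,2,1,3,4,5,3,2,1,6,3,4,2,3,2,3,6,3,1,2,3,5,2,3,1,0,1,3,2,1,3,4,5,3,2,1,6,3,4,2,3,2,3,6,3,1,2,3,5,2,3,1,0,1,3,2,1,3,4,5,3,2,1,6,3,4,2,3,2,3,6,3,1,2,3,5,2,6,3,4,2,3,5,4,3,6,2,3,1,2,3,6,2,1,2,3,5,4,3,1,2,3,6,5,3,1,2,0,1]))))))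 (.node (.node (.node (.node (.node (.word [1,2,3,5,4,3,1,2,3,6,5,3,1,2,0,1,0,1,3,2,1,3,4,5,3,2,1,6,3,4,2,3,2,3,6,3,1,2,3,5,2,3,2,3,5,4,3,1,2,3,6,5,3,1,2,0,3,6,3,4,2,3,5,4,3,6,2,3,1,2,3,6,2]) (.node (.word [3,2,3,2,1,5,6,3,2,5,3,2,1,3,6,2,3,2,3,6,4,3,1,2,3,5,2,3,0,1,3,6,3,4,2,3,5,4,3,6,2,3,1,2,3,6,2,1,3,6,3,4,2,3,5,4,3,6,2,3,1,2,3,6,2]) (.word [0,1,3,2,1,3,4,5,3,2,1,6,3,4,2,3,2,3,6,3,1,2,3,5,2,3,2,3,5,4,3,1,2,3,6,5,3,1,2,0,1]))) (.node (.node (.word [0,1,3,2,1,3,4,5,3,2,1,6,3,4,2,3,2,3,6,3,1,2,3,5,2,3,2,3,5,4,3,1,2,3,6,5,3,1,2,0,3,5,6,3,2,1,0,3,5,4,2,3,2,3,1,2,3,6,5,2,3,2,3,5,4,3,1,2,3,6,5,3,1,2,0,2,3,5,4,3,1,2,3,6,5,3,1,2,0,1]) (.word [1,3,6,3,4,2,3,5,4,3,6,2,3,1,2,3,6,2,0,1,3,2,1,3,4,5,3,2,1,6,3,4,2,3,2,3,6,3,1,2,3,5,2,3,0,2,3,2,6,3,2,1,0,5,3,4,2,3,2,3,5,1,2,3,6,2,3,2,3,6,3,4,2,3,5,4,3,6,2,3,1,2,3,6,2]))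 (.node (.word [3,2,3,2,1,5,6,3,2,5,3,2,1,3,6,2,3,2,3,6,4,3,1,2,3,5,2,3,0,1,3,5,6,3,2,1,0,3,5,4,2,3,2,3,1,2,3,6,5,2,3,2,3,5,4,3,1,2,3,6,5,3,1,2,0,1,0,1,3,2,1,3,4,5,3,2,1,6,3,4,2,3,2,3,6,3,1,2,3,5,2,6,3,4,2,3,5,4,3,6,2,3,1,2,3,6,2]) (.word [1,3,6,3,4,2,3,5,4,3,6,2,3,1,2,3,6,2,3,2,3,2,1,5,6,3,2,5,3,2,1,3,6,2,3,2,3,6,4,3,1,2,3,5,2,3,0,1,2,3,5,4,3,1,2,3,6,5,3,1,3,2,6,3,2,1,0,5,3,4,2,3,2,3,5,1,2,3,6,2,3,2,3,6,3,4,2,3,5,4,3,6,2,3,1,2,3,6,2])))) (.node (.node (.node .none (.word [3,2,3,2,1,5,6,3,2,5,3,2,1,3,6,2,3,2,3,6,4,3,1,2,3,5,2,3,0,1,3,6,3,4,2,3,5,4,3,6,2,3,1,2,3,6,2,1,2,3,5,4,3,1,2,3,6,5,3,1,2,0,3,6,3,4,2,3,5,4,3,6,2,3,1,2,3,6,2])) .none) (.node (.node (.word [1,0,2,3,2,6,3,2,1,0,5,3,4,2,3,2,3,5,1,2,3,6,2,5,4,3,1,2,3,6,5,3,1,2,0,3,5,6,3,2,1,0,3,5,4,2,3,2,3,1,2,3,6,5,2,5,6,3,2,1,0,3,5,4,2,3,2,3,1,2,3,6,5,2,3,1,0,1,3,2,1,3,4,5,3,2,1,6,3,4,2,3,2,3,6,3,1,2,3,5,2,6,3,4,2,3,5,4,3,6,2,3,1,2,3,6,2])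 (.word [1,3,6,3,4,2,3,5,4,3,6,2,3,1,2,3,6,2,1,0,2,3,2,6,3,2,1,0,5,3,4,2,3,2,3,5,1,2,3,6,2,3,2,3,5,6,3,2,1,0,3,5,4,2,3,2,3,1,2,3,6,5,2,3,1,3,2,3,2,1,5,6,3,2,5,3,2,1,3,6,2,3,2,3,6,4,3,1,2,3,5,2,3,0,1,3,6,3,4,2,3,5,4,3,6,2,3,1,2,3,6,2])) .none))) (.node (.node (.node (.word [3,2,3,2,1,5,6,3,2,5,3,2,1,3,6,2,3,2,3,6,4,3,1,2,3,5,2,3,0,1,2,3,5,4,3,1,2,3,6,5,3,1,2,0,3,6,3,4,2,3,5,4,3,6,2,3,1,2,3,6,2,0,1,3,2,1,3,4,5,3,2,1,6,3,4,2,3,2,3,6,3,1,2,3,5,2,3,0,2,3,2,6,3,2,1,0,5,3,4,2,3,2,3,5,1,2,3,6,2,3,2,3,6,3,4,2,3,5,4,3,6,2,3,1,2,3,6,2]) (.word [3,2,3,2,1,5,6,3,2,5,3,2,1,3,6,2,3,2,3,6,4,3,1,2,3,5,2,3,0,1,3,6,3,4,2,3,5,4,3,6,2,3,1,2,3,6,2,0,1,3,2,1,3,4,5,3,2,1,6,3,4,2,3,2,3,6,3,1,2,3,5,2,3,2,3,5,4,3,1,2,3,6,5,3,1,2,0,3,6,3,4,2,3,5,4,3,6,2,3,1,2,3,6,2,1,3,6,3,4,2,3,5,4,3,6,2,3,1,2,3,6,2]))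 (.node (.word [1,3,5,6,3,2,1,0,3,5,4,2,3,2,3,1,2,3,6,5,2,6,3,4,2,3,5,4,3,6,2,3,1,2,3,6,2,1,2,3,5,4,3,1,2,3,6,5,3,1,2,0,1,3,2,3,2,1,5,6,3,2,5,3,2,1,3,6,2,3,2,3,6,4,3,1,2,3,5,2,3,0,1,3,6,3,4,2,3,5,4,3,6,2,3,1,2,3,6,2]) (.node (.word [1,0,2,3,2,6,3,2,1,0,5,3,4,2,3,2,3,5,1,2,3,6,2,3,2,1,0,1,3,2,1,3,4,5,3,2,1,6,3,4,2,3,2,3,6,3,1,2,3,5,2,3,2,3,5,4,3,1,2,3,6,5,3,1,2,0,3,6,3,4,2,3,5,4,3,6,2,3,1,2,3,6,2]) (.word [3,2,3,2,1,5,6,3,2,5,3,2,1,3,6,2,3,2,3,6,4,3,1,2,3,5,2,3,0,1,0,2,3,2,6,3,2,1,0,5,3,4,2,3,2,3,5,1,2,3,6,2,5,4,3,1,2,3,6,5,3,1,2,0,3,6,3,4,2,3,5,4,3,6,2,3,1,2,3,6,2,1,3,6,3,4,2,3,5,4,3,6,2,3,1,2,3,6,2])))) (.node (.node (.node (.word [1,3,6,3,4,2,3,5,4,3,6,2,3,1,2,3,6,2,3,2,3,2,1,5,6,3,2,5,3,2,1,3,6,2,3,2,3,6,4,3,1,2,3,5,2,3,0,1,2,3,5,4,3,1,2,3,6,5,3,1,2,0,1,0,1,3,2,1,3,4,5,3,2,1,6,3,4,2,3,2,3,6,3,1,2,3,5,2,6,3,4,2,3,5,4,3,6,2,3,1,2,3,6,2])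 (.word [1,3,5,6,3,2,1,0,3,5,4,2,3,2,3,1,2,3,6,5,2,3,2,3,5,4,3,1,2,3,6,5,3,1,2,0,3,6,3,4,2,3,5,4,3,6,2,3,1,2,3,6,2,3,2,3,2,1,5,6,3,2,5,3,2,1,3,6,2,3,2,3,6,4,3,1,2,3,5,2,3,0,1,3,6,3,4,2,3,5,4,3,6,2,3,1,2,3,6,2])) (.node (.word [1,3,6,3,4,2,3,5,4,3,6,2,3,1,2,3,6,2,1,0,2,3,2,6,3,2,1,0,5,3,4,2,3,2,3,5,1,2,3,6,2,3,2,3,6,3,4,2,3,5,4,3,6,2,3,1,2,3,6,2,0,1,3,2,1,3,4,5,3,2,1,6,3,4,2,3,2,3,6,3,1,2,3,5,2,6,3,4,2,3,5,4,3,6,2,3,1,2,3,6,2,1,3,6,3,4,2,3,5,4,3,6,2,3,1,2,3,6,2]) (.word [0,1,3,2,1,3,4,5,3,2,1,6,3,4,2,3,2,3,6,3,1,2,3,5,2,3,1,0,1,3,2,1,3,4,5,3,2,1,6,3,4,2,3,2,3,6,3,1,2,3,5,2,3,1,0,1,3,2,1,3,4,5,3,2,1,6,3,4,2,3,2,3,6,3,1,2,3,5,2,3,1,3,2,3,2,1,5,6,3,2,5,3,2,1,3,6,2,3,2,3,6,4,3,1,2,3,5,2,3,0,1,2,3,5,4,3,1,2,3,6,5,3,1,2,0,1])))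 (.node (.node (.word [3,2,3,2,1,5,6,3,2,5,3,2,1,3,6,2,3,2,3,6,4,3,1,2,3,5,2,3,0,1,3,6,3,4,2,3,5,4,3,6,2,3,1,2,3,6,2,1,0,2,3,2,6,3,2,1,0,5,3,4,2,3,2,3,5,1,2,3,6,2,3,2,3,5,6,3,2,1,0,3,5,4,2,3,2,3,1,2,3,6,5,2,6,3,4,2,3,5,4,3,6,2,3,1,2,3,6,2]) (.word [3,2,3,2,1,5,6,3,2,5,3,2,1,3,6,2,3,2,3,6,4,3,1,2,3,5,2,3,0,3,2,3,2,1,5,6,3,2,5,3,2,1,3,6,2,3,2,3,6,4,3,1,2,3,5,2,3,0,1,2,3,5,4,3,1,2,3,6,5,3,1,2,0,3,5,6,3,2,1,0,3,5,4,2,3,2,3,1,2,3,6,5,2,6,3,4,2,3,5,4,3,6,2,3,1,2,3,6,2])) .none)))) (.node (.node (.node (.node (.node (.word [0,1,3,2,1,3,4,5,3,2,1,6,3,4,2,3,2,3,6,3,1,2,3,5,2,3,1,0,1,3,2,1,3,4,5,3,2,1,6,3,4,2,3,2,3,6,3,1,2,3,5,2,3,1,3,2,3,2,1,5,6,3,2,5,3,2,1,3,6,2,3,2,3,6,4,3,1,2,3,5,2,3,1,3,2,1,3,4,5,3,2,1,6,3,4,2,3,2,3,6,3,1,2,3,5,2,6,3,4,2,3,5,4,3,6,2,3,1,2,3,6,2,1,2,3,5,4,3,1,2,3,6,5,3,1,2,0,1])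 (.word [1,3,6,3,4,2,3,5,4,3,6,2,3,1,2,3,6,2,1,2,3,5,4,3,1,2,3,6,5,3,1,2,0,3,6,3,4,2,3,5,4,3,6,2,3,1,2,3,6,2,3,2,3,2,1,5,6,3,2,5,3,2,1,3,6,2,3,2,3,6,4,3,1,2,3,5,2,3,0,1,3,6,3,4,2,3,5,4,3,6,2,3,1,2,3,6,2,1,3,6,3,4,2,3,5,4,3,6,2,3,1,2,3,6,2])) (.word [3,2,3,2,1,5,6,3,2,5,3,2,1,3,6,2,3,2,3,6,4,3,1,2,3,5,2,3,1,3,2,1,3,4,5,3,2,1,6,3,4,2,3,2,3,6,3,1,2,3,5,2,3,1,0,1,3,2,1,3,4,5,3,2,1,6,3,4,2,3,2,3,6,3,1,2,3,5,2,3,1,3,2,3,2,1,5,6,3,2,5,3,2,1,3,6,2,3,2,3,6,4,3,1,2,3,5,2,3,0,1,2,3,5,4,3,1,2,3,6,5,3,1,2,0,1])) (.node .none (.word [1,2,3,5,4,3,1,2,3,6,5,3,1,2,0,2,3,5,4,3,1,2,3,6,5,3,1,2,0,3,6,3,4,2,3,5,4,3,6,2,3,1,2,3,6,2,1,3,5,6,3,2,1,0,3,5,4,2,3,2,3,1,2,3,6,5,2,6,3,4,2,3,5,4,3,6,2,3,1,2,3,6,2])))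 (.node (.node (.node (.word [3,2,3,2,1,5,6,3,2,5,3,2,1,3,6,2,3,2,3,6,4,3,1,2,3,5,2,3,0,1,2,3,5,4,3,1,2,3,6,5,3,1,3,2,6,3,2,1,0,5,3,4,2,3,2,3,5,1,2,3,6,2,3,2,3,6,3,4,2,3,5,4,3,6,2,3,1,2,3,6,2]) (.word [1,0,2,3,2,6,3,2,1,0,5,3,4,2,3,2,3,5,1,2,3,6,2,3,2,3,6,3,4,2,3,5,4,3,6,2,3,1,2,3,6,2,3,2,3,2,1,5,6,3,2,5,3,2,1,3,6,2,3,2,3,6,4,3,1,2,3,5,2,3,0,1,2,3,5,4,3,1,2,3,6,5,3,1,2,0,3,6,3,4,2,3,5,4,3,6,2,3,1,2,3,6,2])) (.node (.word [1,3,6,3,4,2,3,5,4,3,6,2,3,1,2,3,6,2,1,2,3,5,4,3,1,2,3,6,5,3,1,2,0,1,0,1,3,2,1,3,4,5,3,2,1,6,3,4,2,3,2,3,6,3,1,2,3,5,2,6,3,4,2,3,5,4,3,6,2,3,1,2,3,6,2,1,2,3,5,4,3,1,2,3,6,5,3,1,2,0,3,6,3,4,2,3,5,4,3,6,2,3,1,2,3,6,2]) (.word [1,2,3,5,4,3,1,2,3,6,5,3,1,3,2,6,3,2,1,0,5,3,4,2,3,2,3,5,1,2,3,6,2,3,2,3,6,3,4,2,3,5,4,3,6,2,3,1,2,3,6,2])))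 (.node (.node (.word [1,3,5,6,3,2,1,0,3,5,4,2,3,2,3,1,2,3,6,5,2,5,6,3,2,1,0,3,5,4,2,3,2,3,1,2,3,6,5,2,3,1,3,2,3,2,1,5,6,3,2,5,3,2,1,3,6,2,3,2,3,6,4,3,1,2,3,5,2,3,0,1,3,6,3,4,2,3,5,4,3,6,2,3,1,2,3,6,2]) (.word [1,0,2,3,2,6,3,2,1,0,5,3,4,2,3,2,3,5,1,2,3,6,2,3,2,3,6,3,4,2,3,5,4,3,6,2,3,1,2,3,6,2,1,3,6,3,4,2,3,5,4,3,6,2,3,1,2,3,6,2])) (.node .none (.word [3,2,3,2,1,5,6,3,2,5,3,2,1,3,6,2,3,2,3,6,4,3,1,2,3,5,2,3,0,1,2,3,5,4,3,1,2,3,6,5,3,1,2,0,3,5,6,3,2,1,0,3,5,4,2,3,2,3,1,2,3,6,5,2,3,2,3,5,4,3,1,2,3,6,5,3,1,2,0,1]))))) (.node (.node (.node (.node (.word [1,3,5,6,3,2,1,0,3,5,4,2,3,2,3,1,2,3,6,5,2,6,3,4,2,3,5,4,3,6,2,3,1,2,3,6,2,0,1,3,2,1,3,4,5,3,2,1,6,3,4,2,3,2,3,6,3,1,2,3,5,2,6,3,4,2,3,5,4,3,6,2,3,1,2,3,6,2])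 (.word [0,1,3,2,1,3,4,5,3,2,1,6,3,4,2,3,2,3,6,3,1,2,3,5,2,3,1,3,2,3,2,1,5,6,3,2,5,3,2,1,3,6,2,3,2,3,6,4,3,1,2,3,5,2,3,0,1,2,3,5,4,3,1,2,3,6,5,3,1,2,0,2,3,5,4,3,1,2,3,6,5,3,1,2,0,2,3,5,4,3,1,2,3,6,5,3,1,2,0,1])) (.node (.word [1,3,6,3,4,2,3,5,4,3,6,2,3,1,2,3,6,2,3,2,3,2,1,5,6,3,2,5,3,2,1,3,6,2,3,2,3,6,4,3,1,2,3,5,2,3,0,1,3,5,6,3,2,1,0,3,5,4,2,3,2,3,1,2,3,6,5,2,3,2,3,5,4,3,1,2,3,6,5,3,1,2,0,2,3,5,4,3,1,2,3,6,5,3,1,2,0,1]) (.word [0,1,3,2,1,3,4,5,3,2,1,6,3,4,2,3,2,3,6,3,1,2,3,5,2,3,1,3,2,3,2,1,5,6,3,2,5,3,2,1,3,6,2,3,2,3,6,4,3,1,2,3,5,2,3,0,1,3,6,3,4,2,3,5,4,3,6,2,3,1,2,3,6,2,1,2,3,5,4,3,1,2,3,6,5,3,1,2,0,2,3,5,4,3,1,2,3,6,5,3,1,2,0,1]))) (.node (.word [1,2,3,5,4,3,1,2,3,6,5,3,1,2,0,2,3,5,4,3,1,2,3,6,5,3,1,2,0,2,3,5,4,3,1,2,3,6,5,3,1,2,0,1,0,1,3,2,1,3,4,5,3,2,1,6,3,4,2,3,2,3,6,3,1,2,3,5,2,6,3,4,2,3,5,4,3,6,2,3,1,2,3,6,2])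 (.word [1,2,3,5,4,3,1,2,3,6,5,3,1,2,0,1,0,1,3,2,1,3,4,5,3,2,1,6,3,4,2,3,2,3,6,3,1,2,3,5,2,6,3,4,2,3,5,4,3,6,2,3,1,2,3,6,2]))) (.node (.node (.node .none (.word [0,1,3,2,1,3,4,5,3,2,1,6,3,4,2,3,2,3,6,3,1,2,3,5,2,6,3,4,2,3,5,4,3,6,2,3,1,2,3,6,2,1,2,3,5,4,3,1,2,3,6,5,3,1,2,0,2,3,5,4,3,1,2,3,6,5,3,1,2,0,1])) (.node (.word [1,3,6,3,4,2,3,5,4,3,6,2,3,1,2,3,6,2,1,2,3,5,4,3,1,2,3,6,5,3,1,2,0,2,3,5,4,3,1,2,3,6,5,3,1,2,0,1,3,2,3,2,1,5,6,3,2,5,3,2,1,3,6,2,3,2,3,6,4,3,1,2,3,5,2,3,0,1,2,3,5,4,3,1,2,3,6,5,3,1,2,0,3,6,3,4,2,3,5,4,3,6,2,3,1,2,3,6,2]) (.word [1,0,2,3,2,6,3,2,1,0,5,3,4,2,3,2,3,5,1,2,3,6,2,3,2,1,0,1,3,2,1,3,4,5,3,2,1,6,3,4,2,3,2,3,6,3,1,2,3,5,2,3,1,3,2,3,2,1,5,6,3,2,5,3,2,1,3,6,2,3,2,3,6,4,3,1,2,3,5,2,3,0,1,2,3,5,4,3,1,2,3,6,5,3,1,2,0,1])))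 (.node .none (.word [1,2,3,5,4,3,1,2,3,6,5,3,1,2,0,1,3,2,3,2,1,5,6,3,2,5,3,2,1,3,6,2,3,2,3,6,4,3,1,2,3,5,2,3,0,1,3,6,3,4,2,3,5,4,3,6,2,3,1,2,3,6,2,1,3,6,3,4,2,3,5,4,3,6,2,3,1,2,3,6,2])))))))

/-- A subtree. -/
def sub96 : WTree :=
  (.node (.node (.node (.node (.node (.node (.node (.node (.word [1,0,2,3,2,6,3,2,1,0,5,3,4,2,3,2,3,5,1,2,3,6,2,3,2,1,3,2,3,2,1,5,6,3,2,5,3,2,1,3,6,2,3,2,3,6,4,3,1,2,3,5,2,3,0,1,2,3,5,4,3,1,2,3,6,5,3,1,2,0,2,3,5,4,3,1,2,3,6,5,3,1,2,0,1]) (.word [1,3,6,3,4,2,3,5,4,3,6,2,3,1,2,3,6,2,3,2,3,2,1,5,6,3,2,5,3,2,1,3,6,2,3,2,3,6,4,3,1,2,3,5,2,3,1,3,2,1,3,4,5,3,2,1,6,3,4,2,3,2,3,6,3,1,2,3,5,2,3,2,3,5,4,3,1,2,3,6,5,3,1,2,0,2,3,5,4,3,1,2,3,6,5,3,1,2,0,1])) .none)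 (.node (.word [1,2,3,5,4,3,1,2,3,6,5,3,1,2,0,1,3,2,3,2,1,5,6,3,2,5,3,2,1,3,6,2,3,2,3,6,4,3,1,2,3,5,2,3,0,1,3,6,3,4,2,3,5,4,3,6,2,3,1,2,3,6,2,1,0,2,3,2,6,3,2,1,0,5,3,4,2,3,2,3,5,1,2,3,6,2,3,2,3,6,3,4,2,3,5,4,3,6,2,3,1,2,3,6,2]) (.word [3,2,3,2,1,5,6,3,2,5,3,2,1,3,6,2,3,2,3,6,4,3,1,2,3,5,2,3,0,1,3,5,6,3,2,1,0,3,5,4,2,3,2,3,1,2,3,6,5,2,3,1,0,1,3,2,1,3,4,5,3,2,1,6,3,4,2,3,2,3,6,3,1,2,3,5,2,3,2,3,5,4,3,1,2,3,6,5,3,1,2,0,3,6,3,4,2,3,5,4,3,6,2,3,1,2,3,6,2]))) (.node (.word [3,2,3,2,1,5,6,3,2,5,3,2,1,3,6,2,3,2,3,6,4,3,1,2,3,5,2,3,0,3,2,3,2,1,5,6,3,2,5,3,2,1,3,6,2,3,2,3,6,4,3,1,2,3,5,2,3,0,1,2,3,5,4,3,1,2,3,6,5,3,1,2,0,3,6,3,4,2,3,5,4,3,6,2,3,1,2,3,6,2,1,2,3,5,4,3,1,2,3,6,5,3,1,2,0,3,6,3,4,2,3,5,4,3,6,2,3,1,2,3,6,2])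 (.node (.word [1,0,2,3,2,6,3,2,1,0,5,3,4,2,3,2,3,5,1,2,3,6,2,5,4,3,1,2,3,6,5,3,1,2,0,1,3,2,3,2,1,5,6,3,2,5,3,2,1,3,6,2,3,2,3,6,4,3,1,2,3,5,2,3,0,1,3,5,6,3,2,1,0,3,5,4,2,3,2,3,1,2,3,6,5,2,6,3,4,2,3,5,4,3,6,2,3,1,2,3,6,2]) (.word [1,3,6,3,4,2,3,5,4,3,6,2,3,1,2,3,6,2,1,2,3,5,4,3,1,2,3,6,5,3,1,3,2,6,3,2,1,0,5,3,4,2,3,2,3,5,1,2,3,6,2,3,2,3,6,3,4,2,3,5,4,3,6,2,3,1,2,3,6,2])))) (.node (.node .none (.node .none (.word [1,2,3,5,4,3,1,2,3,6,5,3,1,2,0,3,6,3,4,2,3,5,4,3,6,2,3,1,2,3,6,2,1,3,6,3,4,2,3,5,4,3,6,2,3,1,2,3,6,2,1,3,6,3,4,2,3,5,4,3,6,2,3,1,2,3,6,2,1,2,3,5,4,3,1,2,3,6,5,3,1,2,0,1]))) (.node (.node (.word [1,3,6,3,4,2,3,5,4,3,6,2,3,1,2,3,6,2,3,2,3,2,1,5,6,3,2,5,3,2,1,3,6,2,3,2,3,6,4,3,1,2,3,5,2,3,1,3,2,1,3,4,5,3,2,1,6,3,4,2,3,2,3,6,3,1,2,3,5,2,6,3,4,2,3,5,4,3,6,2,3,1,2,3,6,2])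 (.word [1,3,5,6,3,2,1,0,3,5,4,2,3,2,3,1,2,3,6,5,2,6,3,4,2,3,5,4,3,6,2,3,1,2,3,6,2,1,0,2,3,2,6,3,2,1,0,5,3,4,2,3,2,3,5,1,2,3,6,2,5,4,3,1,2,3,6,5,3,1,2,0,3,6,3,4,2,3,5,4,3,6,2,3,1,2,3,6,2,1,3,6,3,4,2,3,5,4,3,6,2,3,1,2,3,6,2])) (.node (.word [1,3,6,3,4,2,3,5,4,3,6,2,3,1,2,3,6,2,1,3,5,6,3,2,1,0,3,5,4,2,3,2,3,1,2,3,6,5,2,3,1,3,2,3,2,1,5,6,3,2,5,3,2,1,3,6,2,3,2,3,6,4,3,1,2,3,5,2,3,0,1,3,6,3,4,2,3,5,4,3,6,2,3,1,2,3,6,2]) (.word [1,3,5,6,3,2,1,0,3,5,4,2,3,2,3,1,2,3,6,5,2,6,3,4,2,3,5,4,3,6,2,3,1,2,3,6,2,1,3,6,3,4,2,3,5,4,3,6,2,3,1,2,3,6,2,3,2,3,2,1,5,6,3,2,5,3,2,1,3,6,2,3,2,3,6,4,3,1,2,3,5,2,3,0,1,3,6,3,4,2,3,5,4,3,6,2,3,1,2,3,6,2]))))) (.node (.node (.node .none (.node .none (.word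 [1,0,2,3,2,6,3,2,1,0,5,3,4,2,3,2,3,5,1,2,3,6,2,3,2,3,6,3,4,2,3,5,4,3,6,2,3,1,2,3,6,2,3,2,3,2,1,5,6,3,2,5,3,2,1,3,6,2,3,2,3,6,4,3,1,2,3,5,2,3,0,1,3,6,3,4,2,3,5,4,3,6,2,3,1,2,3,6,2,1,2,3,5,4,3,1,2,3,6,5,3,1,2,0,3,6,3,4,2,3,5,4,3,6,2,3,1,2,3,6,2]))) (.node (.node (.word [3,2,3,2,1,5,6,3,2,5,3,2,1,3,6,2,3,2,3,6,4,3,1,2,3,5,2,3,0,1,3,5,6,3,2,1,0,3,5,4,2,3,2,3,1,2,3,6,5,2,3,2,3,5,4,3,1,2,3,6,5,3,1,2,0,3,6,3,4,2,3,5,4,3,6,2,3,1,2,3,6,2,1,3,6,3,4,2,3,5,4,3,6,2,3,1,2,3,6,2]) (.word [3,2,3,2,1,5,6,3,2,5,3,2,1,3,6,2,3,2,3,6,4,3,1,2,3,5,2,3,0,1,3,6,3,4,2,3,5,4,3,6,2,3,1,2,3,6,2,1,0,2,3,2,6,3,2,1,0,5,3,4,2,3,2,3,5,1,2,3,6,2,5,4,3,1,2,3,6,5,3,1,2,0,2,3,5,4,3,1,2,3,6,5,3,1,2,0,1])) (.node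 (.word [1,0,2,3,2,6,3,2,1,0,5,3,4,2,3,2,3,5,1,2,3,6,2,3,2,3,6,3,4,2,3,5,4,3,6,2,3,1,2,3,6,2,1,3,6,3,4,2,3,5,4,3,6,2,3,1,2,3,6,2,1,2,3,5,4,3,1,2,3,6,5,3,1,2,0,1]) (.word [1,0,2,3,2,6,3,2,1,0,5,3,4,2,3,2,3,5,1,2,3,6,2,3,2,1,0,1,3,2,1,3,4,5,3,2,1,6,3,4,2,3,2,3,6,3,1,2,3,5,2,3,1,3,2,3,2,1,5,6,3,2,5,3,2,1,3,6,2,3,2,3,6,4,3,1,2,3,5,2,3,0,1,3,6,3,4,2,3,5,4,3,6,2,3,1,2,3,6,2,1,2,3,5,4,3,1,2,3,6,5,3,1,2,0,1])))) (.node (.node (.node (.word [1,0,2,3,2,6,3,2,1,0,5,3,4,2,3,2,3,5,1,2,3,6,2,3,2,1,0,1,3,2,1,3,4,5,3,2,1,6,3,4,2,3,2,3,6,3,1,2,3,5,2,6,3,4,2,3,5,4,3,6,2,3,1,2,3,6,2,0,1,3,2,1,3,4,5,3,2,1,6,3,4,2,3,2,3,6,3,1,2,3,5,2,3,2,3,5,4,3,1,2,3,6,5,3,1,2,0,1]) (.word [1,2,3,5,4,3,1,2,3,6,5,3,1,3,2,6,3,2,1,0,5,3,4,2,3,2,3,5,1,2,3,6,2,3,2,1,3,2,3,2,1,5,6,3,2,5,3,2,1,3,6,2,3,2,3,6,4,3,1,2,3,5,2,3,0,1,3,6,3,4,2,3,5,4,3,6,2,3,1,2,3,6,2,1,2,3,5,4,3,1,2,3,6,5,3,1,2,0,1]))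 (.node .none (.word [1,2,3,5,4,3,1,2,3,6,5,3,1,3,2,6,3,2,1,0,5,3,4,2,3,2,3,5,1,2,3,6,2,3,2,1,0,1,3,2,1,3,4,5,3,2,1,6,3,4,2,3,2,3,6,3,1,2,3,5,2,3,2,3,5,4,3,1,2,3,6,5,3,1,2,0,3,6,3,4,2,3,5,4,3,6,2,3,1,2,3,6,2]))) (.node (.node (.word [3,2,3,2,1,5,6,3,2,5,3,2,1,3,6,2,3,2,3,6,4,3,1,2,3,5,2,3,0,3,2,3,2,1,5,6,3,2,5,3,2,1,3,6,2,3,2,3,6,4,3,1,2,3,5,2,3,0,1,3,6,3,4,2,3,5,4,3,6,2,3,1,2,3,6,2,1,3,6,3,4,2,3,5,4,3,6,2,3,1,2,3,6,2,0,1,3,2,1,3,4,5,3,2,1,6,3,4,2,3,2,3,6,3,1,2,3,5,2,6,3,4,2,3,5,4,3,6,2,3,1,2,3,6,2]) (.word [1,2,3,5,4,3,1,2,3,6,5,3,1,2,0,3,6,3,4,2,3,5,4,3,6,2,3,1,2,3,6,2,1,3,5,6,3,2,1,0,3,5,4,2,3,2,3,1,2,3,6,5,2,3,1,3,2,3,2,1,5,6,3,2,5,3,2,1,3,6,2,3,2,3,6,4,3,1,2,3,5,2,3,0,1,3,6,3,4,2,3,5,4,3,6,2,3,1,2,3,6,2]))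 (.node .none (.word [1,0,2,3,2,6,3,2,1,0,5,3,4,2,3,2,3,5,1,2,3,6,2,3,2,3,5,6,3,2,1,0,3,5,4,2,3,2,3,1,2,3,6,5,2,6,3,4,2,3,5,4,3,6,2,3,1,2,3,6,2,1,3,6,3,4,2,3,5,4,3,6,2,3,1,2,3,6,2])))))) (.node (.node (.node (.node (.word [1,3,6,3,4,2,3,5,4,3,6,2,3,1,2,3,6,2,3,2,3,2,1,5,6,3,2,5,3,2,1,3,6,2,3,2,3,6,4,3,1,2,3,5,2,3,1,3,2,1,3,4,5,3,2,1,6,3,4,2,3,2,3,6,3,1,2,3,5,2,3,1,0,1,3,2,1,3,4,5,3,2,1,6,3,4,2,3,2,3,6,3,1,2,3,5,2,3,2,3,5,4,3,1,2,3,6,5,3,1,2,0,1]) (.word [0,1,3,2,1,3,4,5,3,2,1,6,3,4,2,3,2,3,6,3,1,2,3,5,2,3,1,3,2,3,2,1,5,6,3,2,5,3,2,1,3,6,2,3,2,3,6,4,3,1,2,3,5,2,3,0,1,2,3,5,4,3,1,2,3,6,5,3,1,2,0,1])) (.node (.node (.word [3,2,3,2,1,5,6,3,2,5,3,2,1,3,6,2,3,2,3,6,4,3,1,2,3,5,2,3,0,1,2,3,5,4,3,1,2,3,6,5,3,1,2,0,3,6,3,4,2,3,5,4,3,6,2,3,1,2,3,6,2,1,3,5,6,3,2,1,0,3,5,4,2,3,2,3,1,2,3,6,5,2,3,2,3,5,4,3,1,2,3,6,5,3,1,2,0,1])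 (.word [1,3,6,3,4,2,3,5,4,3,6,2,3,1,2,3,6,2,1,3,6,3,4,2,3,5,4,3,6,2,3,1,2,3,6,2,3,2,3,2,1,5,6,3,2,5,3,2,1,3,6,2,3,2,3,6,4,3,1,2,3,5,2,3,0,1,0,2,3,2,6,3,2,1,0,5,3,4,2,3,2,3,5,1,2,3,6,2,3,2,3,5,6,3,2,1,0,3,5,4,2,3,2,3,1,2,3,6,5,2,6,3,4,2,3,5,4,3,6,2,3,1,2,3,6,2])) (.node .none (.word [1,3,6,3,4,2,3,5,4,3,6,2,3,1,2,3,6,2,1,0,2,3,2,6,3,2,1,0,5,3,4,2,3,2,3,5,1,2,3,6,2,3,2,3,5,6,3,2,1,0,3,5,4,2,3,2,3,1,2,3,6,5,2,6,3,4,2,3,5,4,3,6,2,3,1,2,3,6,2,1,3,6,3,4,2,3,5,4,3,6,2,3,1,2,3,6,2])))) (.node (.node (.word [3,2,3,2,1,5,6,3,2,5,3,2,1,3,6,2,3,2,3,6,4,3,1,2,3,5,2,3,0,3,2,3,2,1,5,6,3,2,5,3,2,1,3,6,2,3,2,3,6,4,3,1,2,3,5,2,3,0,1,3,6,3,4,2,3,5,4,3,6,2,3,1,2,3,6,2,1,2,3,5,4,3,1,2,3,6,5,3,1,2,0,2,3,5,4,3,1,2,3,6,5,3,1,2,0,1])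 (.word [1,2,3,5,4,3,1,2,3,6,5,3,1,2,0,1,0,1,3,2,1,3,4,5,3,2,1,6,3,4,2,3,2,3,6,3,1,2,3,5,2,6,3,4,2,3,5,4,3,6,2,3,1,2,3,6,2,0,1,3,2,1,3,4,5,3,2,1,6,3,4,2,3,2,3,6,3,1,2,3,5,2,3,2,3,5,4,3,1,2,3,6,5,3,1,2,0,1])) (.node (.word [1,2,3,5,4,3,1,2,3,6,5,3,1,2,0,1,3,2,3,2,1,5,6,3,2,5,3,2,1,3,6,2,3,2,3,6,4,3,1,2,3,5,2,3,0,1,3,6,3,4,2,3,5,4,3,6,2,3,1,2,3,6,2,3,2,3,2,1,5,6,3,2,5,3,2,1,3,6,2,3,2,3,6,4,3,1,2,3,5,2,3,0,3,2,3,2,1,5,6,3,2,5,3,2,1,3,6,2,3,2,3,6,4,3,1,2,3,5,2,3,0,1,3,6,3,4,2,3,5,4,3,6,2,3,1,2,3,6,2]) (.node (.word [1,3,5,6,3,2,1,0,3,5,4,2,3,2,3,1,2,3,6,5,2,3,1,3,2,3,2,1,5,6,3,2,5,3,2,1,3,6,2,3,2,3,6,4,3,1,2,3,5,2,3,1,3,2,1,3,4,5,3,2,1,6,3,4,2,3,2,3,6,3,1,2,3,5,2,3,1,3,2,3,2,1,5,6,3,2,5,3,2,1,3,6,2,3,2,3,6,4,3,1,2,3,5,2,3,0,1,2,3,5,4,3,1,2,3,6,5,3,1,2,0,1])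 (.word [1,2,3,5,4,3,1,2,3,6,5,3,1,2,0,3,6,3,4,2,3,5,4,3,6,2,3,1,2,3,6,2,1,3,5,6,3,2,1,0,3,5,4,2,3,2,3,1,2,3,6,5,2,6,3,4,2,3,5,4,3,6,2,3,1,2,3,6,2]))))) (.node (.node (.node (.word [3,2,3,2,1,5,6,3,2,5,3,2,1,3,6,2,3,2,3,6,4,3,1,2,3,5,2,3,0,1,2,3,5,4,3,1,2,3,6,5,3,1,2,0,1,0,1,3,2,1,3,4,5,3,2,1,6,3,4,2,3,2,3,6,3,1,2,3,5,2,3,2,3,5,4,3,1,2,3,6,5,3,1,2,0,1]) (.word [3,2,3,2,1,5,6,3,2,5,3,2,1,3,6,2,3,2,3,6,4,3,1,2,3,5,2,3,0,3,2,3,2,1,5,6,3,2,5,3,2,1,3,6,2,3,2,3,6,4,3,1,2,3,5,2,3,0,1,3,6,3,4,2,3,5,4,3,6,2,3,1,2,3,6,2,3,2,3,2,1,5,6,3,2,5,3,2,1,3,6,2,3,2,3,6,4,3,1,2,3,5,2,3,0,1,3,6,3,4,2,3,5,4,3,6,2,3,1,2,3,6,2])) (.node (.node (.word [3,2,3,2,1,5,6,3,2,5,3,2,1,3,6,2,3,2,3,6,4,3,1,2,3,5,2,3,0,1,3,6,3,4,2,3,5,4,3,6,2,3,1,2,3,6,2,3,2,3,2,1,5,6,3,2,5,3,2,1,3,6,2,3,2,3,6,4,3,1,2,3,5,2,3,0,3,2,3,2,1,5,6,3,2,5,3,2,1,3,6,2,3,2,3,6,4,3,1,2,3,5,2,3,0,1,3,6,3,4,2,3,5,4,3,6,2,3,1,2,3,6,2])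 (.word [1,2,3,5,4,3,1,2,3,6,5,3,1,3,2,6,3,2,1,0,5,3,4,2,3,2,3,5,1,2,3,6,2,5,4,3,1,2,3,6,5,3,1,2,0,3,6,3,4,2,3,5,4,3,6,2,3,1,2,3,6,2,1,3,6,3,4,2,3,5,4,3,6,2,3,1,2,3,6,2])) (.node (.word [1,3,6,3,4,2,3,5,4,3,6,2,3,1,2,3,6,2,1,3,5,6,3,2,1,0,3,5,4,2,3,2,3,1,2,3,6,5,2,3,2,3,5,4,3,1,2,3,6,5,3,1,2,0,3,5,6,3,2,1,0,3,5,4,2,3,2,3,1,2,3,6,5,2,3,2,3,5,4,3,1,2,3,6,5,3,1,2,0,1]) (.word [1,0,2,3,2,6,3,2,1,0,5,3,4,2,3,2,3,5,1,2,3,6,2,3,2,3,6,3,4,2,3,5,4,3,6,2,3,1,2,3,6,2,3,2,3,2,1,5,6,3,2,5,3,2,1,3,6,2,3,2,3,6,4,3,1,2,3,5,2,3,1,3,2,1,3,4,5,3,2,1,6,3,4,2,3,2,3,6,3,1,2,3,5,2,6,3,4,2,3,5,4,3,6,2,3,1,2,3,6,2])))) (.node (.node .none (.node (.word [1,3,5,6,3,2,1,0,3,5,4,2,3,2,3,1,2,3,6,5,2,3,1,3,2,3,2,1,5,6,3,2,5,3,2,1,3,6,2,3,2,3,6,4,3,1,2,3,5,2,3,0,1,3,6,3,4,2,3,5,4,3,6,2,3,1,2,3,6,2,1,3,6,3,4,2,3,5,4,3,6,2,3,1,2,3,6,2])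 (.word [1,3,6,3,4,2,3,5,4,3,6,2,3,1,2,3,6,2,1,3,5,6,3,2,1,0,3,5,4,2,3,2,3,1,2,3,6,5,2,3,0,2,3,2,6,3,2,1,0,5,3,4,2,3,2,3,5,1,2,3,6,2,5,4,3,1,2,3,6,5,3,1,2,0,2,3,5,4,3,1,2,3,6,5,3,1,2,0,1]))) (.node (.word [1,3,6,3,4,2,3,5,4,3,6,2,3,1,2,3,6,2,0,1,3,2,1,3,4,5,3,2,1,6,3,4,2,3,2,3,6,3,1,2,3,5,2,6,3,4,2,3,5,4,3,6,2,3,1,2,3,6,2,3,2,3,2,1,5,6,3,2,5,3,2,1,3,6,2,3,2,3,6,4,3,1,2,3,5,2,3,0,1,3,6,3,4,2,3,5,4,3,6,2,3,1,2,3,6,2,1,3,6,3,4,2,3,5,4,3,6,2,3,1,2,3,6,2]) (.node (.word [1,0,2,3,2,6,3,2,1,0,5,3,4,2,3,2,3,5,1,2,3,6,2,5,4,3,1,2,3,6,5,3,1,2,0,3,5,6,3,2,1,0,3,5,4,2,3,2,3,1,2,3,6,5,2,3,2,3,5,4,3,1,2,3,6,5,3,1,2,0,3,6,3,4,2,3,5,4,3,6,2,3,1,2,3,6,2]) (.word [1,3,6,3,4,2,3,5,4,3,6,2,3,1,2,3,6,2,3,2,3,2,1,5,6,3,2,5,3,2,1,3,6,2,3,2,3,6,4,3,1,2,3,5,2,3,0,3,2,3,2,1,5,6,3,2,5,3,2,1,3,6,2,3,2,3,6,4,3,1,2,3,5,2,3,0,1,3,6,3,4,2,3,5,4,3,6,2,3,1,2,3,6,2])))))))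 (.node (.node (.node (.node (.node (.node (.word [1,3,6,3,4,2,3,5,4,3,6,2,3,1,2,3,6,2,1,2,3,5,4,3,1,2,3,6,5,3,1,2,0,2,3,5,4,3,1,2,3,6,5,3,1,2,0,2,3,5,4,3,1,2,3,6,5,3,1,2,0,1]) (.word [1,3,6,3,4,2,3,5,4,3,6,2,3,1,2,3,6,2,3,2,3,2,1,5,6,3,2,5,3,2,1,3,6,2,3,2,3,6,4,3,1,2,3,5,2,3,0,1,3,5,6,3,2,1,0,3,5,4,2,3,2,3,1,2,3,6,5,2,3,1,3,2,3,2,1,5,6,3,2,5,3,2,1,3,6,2,3,2,3,6,4,3,1,2,3,5,2,3,0,1,3,6,3,4,2,3,5,4,3,6,2,3,1,2,3,6,2,1,3,6,3,4,2,3,5,4,3,6,2,3,1,2,3,6,2])) (.node (.word [1,3,6,3,4,2,3,5,4,3,6,2,3,1,2,3,6,2,0,1,3,2,1,3,4,5,3,2,1,6,3,4,2,3,2,3,6,3,1,2,3,5,2,3,2,3,5,4,3,1,2,3,6,5,3,1,2,0,2,3,5,4,3,1,2,3,6,5,3,1,2,0,3,6,3,4,2,3,5,4,3,6,2,3,1,2,3,6,2,1,3,6,3,4,2,3,5,4,3,6,2,3,1,2,3,6,2])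 (.word [3,2,3,2,1,5,6,3,2,5,3,2,1,3,6,2,3,2,3,6,4,3,1,2,3,5,2,3,0,1,0,2,3,2,6,3,2,1,0,5,3,4,2,3,2,3,5,1,2,3,6,2,3,2,1,0,1,3,2,1,3,4,5,3,2,1,6,3,4,2,3,2,3,6,3,1,2,3,5,2,3,1,0,1,3,2,1,3,4,5,3,2,1,6,3,4,2,3,2,3,6,3,1,2,3,5,2,6,3,4,2,3,5,4,3,6,2,3,1,2,3,6,2]))) (.node (.node (.word [1,2,3,5,4,3,1,2,3,6,5,3,1,2,0,2,3,5,4,3,1,2,3,6,5,3,1,2,0,1,3,2,3,2,1,5,6,3,2,5,3,2,1,3,6,2,3,2,3,6,4,3,1,2,3,5,2,3,0,1,3,6,3,4,2,3,5,4,3,6,2,3,1,2,3,6,2,1,2,3,5,4,3,1,2,3,6,5,3,1,2,0,1]) (.word [3,2,3,2,1,5,6,3,2,5,3,2,1,3,6,2,3,2,3,6,4,3,1,2,3,5,2,3,0,1,3,6,3,4,2,3,5,4,3,6,2,3,1,2,3,6,2,0,1,3,2,1,3,4,5,3,2,1,6,3,4,2,3,2,3,6,3,1,2,3,5,2,3,2,3,5,4,3,1,2,3,6,5,3,1,2,0,1,3,2,3,2,1,5,6,3,2,5,3,2,1,3,6,2,3,2,3,6,4,3,1,2,3,5,2,3,0,1,3,6,3,4,2,3,5,4,3,6,2,3,1,2,3,6,2]))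 (.node (.word [1,2,3,5,4,3,1,2,3,6,5,3,1,2,0,1,0,1,3,2,1,3,4,5,3,2,1,6,3,4,2,3,2,3,6,3,1,2,3,5,2,3,2,3,5,4,3,1,2,3,6,5,3,1,2,0,1]) (.word [1,3,6,3,4,2,3,5,4,3,6,2,3,1,2,3,6,2,1,3,6,3,4,2,3,5,4,3,6,2,3,1,2,3,6,2,0,1,3,2,1,3,4,5,3,2,1,6,3,4,2,3,2,3,6,3,1,2,3,5,2,5,6,3,2,1,0,3,5,4,2,3,2,3,1,2,3,6,5,2,6,3,4,2,3,5,4,3,6,2,3,1,2,3,6,2])))) (.node (.node .none (.node (.word [1,2,3,5,4,3,1,2,3,6,5,3,1,2,0,2,3,5,4,3,1,2,3,6,5,3,1,3,2,6,3,2,1,0,5,3,4,2,3,2,3,5,1,2,3,6,2,5,4,3,1,2,3,6,5,3,1,2,0,2,3,5,4,3,1,2,3,6,5,3,1,2,0,1]) (.word [1,2,3,5,4,3,1,2,3,6,5,3,1,2,0,1,0,1,3,2,1,3,4,5,3,2,1,6,3,4,2,3,2,3,6,3,1,2,3,5,2,3,2,3,5,4,3,1,2,3,6,5,3,1,2,0,3,5,6,3,2,1,0,3,5,4,2,3,2,3,1,2,3,6,5,2,6,3,4,2,3,5,4,3,6,2,3,1,2,3,6,2])))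 (.node (.node (.word [1,0,2,3,2,6,3,2,1,0,5,3,4,2,3,2,3,5,1,2,3,6,2,3,2,1,3,2,3,2,1,5,6,3,2,5,3,2,1,3,6,2,3,2,3,6,4,3,1,2,3,5,2,3,0,1,3,5,6,3,2,1,0,3,5,4,2,3,2,3,1,2,3,6,5,2,5,6,3,2,1,0,3,5,4,2,3,2,3,1,2,3,6,5,2,6,3,4,2,3,5,4,3,6,2,3,1,2,3,6,2,1,3,6,3,4,2,3,5,4,3,6,2,3,1,2,3,6,2]) (.word [1,2,3,5,4,3,1,2,3,6,5,3,1,3,2,6,3,2,1,0,5,3,4,2,3,2,3,5,1,2,3,6,2,5,4,3,1,2,3,6,5,3,1,2,0,3,6,3,4,2,3,5,4,3,6,2,3,1,2,3,6,2,1,2,3,5,4,3,1,2,3,6,5,3,1,2,0,1])) .none))) (.node (.node (.node (.word [1,0,2,3,2,6,3,2,1,0,5,3,4,2,3,2,3,5,1,2,3,6,2,3,2,3,6,3,4,2,3,5,4,3,6,2,3,1,2,3,6,2,3,2,3,2,1,5,6,3,2,5,3,2,1,3,6,2,3,2,3,6,4,3,1,2,3,5,2,3,0,1,2,3,5,4,3,1,2,3,6,5,3,1,2,0,1]) (.node (.word [3,2,3,2,1,5,6,3,2,5,3,2,1,3,6,2,3,2,3,6,4,3,1,2,3,5,2,3,0,1,2,3,5,4,3,1,2,3,6,5,3,1,2,0,1,3,2,3,2,1,5,6,3,2,5,3,2,1,3,6,2,3,2,3,6,4,3,1,2,3,5,2,3,0,1,3,6,3,4,2,3,5,4,3,6,2,3,1,2,3,6,2,3,2,3,2,1,5,6,3,2,5,3,2,1,3,6,2,3,2,3,6,4,3,1,2,3,5,2,3,0,1,3,6,3,4,2,3,5,4,3,6,2,3,1,2,3,6,2])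 (.word [1,3,5,6,3,2,1,0,3,5,4,2,3,2,3,1,2,3,6,5,2,3,1,0,1,3,2,1,3,4,5,3,2,1,6,3,4,2,3,2,3,6,3,1,2,3,5,2,3,0,2,3,2,6,3,2,1,0,5,3,4,2,3,2,3,5,1,2,3,6,2,3,2,3,6,3,4,2,3,5,4,3,6,2,3,1,2,3,6,2]))) (.node (.node (.word [0,1,3,2,1,3,4,5,3,2,1,6,3,4,2,3,2,3,6,3,1,2,3,5,2,3,1,3,2,3,2,1,5,6,3,2,5,3,2,1,3,6,2,3,2,3,6,4,3,1,2,3,5,2,3,0,1,3,6,3,4,2,3,5,4,3,6,2,3,1,2,3,6,2,1,2,3,5,4,3,1,2,3,6,5,3,1,2,0,1]) (.word [1,0,2,3,2,6,3,2,1,0,5,3,4,2,3,2,3,5,1,2,3,6,2,3,2,1,0,1,3,2,1,3,4,5,3,2,1,6,3,4,2,3,2,3,6,3,1,2,3,5,2,6,3,4,2,3,5,4,3,6,2,3,1,2,3,6,2,1,2,3,5,4,3,1,2,3,6,5,3,1,2,0,3,6,3,4,2,3,5,4,3,6,2,3,1,2,3,6,2])) (.word [1,0,2,3,2,6,3,2,1,0,5,3,4,2,3,2,3,5,1,2,3,6,2,5,4,3,1,2,3,6,5,3,1,2,0,1,3,2,3,2,1,5,6,3,2,5,3,2,1,3,6,2,3,2,3,6,4,3,1,2,3,5,2,3,0,1,2,3,5,4,3,1,2,3,6,5,3,1,2,0,3,6,3,4,2,3,5,4,3,6,2,3,1,2,3,6,2])))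 (.node (.node (.word [3,2,3,2,1,5,6,3,2,5,3,2,1,3,6,2,3,2,3,6,4,3,1,2,3,5,2,3,0,1,3,6,3,4,2,3,5,4,3,6,2,3,1,2,3,6,2,0,1,3,2,1,3,4,5,3,2,1,6,3,4,2,3,2,3,6,3,1,2,3,5,2,6,3,4,2,3,5,4,3,6,2,3,1,2,3,6,2,1,3,6,3,4,2,3,5,4,3,6,2,3,1,2,3,6,2]) (.node (.word [0,1,3,2,1,3,4,5,3,2,1,6,3,4,2,3,2,3,6,3,1,2,3,5,2,3,1,0,1,3,2,1,3,4,5,3,2,1,6,3,4,2,3,2,3,6,3,1,2,3,5,2,3,2,3,5,4,3,1,2,3,6,5,3,1,2,0,3,6,3,4,2,3,5,4,3,6,2,3,1,2,3,6,2,1,2,3,5,4,3,1,2,3,6,5,3,1,2,0,3,6,3,4,2,3,5,4,3,6,2,3,1,2,3,6,2]) (.word [1,3,5,6,3,2,1,0,3,5,4,2,3,2,3,1,2,3,6,5,2,3,1,0,1,3,2,1,3,4,5,3,2,1,6,3,4,2,3,2,3,6,3,1,2,3,5,2,3,2,3,5,4,3,1,2,3,6,5,3,1,2,0,2,3,5,4,3,1,2,3,6,5,3,1,2,0,2,3,5,4,3,1,2,3,6,5,3,1,2,0,1]))) (.node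 (.word [1,3,5,6,3,2,1,0,3,5,4,2,3,2,3,1,2,3,6,5,2,3,1,0,1,3,2,1,3,4,5,3,2,1,6,3,4,2,3,2,3,6,3,1,2,3,5,2,3,1,0,1,3,2,1,3,4,5,3,2,1,6,3,4,2,3,2,3,6,3,1,2,3,5,2,6,3,4,2,3,5,4,3,6,2,3,1,2,3,6,2,1,2,3,5,4,3,1,2,3,6,5,3,1,2,0,3,6,3,4,2,3,5,4,3,6,2,3,1,2,3,6,2]) (.node (.word [1,2,3,5,4,3,1,2,3,6,5,3,1,2,0,3,5,6,3,2,1,0,3,5,4,2,3,2,3,1,2,3,6,5,2,3,1,3,2,3,2,1,5,6,3,2,5,3,2,1,3,6,2,3,2,3,6,4,3,1,2,3,5,2,3,0,1,3,6,3,4,2,3,5,4,3,6,2,3,1,2,3,6,2,1,3,6,3,4,2,3,5,4,3,6,2,3,1,2,3,6,2]) (.word [1,3,6,3,4,2,3,5,4,3,6,2,3,1,2,3,6,2,0,1,3,2,1,3,4,5,3,2,1,6,3,4,2,3,2,3,6,3,1,2,3,5,2,3,1,3,2,3,2,1,5,6,3,2,5,3,2,1,3,6,2,3,2,3,6,4,3,1,2,3,5,2,3,1,3,2,1,3,4,5,3,2,1,6,3,4,2,3,2,3,6,3,1,2,3,5,2,6,3,4,2,3,5,4,3,6,2,3,1,2,3,6,2]))))))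 (.node (.node (.node (.node (.node .none (.word [3,2,3,2,1,5,6,3,2,5,3,2,1,3,6,2,3,2,3,6,4,3,1,2,3,5,2,3,0,1,3,5,6,3,2,1,0,3,5,4,2,3,2,3,1,2,3,6,5,2,3,1,3,2,3,2,1,5,6,3,2,5,3,2,1,3,6,2,3,2,3,6,4,3,1,2,3,5,2,3,0,1,2,3,5,4,3,1,2,3,6,5,3,1,2,0,2,3,5,4,3,1,2,3,6,5,3,1,2,0,1])) (.word [1,3,6,3,4,2,3,5,4,3,6,2,3,1,2,3,6,2,1,3,5,6,3,2,1,0,3,5,4,2,3,2,3,1,2,3,6,5,2,3,2,3,5,4,3,1,2,3,6,5,3,1,2,0,3,6,3,4,2,3,5,4,3,6,2,3,1,2,3,6,2,1,3,6,3,4,2,3,5,4,3,6,2,3,1,2,3,6,2])) (.node (.word [3,2,3,2,1,5,6,3,2,5,3,2,1,3,6,2,3,2,3,6,4,3,1,2,3,5,2,3,0,1,3,6,3,4,2,3,5,4,3,6,2,3,1,2,3,6,2,1,0,2,3,2,6,3,2,1,0,5,3,4,2,3,2,3,5,1,2,3,6,2,5,4,3,1,2,3,6,5,3,1,2,0,1]) (.word [1,0,2,3,2,6,3,2,1,0,5,3,4,2,3,2,3,5,1,2,3,6,2,3,2,3,5,6,3,2,1,0,3,5,4,2,3,2,3,1,2,3,6,5,2,6,3,4,2,3,5,4,3,6,2,3,1,2,3,6,2,1,3,6,3,4,2,3,5,4,3,6,2,3,1,2,3,6,2,1,3,6,3,4,2,3,5,4,3,6,2,3,1,2,3,6,2])))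 (.node (.node (.node (.word [1,0,2,3,2,6,3,2,1,0,5,3,4,2,3,2,3,5,1,2,3,6,2,3,2,3,6,3,4,2,3,5,4,3,6,2,3,1,2,3,6,2,1,3,6,3,4,2,3,5,4,3,6,2,3,1,2,3,6,2,1,3,5,6,3,2,1,0,3,5,4,2,3,2,3,1,2,3,6,5,2,3,2,3,5,4,3,1,2,3,6,5,3,1,2,0,3,6,3,4,2,3,5,4,3,6,2,3,1,2,3,6,2]) (.word [1,2,3,5,4,3,1,2,3,6,5,3,1,2,0,1,3,2,3,2,1,5,6,3,2,5,3,2,1,3,6,2,3,2,3,6,4,3,1,2,3,5,2,3,0,1,2,3,5,4,3,1,2,3,6,5,3,1,2,0,2,3,5,4,3,1,2,3,6,5,3,1,2,0,1])) (.node (.word [1,3,5,6,3,2,1,0,3,5,4,2,3,2,3,1,2,3,6,5,2,6,3,4,2,3,5,4,3,6,2,3,1,2,3,6,2,1,3,5,6,3,2,1,0,3,5,4,2,3,2,3,1,2,3,6,5,2,3,1,0,1,3,2,1,3,4,5,3,2,1,6,3,4,2,3,2,3,6,3,1,2,3,5,2,3,2,3,5,4,3,1,2,3,6,5,3,1,2,0,3,6,3,4,2,3,5,4,3,6,2,3,1,2,3,6,2]) (.word [1,2,3,5,4,3,1,2,3,6,5,3,1,3,2,6,3,2,1,0,5,3,4,2,3,2,3,5,1,2,3,6,2,3,2,1,0,1,3,2,1,3,4,5,3,2,1,6,3,4,2,3,2,3,6,3,1,2,3,5,2,3,1,0,1,3,2,1,3,4,5,3,2,1,6,3,4,2,3,2,3,6,3,1,2,3,5,2,6,3,4,2,3,5,4,3,6,2,3,1,2,3,6,2,1,3,6,3,4,2,3,5,4,3,6,2,3,1,2,3,6,2])))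 (.node .none (.node .none (.word [1,3,6,3,4,2,3,5,4,3,6,2,3,1,2,3,6,2,1,3,6,3,4,2,3,5,4,3,6,2,3,1,2,3,6,2,1,3,6,3,4,2,3,5,4,3,6,2,3,1,2,3,6,2]))))) (.node (.node (.node (.node (.word [1,3,5,6,3,2,1,0,3,5,4,2,3,2,3,1,2,3,6,5,2,3,1,0,1,3,2,1,3,4,5,3,2,1,6,3,4,2,3,2,3,6,3,1,2,3,5,2,5,6,3,2,1,0,3,5,4,2,3,2,3,1,2,3,6,5,2,6,3,4,2,3,5,4,3,6,2,3,1,2,3,6,2,1,3,6,3,4,2,3,5,4,3,6,2,3,1,2,3,6,2]) (.word [1,2,3,5,4,3,1,2,3,6,5,3,1,2,0,3,6,3,4,2,3,5,4,3,6,2,3,1,2,3,6,2,1,2,3,5,4,3,1,2,3,6,5,3,1,2,0,2,3,5,4,3,1,2,3,6,5,3,1,2,0,3,6,3,4,2,3,5,4,3,6,2,3,1,2,3,6,2])) .none) (.node (.node (.word [1,3,6,3,4,2,3,5,4,3,6,2,3,1,2,3,6,2,1,2,3,5,4,3,1,2,3,6,5,3,1,2,0,3,6,3,4,2,3,5,4,3,6,2,3,1,2,3,6,2,1,2,3,5,4,3,1,2,3,6,5,3,1,2,0,2,3,5,4,3,1,2,3,6,5,3,1,2,0,1])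 (.word [1,3,6,3,4,2,3,5,4,3,6,2,3,1,2,3,6,2,1,2,3,5,4,3,1,2,3,6,5,3,1,2,0,1,3,2,3,2,1,5,6,3,2,5,3,2,1,3,6,2,3,2,3,6,4,3,1,2,3,5,2,3,0,3,2,3,2,1,5,6,3,2,5,3,2,1,3,6,2,3,2,3,6,4,3,1,2,3,5,2,3,0,1,2,3,5,4,3,1,2,3,6,5,3,1,2,0,1])) (.word [1,2,3,5,4,3,1,2,3,6,5,3,1,2,0,1,0,1,3,2,1,3,4,5,3,2,1,6,3,4,2,3,2,3,6,3,1,2,3,5,2,3,1,0,1,3,2,1,3,4,5,3,2,1,6,3,4,2,3,2,3,6,3,1,2,3,5,2,3,2,3,5,4,3,1,2,3,6,5,3,1,2,0,3,6,3,4,2,3,5,4,3,6,2,3,1,2,3,6,2]))) (.node (.node (.node .none (.word [1,2,3,5,4,3,1,2,3,6,5,3,1,3,2,6,3,2,1,0,5,3,4,2,3,2,3,5,1,2,3,6,2,3,2,1,3,2,3,2,1,5,6,3,2,5,3,2,1,3,6,2,3,2,3,6,4,3,1,2,3,5,2,3,0,3,2,3,2,1,5,6,3,2,5,3,2,1,3,6,2,3,2,3,6,4,3,1,2,3,5,2,3,0,1,3,6,3,4,2,3,5,4,3,6,2,3,1,2,3,6,2]))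 (.node .none (.word [1,0,2,3,2,6,3,2,1,0,5,3,4,2,3,2,3,5,1,2,3,6,2,3,2,3,6,3,4,2,3,5,4,3,6,2,3,1,2,3,6,2,3,2,3,2,1,5,6,3,2,5,3,2,1,3,6,2,3,2,3,6,4,3,1,2,3,5,2,3,0,1,3,6,3,4,2,3,5,4,3,6,2,3,1,2,3,6,2,1,2,3,5,4,3,1,2,3,6,5,3,1,2,0,1]))) (.node .none (.node .none (.word [1,3,6,3,4,2,3,5,4,3,6,2,3,1,2,3,6,2,1,0,2,3,2,6,3,2,1,0,5,3,4,2,3,2,3,5,1,2,3,6,2,3,2,1,3,2,3,2,1,5,6,3,2,5,3,2,1,3,6,2,3,2,3,6,4,3,1,2,3,5,2,3,1,3,2,1,3,4,5,3,2,1,6,3,4,2,3,2,3,6,3,1,2,3,5,2,6,3,4,2,3,5,4,3,6,2,3,1,2,3,6,2]))))))))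

/-- A subtree. -/
def sub97 : WTree :=
  (.node (.node (.node (.node (.node (.node (.node (.word [1,3,6,3,4,2,3,5,4,3,6,2,3,1,2,3,6,2,1,0,2,3,2,6,3,2,1,0,5,3,4,2,3,2,3,5,1,2,3,6,2,3,2,1,3,2,3,2,1,5,6,3,2,5,3,2,1,3,6,2,3,2,3,6,4,3,1,2,3,5,2,3,0,3,2,3,2,1,5,6,3,2,5,3,2,1,3,6,2,3,2,3,6,4,3,1,2,3,5,2,3,0,1,3,6,3,4,2,3,5,4,3,6,2,3,1,2,3,6,2]) (.word [1,0,2,3,2,6,3,2,1,0,5,3,4,2,3,2,3,5,1,2,3,6,2,3,2,1,3,2,3,2,1,5,6,3,2,5,3,2,1,3,6,2,3,2,3,6,4,3,1,2,3,5,2,3,0,1,3,5,6,3,2,1,0,3,5,4,2,3,2,3,1,2,3,6,5,2,6,3,4,2,3,5,4,3,6,2,3,1,2,3,6,2,1,3,6,3,4,2,3,5,4,3,6,2,3,1,2,3,6,2])) (.node (.word [1,3,6,3,4,2,3,5,4,3,6,2,3,1,2,3,6,2,0,1,3,2,1,3,4,5,3,2,1,6,3,4,2,3,2,3,6,3,1,2,3,5,2,3,1,0,1,3,2,1,3,4,5,3,2,1,6,3,4,2,3,2,3,6,3,1,2,3,5,2,3,2,3,5,4,3,1,2,3,6,5,3,1,2,0,3,6,3,4,2,3,5,4,3,6,2,3,1,2,3,6,2])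 (.word [1,0,2,3,2,6,3,2,1,0,5,3,4,2,3,2,3,5,1,2,3,6,2,3,2,1,3,2,3,2,1,5,6,3,2,5,3,2,1,3,6,2,3,2,3,6,4,3,1,2,3,5,2,3,0,1,2,3,5,4,3,1,2,3,6,5,3,1,2,0,1]))) (.node (.node (.word [1,3,5,6,3,2,1,0,3,5,4,2,3,2,3,1,2,3,6,5,2,3,1,0,1,3,2,1,3,4,5,3,2,1,6,3,4,2,3,2,3,6,3,1,2,3,5,2,6,3,4,2,3,5,4,3,6,2,3,1,2,3,6,2,1,3,5,6,3,2,1,0,3,5,4,2,3,2,3,1,2,3,6,5,2,6,3,4,2,3,5,4,3,6,2,3,1,2,3,6,2]) (.word [1,3,6,3,4,2,3,5,4,3,6,2,3,1,2,3,6,2,1,0,2,3,2,6,3,2,1,0,5,3,4,2,3,2,3,5,1,2,3,6,2,3,2,3,6,3,4,2,3,5,4,3,6,2,3,1,2,3,6,2,1,2,3,5,4,3,1,2,3,6,5,3,1,2,0,3,6,3,4,2,3,5,4,3,6,2,3,1,2,3,6,2])) (.node .none (.word [0,1,3,2,1,3,4,5,3,2,1,6,3,4,2,3,2,3,6,3,1,2,3,5,2,5,6,3,2,1,0,3,5,4,2,3,2,3,1,2,3,6,5,2,6,3,4,2,3,5,4,3,6,2,3,1,2,3,6,2,1,3,6,3,4,2,3,5,4,3,6,2,3,1,2,3,6,2,1,3,6,3,4,2,3,5,4,3,6,2,3,1,2,3,6,2]))))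 (.node (.node (.word [1,2,3,5,4,3,1,2,3,6,5,3,1,2,0,2,3,5,4,3,1,2,3,6,5,3,1,2,0,1,0,1,3,2,1,3,4,5,3,2,1,6,3,4,2,3,2,3,6,3,1,2,3,5,2,3,1,3,2,3,2,1,5,6,3,2,5,3,2,1,3,6,2,3,2,3,6,4,3,1,2,3,5,2,3,1,3,2,1,3,4,5,3,2,1,6,3,4,2,3,2,3,6,3,1,2,3,5,2,6,3,4,2,3,5,4,3,6,2,3,1,2,3,6,2]) (.node (.word [1,0,2,3,2,6,3,2,1,0,5,3,4,2,3,2,3,5,1,2,3,6,2,3,2,3,5,6,3,2,1,0,3,5,4,2,3,2,3,1,2,3,6,5,2,5,6,3,2,1,0,3,5,4,2,3,2,3,1,2,3,6,5,2,6,3,4,2,3,5,4,3,6,2,3,1,2,3,6,2,1,3,6,3,4,2,3,5,4,3,6,2,3,1,2,3,6,2,1,3,6,3,4,2,3,5,4,3,6,2,3,1,2,3,6,2]) (.word [0,1,3,2,1,3,4,5,3,2,1,6,3,4,2,3,2,3,6,3,1,2,3,5,2,3,1,3,2,3,2,1,5,6,3,2,5,3,2,1,3,6,2,3,2,3,6,4,3,1,2,3,5,2,3,1,3,2,1,3,4,5,3,2,1,6,3,4,2,3,2,3,6,3,1,2,3,5,2,6,3,4,2,3,5,4,3,6,2,3,1,2,3,6,2,1,3,6,3,4,2,3,5,4,3,6,2,3,1,2,3,6,2,1,3,6,3,4,2,3,5,4,3,6,2,3,1,2,3,6,2])))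 (.node (.node (.word [1,3,6,3,4,2,3,5,4,3,6,2,3,1,2,3,6,2,1,0,2,3,2,6,3,2,1,0,5,3,4,2,3,2,3,5,1,2,3,6,2,5,4,3,1,2,3,6,5,3,1,2,0,2,3,5,4,3,1,2,3,6,5,3,1,2,0,3,6,3,4,2,3,5,4,3,6,2,3,1,2,3,6,2]) (.word [1,2,3,5,4,3,1,2,3,6,5,3,1,2,0,3,5,6,3,2,1,0,3,5,4,2,3,2,3,1,2,3,6,5,2,6,3,4,2,3,5,4,3,6,2,3,1,2,3,6,2,3,2,3,2,1,5,6,3,2,5,3,2,1,3,6,2,3,2,3,6,4,3,1,2,3,5,2,3,0,1,2,3,5,4,3,1,2,3,6,5,3,1,2,0,3,6,3,4,2,3,5,4,3,6,2,3,1,2,3,6,2])) (.node (.word [1,3,5,6,3,2,1,0,3,5,4,2,3,2,3,1,2,3,6,5,2,3,1,0,1,3,2,1,3,4,5,3,2,1,6,3,4,2,3,2,3,6,3,1,2,3,5,2,6,3,4,2,3,5,4,3,6,2,3,1,2,3,6,2,1,3,6,3,4,2,3,5,4,3,6,2,3,1,2,3,6,2]) (.word [1,3,5,6,3,2,1,0,3,5,4,2,3,2,3,1,2,3,6,5,2,3,2,3,5,4,3,1,2,3,6,5,3,1,2,0,3,6,3,4,2,3,5,4,3,6,2,3,1,2,3,6,2])))))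 (.node (.node (.node (.node (.word [3,2,3,2,1,5,6,3,2,5,3,2,1,3,6,2,3,2,3,6,4,3,1,2,3,5,2,3,0,1,3,5,6,3,2,1,0,3,5,4,2,3,2,3,1,2,3,6,5,2,3,2,3,5,4,3,1,2,3,6,5,3,1,2,0,2,3,5,4,3,1,2,3,6,5,3,1,2,0,1]) (.word [1,2,3,5,4,3,1,2,3,6,5,3,1,2,0,1,3,2,3,2,1,5,6,3,2,5,3,2,1,3,6,2,3,2,3,6,4,3,1,2,3,5,2,3,0,3,2,3,2,1,5,6,3,2,5,3,2,1,3,6,2,3,2,3,6,4,3,1,2,3,5,2,3,0,1,3,6,3,4,2,3,5,4,3,6,2,3,1,2,3,6,2,1,2,3,5,4,3,1,2,3,6,5,3,1,2,0,1])) (.node (.word [3,2,3,2,1,5,6,3,2,5,3,2,1,3,6,2,3,2,3,6,4,3,1,2,3,5,2,3,0,1,3,5,6,3,2,1,0,3,5,4,2,3,2,3,1,2,3,6,5,2,3,1,0,1,3,2,1,3,4,5,3,2,1,6,3,4,2,3,2,3,6,3,1,2,3,5,2,6,3,4,2,3,5,4,3,6,2,3,1,2,3,6,2,1,2,3,5,4,3,1,2,3,6,5,3,1,2,0,1]) (.word [3,2,3,2,1,5,6,3,2,5,3,2,1,3,6,2,3,2,3,6,4,3,1,2,3,5,2,3,0,1,3,5,6,3,2,1,0,3,5,4,2,3,2,3,1,2,3,6,5,2,3,1,0,1,3,2,1,3,4,5,3,2,1,6,3,4,2,3,2,3,6,3,1,2,3,5,2,3,2,3,5,4,3,1,2,3,6,5,3,1,2,0,2,3,5,4,3,1,2,3,6,5,3,1,2,0,1])))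 (.node (.node .none (.word [3,2,3,2,1,5,6,3,2,5,3,2,1,3,6,2,3,2,3,6,4,3,1,2,3,5,2,3,0,1,2,3,5,4,3,1,2,3,6,5,3,1,2,0,3,5,6,3,2,1,0,3,5,4,2,3,2,3,1,2,3,6,5,2,5,6,3,2,1,0,3,5,4,2,3,2,3,1,2,3,6,5,2,6,3,4,2,3,5,4,3,6,2,3,1,2,3,6,2])) (.node (.word [1,3,5,6,3,2,1,0,3,5,4,2,3,2,3,1,2,3,6,5,2,3,1,3,2,3,2,1,5,6,3,2,5,3,2,1,3,6,2,3,2,3,6,4,3,1,2,3,5,2,3,0,3,2,3,2,1,5,6,3,2,5,3,2,1,3,6,2,3,2,3,6,4,3,1,2,3,5,2,3,0,1,2,3,5,4,3,1,2,3,6,5,3,1,2,0,1]) (.word [0,1,3,2,1,3,4,5,3,2,1,6,3,4,2,3,2,3,6,3,1,2,3,5,2,6,3,4,2,3,5,4,3,6,2,3,1,2,3,6,2,1,0,2,3,2,6,3,2,1,0,5,3,4,2,3,2,3,5,1,2,3,6,2,5,4,3,1,2,3,6,5,3,1,2,0,2,3,5,4,3,1,2,3,6,5,3,1,2,0,1])))) (.node (.node (.node .none (.word [0,1,3,2,1,3,4,5,3,2,1,6,3,4,2,3,2,3,6,3,1,2,3,5,2,3,2,3,5,4,3,1,2,3,6,5,3,1,2,0,2,3,5,4,3,1,2,3,6,5,3,1,2,0,3,6,3,4,2,3,5,4,3,6,2,3,1,2,3,6,2]))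 (.node (.word [1,3,6,3,4,2,3,5,4,3,6,2,3,1,2,3,6,2,1,3,5,6,3,2,1,0,3,5,4,2,3,2,3,1,2,3,6,5,2,5,6,3,2,1,0,3,5,4,2,3,2,3,1,2,3,6,5,2,6,3,4,2,3,5,4,3,6,2,3,1,2,3,6,2,1,3,5,6,3,2,1,0,3,5,4,2,3,2,3,1,2,3,6,5,2,6,3,4,2,3,5,4,3,6,2,3,1,2,3,6,2]) (.word [1,0,2,3,2,6,3,2,1,0,5,3,4,2,3,2,3,5,1,2,3,6,2,3,2,1,0,1,3,2,1,3,4,5,3,2,1,6,3,4,2,3,2,3,6,3,1,2,3,5,2,6,3,4,2,3,5,4,3,6,2,3,1,2,3,6,2,1,3,6,3,4,2,3,5,4,3,6,2,3,1,2,3,6,2,1,3,6,3,4,2,3,5,4,3,6,2,3,1,2,3,6,2]))) (.node (.node (.word [0,1,3,2,1,3,4,5,3,2,1,6,3,4,2,3,2,3,6,3,1,2,3,5,2,3,2,3,5,4,3,1,2,3,6,5,3,1,2,0,3,5,6,3,2,1,0,3,5,4,2,3,2,3,1,2,3,6,5,2,3,1,0,1,3,2,1,3,4,5,3,2,1,6,3,4,2,3,2,3,6,3,1,2,3,5,2,6,3,4,2,3,5,4,3,6,2,3,1,2,3,6,2])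 (.word [3,2,3,2,1,5,6,3,2,5,3,2,1,3,6,2,3,2,3,6,4,3,1,2,3,5,2,3,0,3,2,3,2,1,5,6,3,2,5,3,2,1,3,6,2,3,2,3,6,4,3,1,2,3,5,2,3,0,1,3,6,3,4,2,3,5,4,3,6,2,3,1,2,3,6,2,1,2,3,5,4,3,1,2,3,6,5,3,1,2,0,1])) (.word [3,2,3,2,1,5,6,3,2,5,3,2,1,3,6,2,3,2,3,6,4,3,1,2,3,5,2,3,0,1,2,3,5,4,3,1,2,3,6,5,3,1,2,0,1]))))) (.node (.node (.node (.node (.word [1,3,6,3,4,2,3,5,4,3,6,2,3,1,2,3,6,2,3,2,3,2,1,5,6,3,2,5,3,2,1,3,6,2,3,2,3,6,4,3,1,2,3,5,2,3,0,1,3,6,3,4,2,3,5,4,3,6,2,3,1,2,3,6,2,1,2,3,5,4,3,1,2,3,6,5,3,1,2,0,3,6,3,4,2,3,5,4,3,6,2,3,1,2,3,6,2]) (.word [0,1,3,2,1,3,4,5,3,2,1,6,3,4,2,3,2,3,6,3,1,2,3,5,2,3,2,3,5,4,3,1,2,3,6,5,3,1,2,0,3,6,3,4,2,3,5,4,3,6,2,3,1,2,3,6,2,3,2,3,2,1,5,6,3,2,5,3,2,1,3,6,2,3,2,3,6,4,3,1,2,3,5,2,3,0,1,3,6,3,4,2,3,5,4,3,6,2,3,1,2,3,6,2,1,3,6,3,4,2,3,5,4,3,6,2,3,1,2,3,6,2]))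 (.node (.node .none (.word [1,3,6,3,4,2,3,5,4,3,6,2,3,1,2,3,6,2,1,0,2,3,2,6,3,2,1,0,5,3,4,2,3,2,3,5,1,2,3,6,2,5,4,3,1,2,3,6,5,3,1,2,0,1,3,2,3,2,1,5,6,3,2,5,3,2,1,3,6,2,3,2,3,6,4,3,1,2,3,5,2,3,0,1,3,5,6,3,2,1,0,3,5,4,2,3,2,3,1,2,3,6,5,2,6,3,4,2,3,5,4,3,6,2,3,1,2,3,6,2])) (.node .none (.word [3,2,3,2,1,5,6,3,2,5,3,2,1,3,6,2,3,2,3,6,4,3,1,2,3,5,2,3,0,1,3,5,6,3,2,1,0,3,5,4,2,3,2,3,1,2,3,6,5,2,3,1,0,1,3,2,1,3,4,5,3,2,1,6,3,4,2,3,2,3,6,3,1,2,3,5,2,3,2,3,5,4,3,1,2,3,6,5,3,1,2,0,1])))) (.node (.node (.node (.word [1,3,6,3,4,2,3,5,4,3,6,2,3,1,2,3,6,2,0,1,3,2,1,3,4,5,3,2,1,6,3,4,2,3,2,3,6,3,1,2,3,5,2,3,1,3,2,3,2,1,5,6,3,2,5,3,2,1,3,6,2,3,2,3,6,4,3,1,2,3,5,2,3,0,1,2,3,5,4,3,1,2,3,6,5,3,1,2,0,3,6,3,4,2,3,5,4,3,6,2,3,1,2,3,6,2])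 (.word [3,2,3,2,1,5,6,3,2,5,3,2,1,3,6,2,3,2,3,6,4,3,1,2,3,5,2,3,0,1,0,2,3,2,6,3,2,1,0,5,3,4,2,3,2,3,5,1,2,3,6,2,3,2,3,5,6,3,2,1,0,3,5,4,2,3,2,3,1,2,3,6,5,2,6,3,4,2,3,5,4,3,6,2,3,1,2,3,6,2])) (.node .none (.word [1,3,6,3,4,2,3,5,4,3,6,2,3,1,2,3,6,2,3,2,3,2,1,5,6,3,2,5,3,2,1,3,6,2,3,2,3,6,4,3,1,2,3,5,2,3,0,1,2,3,5,4,3,1,2,3,6,5,3,1,2,0,1,3,2,3,2,1,5,6,3,2,5,3,2,1,3,6,2,3,2,3,6,4,3,1,2,3,5,2,3,0,3,2,3,2,1,5,6,3,2,5,3,2,1,3,6,2,3,2,3,6,4,3,1,2,3,5,2,3,0,1,3,6,3,4,2,3,5,4,3,6,2,3,1,2,3,6,2]))) (.node (.node (.word [1,0,2,3,2,6,3,2,1,0,5,3,4,2,3,2,3,5,1,2,3,6,2,3,2,3,5,6,3,2,1,0,3,5,4,2,3,2,3,1,2,3,6,5,2,3,1,3,2,3,2,1,5,6,3,2,5,3,2,1,3,6,2,3,2,3,6,4,3,1,2,3,5,2,3,0,1,3,6,3,4,2,3,5,4,3,6,2,3,1,2,3,6,2,1,3,6,3,4,2,3,5,4,3,6,2,3,1,2,3,6,2])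 (.word [1,3,5,6,3,2,1,0,3,5,4,2,3,2,3,1,2,3,6,5,2,3,1,3,2,3,2,1,5,6,3,2,5,3,2,1,3,6,2,3,2,3,6,4,3,1,2,3,5,2,3,0,1,3,5,6,3,2,1,0,3,5,4,2,3,2,3,1,2,3,6,5,2,6,3,4,2,3,5,4,3,6,2,3,1,2,3,6,2,1,2,3,5,4,3,1,2,3,6,5,3,1,2,0,1])) (.node (.word [3,2,3,2,1,5,6,3,2,5,3,2,1,3,6,2,3,2,3,6,4,3,1,2,3,5,2,3,0,1,3,6,3,4,2,3,5,4,3,6,2,3,1,2,3,6,2,1,3,6,3,4,2,3,5,4,3,6,2,3,1,2,3,6,2,0,1,3,2,1,3,4,5,3,2,1,6,3,4,2,3,2,3,6,3,1,2,3,5,2,6,3,4,2,3,5,4,3,6,2,3,1,2,3,6,2]) (.word [1,3,6,3,4,2,3,5,4,3,6,2,3,1,2,3,6,2,1,0,2,3,2,6,3,2,1,0,5,3,4,2,3,2,3,5,1,2,3,6,2,5,4,3,1,2,3,6,5,3,1,2,0,2,3,5,4,3,1,2,3,6,5,3,1,2,0,1]))))) (.node (.node (.node (.node .none (.word [1,3,5,6,3,2,1,0,3,5,4,2,3,2,3,1,2,3,6,5,2,5,6,3,2,1,0,3,5,4,2,3,2,3,1,2,3,6,5,2,3,2,3,5,4,3,1,2,3,6,5,3,1,2,0,1]))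 (.word [1,3,6,3,4,2,3,5,4,3,6,2,3,1,2,3,6,2,1,3,6,3,4,2,3,5,4,3,6,2,3,1,2,3,6,2,1,0,2,3,2,6,3,2,1,0,5,3,4,2,3,2,3,5,1,2,3,6,2,3,2,3,6,3,4,2,3,5,4,3,6,2,3,1,2,3,6,2,1,3,6,3,4,2,3,5,4,3,6,2,3,1,2,3,6,2])) (.node (.node (.word [1,3,6,3,4,2,3,5,4,3,6,2,3,1,2,3,6,2,0,1,3,2,1,3,4,5,3,2,1,6,3,4,2,3,2,3,6,3,1,2,3,5,2,3,1,3,2,3,2,1,5,6,3,2,5,3,2,1,3,6,2,3,2,3,6,4,3,1,2,3,5,2,3,0,1,2,3,5,4,3,1,2,3,6,5,3,1,2,0,1]) (.word [1,0,2,3,2,6,3,2,1,0,5,3,4,2,3,2,3,5,1,2,3,6,2,3,2,1,0,1,3,2,1,3,4,5,3,2,1,6,3,4,2,3,2,3,6,3,1,2,3,5,2,3,1,0,1,3,2,1,3,4,5,3,2,1,6,3,4,2,3,2,3,6,3,1,2,3,5,2,6,3,4,2,3,5,4,3,6,2,3,1,2,3,6,2])) (.word [1,3,5,6,3,2,1,0,3,5,4,2,3,2,3,1,2,3,6,5,2,3,1,3,2,3,2,1,5,6,3,2,5,3,2,1,3,6,2,3,2,3,6,4,3,1,2,3,5,2,3,0,1,2,3,5,4,3,1,2,3,6,5,3,1,2,0,1,0,1,3,2,1,3,4,5,3,2,1,6,3,4,2,3,2,3,6,3,1,2,3,5,2,6,3,4,2,3,5,4,3,6,2,3,1,2,3,6,2])))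 (.node (.node (.node .none (.word [1,3,5,6,3,2,1,0,3,5,4,2,3,2,3,1,2,3,6,5,2,3,1,0,1,3,2,1,3,4,5,3,2,1,6,3,4,2,3,2,3,6,3,1,2,3,5,2,3,0,2,3,2,6,3,2,1,0,5,3,4,2,3,2,3,5,1,2,3,6,2,3,2,3,6,3,4,2,3,5,4,3,6,2,3,1,2,3,6,2,3,2,3,2,1,5,6,3,2,5,3,2,1,3,6,2,3,2,3,6,4,3,1,2,3,5,2,3,0,1,3,6,3,4,2,3,5,4,3,6,2,3,1,2,3,6,2])) (.word [3,2,3,2,1,5,6,3,2,5,3,2,1,3,6,2,3,2,3,6,4,3,1,2,3,5,2,3,0,3,2,3,2,1,5,6,3,2,5,3,2,1,3,6,2,3,2,3,6,4,3,1,2,3,5,2,3,0,1,3,5,6,3,2,1,0,3,5,4,2,3,2,3,1,2,3,6,5,2,3,1,0,1,3,2,1,3,4,5,3,2,1,6,3,4,2,3,2,3,6,3,1,2,3,5,2,3,2,3,5,4,3,1,2,3,6,5,3,1,2,0,1])) (.node (.word [1,0,2,3,2,6,3,2,1,0,5,3,4,2,3,2,3,5,1,2,3,6,2,3,2,1,0,1,3,2,1,3,4,5,3,2,1,6,3,4,2,3,2,3,6,3,1,2,3,5,2,3,1,0,1,3,2,1,3,4,5,3,2,1,6,3,4,2,3,2,3,6,3,1,2,3,5,2,3,2,3,5,4,3,1,2,3,6,5,3,1,2,0,1])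 (.node (.word [3,2,3,2,1,5,6,3,2,5,3,2,1,3,6,2,3,2,3,6,4,3,1,2,3,5,2,3,0,3,2,3,2,1,5,6,3,2,5,3,2,1,3,6,2,3,2,3,6,4,3,1,2,3,5,2,3,0,3,2,3,2,1,5,6,3,2,5,3,2,1,3,6,2,3,2,3,6,4,3,1,2,3,5,2,3,0,1,3,6,3,4,2,3,5,4,3,6,2,3,1,2,3,6,2,1,3,6,3,4,2,3,5,4,3,6,2,3,1,2,3,6,2]) (.word [1,3,6,3,4,2,3,5,4,3,6,2,3,1,2,3,6,2,3,2,3,2,1,5,6,3,2,5,3,2,1,3,6,2,3,2,3,6,4,3,1,2,3,5,2,3,1,3,2,1,3,4,5,3,2,1,6,3,4,2,3,2,3,6,3,1,2,3,5,2,3,2,3,5,4,3,1,2,3,6,5,3,1,2,0,1]))))))) (.node (.node (.node (.node (.node (.node .none (.word [0,1,3,2,1,3,4,5,3,2,1,6,3,4,2,3,2,3,6,3,1,2,3,5,2,6,3,4,2,3,5,4,3,6,2,3,1,2,3,6,2,3,2,3,2,1,5,6,3,2,5,3,2,1,3,6,2,3,2,3,6,4,3,1,2,3,5,2,3,0,1,3,6,3,4,2,3,5,4,3,6,2,3,1,2,3,6,2,1,2,3,5,4,3,1,2,3,6,5,3,1,2,0,1]))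 (.node .none (.word [3,2,3,2,1,5,6,3,2,5,3,2,1,3,6,2,3,2,3,6,4,3,1,2,3,5,2,3,1,3,2,1,3,4,5,3,2,1,6,3,4,2,3,2,3,6,3,1,2,3,5,2,3,2,3,5,4,3,1,2,3,6,5,3,1,2,0,2,3,5,4,3,1,2,3,6,5,3,1,2,0,2,3,5,4,3,1,2,3,6,5,3,1,2,0,1]))) (.node (.word [1,0,2,3,2,6,3,2,1,0,5,3,4,2,3,2,3,5,1,2,3,6,2,3,2,1,3,2,3,2,1,5,6,3,2,5,3,2,1,3,6,2,3,2,3,6,4,3,1,2,3,5,2,3,0,1,2,3,5,4,3,1,2,3,6,5,3,1,2,0,1,0,1,3,2,1,3,4,5,3,2,1,6,3,4,2,3,2,3,6,3,1,2,3,5,2,3,2,3,5,4,3,1,2,3,6,5,3,1,2,0,1]) (.node (.word [1,2,3,5,4,3,1,2,3,6,5,3,1,2,0,3,6,3,4,2,3,5,4,3,6,2,3,1,2,3,6,2,1,2,3,5,4,3,1,2,3,6,5,3,1,2,0,3,6,3,4,2,3,5,4,3,6,2,3,1,2,3,6,2,1,3,6,3,4,2,3,5,4,3,6,2,3,1,2,3,6,2]) (.word [1,3,6,3,4,2,3,5,4,3,6,2,3,1,2,3,6,2,0,1,3,2,1,3,4,5,3,2,1,6,3,4,2,3,2,3,6,3,1,2,3,5,2,3,0,2,3,2,6,3,2,1,0,5,3,4,2,3,2,3,5,1,2,3,6,2,5,4,3,1,2,3,6,5,3,1,2,0,2,3,5,4,3,1,2,3,6,5,3,1,2,0,1]))))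 (.node (.node (.node (.word [1,3,6,3,4,2,3,5,4,3,6,2,3,1,2,3,6,2,1,3,5,6,3,2,1,0,3,5,4,2,3,2,3,1,2,3,6,5,2,5,6,3,2,1,0,3,5,4,2,3,2,3,1,2,3,6,5,2,6,3,4,2,3,5,4,3,6,2,3,1,2,3,6,2,0,1,3,2,1,3,4,5,3,2,1,6,3,4,2,3,2,3,6,3,1,2,3,5,2,3,2,3,5,4,3,1,2,3,6,5,3,1,2,0,1]) (.word [1,2,3,5,4,3,1,2,3,6,5,3,1,2,0,1,3,2,3,2,1,5,6,3,2,5,3,2,1,3,6,2,3,2,3,6,4,3,1,2,3,5,2,3,1,3,2,1,3,4,5,3,2,1,6,3,4,2,3,2,3,6,3,1,2,3,5,2,3,1,0,1,3,2,1,3,4,5,3,2,1,6,3,4,2,3,2,3,6,3,1,2,3,5,2,3,2,3,5,4,3,1,2,3,6,5,3,1,2,0,1])) (.node (.word [3,2,3,2,1,5,6,3,2,5,3,2,1,3,6,2,3,2,3,6,4,3,1,2,3,5,2,3,0,1,2,3,5,4,3,1,2,3,6,5,3,1,2,0,3,6,3,4,2,3,5,4,3,6,2,3,1,2,3,6,2,1,3,6,3,4,2,3,5,4,3,6,2,3,1,2,3,6,2,1,2,3,5,4,3,1,2,3,6,5,3,1,2,0,1])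 (.word [1,3,6,3,4,2,3,5,4,3,6,2,3,1,2,3,6,2,1,3,6,3,4,2,3,5,4,3,6,2,3,1,2,3,6,2,1,2,3,5,4,3,1,2,3,6,5,3,1,2,0,2,3,5,4,3,1,2,3,6,5,3,1,2,0,1]))) (.node (.node (.word [0,1,3,2,1,3,4,5,3,2,1,6,3,4,2,3,2,3,6,3,1,2,3,5,2,3,1,0,1,3,2,1,3,4,5,3,2,1,6,3,4,2,3,2,3,6,3,1,2,3,5,2,3,1,3,2,3,2,1,5,6,3,2,5,3,2,1,3,6,2,3,2,3,6,4,3,1,2,3,5,2,3,0,1,3,6,3,4,2,3,5,4,3,6,2,3,1,2,3,6,2,1,3,6,3,4,2,3,5,4,3,6,2,3,1,2,3,6,2]) (.word [1,2,3,5,4,3,1,2,3,6,5,3,1,2,0,1,0,1,3,2,1,3,4,5,3,2,1,6,3,4,2,3,2,3,6,3,1,2,3,5,2,3,0,2,3,2,6,3,2,1,0,5,3,4,2,3,2,3,5,1,2,3,6,2,5,4,3,1,2,3,6,5,3,1,2,0,2,3,5,4,3,1,2,3,6,5,3,1,2,0,1])) (.word [1,3,6,3,4,2,3,5,4,3,6,2,3,1,2,3,6,2,3,2,3,2,1,5,6,3,2,5,3,2,1,3,6,2,3,2,3,6,4,3,1,2,3,5,2,3,0,1,2,3,5,4,3,1,2,3,6,5,3,1,2,0,1,0,1,3,2,1,3,4,5,3,2,1,6,3,4,2,3,2,3,6,3,1,2,3,5,2,3,2,3,5,4,3,1,2,3,6,5,3,1,2,0,1]))))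 (.node (.node (.node (.word [1,3,5,6,3,2,1,0,3,5,4,2,3,2,3,1,2,3,6,5,2,6,3,4,2,3,5,4,3,6,2,3,1,2,3,6,2,1,3,6,3,4,2,3,5,4,3,6,2,3,1,2,3,6,2,1,3,5,6,3,2,1,0,3,5,4,2,3,2,3,1,2,3,6,5,2,6,3,4,2,3,5,4,3,6,2,3,1,2,3,6,2,1,3,6,3,4,2,3,5,4,3,6,2,3,1,2,3,6,2]) (.node (.word [1,3,6,3,4,2,3,5,4,3,6,2,3,1,2,3,6,2,1,2,3,5,4,3,1,2,3,6,5,3,1,2,0,3,5,6,3,2,1,0,3,5,4,2,3,2,3,1,2,3,6,5,2,3,1,0,1,3,2,1,3,4,5,3,2,1,6,3,4,2,3,2,3,6,3,1,2,3,5,2,6,3,4,2,3,5,4,3,6,2,3,1,2,3,6,2,1,2,3,5,4,3,1,2,3,6,5,3,1,2,0,1]) (.word [1,3,6,3,4,2,3,5,4,3,6,2,3,1,2,3,6,2,1,3,6,3,4,2,3,5,4,3,6,2,3,1,2,3,6,2,1,3,5,6,3,2,1,0,3,5,4,2,3,2,3,1,2,3,6,5,2,6,3,4,2,3,5,4,3,6,2,3,1,2,3,6,2]))) (.node (.node .none (.word [1,2,3,5,4,3,1,2,3,6,5,3,1,2,0,1,0,1,3,2,1,3,4,5,3,2,1,6,3,4,2,3,2,3,6,3,1,2,3,5,2,3,0,2,3,2,6,3,2,1,0,5,3,4,2,3,2,3,5,1,2,3,6,2,3,2,1,3,2,3,2,1,5,6,3,2,5,3,2,1,3,6,2,3,2,3,6,4,3,1,2,3,5,2,3,0,1,3,6,3,4,2,3,5,4,3,6,2,3,1,2,3,6,2]))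 (.node (.word [1,2,3,5,4,3,1,2,3,6,5,3,1,2,0,1,3,2,3,2,1,5,6,3,2,5,3,2,1,3,6,2,3,2,3,6,4,3,1,2,3,5,2,3,0,1,3,6,3,4,2,3,5,4,3,6,2,3,1,2,3,6,2,1,3,6,3,4,2,3,5,4,3,6,2,3,1,2,3,6,2,1,3,6,3,4,2,3,5,4,3,6,2,3,1,2,3,6,2]) (.word [1,2,3,5,4,3,1,2,3,6,5,3,1,2,0,3,6,3,4,2,3,5,4,3,6,2,3,1,2,3,6,2,1,2,3,5,4,3,1,2,3,6,5,3,1,3,2,6,3,2,1,0,5,3,4,2,3,2,3,5,1,2,3,6,2,3,2,3,6,3,4,2,3,5,4,3,6,2,3,1,2,3,6,2])))) (.node (.node (.node .none (.word [1,3,6,3,4,2,3,5,4,3,6,2,3,1,2,3,6,2,1,2,3,5,4,3,1,2,3,6,5,3,1,2,0,3,5,6,3,2,1,0,3,5,4,2,3,2,3,1,2,3,6,5,2,3,2,3,5,4,3,1,2,3,6,5,3,1,2,0,3,6,3,4,2,3,5,4,3,6,2,3,1,2,3,6,2])) (.node .none (.word [1,3,5,6,3,2,1,0,3,5,4,2,3,2,3,1,2,3,6,5,2,3,1,0,1,3,2,1,3,4,5,3,2,1,6,3,4,2,3,2,3,6,3,1,2,3,5,2,3,2,3,5,4,3,1,2,3,6,5,3,1,2,0,2,3,5,4,3,1,2,3,6,5,3,1,2,0,1])))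 (.node (.word [3,2,3,2,1,5,6,3,2,5,3,2,1,3,6,2,3,2,3,6,4,3,1,2,3,5,2,3,0,1,3,6,3,4,2,3,5,4,3,6,2,3,1,2,3,6,2,3,2,3,2,1,5,6,3,2,5,3,2,1,3,6,2,3,2,3,6,4,3,1,2,3,5,2,3,1,3,2,1,3,4,5,3,2,1,6,3,4,2,3,2,3,6,3,1,2,3,5,2,6,3,4,2,3,5,4,3,6,2,3,1,2,3,6,2]) (.node (.word [1,3,6,3,4,2,3,5,4,3,6,2,3,1,2,3,6,2,1,2,3,5,4,3,1,2,3,6,5,3,1,2,0,2,3,5,4,3,1,2,3,6,5,3,1,2,0,3,6,3,4,2,3,5,4,3,6,2,3,1,2,3,6,2]) (.word [1,0,2,3,2,6,3,2,1,0,5,3,4,2,3,2,3,5,1,2,3,6,2,3,2,3,6,3,4,2,3,5,4,3,6,2,3,1,2,3,6,2,1,2,3,5,4,3,1,2,3,6,5,3,1,2,0,2,3,5,4,3,1,2,3,6,5,3,1,2,0,1])))))) (.node (.node (.node .none (.node (.word [1,0,2,3,2,6,3,2,1,0,5,3,4,2,3,2,3,5,1,2,3,6,2,3,2,3,6,3,4,2,3,5,4,3,6,2,3,1,2,3,6,2,0,1,3,2,1,3,4,5,3,2,1,6,3,4,2,3,2,3,6,3,1,2,3,5,2,3,2,3,5,4,3,1,2,3,6,5,3,1,2,0,1])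 (.node (.word [3,2,3,2,1,5,6,3,2,5,3,2,1,3,6,2,3,2,3,6,4,3,1,2,3,5,2,3,0,3,2,3,2,1,5,6,3,2,5,3,2,1,3,6,2,3,2,3,6,4,3,1,2,3,5,2,3,0,1,3,5,6,3,2,1,0,3,5,4,2,3,2,3,1,2,3,6,5,2,3,2,3,5,4,3,1,2,3,6,5,3,1,2,0,2,3,5,4,3,1,2,3,6,5,3,1,2,0,3,6,3,4,2,3,5,4,3,6,2,3,1,2,3,6,2]) (.word [1,0,2,3,2,6,3,2,1,0,5,3,4,2,3,2,3,5,1,2,3,6,2,3,2,1,3,2,3,2,1,5,6,3,2,5,3,2,1,3,6,2,3,2,3,6,4,3,1,2,3,5,2,3,0,1,3,6,3,4,2,3,5,4,3,6,2,3,1,2,3,6,2,1,2,3,5,4,3,1,2,3,6,5,3,1,2,0,3,6,3,4,2,3,5,4,3,6,2,3,1,2,3,6,2])))) (.node (.node (.node (.word [3,2,3,2,1,5,6,3,2,5,3,2,1,3,6,2,3,2,3,6,4,3,1,2,3,5,2,3,0,1,3,5,6,3,2,1,0,3,5,4,2,3,2,3,1,2,3,6,5,2,3,1,0,1,3,2,1,3,4,5,3,2,1,6,3,4,2,3,2,3,6,3,1,2,3,5,2,3,1,3,2,3,2,1,5,6,3,2,5,3,2,1,3,6,2,3,2,3,6,4,3,1,2,3,5,2,3,0,1,2,3,5,4,3,1,2,3,6,5,3,1,2,0,1])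 (.word [1,3,6,3,4,2,3,5,4,3,6,2,3,1,2,3,6,2,3,2,3,2,1,5,6,3,2,5,3,2,1,3,6,2,3,2,3,6,4,3,1,2,3,5,2,3,0,1,3,6,3,4,2,3,5,4,3,6,2,3,1,2,3,6,2,3,2,3,2,1,5,6,3,2,5,3,2,1,3,6,2,3,2,3,6,4,3,1,2,3,5,2,3,0,1,2,3,5,4,3,1,2,3,6,5,3,1,2,0,3,6,3,4,2,3,5,4,3,6,2,3,1,2,3,6,2])) (.node (.word [0,1,3,2,1,3,4,5,3,2,1,6,3,4,2,3,2,3,6,3,1,2,3,5,2,3,2,3,5,4,3,1,2,3,6,5,3,1,2,0,3,6,3,4,2,3,5,4,3,6,2,3,1,2,3,6,2,3,2,3,2,1,5,6,3,2,5,3,2,1,3,6,2,3,2,3,6,4,3,1,2,3,5,2,3,0,1,3,6,3,4,2,3,5,4,3,6,2,3,1,2,3,6,2]) (.word [1,0,2,3,2,6,3,2,1,0,5,3,4,2,3,2,3,5,1,2,3,6,2,3,2,3,5,6,3,2,1,0,3,5,4,2,3,2,3,1,2,3,6,5,2,3,1,0,1,3,2,1,3,4,5,3,2,1,6,3,4,2,3,2,3,6,3,1,2,3,5,2,3,1,3,2,3,2,1,5,6,3,2,5,3,2,1,3,6,2,3,2,3,6,4,3,1,2,3,5,2,3,0,1,2,3,5,4,3,1,2,3,6,5,3,1,2,0,1])))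 (.node (.node (.word [1,2,3,5,4,3,1,2,3,6,5,3,1,2,0,3,6,3,4,2,3,5,4,3,6,2,3,1,2,3,6,2,0,1,3,2,1,3,4,5,3,2,1,6,3,4,2,3,2,3,6,3,1,2,3,5,2,3,2,3,5,4,3,1,2,3,6,5,3,1,2,0,3,6,3,4,2,3,5,4,3,6,2,3,1,2,3,6,2,1,3,6,3,4,2,3,5,4,3,6,2,3,1,2,3,6,2,1,3,6,3,4,2,3,5,4,3,6,2,3,1,2,3,6,2]) (.word [0,1,3,2,1,3,4,5,3,2,1,6,3,4,2,3,2,3,6,3,1,2,3,5,2,3,1,0,1,3,2,1,3,4,5,3,2,1,6,3,4,2,3,2,3,6,3,1,2,3,5,2,3,2,3,5,4,3,1,2,3,6,5,3,1,2,0,3,6,3,4,2,3,5,4,3,6,2,3,1,2,3,6,2])) (.word [1,3,5,6,3,2,1,0,3,5,4,2,3,2,3,1,2,3,6,5,2,5,6,3,2,1,0,3,5,4,2,3,2,3,1,2,3,6,5,2,6,3,4,2,3,5,4,3,6,2,3,1,2,3,6,2,1,2,3,5,4,3,1,2,3,6,5,3,1,2,0,1])))) (.node (.node (.node (.word [1,3,6,3,4,2,3,5,4,3,6,2,3,1,2,3,6,2,3,2,3,2,1,5,6,3,2,5,3,2,1,3,6,2,3,2,3,6,4,3,1,2,3,5,2,3,0,1,3,6,3,4,2,3,5,4,3,6,2,3,1,2,3,6,2,1,0,2,3,2,6,3,2,1,0,5,3,4,2,3,2,3,5,1,2,3,6,2,3,2,1,0,1,3,2,1,3,4,5,3,2,1,6,3,4,2,3,2,3,6,3,1,2,3,5,2,6,3,4,2,3,5,4,3,6,2,3,1,2,3,6,2])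 (.node .none (.word [3,2,3,2,1,5,6,3,2,5,3,2,1,3,6,2,3,2,3,6,4,3,1,2,3,5,2,3,0,3,2,3,2,1,5,6,3,2,5,3,2,1,3,6,2,3,2,3,6,4,3,1,2,3,5,2,3,0,1,3,6,3,4,2,3,5,4,3,6,2,3,1,2,3,6,2,1,3,6,3,4,2,3,5,4,3,6,2,3,1,2,3,6,2,1,3,6,3,4,2,3,5,4,3,6,2,3,1,2,3,6,2]))) (.node (.node (.word [1,2,3,5,4,3,1,2,3,6,5,3,1,2,0,1,3,2,3,2,1,5,6,3,2,5,3,2,1,3,6,2,3,2,3,6,4,3,1,2,3,5,2,3,1,3,2,1,3,4,5,3,2,1,6,3,4,2,3,2,3,6,3,1,2,3,5,2,6,3,4,2,3,5,4,3,6,2,3,1,2,3,6,2,1,3,6,3,4,2,3,5,4,3,6,2,3,1,2,3,6,2]) (.word [1,3,5,6,3,2,1,0,3,5,4,2,3,2,3,1,2,3,6,5,2,3,2,3,5,4,3,1,2,3,6,5,3,1,2,0,3,5,6,3,2,1,0,3,5,4,2,3,2,3,1,2,3,6,5,2,6,3,4,2,3,5,4,3,6,2,3,1,2,3,6,2])) (.word [1,0,2,3,2,6,3,2,1,0,5,3,4,2,3,2,3,5,1,2,3,6,2,3,2,3,5,6,3,2,1,0,3,5,4,2,3,2,3,1,2,3,6,5,2,6,3,4,2,3,5,4,3,6,2,3,1,2,3,6,2,0,1,3,2,1,3,4,5,3,2,1,6,3,4,2,3,2,3,6,3,1,2,3,5,2,3,2,3,5,4,3,1,2,3,6,5,3,1,2,0,1])))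 (.node (.node (.word [3,2,3,2,1,5,6,3,2,5,3,2,1,3,6,2,3,2,3,6,4,3,1,2,3,5,2,3,0,1,3,5,6,3,2,1,0,3,5,4,2,3,2,3,1,2,3,6,5,2,3,2,3,5,4,3,1,2,3,6,5,3,1,2,0,1,3,2,3,2,1,5,6,3,2,5,3,2,1,3,6,2,3,2,3,6,4,3,1,2,3,5,2,3,0,1,3,6,3,4,2,3,5,4,3,6,2,3,1,2,3,6,2,1,3,6,3,4,2,3,5,4,3,6,2,3,1,2,3,6,2]) (.word [1,0,2,3,2,6,3,2,1,0,5,3,4,2,3,2,3,5,1,2,3,6,2,3,2,3,6,3,4,2,3,5,4,3,6,2,3,1,2,3,6,2,1,2,3,5,4,3,1,2,3,6,5,3,1,2,0,3,6,3,4,2,3,5,4,3,6,2,3,1,2,3,6,2])) (.node .none (.node .none (.word [1,0,2,3,2,6,3,2,1,0,5,3,4,2,3,2,3,5,1,2,3,6,2,3,2,1,0,1,3,2,1,3,4,5,3,2,1,6,3,4,2,3,2,3,6,3,1,2,3,5,2,3,2,3,5,4,3,1,2,3,6,5,3,1,2,0,1,3,2,3,2,1,5,6,3,2,5,3,2,1,3,6,2,3,2,3,6,4,3,1,2,3,5,2,3,0,1,3,6,3,4,2,3,5,4,3,6,2,3,1,2,3,6,2]))))))))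

/-- A subtree. -/
def sub98 : WTree :=
  (.node (.node sub94 sub95) (.node sub96 sub97))

/-- A subtree. -/
def sub99 : WTree :=
  (.node (.node (.node (.node (.node (.node (.node (.node .none (.word [1,3,6,3,4,2,3,5,4,3,6,2,3,1,2,3,6,2,1,3,6,3,4,2,3,5,4,3,6,2,3,1,2,3,6,2,0,1,3,2,1,3,4,5,3,2,1,6,3,4,2,3,2,3,6,3,1,2,3,5,2,3,1,3,2,3,2,1,5,6,3,2,5,3,2,1,3,6,2,3,2,3,6,4,3,1,2,3,5,2,3,0,1,2,3,5,4,3,1,2,3,6,5,3,1,2,0,3,6,3,4,2,3,5,4,3,6,2,3,1,2,3,6,2])) (.word [1,3,6,3,4,2,3,5,4,3,6,2,3,1,2,3,6,2,1,3,5,6,3,2,1,0,3,5,4,2,3,2,3,1,2,3,6,5,2,3,2,3,5,4,3,1,2,3,6,5,3,1,2,0,1,3,2,3,2,1,5,6,3,2,5,3,2,1,3,6,2,3,2,3,6,4,3,1,2,3,5,2,3,0,1,3,6,3,4,2,3,5,4,3,6,2,3,1,2,3,6,2])) (.node (.word [0,1,3,2,1,3,4,5,3,2,1,6,3,4,2,3,2,3,6,3,1,2,3,5,2,3,2,3,5,4,3,1,2,3,6,5,3,1,2,0,3,5,6,3,2,1,0,3,5,4,2,3,2,3,1,2,3,6,5,2,3,2,3,5,4,3,1,2,3,6,5,3,1,2,0,3,6,3,4,2,3,5,4,3,6,2,3,1,2,3,6,2])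 (.word [0,1,3,2,1,3,4,5,3,2,1,6,3,4,2,3,2,3,6,3,1,2,3,5,2,3,1,3,2,3,2,1,5,6,3,2,5,3,2,1,3,6,2,3,2,3,6,4,3,1,2,3,5,2,3,1,3,2,1,3,4,5,3,2,1,6,3,4,2,3,2,3,6,3,1,2,3,5,2,3,1,3,2,3,2,1,5,6,3,2,5,3,2,1,3,6,2,3,2,3,6,4,3,1,2,3,5,2,3,0,1,3,6,3,4,2,3,5,4,3,6,2,3,1,2,3,6,2]))) (.node (.node (.word [1,3,5,6,3,2,1,0,3,5,4,2,3,2,3,1,2,3,6,5,2,3,0,2,3,2,6,3,2,1,0,5,3,4,2,3,2,3,5,1,2,3,6,2,3,2,3,6,3,4,2,3,5,4,3,6,2,3,1,2,3,6,2,1,3,5,6,3,2,1,0,3,5,4,2,3,2,3,1,2,3,6,5,2,6,3,4,2,3,5,4,3,6,2,3,1,2,3,6,2]) (.word [1,2,3,5,4,3,1,2,3,6,5,3,1,2,0,1])) (.node .none (.word [1,0,2,3,2,6,3,2,1,0,5,3,4,2,3,2,3,5,1,2,3,6,2,3,2,3,5,6,3,2,1,0,3,5,4,2,3,2,3,1,2,3,6,5,2,3,1,3,2,3,2,1,5,6,3,2,5,3,2,1,3,6,2,3,2,3,6,4,3,1,2,3,5,2,3,0,1,2,3,5,4,3,1,2,3,6,5,3,1,2,0,1]))))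 (.node (.node (.node (.word [1,3,6,3,4,2,3,5,4,3,6,2,3,1,2,3,6,2,3,2,3,2,1,5,6,3,2,5,3,2,1,3,6,2,3,2,3,6,4,3,1,2,3,5,2,3,0,1,0,2,3,2,6,3,2,1,0,5,3,4,2,3,2,3,5,1,2,3,6,2,5,4,3,1,2,3,6,5,3,1,2,0,1]) (.word [0,1,3,2,1,3,4,5,3,2,1,6,3,4,2,3,2,3,6,3,1,2,3,5,2,5,6,3,2,1,0,3,5,4,2,3,2,3,1,2,3,6,5,2,3,2,3,5,4,3,1,2,3,6,5,3,1,2,0,1])) (.node (.word [1,0,2,3,2,6,3,2,1,0,5,3,4,2,3,2,3,5,1,2,3,6,2,5,4,3,1,2,3,6,5,3,1,2,0,3,6,3,4,2,3,5,4,3,6,2,3,1,2,3,6,2,0,1,3,2,1,3,4,5,3,2,1,6,3,4,2,3,2,3,6,3,1,2,3,5,2,6,3,4,2,3,5,4,3,6,2,3,1,2,3,6,2]) (.word [1,3,6,3,4,2,3,5,4,3,6,2,3,1,2,3,6,2,3,2,3,2,1,5,6,3,2,5,3,2,1,3,6,2,3,2,3,6,4,3,1,2,3,5,2,3,0,3,2,3,2,1,5,6,3,2,5,3,2,1,3,6,2,3,2,3,6,4,3,1,2,3,5,2,3,0,1,2,3,5,4,3,1,2,3,6,5,3,1,2,0,3,6,3,4,2,3,5,4,3,6,2,3,1,2,3,6,2])))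 (.node (.word [1,0,2,3,2,6,3,2,1,0,5,3,4,2,3,2,3,5,1,2,3,6,2,3,2,1,3,2,3,2,1,5,6,3,2,5,3,2,1,3,6,2,3,2,3,6,4,3,1,2,3,5,2,3,0,3,2,3,2,1,5,6,3,2,5,3,2,1,3,6,2,3,2,3,6,4,3,1,2,3,5,2,3,0,1,2,3,5,4,3,1,2,3,6,5,3,1,2,0,3,6,3,4,2,3,5,4,3,6,2,3,1,2,3,6,2]) (.node (.word [1,2,3,5,4,3,1,2,3,6,5,3,1,3,2,6,3,2,1,0,5,3,4,2,3,2,3,5,1,2,3,6,2,3,2,3,6,3,4,2,3,5,4,3,6,2,3,1,2,3,6,2,3,2,3,2,1,5,6,3,2,5,3,2,1,3,6,2,3,2,3,6,4,3,1,2,3,5,2,3,0,1,2,3,5,4,3,1,2,3,6,5,3,1,2,0,3,6,3,4,2,3,5,4,3,6,2,3,1,2,3,6,2]) (.word [1,0,2,3,2,6,3,2,1,0,5,3,4,2,3,2,3,5,1,2,3,6,2,3,2,3,6,3,4,2,3,5,4,3,6,2,3,1,2,3,6,2,1,3,6,3,4,2,3,5,4,3,6,2,3,1,2,3,6,2,0,1,3,2,1,3,4,5,3,2,1,6,3,4,2,3,2,3,6,3,1,2,3,5,2,6,3,4,2,3,5,4,3,6,2,3,1,2,3,6,2])))))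 (.node (.node (.node (.node (.word [0,1,3,2,1,3,4,5,3,2,1,6,3,4,2,3,2,3,6,3,1,2,3,5,2,3,1,3,2,3,2,1,5,6,3,2,5,3,2,1,3,6,2,3,2,3,6,4,3,1,2,3,5,2,3,0,1,3,5,6,3,2,1,0,3,5,4,2,3,2,3,1,2,3,6,5,2,3,2,3,5,4,3,1,2,3,6,5,3,1,2,0,2,3,5,4,3,1,2,3,6,5,3,1,2,0,1]) (.word [1,2,3,5,4,3,1,2,3,6,5,3,1,2,0,1,3,2,3,2,1,5,6,3,2,5,3,2,1,3,6,2,3,2,3,6,4,3,1,2,3,5,2,3,0,1,2,3,5,4,3,1,2,3,6,5,3,1,2,0,1,0,1,3,2,1,3,4,5,3,2,1,6,3,4,2,3,2,3,6,3,1,2,3,5,2,3,2,3,5,4,3,1,2,3,6,5,3,1,2,0,1])) .none) (.node (.node (.word [1,3,5,6,3,2,1,0,3,5,4,2,3,2,3,1,2,3,6,5,2,6,3,4,2,3,5,4,3,6,2,3,1,2,3,6,2,3,2,3,2,1,5,6,3,2,5,3,2,1,3,6,2,3,2,3,6,4,3,1,2,3,5,2,3,0,1,2,3,5,4,3,1,2,3,6,5,3,1,2,0,3,6,3,4,2,3,5,4,3,6,2,3,1,2,3,6,2,1,3,6,3,4,2,3,5,4,3,6,2,3,1,2,3,6,2])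 (.word [1,2,3,5,4,3,1,2,3,6,5,3,1,3,2,6,3,2,1,0,5,3,4,2,3,2,3,5,1,2,3,6,2,3,2,3,5,6,3,2,1,0,3,5,4,2,3,2,3,1,2,3,6,5,2,3,2,3,5,4,3,1,2,3,6,5,3,1,2,0,2,3,5,4,3,1,2,3,6,5,3,1,2,0,1])) (.node .none (.word [1,2,3,5,4,3,1,2,3,6,5,3,1,2,0,3,6,3,4,2,3,5,4,3,6,2,3,1,2,3,6,2,1,3,5,6,3,2,1,0,3,5,4,2,3,2,3,1,2,3,6,5,2,5,6,3,2,1,0,3,5,4,2,3,2,3,1,2,3,6,5,2,6,3,4,2,3,5,4,3,6,2,3,1,2,3,6,2,1,2,3,5,4,3,1,2,3,6,5,3,1,2,0,1])))) (.node (.node (.node .none (.word [1,3,5,6,3,2,1,0,3,5,4,2,3,2,3,1,2,3,6,5,2,3,1,0,1,3,2,1,3,4,5,3,2,1,6,3,4,2,3,2,3,6,3,1,2,3,5,2,3,2,3,5,4,3,1,2,3,6,5,3,1,2,0,1])) (.word [1,2,3,5,4,3,1,2,3,6,5,3,1,2,0,1,0,1,3,2,1,3,4,5,3,2,1,6,3,4,2,3,2,3,6,3,1,2,3,5,2,3,2,3,5,4,3,1,2,3,6,5,3,1,2,0,2,3,5,4,3,1,2,3,6,5,3,1,2,0,1]))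 (.word [3,2,3,2,1,5,6,3,2,5,3,2,1,3,6,2,3,2,3,6,4,3,1,2,3,5,2,3,0,1,2,3,5,4,3,1,2,3,6,5,3,1,2,0,2,3,5,4,3,1,2,3,6,5,3,1,2,0,3,5,6,3,2,1,0,3,5,4,2,3,2,3,1,2,3,6,5,2,5,6,3,2,1,0,3,5,4,2,3,2,3,1,2,3,6,5,2,6,3,4,2,3,5,4,3,6,2,3,1,2,3,6,2])))) (.node (.node (.node (.node (.node (.word [3,2,3,2,1,5,6,3,2,5,3,2,1,3,6,2,3,2,3,6,4,3,1,2,3,5,2,3,0,1,3,5,6,3,2,1,0,3,5,4,2,3,2,3,1,2,3,6,5,2,6,3,4,2,3,5,4,3,6,2,3,1,2,3,6,2,0,1,3,2,1,3,4,5,3,2,1,6,3,4,2,3,2,3,6,3,1,2,3,5,2,6,3,4,2,3,5,4,3,6,2,3,1,2,3,6,2]) (.word [1,0,2,3,2,6,3,2,1,0,5,3,4,2,3,2,3,5,1,2,3,6,2,3,2,3,6,3,4,2,3,5,4,3,6,2,3,1,2,3,6,2,1,3,6,3,4,2,3,5,4,3,6,2,3,1,2,3,6,2,1,3,6,3,4,2,3,5,4,3,6,2,3,1,2,3,6,2,0,1,3,2,1,3,4,5,3,2,1,6,3,4,2,3,2,3,6,3,1,2,3,5,2,6,3,4,2,3,5,4,3,6,2,3,1,2,3,6,2]))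 (.word [1,3,6,3,4,2,3,5,4,3,6,2,3,1,2,3,6,2,1,3,5,6,3,2,1,0,3,5,4,2,3,2,3,1,2,3,6,5,2,3,1,3,2,3,2,1,5,6,3,2,5,3,2,1,3,6,2,3,2,3,6,4,3,1,2,3,5,2,3,0,1,3,5,6,3,2,1,0,3,5,4,2,3,2,3,1,2,3,6,5,2,6,3,4,2,3,5,4,3,6,2,3,1,2,3,6,2,1,3,6,3,4,2,3,5,4,3,6,2,3,1,2,3,6,2])) (.node .none (.node .none (.word [3,2,3,2,1,5,6,3,2,5,3,2,1,3,6,2,3,2,3,6,4,3,1,2,3,5,2,3,0,1,0,2,3,2,6,3,2,1,0,5,3,4,2,3,2,3,5,1,2,3,6,2,3,2,3,6,3,4,2,3,5,4,3,6,2,3,1,2,3,6,2,1,2,3,5,4,3,1,2,3,6,5,3,1,2,0,1,3,2,3,2,1,5,6,3,2,5,3,2,1,3,6,2,3,2,3,6,4,3,1,2,3,5,2,3,0,1,3,6,3,4,2,3,5,4,3,6,2,3,1,2,3,6,2])))) (.node (.node (.node .none (.word [1,2,3,5,4,3,1,2,3,6,5,3,1,2,0,1,0,1,3,2,1,3,4,5,3,2,1,6,3,4,2,3,2,3,6,3,1,2,3,5,2,3,0,2,3,2,6,3,2,1,0,5,3,4,2,3,2,3,5,1,2,3,6,2,5,4,3,1,2,3,6,5,3,1,2,0,1]))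 (.node (.word [1,2,3,5,4,3,1,2,3,6,5,3,1,2,0,3,6,3,4,2,3,5,4,3,6,2,3,1,2,3,6,2,1,3,6,3,4,2,3,5,4,3,6,2,3,1,2,3,6,2,1,3,6,3,4,2,3,5,4,3,6,2,3,1,2,3,6,2]) (.word [3,2,3,2,1,5,6,3,2,5,3,2,1,3,6,2,3,2,3,6,4,3,1,2,3,5,2,3,1,3,2,1,3,4,5,3,2,1,6,3,4,2,3,2,3,6,3,1,2,3,5,2,3,1,0,1,3,2,1,3,4,5,3,2,1,6,3,4,2,3,2,3,6,3,1,2,3,5,2,3,2,3,5,4,3,1,2,3,6,5,3,1,2,0,2,3,5,4,3,1,2,3,6,5,3,1,2,0,1]))) (.node .none (.node .none (.word [1,3,5,6,3,2,1,0,3,5,4,2,3,2,3,1,2,3,6,5,2,6,3,4,2,3,5,4,3,6,2,3,1,2,3,6,2,3,2,3,2,1,5,6,3,2,5,3,2,1,3,6,2,3,2,3,6,4,3,1,2,3,5,2,3,1,3,2,1,3,4,5,3,2,1,6,3,4,2,3,2,3,6,3,1,2,3,5,2,3,2,3,5,4,3,1,2,3,6,5,3,1,2,0,1]))))) (.node (.node (.node (.node .none (.word [0,1,3,2,1,3,4,5,3,2,1,6,3,4,2,3,2,3,6,3,1,2,3,5,2,3,1,0,1,3,2,1,3,4,5,3,2,1,6,3,4,2,3,2,3,6,3,1,2,3,5,2,6,3,4,2,3,5,4,3,6,2,3,1,2,3,6,2,1,0,2,3,2,6,3,2,1,0,5,3,4,2,3,2,3,5,1,2,3,6,2,3,2,3,6,3,4,2,3,5,4,3,6,2,3,1,2,3,6,2]))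 (.node .none (.word [0,1,3,2,1,3,4,5,3,2,1,6,3,4,2,3,2,3,6,3,1,2,3,5,2,5,6,3,2,1,0,3,5,4,2,3,2,3,1,2,3,6,5,2,3,1,3,2,3,2,1,5,6,3,2,5,3,2,1,3,6,2,3,2,3,6,4,3,1,2,3,5,2,3,0,1,2,3,5,4,3,1,2,3,6,5,3,1,2,0,1]))) (.node (.node (.word [3,2,3,2,1,5,6,3,2,5,3,2,1,3,6,2,3,2,3,6,4,3,1,2,3,5,2,3,0,3,2,3,2,1,5,6,3,2,5,3,2,1,3,6,2,3,2,3,6,4,3,1,2,3,5,2,3,1,3,2,1,3,4,5,3,2,1,6,3,4,2,3,2,3,6,3,1,2,3,5,2,3,1,0,1,3,2,1,3,4,5,3,2,1,6,3,4,2,3,2,3,6,3,1,2,3,5,2,3,2,3,5,4,3,1,2,3,6,5,3,1,2,0,1]) (.word [0,1,3,2,1,3,4,5,3,2,1,6,3,4,2,3,2,3,6,3,1,2,3,5,2,6,3,4,2,3,5,4,3,6,2,3,1,2,3,6,2,1,3,5,6,3,2,1,0,3,5,4,2,3,2,3,1,2,3,6,5,2,6,3,4,2,3,5,4,3,6,2,3,1,2,3,6,2])) (.word [3,2,3,2,1,5,6,3,2,5,3,2,1,3,6,2,3,2,3,6,4,3,1,2,3,5,2,3,0,3,2,3,2,1,5,6,3,2,5,3,2,1,3,6,2,3,2,3,6,4,3,1,2,3,5,2,3,0,1,2,3,5,4,3,1,2,3,6,5,3,1,2,0,1,0,1,3,2,1,3,4,5,3,2,1,6,3,4,2,3,2,3,6,3,1,2,3,5,2,6,3,4,2,3,5,4,3,6,2,3,1,2,3,6,2])))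 (.node (.node (.node (.word [1,3,5,6,3,2,1,0,3,5,4,2,3,2,3,1,2,3,6,5,2,3,0,2,3,2,6,3,2,1,0,5,3,4,2,3,2,3,5,1,2,3,6,2,3,2,3,6,3,4,2,3,5,4,3,6,2,3,1,2,3,6,2,1,3,5,6,3,2,1,0,3,5,4,2,3,2,3,1,2,3,6,5,2,6,3,4,2,3,5,4,3,6,2,3,1,2,3,6,2,1,3,6,3,4,2,3,5,4,3,6,2,3,1,2,3,6,2]) (.word [1,3,6,3,4,2,3,5,4,3,6,2,3,1,2,3,6,2,1,3,5,6,3,2,1,0,3,5,4,2,3,2,3,1,2,3,6,5,2,3,1,3,2,3,2,1,5,6,3,2,5,3,2,1,3,6,2,3,2,3,6,4,3,1,2,3,5,2,3,0,3,2,3,2,1,5,6,3,2,5,3,2,1,3,6,2,3,2,3,6,4,3,1,2,3,5,2,3,0,1,3,6,3,4,2,3,5,4,3,6,2,3,1,2,3,6,2])) (.node (.word [1,3,6,3,4,2,3,5,4,3,6,2,3,1,2,3,6,2,1,0,2,3,2,6,3,2,1,0,5,3,4,2,3,2,3,5,1,2,3,6,2,3,2,1,0,1,3,2,1,3,4,5,3,2,1,6,3,4,2,3,2,3,6,3,1,2,3,5,2,6,3,4,2,3,5,4,3,6,2,3,1,2,3,6,2])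 (.word [1,3,6,3,4,2,3,5,4,3,6,2,3,1,2,3,6,2,0,1,3,2,1,3,4,5,3,2,1,6,3,4,2,3,2,3,6,3,1,2,3,5,2,6,3,4,2,3,5,4,3,6,2,3,1,2,3,6,2,1,3,5,6,3,2,1,0,3,5,4,2,3,2,3,1,2,3,6,5,2,3,1,3,2,3,2,1,5,6,3,2,5,3,2,1,3,6,2,3,2,3,6,4,3,1,2,3,5,2,3,0,1,3,6,3,4,2,3,5,4,3,6,2,3,1,2,3,6,2]))) (.node (.node (.word [3,2,3,2,1,5,6,3,2,5,3,2,1,3,6,2,3,2,3,6,4,3,1,2,3,5,2,3,0,1,3,5,6,3,2,1,0,3,5,4,2,3,2,3,1,2,3,6,5,2,6,3,4,2,3,5,4,3,6,2,3,1,2,3,6,2]) (.word [1,3,6,3,4,2,3,5,4,3,6,2,3,1,2,3,6,2,1,3,5,6,3,2,1,0,3,5,4,2,3,2,3,1,2,3,6,5,2,3,1,3,2,3,2,1,5,6,3,2,5,3,2,1,3,6,2,3,2,3,6,4,3,1,2,3,5,2,3,0,1,2,3,5,4,3,1,2,3,6,5,3,1,2,0,2,3,5,4,3,1,2,3,6,5,3,1,2,0,1])) (.node (.word [1,3,6,3,4,2,3,5,4,3,6,2,3,1,2,3,6,2,1,0,2,3,2,6,3,2,1,0,5,3,4,2,3,2,3,5,1,2,3,6,2,3,2,3,5,6,3,2,1,0,3,5,4,2,3,2,3,1,2,3,6,5,2,3,1,3,2,3,2,1,5,6,3,2,5,3,2,1,3,6,2,3,2,3,6,4,3,1,2,3,5,2,3,0,1,2,3,5,4,3,1,2,3,6,5,3,1,2,0,1])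 (.word [1,2,3,5,4,3,1,2,3,6,5,3,1,2,0,2,3,5,4,3,1,2,3,6,5,3,1,2,0,1,0,1,3,2,1,3,4,5,3,2,1,6,3,4,2,3,2,3,6,3,1,2,3,5,2,5,6,3,2,1,0,3,5,4,2,3,2,3,1,2,3,6,5,2,3,2,3,5,4,3,1,2,3,6,5,3,1,2,0,1]))))))) (.node (.node (.node (.node (.node (.node .none (.word [1,3,6,3,4,2,3,5,4,3,6,2,3,1,2,3,6,2,1,3,5,6,3,2,1,0,3,5,4,2,3,2,3,1,2,3,6,5,2,3,1,3,2,3,2,1,5,6,3,2,5,3,2,1,3,6,2,3,2,3,6,4,3,1,2,3,5,2,3,0,1,2,3,5,4,3,1,2,3,6,5,3,1,2,0,1])) (.node (.word [0,1,3,2,1,3,4,5,3,2,1,6,3,4,2,3,2,3,6,3,1,2,3,5,2,3,0,2,3,2,6,3,2,1,0,5,3,4,2,3,2,3,5,1,2,3,6,2,5,4,3,1,2,3,6,5,3,1,2,0,1,3,2,3,2,1,5,6,3,2,5,3,2,1,3,6,2,3,2,3,6,4,3,1,2,3,5,2,3,0,1,3,6,3,4,2,3,5,4,3,6,2,3,1,2,3,6,2]) (.word [1,3,5,6,3,2,1,0,3,5,4,2,3,2,3,1,2,3,6,5,2,5,6,3,2,1,0,3,5,4,2,3,2,3,1,2,3,6,5,2,3,1,0,1,3,2,1,3,4,5,3,2,1,6,3,4,2,3,2,3,6,3,1,2,3,5,2,6,3,4,2,3,5,4,3,6,2,3,1,2,3,6,2])))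 (.node (.node (.word [3,2,3,2,1,5,6,3,2,5,3,2,1,3,6,2,3,2,3,6,4,3,1,2,3,5,2,3,1,3,2,1,3,4,5,3,2,1,6,3,4,2,3,2,3,6,3,1,2,3,5,2,3,1,3,2,3,2,1,5,6,3,2,5,3,2,1,3,6,2,3,2,3,6,4,3,1,2,3,5,2,3,0,1,3,6,3,4,2,3,5,4,3,6,2,3,1,2,3,6,2,0,1,3,2,1,3,4,5,3,2,1,6,3,4,2,3,2,3,6,3,1,2,3,5,2,6,3,4,2,3,5,4,3,6,2,3,1,2,3,6,2]) (.word [1,3,6,3,4,2,3,5,4,3,6,2,3,1,2,3,6,2,1,3,6,3,4,2,3,5,4,3,6,2,3,1,2,3,6,2,1,0,2,3,2,6,3,2,1,0,5,3,4,2,3,2,3,5,1,2,3,6,2,3,2,1,0,1,3,2,1,3,4,5,3,2,1,6,3,4,2,3,2,3,6,3,1,2,3,5,2,3,2,3,5,4,3,1,2,3,6,5,3,1,2,0,1])) .none)) (.node (.node (.node (.word [1,2,3,5,4,3,1,2,3,6,5,3,1,2,0,3,5,6,3,2,1,0,3,5,4,2,3,2,3,1,2,3,6,5,2,3,2,3,5,4,3,1,2,3,6,5,3,1,2,0,3,6,3,4,2,3,5,4,3,6,2,3,1,2,3,6,2,1,3,6,3,4,2,3,5,4,3,6,2,3,1,2,3,6,2])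 (.word [1,3,6,3,4,2,3,5,4,3,6,2,3,1,2,3,6,2,1,3,6,3,4,2,3,5,4,3,6,2,3,1,2,3,6,2,1,2,3,5,4,3,1,2,3,6,5,3,1,2,0,3,5,6,3,2,1,0,3,5,4,2,3,2,3,1,2,3,6,5,2,6,3,4,2,3,5,4,3,6,2,3,1,2,3,6,2])) (.node (.word [1,2,3,5,4,3,1,2,3,6,5,3,1,2,0,3,6,3,4,2,3,5,4,3,6,2,3,1,2,3,6,2,0,1,3,2,1,3,4,5,3,2,1,6,3,4,2,3,2,3,6,3,1,2,3,5,2,3,2,3,5,4,3,1,2,3,6,5,3,1,2,0,3,6,3,4,2,3,5,4,3,6,2,3,1,2,3,6,2]) (.word [1,2,3,5,4,3,1,2,3,6,5,3,1,2,0,1,3,2,3,2,1,5,6,3,2,5,3,2,1,3,6,2,3,2,3,6,4,3,1,2,3,5,2,3,0,1,2,3,5,4,3,1,2,3,6,5,3,1,2,0,1,0,1,3,2,1,3,4,5,3,2,1,6,3,4,2,3,2,3,6,3,1,2,3,5,2,6,3,4,2,3,5,4,3,6,2,3,1,2,3,6,2]))) (.word [1,3,5,6,3,2,1,0,3,5,4,2,3,2,3,1,2,3,6,5,2,3,1,3,2,3,2,1,5,6,3,2,5,3,2,1,3,6,2,3,2,3,6,4,3,1,2,3,5,2,3,1,3,2,1,3,4,5,3,2,1,6,3,4,2,3,2,3,6,3,1,2,3,5,2,3,1,0,1,3,2,1,3,4,5,3,2,1,6,3,4,2,3,2,3,6,3,1,2,3,5,2,6,3,4,2,3,5,4,3,6,2,3,1,2,3,6,2,1,3,6,3,4,2,3,5,4,3,6,2,3,1,2,3,6,2])))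 (.node (.node (.node (.word [1,3,6,3,4,2,3,5,4,3,6,2,3,1,2,3,6,2,1,0,2,3,2,6,3,2,1,0,5,3,4,2,3,2,3,5,1,2,3,6,2,3,2,1,3,2,3,2,1,5,6,3,2,5,3,2,1,3,6,2,3,2,3,6,4,3,1,2,3,5,2,3,0,1,3,6,3,4,2,3,5,4,3,6,2,3,1,2,3,6,2,1,3,6,3,4,2,3,5,4,3,6,2,3,1,2,3,6,2,1,3,6,3,4,2,3,5,4,3,6,2,3,1,2,3,6,2]) (.node .none (.word [1,3,5,6,3,2,1,0,3,5,4,2,3,2,3,1,2,3,6,5,2,3,1,0,1,3,2,1,3,4,5,3,2,1,6,3,4,2,3,2,3,6,3,1,2,3,5,2,3,0,2,3,2,6,3,2,1,0,5,3,4,2,3,2,3,5,1,2,3,6,2,5,4,3,1,2,3,6,5,3,1,2,0,1]))) (.node (.node (.word [1,3,6,3,4,2,3,5,4,3,6,2,3,1,2,3,6,2,1,2,3,5,4,3,1,2,3,6,5,3,1,2,0,1,3,2,3,2,1,5,6,3,2,5,3,2,1,3,6,2,3,2,3,6,4,3,1,2,3,5,2,3,0,1,2,3,5,4,3,1,2,3,6,5,3,1,2,0,1,0,1,3,2,1,3,4,5,3,2,1,6,3,4,2,3,2,3,6,3,1,2,3,5,2,6,3,4,2,3,5,4,3,6,2,3,1,2,3,6,2])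 (.word [3,2,3,2,1,5,6,3,2,5,3,2,1,3,6,2,3,2,3,6,4,3,1,2,3,5,2,3,0,3,2,3,2,1,5,6,3,2,5,3,2,1,3,6,2,3,2,3,6,4,3,1,2,3,5,2,3,0,1,2,3,5,4,3,1,2,3,6,5,3,1,2,0,2,3,5,4,3,1,2,3,6,5,3,1,2,0,3,6,3,4,2,3,5,4,3,6,2,3,1,2,3,6,2])) (.word [3,2,3,2,1,5,6,3,2,5,3,2,1,3,6,2,3,2,3,6,4,3,1,2,3,5,2,3,0,1,3,5,6,3,2,1,0,3,5,4,2,3,2,3,1,2,3,6,5,2,6,3,4,2,3,5,4,3,6,2,3,1,2,3,6,2,1,3,6,3,4,2,3,5,4,3,6,2,3,1,2,3,6,2,1,3,5,6,3,2,1,0,3,5,4,2,3,2,3,1,2,3,6,5,2,6,3,4,2,3,5,4,3,6,2,3,1,2,3,6,2,1,3,6,3,4,2,3,5,4,3,6,2,3,1,2,3,6,2]))) (.node (.node (.node .none (.word [1,2,3,5,4,3,1,2,3,6,5,3,1,2,0,3,5,6,3,2,1,0,3,5,4,2,3,2,3,1,2,3,6,5,2,6,3,4,2,3,5,4,3,6,2,3,1,2,3,6,2,1,2,3,5,4,3,1,2,3,6,5,3,1,2,0,2,3,5,4,3,1,2,3,6,5,3,1,2,0,1]))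 (.node (.word [3,2,3,2,1,5,6,3,2,5,3,2,1,3,6,2,3,2,3,6,4,3,1,2,3,5,2,3,1,3,2,1,3,4,5,3,2,1,6,3,4,2,3,2,3,6,3,1,2,3,5,2,3,2,3,5,4,3,1,2,3,6,5,3,1,2,0,1,0,1,3,2,1,3,4,5,3,2,1,6,3,4,2,3,2,3,6,3,1,2,3,5,2,6,3,4,2,3,5,4,3,6,2,3,1,2,3,6,2]) (.word [1,3,5,6,3,2,1,0,3,5,4,2,3,2,3,1,2,3,6,5,2,6,3,4,2,3,5,4,3,6,2,3,1,2,3,6,2,0,1,3,2,1,3,4,5,3,2,1,6,3,4,2,3,2,3,6,3,1,2,3,5,2,3,2,3,5,4,3,1,2,3,6,5,3,1,2,0,1]))) (.node (.node (.word [1,0,2,3,2,6,3,2,1,0,5,3,4,2,3,2,3,5,1,2,3,6,2,3,2,3,6,3,4,2,3,5,4,3,6,2,3,1,2,3,6,2,1,3,5,6,3,2,1,0,3,5,4,2,3,2,3,1,2,3,6,5,2,3,1,3,2,3,2,1,5,6,3,2,5,3,2,1,3,6,2,3,2,3,6,4,3,1,2,3,5,2,3,0,1,2,3,5,4,3,1,2,3,6,5,3,1,2,0,1]) (.word [0,1,3,2,1,3,4,5,3,2,1,6,3,4,2,3,2,3,6,3,1,2,3,5,2,6,3,4,2,3,5,4,3,6,2,3,1,2,3,6,2,1,3,5,6,3,2,1,0,3,5,4,2,3,2,3,1,2,3,6,5,2,3,1,0,1,3,2,1,3,4,5,3,2,1,6,3,4,2,3,2,3,6,3,1,2,3,5,2,6,3,4,2,3,5,4,3,6,2,3,1,2,3,6,2]))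 .none)))) (.node (.node (.node (.node .none (.word [1,3,6,3,4,2,3,5,4,3,6,2,3,1,2,3,6,2,0,1,3,2,1,3,4,5,3,2,1,6,3,4,2,3,2,3,6,3,1,2,3,5,2,3,1,0,1,3,2,1,3,4,5,3,2,1,6,3,4,2,3,2,3,6,3,1,2,3,5,2,6,3,4,2,3,5,4,3,6,2,3,1,2,3,6,2,1,3,6,3,4,2,3,5,4,3,6,2,3,1,2,3,6,2])) (.node (.node (.word [1,3,5,6,3,2,1,0,3,5,4,2,3,2,3,1,2,3,6,5,2,5,6,3,2,1,0,3,5,4,2,3,2,3,1,2,3,6,5,2,6,3,4,2,3,5,4,3,6,2,3,1,2,3,6,2,0,1,3,2,1,3,4,5,3,2,1,6,3,4,2,3,2,3,6,3,1,2,3,5,2,3,2,3,5,4,3,1,2,3,6,5,3,1,2,0,1]) (.word [1,2,3,5,4,3,1,2,3,6,5,3,1,2,0,3,6,3,4,2,3,5,4,3,6,2,3,1,2,3,6,2,1,3,5,6,3,2,1,0,3,5,4,2,3,2,3,1,2,3,6,5,2,6,3,4,2,3,5,4,3,6,2,3,1,2,3,6,2,3,2,3,2,1,5,6,3,2,5,3,2,1,3,6,2,3,2,3,6,4,3,1,2,3,5,2,3,0,1,3,6,3,4,2,3,5,4,3,6,2,3,1,2,3,6,2]))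 (.node .none (.word [1,3,5,6,3,2,1,0,3,5,4,2,3,2,3,1,2,3,6,5,2,3,2,3,5,4,3,1,2,3,6,5,3,1,2,0,2,3,5,4,3,1,2,3,6,5,3,1,2,0,3,5,6,3,2,1,0,3,5,4,2,3,2,3,1,2,3,6,5,2,3,2,3,5,4,3,1,2,3,6,5,3,1,2,0,1])))) (.node (.node (.node (.word [1,0,2,3,2,6,3,2,1,0,5,3,4,2,3,2,3,5,1,2,3,6,2,3,2,1,3,2,3,2,1,5,6,3,2,5,3,2,1,3,6,2,3,2,3,6,4,3,1,2,3,5,2,3,0,1,3,6,3,4,2,3,5,4,3,6,2,3,1,2,3,6,2,1,0,2,3,2,6,3,2,1,0,5,3,4,2,3,2,3,5,1,2,3,6,2,3,2,3,6,3,4,2,3,5,4,3,6,2,3,1,2,3,6,2]) (.word [3,2,3,2,1,5,6,3,2,5,3,2,1,3,6,2,3,2,3,6,4,3,1,2,3,5,2,3,0,1,3,5,6,3,2,1,0,3,5,4,2,3,2,3,1,2,3,6,5,2,3,2,3,5,4,3,1,2,3,6,5,3,1,2,0,2,3,5,4,3,1,2,3,6,5,3,1,2,0,3,6,3,4,2,3,5,4,3,6,2,3,1,2,3,6,2])) (.node .none (.word [1,3,6,3,4,2,3,5,4,3,6,2,3,1,2,3,6,2,0,1,3,2,1,3,4,5,3,2,1,6,3,4,2,3,2,3,6,3,1,2,3,5,2,3,2,3,5,4,3,1,2,3,6,5,3,1,2,0,3,6,3,4,2,3,5,4,3,6,2,3,1,2,3,6,2])))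 (.node (.node .none (.word [1,3,5,6,3,2,1,0,3,5,4,2,3,2,3,1,2,3,6,5,2,6,3,4,2,3,5,4,3,6,2,3,1,2,3,6,2,1,3,6,3,4,2,3,5,4,3,6,2,3,1,2,3,6,2,1,3,6,3,4,2,3,5,4,3,6,2,3,1,2,3,6,2])) (.word [0,1,3,2,1,3,4,5,3,2,1,6,3,4,2,3,2,3,6,3,1,2,3,5,2,5,6,3,2,1,0,3,5,4,2,3,2,3,1,2,3,6,5,2,3,1,0,1,3,2,1,3,4,5,3,2,1,6,3,4,2,3,2,3,6,3,1,2,3,5,2,6,3,4,2,3,5,4,3,6,2,3,1,2,3,6,2,1,2,3,5,4,3,1,2,3,6,5,3,1,2,0,3,6,3,4,2,3,5,4,3,6,2,3,1,2,3,6,2])))) (.node (.node (.node (.node (.word [1,3,6,3,4,2,3,5,4,3,6,2,3,1,2,3,6,2,1,2,3,5,4,3,1,2,3,6,5,3,1,3,2,6,3,2,1,0,5,3,4,2,3,2,3,5,1,2,3,6,2,3,2,3,6,3,4,2,3,5,4,3,6,2,3,1,2,3,6,2,1,2,3,5,4,3,1,2,3,6,5,3,1,2,0,3,6,3,4,2,3,5,4,3,6,2,3,1,2,3,6,2]) (.word [0,1,3,2,1,3,4,5,3,2,1,6,3,4,2,3,2,3,6,3,1,2,3,5,2,3,1,3,2,3,2,1,5,6,3,2,5,3,2,1,3,6,2,3,2,3,6,4,3,1,2,3,5,2,3,0,1,0,2,3,2,6,3,2,1,0,5,3,4,2,3,2,3,5,1,2,3,6,2,5,4,3,1,2,3,6,5,3,1,2,0,2,3,5,4,3,1,2,3,6,5,3,1,2,0,1]))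 .none) (.node (.node (.word [1,3,5,6,3,2,1,0,3,5,4,2,3,2,3,1,2,3,6,5,2,3,1,3,2,3,2,1,5,6,3,2,5,3,2,1,3,6,2,3,2,3,6,4,3,1,2,3,5,2,3,0,1,2,3,5,4,3,1,2,3,6,5,3,1,2,0,2,3,5,4,3,1,2,3,6,5,3,1,2,0,1]) (.word [1,3,6,3,4,2,3,5,4,3,6,2,3,1,2,3,6,2,1,3,6,3,4,2,3,5,4,3,6,2,3,1,2,3,6,2,3,2,3,2,1,5,6,3,2,5,3,2,1,3,6,2,3,2,3,6,4,3,1,2,3,5,2,3,0,1,3,6,3,4,2,3,5,4,3,6,2,3,1,2,3,6,2,1,3,6,3,4,2,3,5,4,3,6,2,3,1,2,3,6,2])) (.node (.word [3,2,3,2,1,5,6,3,2,5,3,2,1,3,6,2,3,2,3,6,4,3,1,2,3,5,2,3,0,1,3,6,3,4,2,3,5,4,3,6,2,3,1,2,3,6,2,1,3,6,3,4,2,3,5,4,3,6,2,3,1,2,3,6,2,1,3,6,3,4,2,3,5,4,3,6,2,3,1,2,3,6,2,1,2,3,5,4,3,1,2,3,6,5,3,1,2,0,1]) (.word [0,1,3,2,1,3,4,5,3,2,1,6,3,4,2,3,2,3,6,3,1,2,3,5,2,5,6,3,2,1,0,3,5,4,2,3,2,3,1,2,3,6,5,2,3,2,3,5,4,3,1,2,3,6,5,3,1,2,0,3,5,6,3,2,1,0,3,5,4,2,3,2,3,1,2,3,6,5,2,6,3,4,2,3,5,4,3,6,2,3,1,2,3,6,2]))))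 (.node (.node (.node .none (.word [1,3,5,6,3,2,1,0,3,5,4,2,3,2,3,1,2,3,6,5,2,5,6,3,2,1,0,3,5,4,2,3,2,3,1,2,3,6,5,2,3,1,3,2,3,2,1,5,6,3,2,5,3,2,1,3,6,2,3,2,3,6,4,3,1,2,3,5,2,3,1,3,2,1,3,4,5,3,2,1,6,3,4,2,3,2,3,6,3,1,2,3,5,2,3,2,3,5,4,3,1,2,3,6,5,3,1,2,0,1])) (.node (.word [1,0,2,3,2,6,3,2,1,0,5,3,4,2,3,2,3,5,1,2,3,6,2,3,2,3,5,6,3,2,1,0,3,5,4,2,3,2,3,1,2,3,6,5,2,3,2,3,5,4,3,1,2,3,6,5,3,1,2,0,3,5,6,3,2,1,0,3,5,4,2,3,2,3,1,2,3,6,5,2,3,2,3,5,4,3,1,2,3,6,5,3,1,2,0,1]) (.word [3,2,3,2,1,5,6,3,2,5,3,2,1,3,6,2,3,2,3,6,4,3,1,2,3,5,2,3,0,1,2,3,5,4,3,1,2,3,6,5,3,1,2,0,3,5,6,3,2,1,0,3,5,4,2,3,2,3,1,2,3,6,5,2,3,1,0,1,3,2,1,3,4,5,3,2,1,6,3,4,2,3,2,3,6,3,1,2,3,5,2,6,3,4,2,3,5,4,3,6,2,3,1,2,3,6,2])))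 (.node (.word [1,3,5,6,3,2,1,0,3,5,4,2,3,2,3,1,2,3,6,5,2,3,0,2,3,2,6,3,2,1,0,5,3,4,2,3,2,3,5,1,2,3,6,2,5,4,3,1,2,3,6,5,3,1,2,0,3,6,3,4,2,3,5,4,3,6,2,3,1,2,3,6,2,1,3,6,3,4,2,3,5,4,3,6,2,3,1,2,3,6,2,1,3,6,3,4,2,3,5,4,3,6,2,3,1,2,3,6,2]) (.node (.word [1,3,6,3,4,2,3,5,4,3,6,2,3,1,2,3,6,2,3,2,3,2,1,5,6,3,2,5,3,2,1,3,6,2,3,2,3,6,4,3,1,2,3,5,2,3,0,3,2,3,2,1,5,6,3,2,5,3,2,1,3,6,2,3,2,3,6,4,3,1,2,3,5,2,3,0,1,2,3,5,4,3,1,2,3,6,5,3,1,2,0,3,6,3,4,2,3,5,4,3,6,2,3,1,2,3,6,2,1,3,6,3,4,2,3,5,4,3,6,2,3,1,2,3,6,2]) (.word [1,3,6,3,4,2,3,5,4,3,6,2,3,1,2,3,6,2,1,3,6,3,4,2,3,5,4,3,6,2,3,1,2,3,6,2,1,3,5,6,3,2,1,0,3,5,4,2,3,2,3,1,2,3,6,5,2,5,6,3,2,1,0,3,5,4,2,3,2,3,1,2,3,6,5,2,6,3,4,2,3,5,4,3,6,2,3,1,2,3,6,2]))))))))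

/-- A subtree. -/
def sub100 : WTree :=
  (.node (.node (.node (.node (.node (.node (.node .none (.word [1,3,5,6,3,2,1,0,3,5,4,2,3,2,3,1,2,3,6,5,2,6,3,4,2,3,5,4,3,6,2,3,1,2,3,6,2,1,3,6,3,4,2,3,5,4,3,6,2,3,1,2,3,6,2,0,1,3,2,1,3,4,5,3,2,1,6,3,4,2,3,2,3,6,3,1,2,3,5,2,6,3,4,2,3,5,4,3,6,2,3,1,2,3,6,2])) (.node .none (.word [1,0,2,3,2,6,3,2,1,0,5,3,4,2,3,2,3,5,1,2,3,6,2,3,2,3,6,3,4,2,3,5,4,3,6,2,3,1,2,3,6,2,1,3,5,6,3,2,1,0,3,5,4,2,3,2,3,1,2,3,6,5,2,3,1,0,1,3,2,1,3,4,5,3,2,1,6,3,4,2,3,2,3,6,3,1,2,3,5,2,6,3,4,2,3,5,4,3,6,2,3,1,2,3,6,2]))) (.node (.node (.word [3,2,3,2,1,5,6,3,2,5,3,2,1,3,6,2,3,2,3,6,4,3,1,2,3,5,2,3,0,1,0,2,3,2,6,3,2,1,0,5,3,4,2,3,2,3,5,1,2,3,6,2,3,2,1,0,1,3,2,1,3,4,5,3,2,1,6,3,4,2,3,2,3,6,3,1,2,3,5,2,6,3,4,2,3,5,4,3,6,2,3,1,2,3,6,2])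 (.word [3,2,3,2,1,5,6,3,2,5,3,2,1,3,6,2,3,2,3,6,4,3,1,2,3,5,2,3,0,1,2,3,5,4,3,1,2,3,6,5,3,1,2,0,1,3,2,3,2,1,5,6,3,2,5,3,2,1,3,6,2,3,2,3,6,4,3,1,2,3,5,2,3,0,3,2,3,2,1,5,6,3,2,5,3,2,1,3,6,2,3,2,3,6,4,3,1,2,3,5,2,3,0,1,3,6,3,4,2,3,5,4,3,6,2,3,1,2,3,6,2])) (.node (.word [0,1,3,2,1,3,4,5,3,2,1,6,3,4,2,3,2,3,6,3,1,2,3,5,2,3,1,0,1,3,2,1,3,4,5,3,2,1,6,3,4,2,3,2,3,6,3,1,2,3,5,2,3,1,3,2,3,2,1,5,6,3,2,5,3,2,1,3,6,2,3,2,3,6,4,3,1,2,3,5,2,3,0,1,2,3,5,4,3,1,2,3,6,5,3,1,2,0,2,3,5,4,3,1,2,3,6,5,3,1,2,0,1]) (.word [1,3,5,6,3,2,1,0,3,5,4,2,3,2,3,1,2,3,6,5,2,3,1,0,1,3,2,1,3,4,5,3,2,1,6,3,4,2,3,2,3,6,3,1,2,3,5,2,3,2,3,5,4,3,1,2,3,6,5,3,1,2,0,3,5,6,3,2,1,0,3,5,4,2,3,2,3,1,2,3,6,5,2,6,3,4,2,3,5,4,3,6,2,3,1,2,3,6,2]))))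 (.node (.node (.word [1,2,3,5,4,3,1,2,3,6,5,3,1,2,0,3,6,3,4,2,3,5,4,3,6,2,3,1,2,3,6,2,1,2,3,5,4,3,1,2,3,6,5,3,1,2,0,3,6,3,4,2,3,5,4,3,6,2,3,1,2,3,6,2]) (.word [3,2,3,2,1,5,6,3,2,5,3,2,1,3,6,2,3,2,3,6,4,3,1,2,3,5,2,3,0,1,0,2,3,2,6,3,2,1,0,5,3,4,2,3,2,3,5,1,2,3,6,2,3,2,1,0,1,3,2,1,3,4,5,3,2,1,6,3,4,2,3,2,3,6,3,1,2,3,5,2,3,2,3,5,4,3,1,2,3,6,5,3,1,2,0,2,3,5,4,3,1,2,3,6,5,3,1,2,0,1])) (.node (.node (.word [1,2,3,5,4,3,1,2,3,6,5,3,1,2,0,2,3,5,4,3,1,2,3,6,5,3,1,2,0,1,3,2,3,2,1,5,6,3,2,5,3,2,1,3,6,2,3,2,3,6,4,3,1,2,3,5,2,3,1,3,2,1,3,4,5,3,2,1,6,3,4,2,3,2,3,6,3,1,2,3,5,2,6,3,4,2,3,5,4,3,6,2,3,1,2,3,6,2,1,3,6,3,4,2,3,5,4,3,6,2,3,1,2,3,6,2]) (.word [3,2,3,2,1,5,6,3,2,5,3,2,1,3,6,2,3,2,3,6,4,3,1,2,3,5,2,3,0,3,2,3,2,1,5,6,3,2,5,3,2,1,3,6,2,3,2,3,6,4,3,1,2,3,5,2,3,0,1,2,3,5,4,3,1,2,3,6,5,3,1,2,0,1]))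 (.node .none (.word [1,2,3,5,4,3,1,2,3,6,5,3,1,2,0,3,5,6,3,2,1,0,3,5,4,2,3,2,3,1,2,3,6,5,2,5,6,3,2,1,0,3,5,4,2,3,2,3,1,2,3,6,5,2,6,3,4,2,3,5,4,3,6,2,3,1,2,3,6,2]))))) (.node (.node (.node .none (.node .none (.word [0,1,3,2,1,3,4,5,3,2,1,6,3,4,2,3,2,3,6,3,1,2,3,5,2,3,1,0,1,3,2,1,3,4,5,3,2,1,6,3,4,2,3,2,3,6,3,1,2,3,5,2,3,1,3,2,3,2,1,5,6,3,2,5,3,2,1,3,6,2,3,2,3,6,4,3,1,2,3,5,2,3,0,1,3,6,3,4,2,3,5,4,3,6,2,3,1,2,3,6,2]))) (.node .none (.node (.word [1,3,6,3,4,2,3,5,4,3,6,2,3,1,2,3,6,2,1,0,2,3,2,6,3,2,1,0,5,3,4,2,3,2,3,5,1,2,3,6,2,5,4,3,1,2,3,6,5,3,1,2,0,1]) (.word [0,1,3,2,1,3,4,5,3,2,1,6,3,4,2,3,2,3,6,3,1,2,3,5,2,3,0,2,3,2,6,3,2,1,0,5,3,4,2,3,2,3,5,1,2,3,6,2,3,2,3,6,3,4,2,3,5,4,3,6,2,3,1,2,3,6,2,3,2,3,2,1,5,6,3,2,5,3,2,1,3,6,2,3,2,3,6,4,3,1,2,3,5,2,3,0,1,3,6,3,4,2,3,5,4,3,6,2,3,1,2,3,6,2]))))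 (.node (.node .none (.word [1,3,6,3,4,2,3,5,4,3,6,2,3,1,2,3,6,2,1,2,3,5,4,3,1,2,3,6,5,3,1,2,0,3,6,3,4,2,3,5,4,3,6,2,3,1,2,3,6,2,1,2,3,5,4,3,1,2,3,6,5,3,1,2,0,1])) (.node (.node (.word [0,1,3,2,1,3,4,5,3,2,1,6,3,4,2,3,2,3,6,3,1,2,3,5,2,3,2,3,5,4,3,1,2,3,6,5,3,1,2,0,3,5,6,3,2,1,0,3,5,4,2,3,2,3,1,2,3,6,5,2,3,2,3,5,4,3,1,2,3,6,5,3,1,2,0,1]) (.word [1,3,6,3,4,2,3,5,4,3,6,2,3,1,2,3,6,2,1,0,2,3,2,6,3,2,1,0,5,3,4,2,3,2,3,5,1,2,3,6,2,3,2,1,3,2,3,2,1,5,6,3,2,5,3,2,1,3,6,2,3,2,3,6,4,3,1,2,3,5,2,3,0,1,3,5,6,3,2,1,0,3,5,4,2,3,2,3,1,2,3,6,5,2,6,3,4,2,3,5,4,3,6,2,3,1,2,3,6,2])) (.node (.word [1,2,3,5,4,3,1,2,3,6,5,3,1,2,0,3,5,6,3,2,1,0,3,5,4,2,3,2,3,1,2,3,6,5,2,6,3,4,2,3,5,4,3,6,2,3,1,2,3,6,2,1,2,3,5,4,3,1,2,3,6,5,3,1,2,0,3,6,3,4,2,3,5,4,3,6,2,3,1,2,3,6,2])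 (.word [0,1,3,2,1,3,4,5,3,2,1,6,3,4,2,3,2,3,6,3,1,2,3,5,2,3,0,2,3,2,6,3,2,1,0,5,3,4,2,3,2,3,5,1,2,3,6,2,3,2,1,0,1,3,2,1,3,4,5,3,2,1,6,3,4,2,3,2,3,6,3,1,2,3,5,2,3,2,3,5,4,3,1,2,3,6,5,3,1,2,0,1])))))) (.node (.node (.node (.node (.node .none (.word [1,0,2,3,2,6,3,2,1,0,5,3,4,2,3,2,3,5,1,2,3,6,2,3,2,1,0,1,3,2,1,3,4,5,3,2,1,6,3,4,2,3,2,3,6,3,1,2,3,5,2,3,0,2,3,2,6,3,2,1,0,5,3,4,2,3,2,3,5,1,2,3,6,2,3,2,3,6,3,4,2,3,5,4,3,6,2,3,1,2,3,6,2,1,2,3,5,4,3,1,2,3,6,5,3,1,2,0,3,6,3,4,2,3,5,4,3,6,2,3,1,2,3,6,2])) (.node (.word [1,3,6,3,4,2,3,5,4,3,6,2,3,1,2,3,6,2,1,3,6,3,4,2,3,5,4,3,6,2,3,1,2,3,6,2,1,2,3,5,4,3,1,2,3,6,5,3,1,2,0,3,6,3,4,2,3,5,4,3,6,2,3,1,2,3,6,2,3,2,3,2,1,5,6,3,2,5,3,2,1,3,6,2,3,2,3,6,4,3,1,2,3,5,2,3,0,1,3,6,3,4,2,3,5,4,3,6,2,3,1,2,3,6,2])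 (.word [3,2,3,2,1,5,6,3,2,5,3,2,1,3,6,2,3,2,3,6,4,3,1,2,3,5,2,3,1,3,2,1,3,4,5,3,2,1,6,3,4,2,3,2,3,6,3,1,2,3,5,2,3,1,3,2,3,2,1,5,6,3,2,5,3,2,1,3,6,2,3,2,3,6,4,3,1,2,3,5,2,3,0,1,3,6,3,4,2,3,5,4,3,6,2,3,1,2,3,6,2,1,2,3,5,4,3,1,2,3,6,5,3,1,2,0,1]))) (.node (.node .none (.word [0,1,3,2,1,3,4,5,3,2,1,6,3,4,2,3,2,3,6,3,1,2,3,5,2,5,6,3,2,1,0,3,5,4,2,3,2,3,1,2,3,6,5,2,5,6,3,2,1,0,3,5,4,2,3,2,3,1,2,3,6,5,2,3,1,3,2,3,2,1,5,6,3,2,5,3,2,1,3,6,2,3,2,3,6,4,3,1,2,3,5,2,3,0,1,3,6,3,4,2,3,5,4,3,6,2,3,1,2,3,6,2,1,2,3,5,4,3,1,2,3,6,5,3,1,2,0,1])) (.word [3,2,3,2,1,5,6,3,2,5,3,2,1,3,6,2,3,2,3,6,4,3,1,2,3,5,2,3,0,1,3,6,3,4,2,3,5,4,3,6,2,3,1,2,3,6,2,3,2,3,2,1,5,6,3,2,5,3,2,1,3,6,2,3,2,3,6,4,3,1,2,3,5,2,3,0,1,2,3,5,4,3,1,2,3,6,5,3,1,2,0,3,6,3,4,2,3,5,4,3,6,2,3,1,2,3,6,2])))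 (.node (.node (.node (.word [0,1,3,2,1,3,4,5,3,2,1,6,3,4,2,3,2,3,6,3,1,2,3,5,2,5,6,3,2,1,0,3,5,4,2,3,2,3,1,2,3,6,5,2,3,1,3,2,3,2,1,5,6,3,2,5,3,2,1,3,6,2,3,2,3,6,4,3,1,2,3,5,2,3,0,3,2,3,2,1,5,6,3,2,5,3,2,1,3,6,2,3,2,3,6,4,3,1,2,3,5,2,3,0,1,2,3,5,4,3,1,2,3,6,5,3,1,2,0,1]) (.word [1,3,6,3,4,2,3,5,4,3,6,2,3,1,2,3,6,2,3,2,3,2,1,5,6,3,2,5,3,2,1,3,6,2,3,2,3,6,4,3,1,2,3,5,2,3,0,1,0,2,3,2,6,3,2,1,0,5,3,4,2,3,2,3,5,1,2,3,6,2,3,2,3,5,6,3,2,1,0,3,5,4,2,3,2,3,1,2,3,6,5,2,6,3,4,2,3,5,4,3,6,2,3,1,2,3,6,2])) (.node (.word [1,3,6,3,4,2,3,5,4,3,6,2,3,1,2,3,6,2,0,1,3,2,1,3,4,5,3,2,1,6,3,4,2,3,2,3,6,3,1,2,3,5,2,6,3,4,2,3,5,4,3,6,2,3,1,2,3,6,2]) (.word [3,2,3,2,1,5,6,3,2,5,3,2,1,3,6,2,3,2,3,6,4,3,1,2,3,5,2,3,0,1,3,5,6,3,2,1,0,3,5,4,2,3,2,3,1,2,3,6,5,2,6,3,4,2,3,5,4,3,6,2,3,1,2,3,6,2,1,3,5,6,3,2,1,0,3,5,4,2,3,2,3,1,2,3,6,5,2,6,3,4,2,3,5,4,3,6,2,3,1,2,3,6,2])))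 (.node .none (.node (.word [0,1,3,2,1,3,4,5,3,2,1,6,3,4,2,3,2,3,6,3,1,2,3,5,2,5,6,3,2,1,0,3,5,4,2,3,2,3,1,2,3,6,5,2,6,3,4,2,3,5,4,3,6,2,3,1,2,3,6,2,1,0,2,3,2,6,3,2,1,0,5,3,4,2,3,2,3,5,1,2,3,6,2,5,4,3,1,2,3,6,5,3,1,2,0,1]) (.word [3,2,3,2,1,5,6,3,2,5,3,2,1,3,6,2,3,2,3,6,4,3,1,2,3,5,2,3,0,1,0,2,3,2,6,3,2,1,0,5,3,4,2,3,2,3,5,1,2,3,6,2,3,2,3,6,3,4,2,3,5,4,3,6,2,3,1,2,3,6,2,1,2,3,5,4,3,1,2,3,6,5,3,1,2,0,1]))))) (.node (.node (.node (.node (.word [1,2,3,5,4,3,1,2,3,6,5,3,1,2,0,3,5,6,3,2,1,0,3,5,4,2,3,2,3,1,2,3,6,5,2,3,2,3,5,4,3,1,2,3,6,5,3,1,2,0,2,3,5,4,3,1,2,3,6,5,3,1,2,0,1]) (.word [1,3,5,6,3,2,1,0,3,5,4,2,3,2,3,1,2,3,6,5,2,5,6,3,2,1,0,3,5,4,2,3,2,3,1,2,3,6,5,2,6,3,4,2,3,5,4,3,6,2,3,1,2,3,6,2,1,3,6,3,4,2,3,5,4,3,6,2,3,1,2,3,6,2]))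 (.word [1,3,6,3,4,2,3,5,4,3,6,2,3,1,2,3,6,2,3,2,3,2,1,5,6,3,2,5,3,2,1,3,6,2,3,2,3,6,4,3,1,2,3,5,2,3,0,1,2,3,5,4,3,1,2,3,6,5,3,1,2,0,1])) (.node (.word [1,3,5,6,3,2,1,0,3,5,4,2,3,2,3,1,2,3,6,5,2,6,3,4,2,3,5,4,3,6,2,3,1,2,3,6,2,0,1,3,2,1,3,4,5,3,2,1,6,3,4,2,3,2,3,6,3,1,2,3,5,2,3,1,3,2,3,2,1,5,6,3,2,5,3,2,1,3,6,2,3,2,3,6,4,3,1,2,3,5,2,3,0,1,3,6,3,4,2,3,5,4,3,6,2,3,1,2,3,6,2]) (.node .none (.word [1,3,6,3,4,2,3,5,4,3,6,2,3,1,2,3,6,2,1,3,6,3,4,2,3,5,4,3,6,2,3,1,2,3,6,2,3,2,3,2,1,5,6,3,2,5,3,2,1,3,6,2,3,2,3,6,4,3,1,2,3,5,2,3,0,1,2,3,5,4,3,1,2,3,6,5,3,1,2,0,3,6,3,4,2,3,5,4,3,6,2,3,1,2,3,6,2])))) (.node (.node (.node .none (.word [1,3,6,3,4,2,3,5,4,3,6,2,3,1,2,3,6,2,0,1,3,2,1,3,4,5,3,2,1,6,3,4,2,3,2,3,6,3,1,2,3,5,2,6,3,4,2,3,5,4,3,6,2,3,1,2,3,6,2,0,1,3,2,1,3,4,5,3,2,1,6,3,4,2,3,2,3,6,3,1,2,3,5,2,3,2,3,5,4,3,1,2,3,6,5,3,1,2,0,3,6,3,4,2,3,5,4,3,6,2,3,1,2,3,6,2]))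 (.word [1,2,3,5,4,3,1,2,3,6,5,3,1,2,0,2,3,5,4,3,1,2,3,6,5,3,1,2,0,3,6,3,4,2,3,5,4,3,6,2,3,1,2,3,6,2,1,2,3,5,4,3,1,2,3,6,5,3,1,2,0,3,6,3,4,2,3,5,4,3,6,2,3,1,2,3,6,2])) (.node (.node (.word [1,3,5,6,3,2,1,0,3,5,4,2,3,2,3,1,2,3,6,5,2,3,0,2,3,2,6,3,2,1,0,5,3,4,2,3,2,3,5,1,2,3,6,2,5,4,3,1,2,3,6,5,3,1,2,0,1,3,2,3,2,1,5,6,3,2,5,3,2,1,3,6,2,3,2,3,6,4,3,1,2,3,5,2,3,0,1,3,6,3,4,2,3,5,4,3,6,2,3,1,2,3,6,2,1,3,6,3,4,2,3,5,4,3,6,2,3,1,2,3,6,2]) (.word [0,1,3,2,1,3,4,5,3,2,1,6,3,4,2,3,2,3,6,3,1,2,3,5,2,5,6,3,2,1,0,3,5,4,2,3,2,3,1,2,3,6,5,2,3,1,3,2,3,2,1,5,6,3,2,5,3,2,1,3,6,2,3,2,3,6,4,3,1,2,3,5,2,3,0,1,2,3,5,4,3,1,2,3,6,5,3,1,2,0,3,6,3,4,2,3,5,4,3,6,2,3,1,2,3,6,2])) (.word [1,0,2,3,2,6,3,2,1,0,5,3,4,2,3,2,3,5,1,2,3,6,2,3,2,3,5,6,3,2,1,0,3,5,4,2,3,2,3,1,2,3,6,5,2,5,6,3,2,1,0,3,5,4,2,3,2,3,1,2,3,6,5,2,3,2,3,5,4,3,1,2,3,6,5,3,1,2,0,2,3,5,4,3,1,2,3,6,5,3,1,2,0,1]))))))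 (.node (.node (.node (.node (.node (.node (.word [1,0,2,3,2,6,3,2,1,0,5,3,4,2,3,2,3,5,1,2,3,6,2,3,2,3,5,6,3,2,1,0,3,5,4,2,3,2,3,1,2,3,6,5,2,3,2,3,5,4,3,1,2,3,6,5,3,1,2,0,2,3,5,4,3,1,2,3,6,5,3,1,2,0,2,3,5,4,3,1,2,3,6,5,3,1,2,0,1]) (.word [3,2,3,2,1,5,6,3,2,5,3,2,1,3,6,2,3,2,3,6,4,3,1,2,3,5,2,3,0,1,3,6,3,4,2,3,5,4,3,6,2,3,1,2,3,6,2,1,3,6,3,4,2,3,5,4,3,6,2,3,1,2,3,6,2,1,2,3,5,4,3,1,2,3,6,5,3,1,2,0,1])) (.node .none (.word [0,1,3,2,1,3,4,5,3,2,1,6,3,4,2,3,2,3,6,3,1,2,3,5,2,3,2,3,5,4,3,1,2,3,6,5,3,1,2,0,2,3,5,4,3,1,2,3,6,5,3,1,2,0,1,0,1,3,2,1,3,4,5,3,2,1,6,3,4,2,3,2,3,6,3,1,2,3,5,2,6,3,4,2,3,5,4,3,6,2,3,1,2,3,6,2]))) (.node (.node (.word [1,3,5,6,3,2,1,0,3,5,4,2,3,2,3,1,2,3,6,5,2,3,1,3,2,3,2,1,5,6,3,2,5,3,2,1,3,6,2,3,2,3,6,4,3,1,2,3,5,2,3,0,1,0,2,3,2,6,3,2,1,0,5,3,4,2,3,2,3,5,1,2,3,6,2,3,2,3,5,6,3,2,1,0,3,5,4,2,3,2,3,1,2,3,6,5,2,6,3,4,2,3,5,4,3,6,2,3,1,2,3,6,2])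 (.word [3,2,3,2,1,5,6,3,2,5,3,2,1,3,6,2,3,2,3,6,4,3,1,2,3,5,2,3,0,1,0,2,3,2,6,3,2,1,0,5,3,4,2,3,2,3,5,1,2,3,6,2,3,2,3,6,3,4,2,3,5,4,3,6,2,3,1,2,3,6,2,1,2,3,5,4,3,1,2,3,6,5,3,1,2,0,3,6,3,4,2,3,5,4,3,6,2,3,1,2,3,6,2])) (.node (.word [1,2,3,5,4,3,1,2,3,6,5,3,1,3,2,6,3,2,1,0,5,3,4,2,3,2,3,5,1,2,3,6,2,3,2,1,0,1,3,2,1,3,4,5,3,2,1,6,3,4,2,3,2,3,6,3,1,2,3,5,2,6,3,4,2,3,5,4,3,6,2,3,1,2,3,6,2]) (.word [1,3,6,3,4,2,3,5,4,3,6,2,3,1,2,3,6,2,1,2,3,5,4,3,1,2,3,6,5,3,1,3,2,6,3,2,1,0,5,3,4,2,3,2,3,5,1,2,3,6,2,5,4,3,1,2,3,6,5,3,1,2,0,1])))) (.node (.node (.node (.word [3,2,3,2,1,5,6,3,2,5,3,2,1,3,6,2,3,2,3,6,4,3,1,2,3,5,2,3,0,1,3,5,6,3,2,1,0,3,5,4,2,3,2,3,1,2,3,6,5,2,3,1,3,2,3,2,1,5,6,3,2,5,3,2,1,3,6,2,3,2,3,6,4,3,1,2,3,5,2,3,1,3,2,1,3,4,5,3,2,1,6,3,4,2,3,2,3,6,3,1,2,3,5,2,6,3,4,2,3,5,4,3,6,2,3,1,2,3,6,2])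 (.word [3,2,3,2,1,5,6,3,2,5,3,2,1,3,6,2,3,2,3,6,4,3,1,2,3,5,2,3,0,1,2,3,5,4,3,1,2,3,6,5,3,1,2,0,1,0,1,3,2,1,3,4,5,3,2,1,6,3,4,2,3,2,3,6,3,1,2,3,5,2,3,1,3,2,3,2,1,5,6,3,2,5,3,2,1,3,6,2,3,2,3,6,4,3,1,2,3,5,2,3,0,1,2,3,5,4,3,1,2,3,6,5,3,1,2,0,1])) (.word [0,1,3,2,1,3,4,5,3,2,1,6,3,4,2,3,2,3,6,3,1,2,3,5,2,3,2,3,5,4,3,1,2,3,6,5,3,1,2,0,3,5,6,3,2,1,0,3,5,4,2,3,2,3,1,2,3,6,5,2,6,3,4,2,3,5,4,3,6,2,3,1,2,3,6,2,1,3,6,3,4,2,3,5,4,3,6,2,3,1,2,3,6,2])) (.node (.node .none (.word [1,0,2,3,2,6,3,2,1,0,5,3,4,2,3,2,3,5,1,2,3,6,2,3,2,1,0,1,3,2,1,3,4,5,3,2,1,6,3,4,2,3,2,3,6,3,1,2,3,5,2,6,3,4,2,3,5,4,3,6,2,3,1,2,3,6,2,1,2,3,5,4,3,1,2,3,6,5,3,1,2,0,1])) (.node (.word [1,3,6,3,4,2,3,5,4,3,6,2,3,1,2,3,6,2,0,1,3,2,1,3,4,5,3,2,1,6,3,4,2,3,2,3,6,3,1,2,3,5,2,5,6,3,2,1,0,3,5,4,2,3,2,3,1,2,3,6,5,2,3,1,3,2,3,2,1,5,6,3,2,5,3,2,1,3,6,2,3,2,3,6,4,3,1,2,3,5,2,3,0,1,3,6,3,4,2,3,5,4,3,6,2,3,1,2,3,6,2])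 (.word [3,2,3,2,1,5,6,3,2,5,3,2,1,3,6,2,3,2,3,6,4,3,1,2,3,5,2,3,0,1,3,6,3,4,2,3,5,4,3,6,2,3,1,2,3,6,2,1,2,3,5,4,3,1,2,3,6,5,3,1,2,0,1,3,2,3,2,1,5,6,3,2,5,3,2,1,3,6,2,3,2,3,6,4,3,1,2,3,5,2,3,0,1,3,6,3,4,2,3,5,4,3,6,2,3,1,2,3,6,2]))))) (.node (.node (.node (.node .none (.word [1,2,3,5,4,3,1,2,3,6,5,3,1,2,0,1,3,2,3,2,1,5,6,3,2,5,3,2,1,3,6,2,3,2,3,6,4,3,1,2,3,5,2,3,0,1,3,5,6,3,2,1,0,3,5,4,2,3,2,3,1,2,3,6,5,2,6,3,4,2,3,5,4,3,6,2,3,1,2,3,6,2,1,2,3,5,4,3,1,2,3,6,5,3,1,2,0,1])) (.node (.word [3,2,3,2,1,5,6,3,2,5,3,2,1,3,6,2,3,2,3,6,4,3,1,2,3,5,2,3,0,3,2,3,2,1,5,6,3,2,5,3,2,1,3,6,2,3,2,3,6,4,3,1,2,3,5,2,3,0,1,2,3,5,4,3,1,2,3,6,5,3,1,2,0,2,3,5,4,3,1,2,3,6,5,3,1,2,0,1]) (.word [1,3,6,3,4,2,3,5,4,3,6,2,3,1,2,3,6,2,3,2,3,2,1,5,6,3,2,5,3,2,1,3,6,2,3,2,3,6,4,3,1,2,3,5,2,3,0,1,3,6,3,4,2,3,5,4,3,6,2,3,1,2,3,6,2,1,3,5,6,3,2,1,0,3,5,4,2,3,2,3,1,2,3,6,5,2,6,3,4,2,3,5,4,3,6,2,3,1,2,3,6,2])))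 (.node (.node .none (.word [1,3,6,3,4,2,3,5,4,3,6,2,3,1,2,3,6,2,1,2,3,5,4,3,1,2,3,6,5,3,1,2,0,3,5,6,3,2,1,0,3,5,4,2,3,2,3,1,2,3,6,5,2,5,6,3,2,1,0,3,5,4,2,3,2,3,1,2,3,6,5,2,6,3,4,2,3,5,4,3,6,2,3,1,2,3,6,2])) (.node (.word [3,2,3,2,1,5,6,3,2,5,3,2,1,3,6,2,3,2,3,6,4,3,1,2,3,5,2,3,0,1,0,2,3,2,6,3,2,1,0,5,3,4,2,3,2,3,5,1,2,3,6,2,5,4,3,1,2,3,6,5,3,1,2,0,3,6,3,4,2,3,5,4,3,6,2,3,1,2,3,6,2,1,2,3,5,4,3,1,2,3,6,5,3,1,2,0,1]) (.word [1,3,5,6,3,2,1,0,3,5,4,2,3,2,3,1,2,3,6,5,2,3,1,3,2,3,2,1,5,6,3,2,5,3,2,1,3,6,2,3,2,3,6,4,3,1,2,3,5,2,3,0,1,2,3,5,4,3,1,2,3,6,5,3,1,2,0,3,6,3,4,2,3,5,4,3,6,2,3,1,2,3,6,2,1,3,6,3,4,2,3,5,4,3,6,2,3,1,2,3,6,2])))) (.node (.node (.node .none (.word [1,3,5,6,3,2,1,0,3,5,4,2,3,2,3,1,2,3,6,5,2,3,1,3,2,3,2,1,5,6,3,2,5,3,2,1,3,6,2,3,2,3,6,4,3,1,2,3,5,2,3,1,3,2,1,3,4,5,3,2,1,6,3,4,2,3,2,3,6,3,1,2,3,5,2,6,3,4,2,3,5,4,3,6,2,3,1,2,3,6,2,1,2,3,5,4,3,1,2,3,6,5,3,1,2,0,1]))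 (.node (.word [1,3,6,3,4,2,3,5,4,3,6,2,3,1,2,3,6,2,1,2,3,5,4,3,1,2,3,6,5,3,1,2,0,3,6,3,4,2,3,5,4,3,6,2,3,1,2,3,6,2,3,2,3,2,1,5,6,3,2,5,3,2,1,3,6,2,3,2,3,6,4,3,1,2,3,5,2,3,0,1,3,6,3,4,2,3,5,4,3,6,2,3,1,2,3,6,2]) (.word [0,1,3,2,1,3,4,5,3,2,1,6,3,4,2,3,2,3,6,3,1,2,3,5,2,3,1,0,1,3,2,1,3,4,5,3,2,1,6,3,4,2,3,2,3,6,3,1,2,3,5,2,5,6,3,2,1,0,3,5,4,2,3,2,3,1,2,3,6,5,2,3,2,3,5,4,3,1,2,3,6,5,3,1,2,0,1]))) (.node (.node (.word [1,3,6,3,4,2,3,5,4,3,6,2,3,1,2,3,6,2,1,3,5,6,3,2,1,0,3,5,4,2,3,2,3,1,2,3,6,5,2,5,6,3,2,1,0,3,5,4,2,3,2,3,1,2,3,6,5,2,6,3,4,2,3,5,4,3,6,2,3,1,2,3,6,2,1,3,6,3,4,2,3,5,4,3,6,2,3,1,2,3,6,2]) (.word [0,1,3,2,1,3,4,5,3,2,1,6,3,4,2,3,2,3,6,3,1,2,3,5,2,3,2,3,5,4,3,1,2,3,6,5,3,1,2,0,3,6,3,4,2,3,5,4,3,6,2,3,1,2,3,6,2,1,3,5,6,3,2,1,0,3,5,4,2,3,2,3,1,2,3,6,5,2,3,2,3,5,4,3,1,2,3,6,5,3,1,2,0,1]))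 .none)))) (.node (.node (.node (.node (.node .none (.word [0,1,3,2,1,3,4,5,3,2,1,6,3,4,2,3,2,3,6,3,1,2,3,5,2,6,3,4,2,3,5,4,3,6,2,3,1,2,3,6,2,1,0,2,3,2,6,3,2,1,0,5,3,4,2,3,2,3,5,1,2,3,6,2,3,2,3,6,3,4,2,3,5,4,3,6,2,3,1,2,3,6,2,1,3,6,3,4,2,3,5,4,3,6,2,3,1,2,3,6,2])) (.node .none (.word [0,1,3,2,1,3,4,5,3,2,1,6,3,4,2,3,2,3,6,3,1,2,3,5,2,3,1,3,2,3,2,1,5,6,3,2,5,3,2,1,3,6,2,3,2,3,6,4,3,1,2,3,5,2,3,1,3,2,1,3,4,5,3,2,1,6,3,4,2,3,2,3,6,3,1,2,3,5,2,3,0,2,3,2,6,3,2,1,0,5,3,4,2,3,2,3,5,1,2,3,6,2,3,2,3,6,3,4,2,3,5,4,3,6,2,3,1,2,3,6,2,1,3,6,3,4,2,3,5,4,3,6,2,3,1,2,3,6,2]))) (.node .none (.node (.word [1,2,3,5,4,3,1,2,3,6,5,3,1,2,0,3,6,3,4,2,3,5,4,3,6,2,3,1,2,3,6,2,1,0,2,3,2,6,3,2,1,0,5,3,4,2,3,2,3,5,1,2,3,6,2,3,2,3,6,3,4,2,3,5,4,3,6,2,3,1,2,3,6,2])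 (.word [0,1,3,2,1,3,4,5,3,2,1,6,3,4,2,3,2,3,6,3,1,2,3,5,2,6,3,4,2,3,5,4,3,6,2,3,1,2,3,6,2,1,3,5,6,3,2,1,0,3,5,4,2,3,2,3,1,2,3,6,5,2,3,1,0,1,3,2,1,3,4,5,3,2,1,6,3,4,2,3,2,3,6,3,1,2,3,5,2,3,2,3,5,4,3,1,2,3,6,5,3,1,2,0,3,6,3,4,2,3,5,4,3,6,2,3,1,2,3,6,2])))) (.node (.node (.node (.word [1,0,2,3,2,6,3,2,1,0,5,3,4,2,3,2,3,5,1,2,3,6,2,3,2,1,3,2,3,2,1,5,6,3,2,5,3,2,1,3,6,2,3,2,3,6,4,3,1,2,3,5,2,3,0,1,0,2,3,2,6,3,2,1,0,5,3,4,2,3,2,3,5,1,2,3,6,2,5,4,3,1,2,3,6,5,3,1,2,0,2,3,5,4,3,1,2,3,6,5,3,1,2,0,1]) (.word [1,2,3,5,4,3,1,2,3,6,5,3,1,2,0,3,6,3,4,2,3,5,4,3,6,2,3,1,2,3,6,2,0,1,3,2,1,3,4,5,3,2,1,6,3,4,2,3,2,3,6,3,1,2,3,5,2,3,0,2,3,2,6,3,2,1,0,5,3,4,2,3,2,3,5,1,2,3,6,2,3,2,3,6,3,4,2,3,5,4,3,6,2,3,1,2,3,6,2]))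 (.node (.word [1,3,5,6,3,2,1,0,3,5,4,2,3,2,3,1,2,3,6,5,2,3,2,3,5,4,3,1,2,3,6,5,3,1,2,0,1,3,2,3,2,1,5,6,3,2,5,3,2,1,3,6,2,3,2,3,6,4,3,1,2,3,5,2,3,0,1,2,3,5,4,3,1,2,3,6,5,3,1,2,0,3,6,3,4,2,3,5,4,3,6,2,3,1,2,3,6,2]) (.word [1,0,2,3,2,6,3,2,1,0,5,3,4,2,3,2,3,5,1,2,3,6,2,5,4,3,1,2,3,6,5,3,1,3,2,6,3,2,1,0,5,3,4,2,3,2,3,5,1,2,3,6,2,3,2,3,6,3,4,2,3,5,4,3,6,2,3,1,2,3,6,2,1,3,6,3,4,2,3,5,4,3,6,2,3,1,2,3,6,2]))) (.node (.word [0,1,3,2,1,3,4,5,3,2,1,6,3,4,2,3,2,3,6,3,1,2,3,5,2,3,0,2,3,2,6,3,2,1,0,5,3,4,2,3,2,3,5,1,2,3,6,2,3,2,1,0,1,3,2,1,3,4,5,3,2,1,6,3,4,2,3,2,3,6,3,1,2,3,5,2,3,1,3,2,3,2,1,5,6,3,2,5,3,2,1,3,6,2,3,2,3,6,4,3,1,2,3,5,2,3,0,1,3,6,3,4,2,3,5,4,3,6,2,3,1,2,3,6,2]) (.node .none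 (.word [3,2,3,2,1,5,6,3,2,5,3,2,1,3,6,2,3,2,3,6,4,3,1,2,3,5,2,3,1,3,2,1,3,4,5,3,2,1,6,3,4,2,3,2,3,6,3,1,2,3,5,2,3,2,3,5,4,3,1,2,3,6,5,3,1,2,0,1,3,2,3,2,1,5,6,3,2,5,3,2,1,3,6,2,3,2,3,6,4,3,1,2,3,5,2,3,0,1,3,6,3,4,2,3,5,4,3,6,2,3,1,2,3,6,2]))))) (.node (.node (.node (.node .none (.word [1,3,6,3,4,2,3,5,4,3,6,2,3,1,2,3,6,2,1,2,3,5,4,3,1,2,3,6,5,3,1,3,2,6,3,2,1,0,5,3,4,2,3,2,3,5,1,2,3,6,2,3,2,3,6,3,4,2,3,5,4,3,6,2,3,1,2,3,6,2,1,2,3,5,4,3,1,2,3,6,5,3,1,2,0,1])) (.word [1,3,6,3,4,2,3,5,4,3,6,2,3,1,2,3,6,2,1,3,6,3,4,2,3,5,4,3,6,2,3,1,2,3,6,2,1,3,6,3,4,2,3,5,4,3,6,2,3,1,2,3,6,2,1,2,3,5,4,3,1,2,3,6,5,3,1,2,0,3,6,3,4,2,3,5,4,3,6,2,3,1,2,3,6,2])) (.node (.node (.word [1,0,2,3,2,6,3,2,1,0,5,3,4,2,3,2,3,5,1,2,3,6,2,3,2,1,3,2,3,2,1,5,6,3,2,5,3,2,1,3,6,2,3,2,3,6,4,3,1,2,3,5,2,3,0,1,3,6,3,4,2,3,5,4,3,6,2,3,1,2,3,6,2,0,1,3,2,1,3,4,5,3,2,1,6,3,4,2,3,2,3,6,3,1,2,3,5,2,3,2,3,5,4,3,1,2,3,6,5,3,1,2,0,3,6,3,4,2,3,5,4,3,6,2,3,1,2,3,6,2])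 (.word [3,2,3,2,1,5,6,3,2,5,3,2,1,3,6,2,3,2,3,6,4,3,1,2,3,5,2,3,0,1,0,2,3,2,6,3,2,1,0,5,3,4,2,3,2,3,5,1,2,3,6,2,3,2,3,6,3,4,2,3,5,4,3,6,2,3,1,2,3,6,2])) (.node (.word [3,2,3,2,1,5,6,3,2,5,3,2,1,3,6,2,3,2,3,6,4,3,1,2,3,5,2,3,0,1,3,5,6,3,2,1,0,3,5,4,2,3,2,3,1,2,3,6,5,2,3,2,3,5,4,3,1,2,3,6,5,3,1,2,0,1]) (.word [0,1,3,2,1,3,4,5,3,2,1,6,3,4,2,3,2,3,6,3,1,2,3,5,2,3,2,3,5,4,3,1,2,3,6,5,3,1,2,0,1,3,2,3,2,1,5,6,3,2,5,3,2,1,3,6,2,3,2,3,6,4,3,1,2,3,5,2,3,0,1,3,6,3,4,2,3,5,4,3,6,2,3,1,2,3,6,2,1,2,3,5,4,3,1,2,3,6,5,3,1,2,0,1])))) (.node (.node (.node (.word [1,3,5,6,3,2,1,0,3,5,4,2,3,2,3,1,2,3,6,5,2,3,1,3,2,3,2,1,5,6,3,2,5,3,2,1,3,6,2,3,2,3,6,4,3,1,2,3,5,2,3,0,1,2,3,5,4,3,1,2,3,6,5,3,1,2,0,1])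 (.word [0,1,3,2,1,3,4,5,3,2,1,6,3,4,2,3,2,3,6,3,1,2,3,5,2,5,6,3,2,1,0,3,5,4,2,3,2,3,1,2,3,6,5,2,6,3,4,2,3,5,4,3,6,2,3,1,2,3,6,2])) (.node (.word [3,2,3,2,1,5,6,3,2,5,3,2,1,3,6,2,3,2,3,6,4,3,1,2,3,5,2,3,0,1,3,5,6,3,2,1,0,3,5,4,2,3,2,3,1,2,3,6,5,2,3,1,0,1,3,2,1,3,4,5,3,2,1,6,3,4,2,3,2,3,6,3,1,2,3,5,2,6,3,4,2,3,5,4,3,6,2,3,1,2,3,6,2,1,3,6,3,4,2,3,5,4,3,6,2,3,1,2,3,6,2]) (.word [0,1,3,2,1,3,4,5,3,2,1,6,3,4,2,3,2,3,6,3,1,2,3,5,2,6,3,4,2,3,5,4,3,6,2,3,1,2,3,6,2,1,0,2,3,2,6,3,2,1,0,5,3,4,2,3,2,3,5,1,2,3,6,2,5,4,3,1,2,3,6,5,3,1,2,0,2,3,5,4,3,1,2,3,6,5,3,1,2,0,3,6,3,4,2,3,5,4,3,6,2,3,1,2,3,6,2]))) (.node (.node (.word [1,3,5,6,3,2,1,0,3,5,4,2,3,2,3,1,2,3,6,5,2,3,1,3,2,3,2,1,5,6,3,2,5,3,2,1,3,6,2,3,2,3,6,4,3,1,2,3,5,2,3,0,3,2,3,2,1,5,6,3,2,5,3,2,1,3,6,2,3,2,3,6,4,3,1,2,3,5,2,3,0,1,3,6,3,4,2,3,5,4,3,6,2,3,1,2,3,6,2,1,2,3,5,4,3,1,2,3,6,5,3,1,2,0,3,6,3,4,2,3,5,4,3,6,2,3,1,2,3,6,2])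 (.word [3,2,3,2,1,5,6,3,2,5,3,2,1,3,6,2,3,2,3,6,4,3,1,2,3,5,2,3,0,1,2,3,5,4,3,1,2,3,6,5,3,1,2,0,3,6,3,4,2,3,5,4,3,6,2,3,1,2,3,6,2,1,2,3,5,4,3,1,2,3,6,5,3,1,2,0,3,6,3,4,2,3,5,4,3,6,2,3,1,2,3,6,2])) (.node .none (.word [1,0,2,3,2,6,3,2,1,0,5,3,4,2,3,2,3,5,1,2,3,6,2,5,4,3,1,2,3,6,5,3,1,2,0,1,0,1,3,2,1,3,4,5,3,2,1,6,3,4,2,3,2,3,6,3,1,2,3,5,2,3,2,3,5,4,3,1,2,3,6,5,3,1,2,0,2,3,5,4,3,1,2,3,6,5,3,1,2,0,1]))))))))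

/-- A subtree. -/
def sub101 : WTree :=
  (.node (.node (.node (.node (.node (.node (.node (.node (.word [0,1,3,2,1,3,4,5,3,2,1,6,3,4,2,3,2,3,6,3,1,2,3,5,2,3,0,2,3,2,6,3,2,1,0,5,3,4,2,3,2,3,5,1,2,3,6,2,3,2,3,6,3,4,2,3,5,4,3,6,2,3,1,2,3,6,2,1,2,3,5,4,3,1,2,3,6,5,3,1,2,0,2,3,5,4,3,1,2,3,6,5,3,1,2,0,1]) (.word [1,2,3,5,4,3,1,2,3,6,5,3,1,2,0,3,5,6,3,2,1,0,3,5,4,2,3,2,3,1,2,3,6,5,2,3,1,0,1,3,2,1,3,4,5,3,2,1,6,3,4,2,3,2,3,6,3,1,2,3,5,2,3,1,3,2,3,2,1,5,6,3,2,5,3,2,1,3,6,2,3,2,3,6,4,3,1,2,3,5,2,3,0,1,2,3,5,4,3,1,2,3,6,5,3,1,2,0,1])) (.word [1,0,2,3,2,6,3,2,1,0,5,3,4,2,3,2,3,5,1,2,3,6,2,3,2,3,6,3,4,2,3,5,4,3,6,2,3,1,2,3,6,2,0,1,3,2,1,3,4,5,3,2,1,6,3,4,2,3,2,3,6,3,1,2,3,5,2,3,1,0,1,3,2,1,3,4,5,3,2,1,6,3,4,2,3,2,3,6,3,1,2,3,5,2,3,2,3,5,4,3,1,2,3,6,5,3,1,2,0,3,6,3,4,2,3,5,4,3,6,2,3,1,2,3,6,2]))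 (.node (.word [1,0,2,3,2,6,3,2,1,0,5,3,4,2,3,2,3,5,1,2,3,6,2,3,2,3,5,6,3,2,1,0,3,5,4,2,3,2,3,1,2,3,6,5,2,3,1,3,2,3,2,1,5,6,3,2,5,3,2,1,3,6,2,3,2,3,6,4,3,1,2,3,5,2,3,0,1,3,6,3,4,2,3,5,4,3,6,2,3,1,2,3,6,2,1,2,3,5,4,3,1,2,3,6,5,3,1,2,0,1]) (.word [0,1,3,2,1,3,4,5,3,2,1,6,3,4,2,3,2,3,6,3,1,2,3,5,2,6,3,4,2,3,5,4,3,6,2,3,1,2,3,6,2,1,2,3,5,4,3,1,2,3,6,5,3,1,3,2,6,3,2,1,0,5,3,4,2,3,2,3,5,1,2,3,6,2,3,2,3,6,3,4,2,3,5,4,3,6,2,3,1,2,3,6,2]))) (.node (.node .none (.word [1,3,6,3,4,2,3,5,4,3,6,2,3,1,2,3,6,2,3,2,3,2,1,5,6,3,2,5,3,2,1,3,6,2,3,2,3,6,4,3,1,2,3,5,2,3,0,1,2,3,5,4,3,1,2,3,6,5,3,1,2,0,1,3,2,3,2,1,5,6,3,2,5,3,2,1,3,6,2,3,2,3,6,4,3,1,2,3,5,2,3,0,1,3,6,3,4,2,3,5,4,3,6,2,3,1,2,3,6,2]))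 (.node (.word [1,2,3,5,4,3,1,2,3,6,5,3,1,3,2,6,3,2,1,0,5,3,4,2,3,2,3,5,1,2,3,6,2,5,4,3,1,2,3,6,5,3,1,2,0,2,3,5,4,3,1,2,3,6,5,3,1,2,0,3,6,3,4,2,3,5,4,3,6,2,3,1,2,3,6,2]) (.word [1,2,3,5,4,3,1,2,3,6,5,3,1,2,0,2,3,5,4,3,1,2,3,6,5,3,1,2,0,3,6,3,4,2,3,5,4,3,6,2,3,1,2,3,6,2])))) (.node (.node (.word [3,2,3,2,1,5,6,3,2,5,3,2,1,3,6,2,3,2,3,6,4,3,1,2,3,5,2,3,0,1,3,6,3,4,2,3,5,4,3,6,2,3,1,2,3,6,2,1,3,6,3,4,2,3,5,4,3,6,2,3,1,2,3,6,2,1,2,3,5,4,3,1,2,3,6,5,3,1,2,0,3,6,3,4,2,3,5,4,3,6,2,3,1,2,3,6,2]) (.node (.word [0,1,3,2,1,3,4,5,3,2,1,6,3,4,2,3,2,3,6,3,1,2,3,5,2,6,3,4,2,3,5,4,3,6,2,3,1,2,3,6,2]) (.word [1,3,5,6,3,2,1,0,3,5,4,2,3,2,3,1,2,3,6,5,2,3,1,0,1,3,2,1,3,4,5,3,2,1,6,3,4,2,3,2,3,6,3,1,2,3,5,2,6,3,4,2,3,5,4,3,6,2,3,1,2,3,6,2,1,3,6,3,4,2,3,5,4,3,6,2,3,1,2,3,6,2,1,3,6,3,4,2,3,5,4,3,6,2,3,1,2,3,6,2])))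 (.node (.word [1,0,2,3,2,6,3,2,1,0,5,3,4,2,3,2,3,5,1,2,3,6,2,3,2,1,3,2,3,2,1,5,6,3,2,5,3,2,1,3,6,2,3,2,3,6,4,3,1,2,3,5,2,3,0,3,2,3,2,1,5,6,3,2,5,3,2,1,3,6,2,3,2,3,6,4,3,1,2,3,5,2,3,0,3,2,3,2,1,5,6,3,2,5,3,2,1,3,6,2,3,2,3,6,4,3,1,2,3,5,2,3,0,1,2,3,5,4,3,1,2,3,6,5,3,1,2,0,1]) (.node (.word [1,0,2,3,2,6,3,2,1,0,5,3,4,2,3,2,3,5,1,2,3,6,2,3,2,1,3,2,3,2,1,5,6,3,2,5,3,2,1,3,6,2,3,2,3,6,4,3,1,2,3,5,2,3,0,1,2,3,5,4,3,1,2,3,6,5,3,1,2,0,1,3,2,3,2,1,5,6,3,2,5,3,2,1,3,6,2,3,2,3,6,4,3,1,2,3,5,2,3,0,1,3,6,3,4,2,3,5,4,3,6,2,3,1,2,3,6,2]) (.word [1,2,3,5,4,3,1,2,3,6,5,3,1,3,2,6,3,2,1,0,5,3,4,2,3,2,3,5,1,2,3,6,2,3,2,1,3,2,3,2,1,5,6,3,2,5,3,2,1,3,6,2,3,2,3,6,4,3,1,2,3,5,2,3,1,3,2,1,3,4,5,3,2,1,6,3,4,2,3,2,3,6,3,1,2,3,5,2,6,3,4,2,3,5,4,3,6,2,3,1,2,3,6,2,1,3,6,3,4,2,3,5,4,3,6,2,3,1,2,3,6,2])))))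 (.node (.node (.node (.node (.word [3,2,3,2,1,5,6,3,2,5,3,2,1,3,6,2,3,2,3,6,4,3,1,2,3,5,2,3,0,1,2,3,5,4,3,1,2,3,6,5,3,1,2,0,2,3,5,4,3,1,2,3,6,5,3,1,2,0,3,6,3,4,2,3,5,4,3,6,2,3,1,2,3,6,2,1,3,6,3,4,2,3,5,4,3,6,2,3,1,2,3,6,2,1,3,6,3,4,2,3,5,4,3,6,2,3,1,2,3,6,2]) (.word [3,2,3,2,1,5,6,3,2,5,3,2,1,3,6,2,3,2,3,6,4,3,1,2,3,5,2,3,0,1,3,5,6,3,2,1,0,3,5,4,2,3,2,3,1,2,3,6,5,2,3,1,3,2,3,2,1,5,6,3,2,5,3,2,1,3,6,2,3,2,3,6,4,3,1,2,3,5,2,3,0,1,3,6,3,4,2,3,5,4,3,6,2,3,1,2,3,6,2,1,3,6,3,4,2,3,5,4,3,6,2,3,1,2,3,6,2])) (.node (.word [1,2,3,5,4,3,1,2,3,6,5,3,1,2,0,3,6,3,4,2,3,5,4,3,6,2,3,1,2,3,6,2,1,3,6,3,4,2,3,5,4,3,6,2,3,1,2,3,6,2,3,2,3,2,1,5,6,3,2,5,3,2,1,3,6,2,3,2,3,6,4,3,1,2,3,5,2,3,0,1,3,6,3,4,2,3,5,4,3,6,2,3,1,2,3,6,2,1,3,6,3,4,2,3,5,4,3,6,2,3,1,2,3,6,2])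 (.word [1,3,6,3,4,2,3,5,4,3,6,2,3,1,2,3,6,2,3,2,3,2,1,5,6,3,2,5,3,2,1,3,6,2,3,2,3,6,4,3,1,2,3,5,2,3,1,3,2,1,3,4,5,3,2,1,6,3,4,2,3,2,3,6,3,1,2,3,5,2,3,1,3,2,3,2,1,5,6,3,2,5,3,2,1,3,6,2,3,2,3,6,4,3,1,2,3,5,2,3,0,1,3,6,3,4,2,3,5,4,3,6,2,3,1,2,3,6,2]))) (.node .none (.node (.word [1,0,2,3,2,6,3,2,1,0,5,3,4,2,3,2,3,5,1,2,3,6,2,3,2,1,0,1,3,2,1,3,4,5,3,2,1,6,3,4,2,3,2,3,6,3,1,2,3,5,2,3,1,0,1,3,2,1,3,4,5,3,2,1,6,3,4,2,3,2,3,6,3,1,2,3,5,2,5,6,3,2,1,0,3,5,4,2,3,2,3,1,2,3,6,5,2,3,2,3,5,4,3,1,2,3,6,5,3,1,2,0,1]) (.word [1,2,3,5,4,3,1,2,3,6,5,3,1,2,0,1,3,2,3,2,1,5,6,3,2,5,3,2,1,3,6,2,3,2,3,6,4,3,1,2,3,5,2,3,0,1,3,5,6,3,2,1,0,3,5,4,2,3,2,3,1,2,3,6,5,2,6,3,4,2,3,5,4,3,6,2,3,1,2,3,6,2,1,3,6,3,4,2,3,5,4,3,6,2,3,1,2,3,6,2]))))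 (.node (.node (.word [1,3,5,6,3,2,1,0,3,5,4,2,3,2,3,1,2,3,6,5,2,3,1,3,2,3,2,1,5,6,3,2,5,3,2,1,3,6,2,3,2,3,6,4,3,1,2,3,5,2,3,0,1,3,5,6,3,2,1,0,3,5,4,2,3,2,3,1,2,3,6,5,2,3,1,3,2,3,2,1,5,6,3,2,5,3,2,1,3,6,2,3,2,3,6,4,3,1,2,3,5,2,3,0,1,2,3,5,4,3,1,2,3,6,5,3,1,2,0,1]) (.node (.word [1,3,6,3,4,2,3,5,4,3,6,2,3,1,2,3,6,2,1,2,3,5,4,3,1,2,3,6,5,3,1,2,0,3,6,3,4,2,3,5,4,3,6,2,3,1,2,3,6,2,1,3,6,3,4,2,3,5,4,3,6,2,3,1,2,3,6,2,1,3,6,3,4,2,3,5,4,3,6,2,3,1,2,3,6,2]) (.word [1,0,2,3,2,6,3,2,1,0,5,3,4,2,3,2,3,5,1,2,3,6,2,3,2,3,5,6,3,2,1,0,3,5,4,2,3,2,3,1,2,3,6,5,2,3,1,0,1,3,2,1,3,4,5,3,2,1,6,3,4,2,3,2,3,6,3,1,2,3,5,2,6,3,4,2,3,5,4,3,6,2,3,1,2,3,6,2,1,3,6,3,4,2,3,5,4,3,6,2,3,1,2,3,6,2]))) (.node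 (.word [1,2,3,5,4,3,1,2,3,6,5,3,1,2,0,2,3,5,4,3,1,2,3,6,5,3,1,2,0,3,6,3,4,2,3,5,4,3,6,2,3,1,2,3,6,2,1,2,3,5,4,3,1,2,3,6,5,3,1,2,0,1]) (.node .none (.word [1,3,5,6,3,2,1,0,3,5,4,2,3,2,3,1,2,3,6,5,2,3,0,2,3,2,6,3,2,1,0,5,3,4,2,3,2,3,5,1,2,3,6,2,5,4,3,1,2,3,6,5,3,1,2,0,3,6,3,4,2,3,5,4,3,6,2,3,1,2,3,6,2,1,3,6,3,4,2,3,5,4,3,6,2,3,1,2,3,6,2])))))) (.node (.node (.node (.node .none (.node .none (.word [0,1,3,2,1,3,4,5,3,2,1,6,3,4,2,3,2,3,6,3,1,2,3,5,2,3,1,0,1,3,2,1,3,4,5,3,2,1,6,3,4,2,3,2,3,6,3,1,2,3,5,2,3,1,3,2,3,2,1,5,6,3,2,5,3,2,1,3,6,2,3,2,3,6,4,3,1,2,3,5,2,3,1,3,2,1,3,4,5,3,2,1,6,3,4,2,3,2,3,6,3,1,2,3,5,2,6,3,4,2,3,5,4,3,6,2,3,1,2,3,6,2,1,3,6,3,4,2,3,5,4,3,6,2,3,1,2,3,6,2])))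 (.node (.node (.word [1,3,5,6,3,2,1,0,3,5,4,2,3,2,3,1,2,3,6,5,2,3,2,3,5,4,3,1,2,3,6,5,3,1,2,0,2,3,5,4,3,1,2,3,6,5,3,1,2,0,1,0,1,3,2,1,3,4,5,3,2,1,6,3,4,2,3,2,3,6,3,1,2,3,5,2,6,3,4,2,3,5,4,3,6,2,3,1,2,3,6,2]) (.word [1,3,6,3,4,2,3,5,4,3,6,2,3,1,2,3,6,2,1,3,6,3,4,2,3,5,4,3,6,2,3,1,2,3,6,2,1,2,3,5,4,3,1,2,3,6,5,3,1,3,2,6,3,2,1,0,5,3,4,2,3,2,3,5,1,2,3,6,2,3,2,3,6,3,4,2,3,5,4,3,6,2,3,1,2,3,6,2])) (.word [1,0,2,3,2,6,3,2,1,0,5,3,4,2,3,2,3,5,1,2,3,6,2,3,2,1,0,1,3,2,1,3,4,5,3,2,1,6,3,4,2,3,2,3,6,3,1,2,3,5,2,5,6,3,2,1,0,3,5,4,2,3,2,3,1,2,3,6,5,2,3,2,3,5,4,3,1,2,3,6,5,3,1,2,0,2,3,5,4,3,1,2,3,6,5,3,1,2,0,1]))) (.node (.node (.node .none (.word [1,0,2,3,2,6,3,2,1,0,5,3,4,2,3,2,3,5,1,2,3,6,2,3,2,3,5,6,3,2,1,0,3,5,4,2,3,2,3,1,2,3,6,5,2,3,2,3,5,4,3,1,2,3,6,5,3,1,2,0,2,3,5,4,3,1,2,3,6,5,3,1,2,0,1]))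 (.node (.word [1,0,2,3,2,6,3,2,1,0,5,3,4,2,3,2,3,5,1,2,3,6,2,3,2,3,5,6,3,2,1,0,3,5,4,2,3,2,3,1,2,3,6,5,2,6,3,4,2,3,5,4,3,6,2,3,1,2,3,6,2,1,2,3,5,4,3,1,2,3,6,5,3,1,2,0,1]) (.word [3,2,3,2,1,5,6,3,2,5,3,2,1,3,6,2,3,2,3,6,4,3,1,2,3,5,2,3,0,1,3,5,6,3,2,1,0,3,5,4,2,3,2,3,1,2,3,6,5,2,6,3,4,2,3,5,4,3,6,2,3,1,2,3,6,2,1,3,6,3,4,2,3,5,4,3,6,2,3,1,2,3,6,2]))) (.node (.node .none (.word [0,1,3,2,1,3,4,5,3,2,1,6,3,4,2,3,2,3,6,3,1,2,3,5,2,3,0,2,3,2,6,3,2,1,0,5,3,4,2,3,2,3,5,1,2,3,6,2,3,2,1,3,2,3,2,1,5,6,3,2,5,3,2,1,3,6,2,3,2,3,6,4,3,1,2,3,5,2,3,0,1,2,3,5,4,3,1,2,3,6,5,3,1,2,0,1])) (.node (.word [0,1,3,2,1,3,4,5,3,2,1,6,3,4,2,3,2,3,6,3,1,2,3,5,2,5,6,3,2,1,0,3,5,4,2,3,2,3,1,2,3,6,5,2,6,3,4,2,3,5,4,3,6,2,3,1,2,3,6,2,1,0,2,3,2,6,3,2,1,0,5,3,4,2,3,2,3,5,1,2,3,6,2,3,2,1,0,1,3,2,1,3,4,5,3,2,1,6,3,4,2,3,2,3,6,3,1,2,3,5,2,6,3,4,2,3,5,4,3,6,2,3,1,2,3,6,2])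 (.word [1,3,6,3,4,2,3,5,4,3,6,2,3,1,2,3,6,2,1,2,3,5,4,3,1,2,3,6,5,3,1,2,0,3,5,6,3,2,1,0,3,5,4,2,3,2,3,1,2,3,6,5,2,6,3,4,2,3,5,4,3,6,2,3,1,2,3,6,2,1,2,3,5,4,3,1,2,3,6,5,3,1,2,0,1]))))) (.node (.node (.node (.node .none (.word [1,3,5,6,3,2,1,0,3,5,4,2,3,2,3,1,2,3,6,5,2,3,1,0,1,3,2,1,3,4,5,3,2,1,6,3,4,2,3,2,3,6,3,1,2,3,5,2,3,2,3,5,4,3,1,2,3,6,5,3,1,2,0,3,6,3,4,2,3,5,4,3,6,2,3,1,2,3,6,2])) (.word [1,3,5,6,3,2,1,0,3,5,4,2,3,2,3,1,2,3,6,5,2,3,2,3,5,4,3,1,2,3,6,5,3,1,2,0,3,5,6,3,2,1,0,3,5,4,2,3,2,3,1,2,3,6,5,2,6,3,4,2,3,5,4,3,6,2,3,1,2,3,6,2,1,3,6,3,4,2,3,5,4,3,6,2,3,1,2,3,6,2])) (.node (.node (.word [1,3,5,6,3,2,1,0,3,5,4,2,3,2,3,1,2,3,6,5,2,3,1,0,1,3,2,1,3,4,5,3,2,1,6,3,4,2,3,2,3,6,3,1,2,3,5,2,6,3,4,2,3,5,4,3,6,2,3,1,2,3,6,2])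 (.word [1,2,3,5,4,3,1,2,3,6,5,3,1,2,0,2,3,5,4,3,1,2,3,6,5,3,1,2,0,3,5,6,3,2,1,0,3,5,4,2,3,2,3,1,2,3,6,5,2,3,2,3,5,4,3,1,2,3,6,5,3,1,2,0,3,6,3,4,2,3,5,4,3,6,2,3,1,2,3,6,2])) (.node (.word [1,3,6,3,4,2,3,5,4,3,6,2,3,1,2,3,6,2,1,3,5,6,3,2,1,0,3,5,4,2,3,2,3,1,2,3,6,5,2,3,1,0,1,3,2,1,3,4,5,3,2,1,6,3,4,2,3,2,3,6,3,1,2,3,5,2,3,2,3,5,4,3,1,2,3,6,5,3,1,2,0,2,3,5,4,3,1,2,3,6,5,3,1,2,0,1]) (.word [3,2,3,2,1,5,6,3,2,5,3,2,1,3,6,2,3,2,3,6,4,3,1,2,3,5,2,3,0,1,3,5,6,3,2,1,0,3,5,4,2,3,2,3,1,2,3,6,5,2,3,2,3,5,4,3,1,2,3,6,5,3,1,2,0,3,5,6,3,2,1,0,3,5,4,2,3,2,3,1,2,3,6,5,2,6,3,4,2,3,5,4,3,6,2,3,1,2,3,6,2])))) (.node (.node (.node .none (.word [1,2,3,5,4,3,1,2,3,6,5,3,1,3,2,6,3,2,1,0,5,3,4,2,3,2,3,5,1,2,3,6,2,3,2,3,6,3,4,2,3,5,4,3,6,2,3,1,2,3,6,2,1,3,5,6,3,2,1,0,3,5,4,2,3,2,3,1,2,3,6,5,2,3,2,3,5,4,3,1,2,3,6,5,3,1,2,0,3,6,3,4,2,3,5,4,3,6,2,3,1,2,3,6,2]))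 (.word [1,0,2,3,2,6,3,2,1,0,5,3,4,2,3,2,3,5,1,2,3,6,2,3,2,1,0,1,3,2,1,3,4,5,3,2,1,6,3,4,2,3,2,3,6,3,1,2,3,5,2,3,0,2,3,2,6,3,2,1,0,5,3,4,2,3,2,3,5,1,2,3,6,2,5,4,3,1,2,3,6,5,3,1,2,0,2,3,5,4,3,1,2,3,6,5,3,1,2,0,1])) (.node (.node .none (.word [0,1,3,2,1,3,4,5,3,2,1,6,3,4,2,3,2,3,6,3,1,2,3,5,2,3,1,3,2,3,2,1,5,6,3,2,5,3,2,1,3,6,2,3,2,3,6,4,3,1,2,3,5,2,3,0,1,3,6,3,4,2,3,5,4,3,6,2,3,1,2,3,6,2,1,3,6,3,4,2,3,5,4,3,6,2,3,1,2,3,6,2])) (.node (.word [1,3,6,3,4,2,3,5,4,3,6,2,3,1,2,3,6,2,1,3,6,3,4,2,3,5,4,3,6,2,3,1,2,3,6,2,1,3,6,3,4,2,3,5,4,3,6,2,3,1,2,3,6,2,3,2,3,2,1,5,6,3,2,5,3,2,1,3,6,2,3,2,3,6,4,3,1,2,3,5,2,3,0,1,3,6,3,4,2,3,5,4,3,6,2,3,1,2,3,6,2]) (.word [1,2,3,5,4,3,1,2,3,6,5,3,1,3,2,6,3,2,1,0,5,3,4,2,3,2,3,5,1,2,3,6,2,5,4,3,1,2,3,6,5,3,1,2,0,2,3,5,4,3,1,2,3,6,5,3,1,2,0,1])))))))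 (.node (.node (.node (.node (.node (.node .none (.word [1,3,6,3,4,2,3,5,4,3,6,2,3,1,2,3,6,2,0,1,3,2,1,3,4,5,3,2,1,6,3,4,2,3,2,3,6,3,1,2,3,5,2,3,2,3,5,4,3,1,2,3,6,5,3,1,2,0,1,3,2,3,2,1,5,6,3,2,5,3,2,1,3,6,2,3,2,3,6,4,3,1,2,3,5,2,3,0,1,3,6,3,4,2,3,5,4,3,6,2,3,1,2,3,6,2])) (.word [1,3,6,3,4,2,3,5,4,3,6,2,3,1,2,3,6,2,0,1,3,2,1,3,4,5,3,2,1,6,3,4,2,3,2,3,6,3,1,2,3,5,2,3,1,0,1,3,2,1,3,4,5,3,2,1,6,3,4,2,3,2,3,6,3,1,2,3,5,2,5,6,3,2,1,0,3,5,4,2,3,2,3,1,2,3,6,5,2,3,2,3,5,4,3,1,2,3,6,5,3,1,2,0,1])) (.node (.node .none (.word [1,3,5,6,3,2,1,0,3,5,4,2,3,2,3,1,2,3,6,5,2,6,3,4,2,3,5,4,3,6,2,3,1,2,3,6,2,0,1,3,2,1,3,4,5,3,2,1,6,3,4,2,3,2,3,6,3,1,2,3,5,2,6,3,4,2,3,5,4,3,6,2,3,1,2,3,6,2,1,2,3,5,4,3,1,2,3,6,5,3,1,2,0,1]))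 (.word [1,2,3,5,4,3,1,2,3,6,5,3,1,2,0,1,3,2,3,2,1,5,6,3,2,5,3,2,1,3,6,2,3,2,3,6,4,3,1,2,3,5,2,3,1,3,2,1,3,4,5,3,2,1,6,3,4,2,3,2,3,6,3,1,2,3,5,2,6,3,4,2,3,5,4,3,6,2,3,1,2,3,6,2]))) (.node (.node (.word [3,2,3,2,1,5,6,3,2,5,3,2,1,3,6,2,3,2,3,6,4,3,1,2,3,5,2,3,0,1,0,2,3,2,6,3,2,1,0,5,3,4,2,3,2,3,5,1,2,3,6,2,3,2,1,3,2,3,2,1,5,6,3,2,5,3,2,1,3,6,2,3,2,3,6,4,3,1,2,3,5,2,3,0,1,2,3,5,4,3,1,2,3,6,5,3,1,2,0,1]) (.node .none (.word [1,2,3,5,4,3,1,2,3,6,5,3,1,2,0,3,5,6,3,2,1,0,3,5,4,2,3,2,3,1,2,3,6,5,2,6,3,4,2,3,5,4,3,6,2,3,1,2,3,6,2,1,0,2,3,2,6,3,2,1,0,5,3,4,2,3,2,3,5,1,2,3,6,2,3,2,3,6,3,4,2,3,5,4,3,6,2,3,1,2,3,6,2]))) (.node (.word [1,3,6,3,4,2,3,5,4,3,6,2,3,1,2,3,6,2,1,3,5,6,3,2,1,0,3,5,4,2,3,2,3,1,2,3,6,5,2,6,3,4,2,3,5,4,3,6,2,3,1,2,3,6,2,1,3,6,3,4,2,3,5,4,3,6,2,3,1,2,3,6,2])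 (.node (.word [1,3,5,6,3,2,1,0,3,5,4,2,3,2,3,1,2,3,6,5,2,5,6,3,2,1,0,3,5,4,2,3,2,3,1,2,3,6,5,2,6,3,4,2,3,5,4,3,6,2,3,1,2,3,6,2]) (.word [1,3,6,3,4,2,3,5,4,3,6,2,3,1,2,3,6,2,1,2,3,5,4,3,1,2,3,6,5,3,1,2,0,1,3,2,3,2,1,5,6,3,2,5,3,2,1,3,6,2,3,2,3,6,4,3,1,2,3,5,2,3,0,1,3,5,6,3,2,1,0,3,5,4,2,3,2,3,1,2,3,6,5,2,6,3,4,2,3,5,4,3,6,2,3,1,2,3,6,2]))))) (.node (.node (.node (.node (.word [1,2,3,5,4,3,1,2,3,6,5,3,1,2,0,1,0,1,3,2,1,3,4,5,3,2,1,6,3,4,2,3,2,3,6,3,1,2,3,5,2,3,1,0,1,3,2,1,3,4,5,3,2,1,6,3,4,2,3,2,3,6,3,1,2,3,5,2,3,0,2,3,2,6,3,2,1,0,5,3,4,2,3,2,3,5,1,2,3,6,2,3,2,3,6,3,4,2,3,5,4,3,6,2,3,1,2,3,6,2]) (.word [0,1,3,2,1,3,4,5,3,2,1,6,3,4,2,3,2,3,6,3,1,2,3,5,2,5,6,3,2,1,0,3,5,4,2,3,2,3,1,2,3,6,5,2,6,3,4,2,3,5,4,3,6,2,3,1,2,3,6,2,1,2,3,5,4,3,1,2,3,6,5,3,1,2,0,3,6,3,4,2,3,5,4,3,6,2,3,1,2,3,6,2]))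 (.node .none (.word [0,1,3,2,1,3,4,5,3,2,1,6,3,4,2,3,2,3,6,3,1,2,3,5,2,3,2,3,5,4,3,1,2,3,6,5,3,1,2,0,1,3,2,3,2,1,5,6,3,2,5,3,2,1,3,6,2,3,2,3,6,4,3,1,2,3,5,2,3,1,3,2,1,3,4,5,3,2,1,6,3,4,2,3,2,3,6,3,1,2,3,5,2,6,3,4,2,3,5,4,3,6,2,3,1,2,3,6,2]))) (.node (.word [0,1,3,2,1,3,4,5,3,2,1,6,3,4,2,3,2,3,6,3,1,2,3,5,2,3,1,3,2,3,2,1,5,6,3,2,5,3,2,1,3,6,2,3,2,3,6,4,3,1,2,3,5,2,3,0,1,2,3,5,4,3,1,2,3,6,5,3,1,2,0,2,3,5,4,3,1,2,3,6,5,3,1,2,0,3,6,3,4,2,3,5,4,3,6,2,3,1,2,3,6,2]) (.node .none (.word [1,3,6,3,4,2,3,5,4,3,6,2,3,1,2,3,6,2,1,2,3,5,4,3,1,2,3,6,5,3,1,2,0,3,6,3,4,2,3,5,4,3,6,2,3,1,2,3,6,2,1,0,2,3,2,6,3,2,1,0,5,3,4,2,3,2,3,5,1,2,3,6,2,3,2,3,6,3,4,2,3,5,4,3,6,2,3,1,2,3,6,2])))) (.node .none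 (.node (.node (.word [0,1,3,2,1,3,4,5,3,2,1,6,3,4,2,3,2,3,6,3,1,2,3,5,2,6,3,4,2,3,5,4,3,6,2,3,1,2,3,6,2,1,3,6,3,4,2,3,5,4,3,6,2,3,1,2,3,6,2,3,2,3,2,1,5,6,3,2,5,3,2,1,3,6,2,3,2,3,6,4,3,1,2,3,5,2,3,0,1,3,6,3,4,2,3,5,4,3,6,2,3,1,2,3,6,2,1,3,6,3,4,2,3,5,4,3,6,2,3,1,2,3,6,2]) (.word [1,0,2,3,2,6,3,2,1,0,5,3,4,2,3,2,3,5,1,2,3,6,2,3,2,1,0,1,3,2,1,3,4,5,3,2,1,6,3,4,2,3,2,3,6,3,1,2,3,5,2,5,6,3,2,1,0,3,5,4,2,3,2,3,1,2,3,6,5,2,6,3,4,2,3,5,4,3,6,2,3,1,2,3,6,2,1,3,6,3,4,2,3,5,4,3,6,2,3,1,2,3,6,2])) (.node (.word [1,0,2,3,2,6,3,2,1,0,5,3,4,2,3,2,3,5,1,2,3,6,2,3,2,3,6,3,4,2,3,5,4,3,6,2,3,1,2,3,6,2,0,1,3,2,1,3,4,5,3,2,1,6,3,4,2,3,2,3,6,3,1,2,3,5,2,6,3,4,2,3,5,4,3,6,2,3,1,2,3,6,2]) (.word [3,2,3,2,1,5,6,3,2,5,3,2,1,3,6,2,3,2,3,6,4,3,1,2,3,5,2,3,0,1,0,2,3,2,6,3,2,1,0,5,3,4,2,3,2,3,5,1,2,3,6,2,3,2,1,3,2,3,2,1,5,6,3,2,5,3,2,1,3,6,2,3,2,3,6,4,3,1,2,3,5,2,3,0,1,3,5,6,3,2,1,0,3,5,4,2,3,2,3,1,2,3,6,5,2,6,3,4,2,3,5,4,3,6,2,3,1,2,3,6,2,1,3,6,3,4,2,3,5,4,3,6,2,3,1,2,3,6,2]))))))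 (.node (.node (.node (.node (.node .none (.word [1,3,6,3,4,2,3,5,4,3,6,2,3,1,2,3,6,2,1,3,6,3,4,2,3,5,4,3,6,2,3,1,2,3,6,2,1,2,3,5,4,3,1,2,3,6,5,3,1,2,0,3,5,6,3,2,1,0,3,5,4,2,3,2,3,1,2,3,6,5,2,3,2,3,5,4,3,1,2,3,6,5,3,1,2,0,1])) (.node (.word [1,3,5,6,3,2,1,0,3,5,4,2,3,2,3,1,2,3,6,5,2,3,2,3,5,4,3,1,2,3,6,5,3,1,2,0,1,0,1,3,2,1,3,4,5,3,2,1,6,3,4,2,3,2,3,6,3,1,2,3,5,2,3,0,2,3,2,6,3,2,1,0,5,3,4,2,3,2,3,5,1,2,3,6,2,5,4,3,1,2,3,6,5,3,1,2,0,1]) (.word [3,2,3,2,1,5,6,3,2,5,3,2,1,3,6,2,3,2,3,6,4,3,1,2,3,5,2,3,0,1,2,3,5,4,3,1,2,3,6,5,3,1,2,0,2,3,5,4,3,1,2,3,6,5,3,1,2,0,3,5,6,3,2,1,0,3,5,4,2,3,2,3,1,2,3,6,5,2,6,3,4,2,3,5,4,3,6,2,3,1,2,3,6,2]))) (.node (.node .none (.word [1,3,5,6,3,2,1,0,3,5,4,2,3,2,3,1,2,3,6,5,2,3,1,0,1,3,2,1,3,4,5,3,2,1,6,3,4,2,3,2,3,6,3,1,2,3,5,2,3,2,3,5,4,3,1,2,3,6,5,3,1,2,0,3,6,3,4,2,3,5,4,3,6,2,3,1,2,3,6,2,1,2,3,5,4,3,1,2,3,6,5,3,1,2,0,1]))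 (.node (.word [1,0,2,3,2,6,3,2,1,0,5,3,4,2,3,2,3,5,1,2,3,6,2,5,4,3,1,2,3,6,5,3,1,3,2,6,3,2,1,0,5,3,4,2,3,2,3,5,1,2,3,6,2,3,2,3,6,3,4,2,3,5,4,3,6,2,3,1,2,3,6,2,1,2,3,5,4,3,1,2,3,6,5,3,1,2,0,1]) (.word [1,3,6,3,4,2,3,5,4,3,6,2,3,1,2,3,6,2,1,3,6,3,4,2,3,5,4,3,6,2,3,1,2,3,6,2,1,2,3,5,4,3,1,2,3,6,5,3,1,2,0,3,6,3,4,2,3,5,4,3,6,2,3,1,2,3,6,2])))) (.node (.node (.node (.word [0,1,3,2,1,3,4,5,3,2,1,6,3,4,2,3,2,3,6,3,1,2,3,5,2,5,6,3,2,1,0,3,5,4,2,3,2,3,1,2,3,6,5,2,6,3,4,2,3,5,4,3,6,2,3,1,2,3,6,2,1,0,2,3,2,6,3,2,1,0,5,3,4,2,3,2,3,5,1,2,3,6,2,3,2,3,6,3,4,2,3,5,4,3,6,2,3,1,2,3,6,2]) (.word [0,1,3,2,1,3,4,5,3,2,1,6,3,4,2,3,2,3,6,3,1,2,3,5,2,3,1,3,2,3,2,1,5,6,3,2,5,3,2,1,3,6,2,3,2,3,6,4,3,1,2,3,5,2,3,0,1,3,6,3,4,2,3,5,4,3,6,2,3,1,2,3,6,2,0,1,3,2,1,3,4,5,3,2,1,6,3,4,2,3,2,3,6,3,1,2,3,5,2,3,2,3,5,4,3,1,2,3,6,5,3,1,2,0,1]))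 (.node (.word [0,1,3,2,1,3,4,5,3,2,1,6,3,4,2,3,2,3,6,3,1,2,3,5,2,5,6,3,2,1,0,3,5,4,2,3,2,3,1,2,3,6,5,2,3,1,3,2,3,2,1,5,6,3,2,5,3,2,1,3,6,2,3,2,3,6,4,3,1,2,3,5,2,3,0,1,3,6,3,4,2,3,5,4,3,6,2,3,1,2,3,6,2,1,3,6,3,4,2,3,5,4,3,6,2,3,1,2,3,6,2]) (.word [0,1,3,2,1,3,4,5,3,2,1,6,3,4,2,3,2,3,6,3,1,2,3,5,2,3,1,0,1,3,2,1,3,4,5,3,2,1,6,3,4,2,3,2,3,6,3,1,2,3,5,2,6,3,4,2,3,5,4,3,6,2,3,1,2,3,6,2,1,3,6,3,4,2,3,5,4,3,6,2,3,1,2,3,6,2]))) (.node (.node (.word [1,3,5,6,3,2,1,0,3,5,4,2,3,2,3,1,2,3,6,5,2,5,6,3,2,1,0,3,5,4,2,3,2,3,1,2,3,6,5,2,5,6,3,2,1,0,3,5,4,2,3,2,3,1,2,3,6,5,2,6,3,4,2,3,5,4,3,6,2,3,1,2,3,6,2,1,3,6,3,4,2,3,5,4,3,6,2,3,1,2,3,6,2]) (.word [1,0,2,3,2,6,3,2,1,0,5,3,4,2,3,2,3,5,1,2,3,6,2,5,4,3,1,2,3,6,5,3,1,2,0,3,6,3,4,2,3,5,4,3,6,2,3,1,2,3,6,2,1,2,3,5,4,3,1,2,3,6,5,3,1,2,0,3,6,3,4,2,3,5,4,3,6,2,3,1,2,3,6,2]))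 .none))) (.node (.node (.node (.node (.word [3,2,3,2,1,5,6,3,2,5,3,2,1,3,6,2,3,2,3,6,4,3,1,2,3,5,2,3,0,3,2,3,2,1,5,6,3,2,5,3,2,1,3,6,2,3,2,3,6,4,3,1,2,3,5,2,3,0,3,2,3,2,1,5,6,3,2,5,3,2,1,3,6,2,3,2,3,6,4,3,1,2,3,5,2,3,0,1,2,3,5,4,3,1,2,3,6,5,3,1,2,0,1]) (.word [1,3,6,3,4,2,3,5,4,3,6,2,3,1,2,3,6,2,1,3,5,6,3,2,1,0,3,5,4,2,3,2,3,1,2,3,6,5,2,3,1,0,1,3,2,1,3,4,5,3,2,1,6,3,4,2,3,2,3,6,3,1,2,3,5,2,3,2,3,5,4,3,1,2,3,6,5,3,1,2,0,1])) (.node .none (.word [1,0,2,3,2,6,3,2,1,0,5,3,4,2,3,2,3,5,1,2,3,6,2,3,2,1,3,2,3,2,1,5,6,3,2,5,3,2,1,3,6,2,3,2,3,6,4,3,1,2,3,5,2,3,0,1,3,5,6,3,2,1,0,3,5,4,2,3,2,3,1,2,3,6,5,2,3,1,0,1,3,2,1,3,4,5,3,2,1,6,3,4,2,3,2,3,6,3,1,2,3,5,2,6,3,4,2,3,5,4,3,6,2,3,1,2,3,6,2,1,3,6,3,4,2,3,5,4,3,6,2,3,1,2,3,6,2])))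 (.node (.node (.word [1,2,3,5,4,3,1,2,3,6,5,3,1,2,0,2,3,5,4,3,1,2,3,6,5,3,1,2,0,1,3,2,3,2,1,5,6,3,2,5,3,2,1,3,6,2,3,2,3,6,4,3,1,2,3,5,2,3,1,3,2,1,3,4,5,3,2,1,6,3,4,2,3,2,3,6,3,1,2,3,5,2,6,3,4,2,3,5,4,3,6,2,3,1,2,3,6,2]) (.word [1,3,6,3,4,2,3,5,4,3,6,2,3,1,2,3,6,2,0,1,3,2,1,3,4,5,3,2,1,6,3,4,2,3,2,3,6,3,1,2,3,5,2,3,1,3,2,3,2,1,5,6,3,2,5,3,2,1,3,6,2,3,2,3,6,4,3,1,2,3,5,2,3,0,3,2,3,2,1,5,6,3,2,5,3,2,1,3,6,2,3,2,3,6,4,3,1,2,3,5,2,3,0,1,2,3,5,4,3,1,2,3,6,5,3,1,2,0,1])) (.word [1,3,6,3,4,2,3,5,4,3,6,2,3,1,2,3,6,2,3,2,3,2,1,5,6,3,2,5,3,2,1,3,6,2,3,2,3,6,4,3,1,2,3,5,2,3,0,1,3,5,6,3,2,1,0,3,5,4,2,3,2,3,1,2,3,6,5,2,3,1,0,1,3,2,1,3,4,5,3,2,1,6,3,4,2,3,2,3,6,3,1,2,3,5,2,6,3,4,2,3,5,4,3,6,2,3,1,2,3,6,2])))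 (.node .none (.node (.node (.word [3,2,3,2,1,5,6,3,2,5,3,2,1,3,6,2,3,2,3,6,4,3,1,2,3,5,2,3,0,1,3,6,3,4,2,3,5,4,3,6,2,3,1,2,3,6,2,1,0,2,3,2,6,3,2,1,0,5,3,4,2,3,2,3,5,1,2,3,6,2,3,2,3,5,6,3,2,1,0,3,5,4,2,3,2,3,1,2,3,6,5,2,6,3,4,2,3,5,4,3,6,2,3,1,2,3,6,2,1,3,6,3,4,2,3,5,4,3,6,2,3,1,2,3,6,2]) (.word [1,3,6,3,4,2,3,5,4,3,6,2,3,1,2,3,6,2,1,3,6,3,4,2,3,5,4,3,6,2,3,1,2,3,6,2,0,1,3,2,1,3,4,5,3,2,1,6,3,4,2,3,2,3,6,3,1,2,3,5,2,3,0,2,3,2,6,3,2,1,0,5,3,4,2,3,2,3,5,1,2,3,6,2,3,2,1,3,2,3,2,1,5,6,3,2,5,3,2,1,3,6,2,3,2,3,6,4,3,1,2,3,5,2,3,0,1,3,6,3,4,2,3,5,4,3,6,2,3,1,2,3,6,2])) (.node (.word [3,2,3,2,1,5,6,3,2,5,3,2,1,3,6,2,3,2,3,6,4,3,1,2,3,5,2,3,0,1,0,2,3,2,6,3,2,1,0,5,3,4,2,3,2,3,5,1,2,3,6,2,3,2,1,3,2,3,2,1,5,6,3,2,5,3,2,1,3,6,2,3,2,3,6,4,3,1,2,3,5,2,3,1,3,2,1,3,4,5,3,2,1,6,3,4,2,3,2,3,6,3,1,2,3,5,2,6,3,4,2,3,5,4,3,6,2,3,1,2,3,6,2])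 (.word [1,3,6,3,4,2,3,5,4,3,6,2,3,1,2,3,6,2,1,2,3,5,4,3,1,2,3,6,5,3,1,2,0,1,3,2,3,2,1,5,6,3,2,5,3,2,1,3,6,2,3,2,3,6,4,3,1,2,3,5,2,3,0,3,2,3,2,1,5,6,3,2,5,3,2,1,3,6,2,3,2,3,6,4,3,1,2,3,5,2,3,0,1,3,6,3,4,2,3,5,4,3,6,2,3,1,2,3,6,2]))))))))

/-- A subtree. -/
def sub102 : WTree :=
  (.node (.node (.node (.node (.node (.node (.node (.word [1,3,5,6,3,2,1,0,3,5,4,2,3,2,3,1,2,3,6,5,2,3,1,3,2,3,2,1,5,6,3,2,5,3,2,1,3,6,2,3,2,3,6,4,3,1,2,3,5,2,3,0,1,3,5,6,3,2,1,0,3,5,4,2,3,2,3,1,2,3,6,5,2,3,2,3,5,4,3,1,2,3,6,5,3,1,2,0,2,3,5,4,3,1,2,3,6,5,3,1,2,0,1]) (.word [3,2,3,2,1,5,6,3,2,5,3,2,1,3,6,2,3,2,3,6,4,3,1,2,3,5,2,3,0,1,2,3,5,4,3,1,2,3,6,5,3,1,2,0,1,3,2,3,2,1,5,6,3,2,5,3,2,1,3,6,2,3,2,3,6,4,3,1,2,3,5,2,3,0,1,3,6,3,4,2,3,5,4,3,6,2,3,1,2,3,6,2,1,3,6,3,4,2,3,5,4,3,6,2,3,1,2,3,6,2,1,2,3,5,4,3,1,2,3,6,5,3,1,2,0,1]))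 (.node .none (.word [1,3,5,6,3,2,1,0,3,5,4,2,3,2,3,1,2,3,6,5,2,3,1,0,1,3,2,1,3,4,5,3,2,1,6,3,4,2,3,2,3,6,3,1,2,3,5,2,6,3,4,2,3,5,4,3,6,2,3,1,2,3,6,2,1,2,3,5,4,3,1,2,3,6,5,3,1,2,0,1]))) (.node .none (.word [1,3,5,6,3,2,1,0,3,5,4,2,3,2,3,1,2,3,6,5,2,6,3,4,2,3,5,4,3,6,2,3,1,2,3,6,2,1,2,3,5,4,3,1,2,3,6,5,3,1,2,0,1]))) (.node (.node (.node (.word [1,2,3,5,4,3,1,2,3,6,5,3,1,2,0,1,0,1,3,2,1,3,4,5,3,2,1,6,3,4,2,3,2,3,6,3,1,2,3,5,2,5,6,3,2,1,0,3,5,4,2,3,2,3,1,2,3,6,5,2,3,1,3,2,3,2,1,5,6,3,2,5,3,2,1,3,6,2,3,2,3,6,4,3,1,2,3,5,2,3,0,1,3,6,3,4,2,3,5,4,3,6,2,3,1,2,3,6,2]) (.word [1,3,6,3,4,2,3,5,4,3,6,2,3,1,2,3,6,2,0,1,3,2,1,3,4,5,3,2,1,6,3,4,2,3,2,3,6,3,1,2,3,5,2,3,1,0,1,3,2,1,3,4,5,3,2,1,6,3,4,2,3,2,3,6,3,1,2,3,5,2,3,1,3,2,3,2,1,5,6,3,2,5,3,2,1,3,6,2,3,2,3,6,4,3,1,2,3,5,2,3,0,1,3,6,3,4,2,3,5,4,3,6,2,3,1,2,3,6,2]))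 (.node (.word [0,1,3,2,1,3,4,5,3,2,1,6,3,4,2,3,2,3,6,3,1,2,3,5,2,5,6,3,2,1,0,3,5,4,2,3,2,3,1,2,3,6,5,2,6,3,4,2,3,5,4,3,6,2,3,1,2,3,6,2,1,3,5,6,3,2,1,0,3,5,4,2,3,2,3,1,2,3,6,5,2,6,3,4,2,3,5,4,3,6,2,3,1,2,3,6,2]) (.word [3,2,3,2,1,5,6,3,2,5,3,2,1,3,6,2,3,2,3,6,4,3,1,2,3,5,2,3,0,1,3,6,3,4,2,3,5,4,3,6,2,3,1,2,3,6,2,3,2,3,2,1,5,6,3,2,5,3,2,1,3,6,2,3,2,3,6,4,3,1,2,3,5,2,3,0,1,3,6,3,4,2,3,5,4,3,6,2,3,1,2,3,6,2,1,2,3,5,4,3,1,2,3,6,5,3,1,2,0,1]))) (.node (.node .none (.word [0,1,3,2,1,3,4,5,3,2,1,6,3,4,2,3,2,3,6,3,1,2,3,5,2,3,0,2,3,2,6,3,2,1,0,5,3,4,2,3,2,3,5,1,2,3,6,2,3,2,3,6,3,4,2,3,5,4,3,6,2,3,1,2,3,6,2])) (.node (.word [3,2,3,2,1,5,6,3,2,5,3,2,1,3,6,2,3,2,3,6,4,3,1,2,3,5,2,3,0,1,2,3,5,4,3,1,2,3,6,5,3,1,2,0,2,3,5,4,3,1,2,3,6,5,3,1,2,0,1])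 (.word [1,3,5,6,3,2,1,0,3,5,4,2,3,2,3,1,2,3,6,5,2,6,3,4,2,3,5,4,3,6,2,3,1,2,3,6,2,3,2,3,2,1,5,6,3,2,5,3,2,1,3,6,2,3,2,3,6,4,3,1,2,3,5,2,3,0,1,3,6,3,4,2,3,5,4,3,6,2,3,1,2,3,6,2]))))) (.node (.node (.node (.node (.word [1,3,5,6,3,2,1,0,3,5,4,2,3,2,3,1,2,3,6,5,2,3,1,0,1,3,2,1,3,4,5,3,2,1,6,3,4,2,3,2,3,6,3,1,2,3,5,2,5,6,3,2,1,0,3,5,4,2,3,2,3,1,2,3,6,5,2,6,3,4,2,3,5,4,3,6,2,3,1,2,3,6,2,1,2,3,5,4,3,1,2,3,6,5,3,1,2,0,1]) (.word [3,2,3,2,1,5,6,3,2,5,3,2,1,3,6,2,3,2,3,6,4,3,1,2,3,5,2,3,0,3,2,3,2,1,5,6,3,2,5,3,2,1,3,6,2,3,2,3,6,4,3,1,2,3,5,2,3,1,3,2,1,3,4,5,3,2,1,6,3,4,2,3,2,3,6,3,1,2,3,5,2,3,2,3,5,4,3,1,2,3,6,5,3,1,2,0,3,6,3,4,2,3,5,4,3,6,2,3,1,2,3,6,2])) .none) (.node (.node .none (.word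 [0,1,3,2,1,3,4,5,3,2,1,6,3,4,2,3,2,3,6,3,1,2,3,5,2,5,6,3,2,1,0,3,5,4,2,3,2,3,1,2,3,6,5,2,3,1,3,2,3,2,1,5,6,3,2,5,3,2,1,3,6,2,3,2,3,6,4,3,1,2,3,5,2,3,0,1,3,6,3,4,2,3,5,4,3,6,2,3,1,2,3,6,2])) (.node .none (.word [0,1,3,2,1,3,4,5,3,2,1,6,3,4,2,3,2,3,6,3,1,2,3,5,2,5,6,3,2,1,0,3,5,4,2,3,2,3,1,2,3,6,5,2,3,2,3,5,4,3,1,2,3,6,5,3,1,2,0,3,6,3,4,2,3,5,4,3,6,2,3,1,2,3,6,2,1,2,3,5,4,3,1,2,3,6,5,3,1,2,0,1])))) (.node (.node (.node .none (.word [3,2,3,2,1,5,6,3,2,5,3,2,1,3,6,2,3,2,3,6,4,3,1,2,3,5,2,3,0,1,3,5,6,3,2,1,0,3,5,4,2,3,2,3,1,2,3,6,5,2,3,2,3,5,4,3,1,2,3,6,5,3,1,2,0,2,3,5,4,3,1,2,3,6,5,3,1,2,0,2,3,5,4,3,1,2,3,6,5,3,1,2,0,1])) (.node (.word [1,3,6,3,4,2,3,5,4,3,6,2,3,1,2,3,6,2,3,2,3,2,1,5,6,3,2,5,3,2,1,3,6,2,3,2,3,6,4,3,1,2,3,5,2,3,0,1,3,5,6,3,2,1,0,3,5,4,2,3,2,3,1,2,3,6,5,2,3,2,3,5,4,3,1,2,3,6,5,3,1,2,0,3,6,3,4,2,3,5,4,3,6,2,3,1,2,3,6,2,1,3,6,3,4,2,3,5,4,3,6,2,3,1,2,3,6,2])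 (.word [1,3,5,6,3,2,1,0,3,5,4,2,3,2,3,1,2,3,6,5,2,3,0,2,3,2,6,3,2,1,0,5,3,4,2,3,2,3,5,1,2,3,6,2,3,2,1,0,1,3,2,1,3,4,5,3,2,1,6,3,4,2,3,2,3,6,3,1,2,3,5,2,3,2,3,5,4,3,1,2,3,6,5,3,1,2,0,3,6,3,4,2,3,5,4,3,6,2,3,1,2,3,6,2]))) (.node (.node .none (.word [1,3,6,3,4,2,3,5,4,3,6,2,3,1,2,3,6,2,1,3,5,6,3,2,1,0,3,5,4,2,3,2,3,1,2,3,6,5,2,6,3,4,2,3,5,4,3,6,2,3,1,2,3,6,2])) (.node .none (.word [1,3,6,3,4,2,3,5,4,3,6,2,3,1,2,3,6,2,1,3,5,6,3,2,1,0,3,5,4,2,3,2,3,1,2,3,6,5,2,3,1,3,2,3,2,1,5,6,3,2,5,3,2,1,3,6,2,3,2,3,6,4,3,1,2,3,5,2,3,0,1,3,6,3,4,2,3,5,4,3,6,2,3,1,2,3,6,2,1,2,3,5,4,3,1,2,3,6,5,3,1,2,0,3,6,3,4,2,3,5,4,3,6,2,3,1,2,3,6,2])))))) (.node (.node (.node (.node (.node (.word [3,2,3,2,1,5,6,3,2,5,3,2,1,3,6,2,3,2,3,6,4,3,1,2,3,5,2,3,0,1,3,6,3,4,2,3,5,4,3,6,2,3,1,2,3,6,2])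 (.word [0,1,3,2,1,3,4,5,3,2,1,6,3,4,2,3,2,3,6,3,1,2,3,5,2,6,3,4,2,3,5,4,3,6,2,3,1,2,3,6,2,3,2,3,2,1,5,6,3,2,5,3,2,1,3,6,2,3,2,3,6,4,3,1,2,3,5,2,3,0,1,3,6,3,4,2,3,5,4,3,6,2,3,1,2,3,6,2])) (.node (.word [1,2,3,5,4,3,1,2,3,6,5,3,1,3,2,6,3,2,1,0,5,3,4,2,3,2,3,5,1,2,3,6,2,3,2,3,6,3,4,2,3,5,4,3,6,2,3,1,2,3,6,2,1,2,3,5,4,3,1,2,3,6,5,3,1,2,0,1]) (.word [1,3,5,6,3,2,1,0,3,5,4,2,3,2,3,1,2,3,6,5,2,3,2,3,5,4,3,1,2,3,6,5,3,1,2,0,3,6,3,4,2,3,5,4,3,6,2,3,1,2,3,6,2,1,3,6,3,4,2,3,5,4,3,6,2,3,1,2,3,6,2,1,3,6,3,4,2,3,5,4,3,6,2,3,1,2,3,6,2]))) (.node (.word [3,2,3,2,1,5,6,3,2,5,3,2,1,3,6,2,3,2,3,6,4,3,1,2,3,5,2,3,0,3,2,3,2,1,5,6,3,2,5,3,2,1,3,6,2,3,2,3,6,4,3,1,2,3,5,2,3,0,1,2,3,5,4,3,1,2,3,6,5,3,1,2,0,1,3,2,3,2,1,5,6,3,2,5,3,2,1,3,6,2,3,2,3,6,4,3,1,2,3,5,2,3,0,1,3,6,3,4,2,3,5,4,3,6,2,3,1,2,3,6,2])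 (.word [1,3,6,3,4,2,3,5,4,3,6,2,3,1,2,3,6,2,0,1,3,2,1,3,4,5,3,2,1,6,3,4,2,3,2,3,6,3,1,2,3,5,2,3,2,3,5,4,3,1,2,3,6,5,3,1,2,0,2,3,5,4,3,1,2,3,6,5,3,1,2,0,3,6,3,4,2,3,5,4,3,6,2,3,1,2,3,6,2]))) (.node (.node (.node .none (.word [1,3,5,6,3,2,1,0,3,5,4,2,3,2,3,1,2,3,6,5,2,3,1,0,1,3,2,1,3,4,5,3,2,1,6,3,4,2,3,2,3,6,3,1,2,3,5,2,3,1,3,2,3,2,1,5,6,3,2,5,3,2,1,3,6,2,3,2,3,6,4,3,1,2,3,5,2,3,1,3,2,1,3,4,5,3,2,1,6,3,4,2,3,2,3,6,3,1,2,3,5,2,6,3,4,2,3,5,4,3,6,2,3,1,2,3,6,2,1,3,6,3,4,2,3,5,4,3,6,2,3,1,2,3,6,2])) (.node .none (.word [1,0,2,3,2,6,3,2,1,0,5,3,4,2,3,2,3,5,1,2,3,6,2,3,2,1,3,2,3,2,1,5,6,3,2,5,3,2,1,3,6,2,3,2,3,6,4,3,1,2,3,5,2,3,0,1,3,5,6,3,2,1,0,3,5,4,2,3,2,3,1,2,3,6,5,2,6,3,4,2,3,5,4,3,6,2,3,1,2,3,6,2])))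 (.node (.node (.word [1,3,6,3,4,2,3,5,4,3,6,2,3,1,2,3,6,2,1,3,5,6,3,2,1,0,3,5,4,2,3,2,3,1,2,3,6,5,2,6,3,4,2,3,5,4,3,6,2,3,1,2,3,6,2,1,2,3,5,4,3,1,2,3,6,5,3,1,2,0,2,3,5,4,3,1,2,3,6,5,3,1,2,0,1]) (.word [1,3,6,3,4,2,3,5,4,3,6,2,3,1,2,3,6,2,1,2,3,5,4,3,1,2,3,6,5,3,1,2,0,3,6,3,4,2,3,5,4,3,6,2,3,1,2,3,6,2,1,3,5,6,3,2,1,0,3,5,4,2,3,2,3,1,2,3,6,5,2,6,3,4,2,3,5,4,3,6,2,3,1,2,3,6,2])) (.node (.word [1,2,3,5,4,3,1,2,3,6,5,3,1,2,0,3,6,3,4,2,3,5,4,3,6,2,3,1,2,3,6,2,1,2,3,5,4,3,1,2,3,6,5,3,1,2,0,3,5,6,3,2,1,0,3,5,4,2,3,2,3,1,2,3,6,5,2,6,3,4,2,3,5,4,3,6,2,3,1,2,3,6,2]) (.word [1,0,2,3,2,6,3,2,1,0,5,3,4,2,3,2,3,5,1,2,3,6,2,3,2,3,6,3,4,2,3,5,4,3,6,2,3,1,2,3,6,2,3,2,3,2,1,5,6,3,2,5,3,2,1,3,6,2,3,2,3,6,4,3,1,2,3,5,2,3,0,3,2,3,2,1,5,6,3,2,5,3,2,1,3,6,2,3,2,3,6,4,3,1,2,3,5,2,3,0,1,3,6,3,4,2,3,5,4,3,6,2,3,1,2,3,6,2])))))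 (.node (.node (.node (.node (.word [1,2,3,5,4,3,1,2,3,6,5,3,1,2,0,3,6,3,4,2,3,5,4,3,6,2,3,1,2,3,6,2,3,2,3,2,1,5,6,3,2,5,3,2,1,3,6,2,3,2,3,6,4,3,1,2,3,5,2,3,0,1,3,6,3,4,2,3,5,4,3,6,2,3,1,2,3,6,2]) (.word [1,0,2,3,2,6,3,2,1,0,5,3,4,2,3,2,3,5,1,2,3,6,2,3,2,3,6,3,4,2,3,5,4,3,6,2,3,1,2,3,6,2,1,2,3,5,4,3,1,2,3,6,5,3,1,2,0,3,6,3,4,2,3,5,4,3,6,2,3,1,2,3,6,2,1,3,6,3,4,2,3,5,4,3,6,2,3,1,2,3,6,2])) (.node .none (.word [0,1,3,2,1,3,4,5,3,2,1,6,3,4,2,3,2,3,6,3,1,2,3,5,2,6,3,4,2,3,5,4,3,6,2,3,1,2,3,6,2,1,0,2,3,2,6,3,2,1,0,5,3,4,2,3,2,3,5,1,2,3,6,2,3,2,3,5,6,3,2,1,0,3,5,4,2,3,2,3,1,2,3,6,5,2,6,3,4,2,3,5,4,3,6,2,3,1,2,3,6,2]))) (.node .none (.node .none (.word [1,3,6,3,4,2,3,5,4,3,6,2,3,1,2,3,6,2,1,2,3,5,4,3,1,2,3,6,5,3,1,2,0,1,3,2,3,2,1,5,6,3,2,5,3,2,1,3,6,2,3,2,3,6,4,3,1,2,3,5,2,3,0,1,2,3,5,4,3,1,2,3,6,5,3,1,2,0,3,6,3,4,2,3,5,4,3,6,2,3,1,2,3,6,2]))))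 (.node (.node (.node (.word [1,3,6,3,4,2,3,5,4,3,6,2,3,1,2,3,6,2,1,3,6,3,4,2,3,5,4,3,6,2,3,1,2,3,6,2,1,3,6,3,4,2,3,5,4,3,6,2,3,1,2,3,6,2,1,3,5,6,3,2,1,0,3,5,4,2,3,2,3,1,2,3,6,5,2,3,2,3,5,4,3,1,2,3,6,5,3,1,2,0,3,6,3,4,2,3,5,4,3,6,2,3,1,2,3,6,2]) (.word [1,2,3,5,4,3,1,2,3,6,5,3,1,2,0,3,6,3,4,2,3,5,4,3,6,2,3,1,2,3,6,2,1,0,2,3,2,6,3,2,1,0,5,3,4,2,3,2,3,5,1,2,3,6,2,3,2,1,0,1,3,2,1,3,4,5,3,2,1,6,3,4,2,3,2,3,6,3,1,2,3,5,2,3,2,3,5,4,3,1,2,3,6,5,3,1,2,0,1])) (.node .none (.word [1,3,6,3,4,2,3,5,4,3,6,2,3,1,2,3,6,2,1,3,6,3,4,2,3,5,4,3,6,2,3,1,2,3,6,2,1,2,3,5,4,3,1,2,3,6,5,3,1,2,0,3,6,3,4,2,3,5,4,3,6,2,3,1,2,3,6,2,1,3,6,3,4,2,3,5,4,3,6,2,3,1,2,3,6,2]))) (.node (.node .none (.word [1,3,6,3,4,2,3,5,4,3,6,2,3,1,2,3,6,2,1,0,2,3,2,6,3,2,1,0,5,3,4,2,3,2,3,5,1,2,3,6,2,3,2,3,5,6,3,2,1,0,3,5,4,2,3,2,3,1,2,3,6,5,2,6,3,4,2,3,5,4,3,6,2,3,1,2,3,6,2]))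 .none))))) (.node (.node (.node (.node (.node .none (.node .none (.word [3,2,3,2,1,5,6,3,2,5,3,2,1,3,6,2,3,2,3,6,4,3,1,2,3,5,2,3,1,3,2,1,3,4,5,3,2,1,6,3,4,2,3,2,3,6,3,1,2,3,5,2,3,1,3,2,3,2,1,5,6,3,2,5,3,2,1,3,6,2,3,2,3,6,4,3,1,2,3,5,2,3,0,1,2,3,5,4,3,1,2,3,6,5,3,1,2,0,2,3,5,4,3,1,2,3,6,5,3,1,2,0,1]))) (.node .none (.word [1,3,5,6,3,2,1,0,3,5,4,2,3,2,3,1,2,3,6,5,2,3,0,2,3,2,6,3,2,1,0,5,3,4,2,3,2,3,5,1,2,3,6,2,3,2,1,0,1,3,2,1,3,4,5,3,2,1,6,3,4,2,3,2,3,6,3,1,2,3,5,2,3,2,3,5,4,3,1,2,3,6,5,3,1,2,0,1]))) (.node (.node (.node (.word [1,0,2,3,2,6,3,2,1,0,5,3,4,2,3,2,3,5,1,2,3,6,2,3,2,3,5,6,3,2,1,0,3,5,4,2,3,2,3,1,2,3,6,5,2,6,3,4,2,3,5,4,3,6,2,3,1,2,3,6,2,3,2,3,2,1,5,6,3,2,5,3,2,1,3,6,2,3,2,3,6,4,3,1,2,3,5,2,3,0,1,2,3,5,4,3,1,2,3,6,5,3,1,2,0,3,6,3,4,2,3,5,4,3,6,2,3,1,2,3,6,2])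 (.word [3,2,3,2,1,5,6,3,2,5,3,2,1,3,6,2,3,2,3,6,4,3,1,2,3,5,2,3,1,3,2,1,3,4,5,3,2,1,6,3,4,2,3,2,3,6,3,1,2,3,5,2,3,1,3,2,3,2,1,5,6,3,2,5,3,2,1,3,6,2,3,2,3,6,4,3,1,2,3,5,2,3,0,1,2,3,5,4,3,1,2,3,6,5,3,1,2,0,1])) .none) (.node .none (.node (.word [1,3,6,3,4,2,3,5,4,3,6,2,3,1,2,3,6,2,3,2,3,2,1,5,6,3,2,5,3,2,1,3,6,2,3,2,3,6,4,3,1,2,3,5,2,3,0,1,3,6,3,4,2,3,5,4,3,6,2,3,1,2,3,6,2,1,3,6,3,4,2,3,5,4,3,6,2,3,1,2,3,6,2]) (.word [1,3,5,6,3,2,1,0,3,5,4,2,3,2,3,1,2,3,6,5,2,3,0,2,3,2,6,3,2,1,0,5,3,4,2,3,2,3,5,1,2,3,6,2,3,2,1,3,2,3,2,1,5,6,3,2,5,3,2,1,3,6,2,3,2,3,6,4,3,1,2,3,5,2,3,0,1,2,3,5,4,3,1,2,3,6,5,3,1,2,0,1]))))) (.node (.node (.node (.node .none (.word [3,2,3,2,1,5,6,3,2,5,3,2,1,3,6,2,3,2,3,6,4,3,1,2,3,5,2,3,0,3,2,3,2,1,5,6,3,2,5,3,2,1,3,6,2,3,2,3,6,4,3,1,2,3,5,2,3,0,1,2,3,5,4,3,1,2,3,6,5,3,1,2,0,3,6,3,4,2,3,5,4,3,6,2,3,1,2,3,6,2]))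 (.word [0,1,3,2,1,3,4,5,3,2,1,6,3,4,2,3,2,3,6,3,1,2,3,5,2,6,3,4,2,3,5,4,3,6,2,3,1,2,3,6,2,1,3,6,3,4,2,3,5,4,3,6,2,3,1,2,3,6,2,1,2,3,5,4,3,1,2,3,6,5,3,1,2,0,1])) (.node (.node (.word [1,0,2,3,2,6,3,2,1,0,5,3,4,2,3,2,3,5,1,2,3,6,2,3,2,1,0,1,3,2,1,3,4,5,3,2,1,6,3,4,2,3,2,3,6,3,1,2,3,5,2,3,1,3,2,3,2,1,5,6,3,2,5,3,2,1,3,6,2,3,2,3,6,4,3,1,2,3,5,2,3,0,1,2,3,5,4,3,1,2,3,6,5,3,1,2,0,2,3,5,4,3,1,2,3,6,5,3,1,2,0,1]) (.word [1,3,6,3,4,2,3,5,4,3,6,2,3,1,2,3,6,2,1,3,5,6,3,2,1,0,3,5,4,2,3,2,3,1,2,3,6,5,2,5,6,3,2,1,0,3,5,4,2,3,2,3,1,2,3,6,5,2,6,3,4,2,3,5,4,3,6,2,3,1,2,3,6,2])) (.node (.word [1,0,2,3,2,6,3,2,1,0,5,3,4,2,3,2,3,5,1,2,3,6,2,3,2,3,6,3,4,2,3,5,4,3,6,2,3,1,2,3,6,2,1,3,5,6,3,2,1,0,3,5,4,2,3,2,3,1,2,3,6,5,2,5,6,3,2,1,0,3,5,4,2,3,2,3,1,2,3,6,5,2,6,3,4,2,3,5,4,3,6,2,3,1,2,3,6,2])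 (.word [0,1,3,2,1,3,4,5,3,2,1,6,3,4,2,3,2,3,6,3,1,2,3,5,2,6,3,4,2,3,5,4,3,6,2,3,1,2,3,6,2,1,3,5,6,3,2,1,0,3,5,4,2,3,2,3,1,2,3,6,5,2,3,1,3,2,3,2,1,5,6,3,2,5,3,2,1,3,6,2,3,2,3,6,4,3,1,2,3,5,2,3,0,1,3,6,3,4,2,3,5,4,3,6,2,3,1,2,3,6,2])))) (.node (.node (.node (.word [1,2,3,5,4,3,1,2,3,6,5,3,1,3,2,6,3,2,1,0,5,3,4,2,3,2,3,5,1,2,3,6,2,3,2,3,6,3,4,2,3,5,4,3,6,2,3,1,2,3,6,2,1,2,3,5,4,3,1,2,3,6,5,3,1,2,0,2,3,5,4,3,1,2,3,6,5,3,1,2,0,1]) (.word [3,2,3,2,1,5,6,3,2,5,3,2,1,3,6,2,3,2,3,6,4,3,1,2,3,5,2,3,0,1,3,6,3,4,2,3,5,4,3,6,2,3,1,2,3,6,2,3,2,3,2,1,5,6,3,2,5,3,2,1,3,6,2,3,2,3,6,4,3,1,2,3,5,2,3,0,1,3,6,3,4,2,3,5,4,3,6,2,3,1,2,3,6,2])) (.node .none (.word [1,3,5,6,3,2,1,0,3,5,4,2,3,2,3,1,2,3,6,5,2,3,1,0,1,3,2,1,3,4,5,3,2,1,6,3,4,2,3,2,3,6,3,1,2,3,5,2,3,1,0,1,3,2,1,3,4,5,3,2,1,6,3,4,2,3,2,3,6,3,1,2,3,5,2,6,3,4,2,3,5,4,3,6,2,3,1,2,3,6,2,1,0,2,3,2,6,3,2,1,0,5,3,4,2,3,2,3,5,1,2,3,6,2,3,2,3,6,3,4,2,3,5,4,3,6,2,3,1,2,3,6,2])))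 (.word [1,3,5,6,3,2,1,0,3,5,4,2,3,2,3,1,2,3,6,5,2,6,3,4,2,3,5,4,3,6,2,3,1,2,3,6,2,0,1,3,2,1,3,4,5,3,2,1,6,3,4,2,3,2,3,6,3,1,2,3,5,2,6,3,4,2,3,5,4,3,6,2,3,1,2,3,6,2,1,3,6,3,4,2,3,5,4,3,6,2,3,1,2,3,6,2])))) (.node (.node (.node (.node (.node (.word [0,1,3,2,1,3,4,5,3,2,1,6,3,4,2,3,2,3,6,3,1,2,3,5,2,3,1,3,2,3,2,1,5,6,3,2,5,3,2,1,3,6,2,3,2,3,6,4,3,1,2,3,5,2,3,0,3,2,3,2,1,5,6,3,2,5,3,2,1,3,6,2,3,2,3,6,4,3,1,2,3,5,2,3,0,1,2,3,5,4,3,1,2,3,6,5,3,1,2,0,3,6,3,4,2,3,5,4,3,6,2,3,1,2,3,6,2,1,3,6,3,4,2,3,5,4,3,6,2,3,1,2,3,6,2]) (.word [1,0,2,3,2,6,3,2,1,0,5,3,4,2,3,2,3,5,1,2,3,6,2,3,2,1,3,2,3,2,1,5,6,3,2,5,3,2,1,3,6,2,3,2,3,6,4,3,1,2,3,5,2,3,1,3,2,1,3,4,5,3,2,1,6,3,4,2,3,2,3,6,3,1,2,3,5,2,6,3,4,2,3,5,4,3,6,2,3,1,2,3,6,2,1,2,3,5,4,3,1,2,3,6,5,3,1,2,0,1]))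 (.word [3,2,3,2,1,5,6,3,2,5,3,2,1,3,6,2,3,2,3,6,4,3,1,2,3,5,2,3,0,1,3,6,3,4,2,3,5,4,3,6,2,3,1,2,3,6,2,1,2,3,5,4,3,1,2,3,6,5,3,1,2,0,1])) (.node (.word [1,0,2,3,2,6,3,2,1,0,5,3,4,2,3,2,3,5,1,2,3,6,2,5,4,3,1,2,3,6,5,3,1,2,0,3,5,6,3,2,1,0,3,5,4,2,3,2,3,1,2,3,6,5,2,3,2,3,5,4,3,1,2,3,6,5,3,1,2,0,2,3,5,4,3,1,2,3,6,5,3,1,2,0,1]) (.node (.word [1,3,5,6,3,2,1,0,3,5,4,2,3,2,3,1,2,3,6,5,2,5,6,3,2,1,0,3,5,4,2,3,2,3,1,2,3,6,5,2,3,2,3,5,4,3,1,2,3,6,5,3,1,2,0,3,6,3,4,2,3,5,4,3,6,2,3,1,2,3,6,2,1,2,3,5,4,3,1,2,3,6,5,3,1,2,0,1]) (.word [1,0,2,3,2,6,3,2,1,0,5,3,4,2,3,2,3,5,1,2,3,6,2,3,2,1,0,1,3,2,1,3,4,5,3,2,1,6,3,4,2,3,2,3,6,3,1,2,3,5,2,3,1,0,1,3,2,1,3,4,5,3,2,1,6,3,4,2,3,2,3,6,3,1,2,3,5,2,6,3,4,2,3,5,4,3,6,2,3,1,2,3,6,2,1,3,6,3,4,2,3,5,4,3,6,2,3,1,2,3,6,2]))))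 (.node (.node (.node .none (.word [1,0,2,3,2,6,3,2,1,0,5,3,4,2,3,2,3,5,1,2,3,6,2,5,4,3,1,2,3,6,5,3,1,2,0,3,5,6,3,2,1,0,3,5,4,2,3,2,3,1,2,3,6,5,2,3,2,3,5,4,3,1,2,3,6,5,3,1,2,0,1])) (.word [1,3,6,3,4,2,3,5,4,3,6,2,3,1,2,3,6,2,1,3,5,6,3,2,1,0,3,5,4,2,3,2,3,1,2,3,6,5,2,6,3,4,2,3,5,4,3,6,2,3,1,2,3,6,2,0,1,3,2,1,3,4,5,3,2,1,6,3,4,2,3,2,3,6,3,1,2,3,5,2,3,2,3,5,4,3,1,2,3,6,5,3,1,2,0,1])) (.node (.word [1,3,5,6,3,2,1,0,3,5,4,2,3,2,3,1,2,3,6,5,2,5,6,3,2,1,0,3,5,4,2,3,2,3,1,2,3,6,5,2,3,1,0,1,3,2,1,3,4,5,3,2,1,6,3,4,2,3,2,3,6,3,1,2,3,5,2,6,3,4,2,3,5,4,3,6,2,3,1,2,3,6,2,1,2,3,5,4,3,1,2,3,6,5,3,1,2,0,1]) (.node (.word [0,1,3,2,1,3,4,5,3,2,1,6,3,4,2,3,2,3,6,3,1,2,3,5,2,5,6,3,2,1,0,3,5,4,2,3,2,3,1,2,3,6,5,2,3,2,3,5,4,3,1,2,3,6,5,3,1,2,0,1,3,2,3,2,1,5,6,3,2,5,3,2,1,3,6,2,3,2,3,6,4,3,1,2,3,5,2,3,0,1,3,6,3,4,2,3,5,4,3,6,2,3,1,2,3,6,2,1,3,6,3,4,2,3,5,4,3,6,2,3,1,2,3,6,2])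 (.word [1,2,3,5,4,3,1,2,3,6,5,3,1,2,0,1,0,1,3,2,1,3,4,5,3,2,1,6,3,4,2,3,2,3,6,3,1,2,3,5,2,3,2,3,5,4,3,1,2,3,6,5,3,1,2,0,3,6,3,4,2,3,5,4,3,6,2,3,1,2,3,6,2,1,2,3,5,4,3,1,2,3,6,5,3,1,2,0,1]))))) (.node (.node (.node (.node (.word [1,3,5,6,3,2,1,0,3,5,4,2,3,2,3,1,2,3,6,5,2,3,0,2,3,2,6,3,2,1,0,5,3,4,2,3,2,3,5,1,2,3,6,2,5,4,3,1,2,3,6,5,3,1,2,0,1,3,2,3,2,1,5,6,3,2,5,3,2,1,3,6,2,3,2,3,6,4,3,1,2,3,5,2,3,0,1,3,6,3,4,2,3,5,4,3,6,2,3,1,2,3,6,2]) (.word [1,3,6,3,4,2,3,5,4,3,6,2,3,1,2,3,6,2,0,1,3,2,1,3,4,5,3,2,1,6,3,4,2,3,2,3,6,3,1,2,3,5,2,3,2,3,5,4,3,1,2,3,6,5,3,1,2,0,1])) (.word [3,2,3,2,1,5,6,3,2,5,3,2,1,3,6,2,3,2,3,6,4,3,1,2,3,5,2,3,1,3,2,1,3,4,5,3,2,1,6,3,4,2,3,2,3,6,3,1,2,3,5,2,3,2,3,5,4,3,1,2,3,6,5,3,1,2,0,2,3,5,4,3,1,2,3,6,5,3,1,2,0,1]))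 (.node (.node (.word [0,1,3,2,1,3,4,5,3,2,1,6,3,4,2,3,2,3,6,3,1,2,3,5,2,3,1,3,2,3,2,1,5,6,3,2,5,3,2,1,3,6,2,3,2,3,6,4,3,1,2,3,5,2,3,1,3,2,1,3,4,5,3,2,1,6,3,4,2,3,2,3,6,3,1,2,3,5,2,3,1,0,1,3,2,1,3,4,5,3,2,1,6,3,4,2,3,2,3,6,3,1,2,3,5,2,3,2,3,5,4,3,1,2,3,6,5,3,1,2,0,1]) (.word [3,2,3,2,1,5,6,3,2,5,3,2,1,3,6,2,3,2,3,6,4,3,1,2,3,5,2,3,1,3,2,1,3,4,5,3,2,1,6,3,4,2,3,2,3,6,3,1,2,3,5,2,6,3,4,2,3,5,4,3,6,2,3,1,2,3,6,2,1,2,3,5,4,3,1,2,3,6,5,3,1,2,0,1])) (.word [3,2,3,2,1,5,6,3,2,5,3,2,1,3,6,2,3,2,3,6,4,3,1,2,3,5,2,3,0,1,3,6,3,4,2,3,5,4,3,6,2,3,1,2,3,6,2,1,3,5,6,3,2,1,0,3,5,4,2,3,2,3,1,2,3,6,5,2,6,3,4,2,3,5,4,3,6,2,3,1,2,3,6,2]))) (.node (.node (.word [1,0,2,3,2,6,3,2,1,0,5,3,4,2,3,2,3,5,1,2,3,6,2,3,2,3,6,3,4,2,3,5,4,3,6,2,3,1,2,3,6,2,1,0,2,3,2,6,3,2,1,0,5,3,4,2,3,2,3,5,1,2,3,6,2,3,2,3,6,3,4,2,3,5,4,3,6,2,3,1,2,3,6,2])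 (.node .none (.word [1,2,3,5,4,3,1,2,3,6,5,3,1,2,0,1,3,2,3,2,1,5,6,3,2,5,3,2,1,3,6,2,3,2,3,6,4,3,1,2,3,5,2,3,0,1,2,3,5,4,3,1,2,3,6,5,3,1,3,2,6,3,2,1,0,5,3,4,2,3,2,3,5,1,2,3,6,2,3,2,3,6,3,4,2,3,5,4,3,6,2,3,1,2,3,6,2,1,3,6,3,4,2,3,5,4,3,6,2,3,1,2,3,6,2]))) (.node (.node .none (.word [1,2,3,5,4,3,1,2,3,6,5,3,1,2,0,2,3,5,4,3,1,2,3,6,5,3,1,2,0,1])) (.node (.word [1,3,5,6,3,2,1,0,3,5,4,2,3,2,3,1,2,3,6,5,2,3,2,3,5,4,3,1,2,3,6,5,3,1,2,0,1,3,2,3,2,1,5,6,3,2,5,3,2,1,3,6,2,3,2,3,6,4,3,1,2,3,5,2,3,0,1,3,6,3,4,2,3,5,4,3,6,2,3,1,2,3,6,2,1,3,6,3,4,2,3,5,4,3,6,2,3,1,2,3,6,2,1,3,6,3,4,2,3,5,4,3,6,2,3,1,2,3,6,2]) (.word [0,1,3,2,1,3,4,5,3,2,1,6,3,4,2,3,2,3,6,3,1,2,3,5,2,3,2,3,5,4,3,1,2,3,6,5,3,1,2,0,2,3,5,4,3,1,2,3,6,5,3,1,2,0,3,5,6,3,2,1,0,3,5,4,2,3,2,3,1,2,3,6,5,2,6,3,4,2,3,5,4,3,6,2,3,1,2,3,6,2]))))))))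

/-- A subtree. -/
def sub103 : WTree :=
  (.node (.node sub99 sub100) (.node sub101 sub102))

/-- A subtree. -/
def sub104 : WTree :=
  (.node (.node (.node (.node (.node (.node (.node (.node .none (.word [1,2,3,5,4,3,1,2,3,6,5,3,1,2,0,3,5,6,3,2,1,0,3,5,4,2,3,2,3,1,2,3,6,5,2,5,6,3,2,1,0,3,5,4,2,3,2,3,1,2,3,6,5,2,3,1,0,1,3,2,1,3,4,5,3,2,1,6,3,4,2,3,2,3,6,3,1,2,3,5,2,6,3,4,2,3,5,4,3,6,2,3,1,2,3,6,2])) (.word [0,1,3,2,1,3,4,5,3,2,1,6,3,4,2,3,2,3,6,3,1,2,3,5,2,3,1,0,1,3,2,1,3,4,5,3,2,1,6,3,4,2,3,2,3,6,3,1,2,3,5,2,3,2,3,5,4,3,1,2,3,6,5,3,1,2,0,2,3,5,4,3,1,2,3,6,5,3,1,2,0,1])) (.node .none (.word [0,1,3,2,1,3,4,5,3,2,1,6,3,4,2,3,2,3,6,3,1,2,3,5,2,3,2,3,5,4,3,1,2,3,6,5,3,1,2,0,1,0,1,3,2,1,3,4,5,3,2,1,6,3,4,2,3,2,3,6,3,1,2,3,5,2,3,2,3,5,4,3,1,2,3,6,5,3,1,2,0,3,6,3,4,2,3,5,4,3,6,2,3,1,2,3,6,2])))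 (.node (.word [1,2,3,5,4,3,1,2,3,6,5,3,1,2,0,1,3,2,3,2,1,5,6,3,2,5,3,2,1,3,6,2,3,2,3,6,4,3,1,2,3,5,2,3,1,3,2,1,3,4,5,3,2,1,6,3,4,2,3,2,3,6,3,1,2,3,5,2,5,6,3,2,1,0,3,5,4,2,3,2,3,1,2,3,6,5,2,6,3,4,2,3,5,4,3,6,2,3,1,2,3,6,2]) (.node (.word [0,1,3,2,1,3,4,5,3,2,1,6,3,4,2,3,2,3,6,3,1,2,3,5,2,6,3,4,2,3,5,4,3,6,2,3,1,2,3,6,2,0,1,3,2,1,3,4,5,3,2,1,6,3,4,2,3,2,3,6,3,1,2,3,5,2,3,2,3,5,4,3,1,2,3,6,5,3,1,2,0,3,6,3,4,2,3,5,4,3,6,2,3,1,2,3,6,2]) (.word [1,3,5,6,3,2,1,0,3,5,4,2,3,2,3,1,2,3,6,5,2,3,2,3,5,4,3,1,2,3,6,5,3,1,2,0,3,5,6,3,2,1,0,3,5,4,2,3,2,3,1,2,3,6,5,2,3,2,3,5,4,3,1,2,3,6,5,3,1,2,0,3,6,3,4,2,3,5,4,3,6,2,3,1,2,3,6,2])))) (.node (.node (.node .none (.word [3,2,3,2,1,5,6,3,2,5,3,2,1,3,6,2,3,2,3,6,4,3,1,2,3,5,2,3,1,3,2,1,3,4,5,3,2,1,6,3,4,2,3,2,3,6,3,1,2,3,5,2,3,1,0,1,3,2,1,3,4,5,3,2,1,6,3,4,2,3,2,3,6,3,1,2,3,5,2,3,2,3,5,4,3,1,2,3,6,5,3,1,2,0,1]))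 (.node (.word [3,2,3,2,1,5,6,3,2,5,3,2,1,3,6,2,3,2,3,6,4,3,1,2,3,5,2,3,0,3,2,3,2,1,5,6,3,2,5,3,2,1,3,6,2,3,2,3,6,4,3,1,2,3,5,2,3,0,1,3,6,3,4,2,3,5,4,3,6,2,3,1,2,3,6,2,1,0,2,3,2,6,3,2,1,0,5,3,4,2,3,2,3,5,1,2,3,6,2,3,2,3,6,3,4,2,3,5,4,3,6,2,3,1,2,3,6,2]) (.word [1,0,2,3,2,6,3,2,1,0,5,3,4,2,3,2,3,5,1,2,3,6,2,3,2,1,3,2,3,2,1,5,6,3,2,5,3,2,1,3,6,2,3,2,3,6,4,3,1,2,3,5,2,3,0,1,3,6,3,4,2,3,5,4,3,6,2,3,1,2,3,6,2,1,3,6,3,4,2,3,5,4,3,6,2,3,1,2,3,6,2,1,3,6,3,4,2,3,5,4,3,6,2,3,1,2,3,6,2]))) (.node (.word [1,2,3,5,4,3,1,2,3,6,5,3,1,2,0,2,3,5,4,3,1,2,3,6,5,3,1,2,0,1,3,2,3,2,1,5,6,3,2,5,3,2,1,3,6,2,3,2,3,6,4,3,1,2,3,5,2,3,0,1,2,3,5,4,3,1,2,3,6,5,3,1,2,0,3,6,3,4,2,3,5,4,3,6,2,3,1,2,3,6,2,1,3,6,3,4,2,3,5,4,3,6,2,3,1,2,3,6,2])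 (.word [0,1,3,2,1,3,4,5,3,2,1,6,3,4,2,3,2,3,6,3,1,2,3,5,2,3,0,2,3,2,6,3,2,1,0,5,3,4,2,3,2,3,5,1,2,3,6,2,3,2,1,3,2,3,2,1,5,6,3,2,5,3,2,1,3,6,2,3,2,3,6,4,3,1,2,3,5,2,3,0,1,3,6,3,4,2,3,5,4,3,6,2,3,1,2,3,6,2,0,1,3,2,1,3,4,5,3,2,1,6,3,4,2,3,2,3,6,3,1,2,3,5,2,6,3,4,2,3,5,4,3,6,2,3,1,2,3,6,2])))) (.node (.node (.node (.node .none (.word [1,2,3,5,4,3,1,2,3,6,5,3,1,2,0,3,6,3,4,2,3,5,4,3,6,2,3,1,2,3,6,2,1,3,6,3,4,2,3,5,4,3,6,2,3,1,2,3,6,2])) .none) (.node (.node (.word [0,1,3,2,1,3,4,5,3,2,1,6,3,4,2,3,2,3,6,3,1,2,3,5,2,3,2,3,5,4,3,1,2,3,6,5,3,1,3,2,6,3,2,1,0,5,3,4,2,3,2,3,5,1,2,3,6,2,5,4,3,1,2,3,6,5,3,1,2,0,1]) (.word [0,1,3,2,1,3,4,5,3,2,1,6,3,4,2,3,2,3,6,3,1,2,3,5,2,3,1,3,2,3,2,1,5,6,3,2,5,3,2,1,3,6,2,3,2,3,6,4,3,1,2,3,5,2,3,1,3,2,1,3,4,5,3,2,1,6,3,4,2,3,2,3,6,3,1,2,3,5,2,6,3,4,2,3,5,4,3,6,2,3,1,2,3,6,2,1,2,3,5,4,3,1,2,3,6,5,3,1,2,0,1]))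 (.node (.word [1,2,3,5,4,3,1,2,3,6,5,3,1,2,0,3,5,6,3,2,1,0,3,5,4,2,3,2,3,1,2,3,6,5,2,3,1,3,2,3,2,1,5,6,3,2,5,3,2,1,3,6,2,3,2,3,6,4,3,1,2,3,5,2,3,0,1,3,6,3,4,2,3,5,4,3,6,2,3,1,2,3,6,2]) (.word [1,0,2,3,2,6,3,2,1,0,5,3,4,2,3,2,3,5,1,2,3,6,2,3,2,1,3,2,3,2,1,5,6,3,2,5,3,2,1,3,6,2,3,2,3,6,4,3,1,2,3,5,2,3,0,3,2,3,2,1,5,6,3,2,5,3,2,1,3,6,2,3,2,3,6,4,3,1,2,3,5,2,3,0,1,3,6,3,4,2,3,5,4,3,6,2,3,1,2,3,6,2,1,2,3,5,4,3,1,2,3,6,5,3,1,2,0,1])))) (.node (.node (.word [1,3,5,6,3,2,1,0,3,5,4,2,3,2,3,1,2,3,6,5,2,3,2,3,5,4,3,1,2,3,6,5,3,1,3,2,6,3,2,1,0,5,3,4,2,3,2,3,5,1,2,3,6,2,3,2,3,6,3,4,2,3,5,4,3,6,2,3,1,2,3,6,2,1,2,3,5,4,3,1,2,3,6,5,3,1,2,0,1]) (.node (.word [1,2,3,5,4,3,1,2,3,6,5,3,1,2,0,2,3,5,4,3,1,2,3,6,5,3,1,2,0,2,3,5,4,3,1,2,3,6,5,3,1,2,0,3,6,3,4,2,3,5,4,3,6,2,3,1,2,3,6,2,1,3,6,3,4,2,3,5,4,3,6,2,3,1,2,3,6,2])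 (.word [1,3,5,6,3,2,1,0,3,5,4,2,3,2,3,1,2,3,6,5,2,3,2,3,5,4,3,1,2,3,6,5,3,1,2,0,3,5,6,3,2,1,0,3,5,4,2,3,2,3,1,2,3,6,5,2,3,2,3,5,4,3,1,2,3,6,5,3,1,2,0,2,3,5,4,3,1,2,3,6,5,3,1,2,0,1]))) (.node (.node .none (.word [1,2,3,5,4,3,1,2,3,6,5,3,1,2,0,2,3,5,4,3,1,2,3,6,5,3,1,2,0,2,3,5,4,3,1,2,3,6,5,3,1,2,0,3,5,6,3,2,1,0,3,5,4,2,3,2,3,1,2,3,6,5,2,6,3,4,2,3,5,4,3,6,2,3,1,2,3,6,2])) (.node (.word [1,2,3,5,4,3,1,2,3,6,5,3,1,2,0,1,3,2,3,2,1,5,6,3,2,5,3,2,1,3,6,2,3,2,3,6,4,3,1,2,3,5,2,3,0,1,3,6,3,4,2,3,5,4,3,6,2,3,1,2,3,6,2,1,2,3,5,4,3,1,2,3,6,5,3,1,2,0,1]) (.word [1,3,6,3,4,2,3,5,4,3,6,2,3,1,2,3,6,2,3,2,3,2,1,5,6,3,2,5,3,2,1,3,6,2,3,2,3,6,4,3,1,2,3,5,2,3,0,1,0,2,3,2,6,3,2,1,0,5,3,4,2,3,2,3,5,1,2,3,6,2,3,2,1,3,2,3,2,1,5,6,3,2,5,3,2,1,3,6,2,3,2,3,6,4,3,1,2,3,5,2,3,0,1,2,3,5,4,3,1,2,3,6,5,3,1,2,0,1]))))))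 (.node (.node (.node (.node (.node (.word [1,3,5,6,3,2,1,0,3,5,4,2,3,2,3,1,2,3,6,5,2,3,1,0,1,3,2,1,3,4,5,3,2,1,6,3,4,2,3,2,3,6,3,1,2,3,5,2,6,3,4,2,3,5,4,3,6,2,3,1,2,3,6,2,1,3,5,6,3,2,1,0,3,5,4,2,3,2,3,1,2,3,6,5,2,3,1,3,2,3,2,1,5,6,3,2,5,3,2,1,3,6,2,3,2,3,6,4,3,1,2,3,5,2,3,0,1,3,6,3,4,2,3,5,4,3,6,2,3,1,2,3,6,2]) (.word [0,1,3,2,1,3,4,5,3,2,1,6,3,4,2,3,2,3,6,3,1,2,3,5,2,3,0,2,3,2,6,3,2,1,0,5,3,4,2,3,2,3,5,1,2,3,6,2,3,2,3,6,3,4,2,3,5,4,3,6,2,3,1,2,3,6,2,1,3,5,6,3,2,1,0,3,5,4,2,3,2,3,1,2,3,6,5,2,6,3,4,2,3,5,4,3,6,2,3,1,2,3,6,2])) (.word [1,3,5,6,3,2,1,0,3,5,4,2,3,2,3,1,2,3,6,5,2,6,3,4,2,3,5,4,3,6,2,3,1,2,3,6,2,3,2,3,2,1,5,6,3,2,5,3,2,1,3,6,2,3,2,3,6,4,3,1,2,3,5,2,3,0,1,3,6,3,4,2,3,5,4,3,6,2,3,1,2,3,6,2,1,2,3,5,4,3,1,2,3,6,5,3,1,2,0,1]))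 (.node .none (.word [0,1,3,2,1,3,4,5,3,2,1,6,3,4,2,3,2,3,6,3,1,2,3,5,2,3,0,2,3,2,6,3,2,1,0,5,3,4,2,3,2,3,5,1,2,3,6,2,3,2,1,3,2,3,2,1,5,6,3,2,5,3,2,1,3,6,2,3,2,3,6,4,3,1,2,3,5,2,3,0,1,2,3,5,4,3,1,2,3,6,5,3,1,2,0,1,3,2,3,2,1,5,6,3,2,5,3,2,1,3,6,2,3,2,3,6,4,3,1,2,3,5,2,3,0,1,3,6,3,4,2,3,5,4,3,6,2,3,1,2,3,6,2]))) (.node (.node (.word [3,2,3,2,1,5,6,3,2,5,3,2,1,3,6,2,3,2,3,6,4,3,1,2,3,5,2,3,0,3,2,3,2,1,5,6,3,2,5,3,2,1,3,6,2,3,2,3,6,4,3,1,2,3,5,2,3,0,1,3,6,3,4,2,3,5,4,3,6,2,3,1,2,3,6,2,1,3,5,6,3,2,1,0,3,5,4,2,3,2,3,1,2,3,6,5,2,6,3,4,2,3,5,4,3,6,2,3,1,2,3,6,2]) (.node (.word [1,2,3,5,4,3,1,2,3,6,5,3,1,2,0,3,5,6,3,2,1,0,3,5,4,2,3,2,3,1,2,3,6,5,2,3,0,2,3,2,6,3,2,1,0,5,3,4,2,3,2,3,5,1,2,3,6,2,3,2,1,0,1,3,2,1,3,4,5,3,2,1,6,3,4,2,3,2,3,6,3,1,2,3,5,2,3,2,3,5,4,3,1,2,3,6,5,3,1,2,0,1])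 (.word [1,3,5,6,3,2,1,0,3,5,4,2,3,2,3,1,2,3,6,5,2,3,1,3,2,3,2,1,5,6,3,2,5,3,2,1,3,6,2,3,2,3,6,4,3,1,2,3,5,2,3,0,1,3,6,3,4,2,3,5,4,3,6,2,3,1,2,3,6,2,1,2,3,5,4,3,1,2,3,6,5,3,1,2,0,1]))) (.node (.node .none (.word [1,3,5,6,3,2,1,0,3,5,4,2,3,2,3,1,2,3,6,5,2,5,6,3,2,1,0,3,5,4,2,3,2,3,1,2,3,6,5,2,3,1,3,2,3,2,1,5,6,3,2,5,3,2,1,3,6,2,3,2,3,6,4,3,1,2,3,5,2,3,0,1,3,6,3,4,2,3,5,4,3,6,2,3,1,2,3,6,2,1,2,3,5,4,3,1,2,3,6,5,3,1,2,0,3,6,3,4,2,3,5,4,3,6,2,3,1,2,3,6,2])) (.node (.word [3,2,3,2,1,5,6,3,2,5,3,2,1,3,6,2,3,2,3,6,4,3,1,2,3,5,2,3,0,1,2,3,5,4,3,1,2,3,6,5,3,1,2,0,1,3,2,3,2,1,5,6,3,2,5,3,2,1,3,6,2,3,2,3,6,4,3,1,2,3,5,2,3,0,1,0,2,3,2,6,3,2,1,0,5,3,4,2,3,2,3,5,1,2,3,6,2,3,2,3,6,3,4,2,3,5,4,3,6,2,3,1,2,3,6,2])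 (.word [1,2,3,5,4,3,1,2,3,6,5,3,1,2,0,2,3,5,4,3,1,2,3,6,5,3,1,2,0,1,0,1,3,2,1,3,4,5,3,2,1,6,3,4,2,3,2,3,6,3,1,2,3,5,2,3,0,2,3,2,6,3,2,1,0,5,3,4,2,3,2,3,5,1,2,3,6,2,5,4,3,1,2,3,6,5,3,1,2,0,1]))))) (.node (.node (.node (.node .none (.word [1,3,6,3,4,2,3,5,4,3,6,2,3,1,2,3,6,2,3,2,3,2,1,5,6,3,2,5,3,2,1,3,6,2,3,2,3,6,4,3,1,2,3,5,2,3,0,1,3,6,3,4,2,3,5,4,3,6,2,3,1,2,3,6,2,1,3,5,6,3,2,1,0,3,5,4,2,3,2,3,1,2,3,6,5,2,6,3,4,2,3,5,4,3,6,2,3,1,2,3,6,2,1,3,6,3,4,2,3,5,4,3,6,2,3,1,2,3,6,2])) (.node .none (.word [3,2,3,2,1,5,6,3,2,5,3,2,1,3,6,2,3,2,3,6,4,3,1,2,3,5,2,3,0,1,0,2,3,2,6,3,2,1,0,5,3,4,2,3,2,3,5,1,2,3,6,2,5,4,3,1,2,3,6,5,3,1,2,0,2,3,5,4,3,1,2,3,6,5,3,1,2,0,1]))) (.node (.node (.word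 [0,1,3,2,1,3,4,5,3,2,1,6,3,4,2,3,2,3,6,3,1,2,3,5,2,3,0,2,3,2,6,3,2,1,0,5,3,4,2,3,2,3,5,1,2,3,6,2,3,2,3,6,3,4,2,3,5,4,3,6,2,3,1,2,3,6,2,1,3,6,3,4,2,3,5,4,3,6,2,3,1,2,3,6,2]) (.word [1,0,2,3,2,6,3,2,1,0,5,3,4,2,3,2,3,5,1,2,3,6,2,3,2,1,3,2,3,2,1,5,6,3,2,5,3,2,1,3,6,2,3,2,3,6,4,3,1,2,3,5,2,3,1,3,2,1,3,4,5,3,2,1,6,3,4,2,3,2,3,6,3,1,2,3,5,2,3,1,3,2,3,2,1,5,6,3,2,5,3,2,1,3,6,2,3,2,3,6,4,3,1,2,3,5,2,3,0,1,3,6,3,4,2,3,5,4,3,6,2,3,1,2,3,6,2])) (.node (.word [1,2,3,5,4,3,1,2,3,6,5,3,1,2,0,2,3,5,4,3,1,2,3,6,5,3,1,2,0,1,0,1,3,2,1,3,4,5,3,2,1,6,3,4,2,3,2,3,6,3,1,2,3,5,2,6,3,4,2,3,5,4,3,6,2,3,1,2,3,6,2,1,2,3,5,4,3,1,2,3,6,5,3,1,2,0,2,3,5,4,3,1,2,3,6,5,3,1,2,0,1]) (.word [1,3,6,3,4,2,3,5,4,3,6,2,3,1,2,3,6,2,1,3,6,3,4,2,3,5,4,3,6,2,3,1,2,3,6,2,1,3,5,6,3,2,1,0,3,5,4,2,3,2,3,1,2,3,6,5,2,3,1,0,1,3,2,1,3,4,5,3,2,1,6,3,4,2,3,2,3,6,3,1,2,3,5,2,3,2,3,5,4,3,1,2,3,6,5,3,1,2,0,1]))))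 (.node (.node (.word [1,2,3,5,4,3,1,2,3,6,5,3,1,2,0,3,6,3,4,2,3,5,4,3,6,2,3,1,2,3,6,2,1,0,2,3,2,6,3,2,1,0,5,3,4,2,3,2,3,5,1,2,3,6,2,5,4,3,1,2,3,6,5,3,1,2,0,2,3,5,4,3,1,2,3,6,5,3,1,2,0,1]) (.node (.word [1,2,3,5,4,3,1,2,3,6,5,3,1,2,0,1,3,2,3,2,1,5,6,3,2,5,3,2,1,3,6,2,3,2,3,6,4,3,1,2,3,5,2,3,0,1,2,3,5,4,3,1,2,3,6,5,3,1,2,0,1,3,2,3,2,1,5,6,3,2,5,3,2,1,3,6,2,3,2,3,6,4,3,1,2,3,5,2,3,0,1,3,6,3,4,2,3,5,4,3,6,2,3,1,2,3,6,2]) (.word [1,2,3,5,4,3,1,2,3,6,5,3,1,2,0,3,6,3,4,2,3,5,4,3,6,2,3,1,2,3,6,2,1,3,6,3,4,2,3,5,4,3,6,2,3,1,2,3,6,2,1,3,6,3,4,2,3,5,4,3,6,2,3,1,2,3,6,2,0,1,3,2,1,3,4,5,3,2,1,6,3,4,2,3,2,3,6,3,1,2,3,5,2,6,3,4,2,3,5,4,3,6,2,3,1,2,3,6,2]))) (.node (.node (.word [3,2,3,2,1,5,6,3,2,5,3,2,1,3,6,2,3,2,3,6,4,3,1,2,3,5,2,3,0,1,3,5,6,3,2,1,0,3,5,4,2,3,2,3,1,2,3,6,5,2,3,1,3,2,3,2,1,5,6,3,2,5,3,2,1,3,6,2,3,2,3,6,4,3,1,2,3,5,2,3,0,1,3,6,3,4,2,3,5,4,3,6,2,3,1,2,3,6,2,1,2,3,5,4,3,1,2,3,6,5,3,1,2,0,3,6,3,4,2,3,5,4,3,6,2,3,1,2,3,6,2])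 (.word [1,3,6,3,4,2,3,5,4,3,6,2,3,1,2,3,6,2,0,1,3,2,1,3,4,5,3,2,1,6,3,4,2,3,2,3,6,3,1,2,3,5,2,3,1,0,1,3,2,1,3,4,5,3,2,1,6,3,4,2,3,2,3,6,3,1,2,3,5,2,6,3,4,2,3,5,4,3,6,2,3,1,2,3,6,2])) (.node (.word [1,3,6,3,4,2,3,5,4,3,6,2,3,1,2,3,6,2,1,3,6,3,4,2,3,5,4,3,6,2,3,1,2,3,6,2,1,0,2,3,2,6,3,2,1,0,5,3,4,2,3,2,3,5,1,2,3,6,2,3,2,1,3,2,3,2,1,5,6,3,2,5,3,2,1,3,6,2,3,2,3,6,4,3,1,2,3,5,2,3,0,1,3,6,3,4,2,3,5,4,3,6,2,3,1,2,3,6,2]) (.word [1,2,3,5,4,3,1,2,3,6,5,3,1,2,0,1,0,1,3,2,1,3,4,5,3,2,1,6,3,4,2,3,2,3,6,3,1,2,3,5,2,3,1,3,2,3,2,1,5,6,3,2,5,3,2,1,3,6,2,3,2,3,6,4,3,1,2,3,5,2,3,0,1,2,3,5,4,3,1,2,3,6,5,3,1,2,0,3,6,3,4,2,3,5,4,3,6,2,3,1,2,3,6,2]))))))) (.node (.node (.node (.node (.node (.node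 (.word [3,2,3,2,1,5,6,3,2,5,3,2,1,3,6,2,3,2,3,6,4,3,1,2,3,5,2,3,0,1,3,6,3,4,2,3,5,4,3,6,2,3,1,2,3,6,2,0,1,3,2,1,3,4,5,3,2,1,6,3,4,2,3,2,3,6,3,1,2,3,5,2,3,1,0,1,3,2,1,3,4,5,3,2,1,6,3,4,2,3,2,3,6,3,1,2,3,5,2,6,3,4,2,3,5,4,3,6,2,3,1,2,3,6,2]) (.word [3,2,3,2,1,5,6,3,2,5,3,2,1,3,6,2,3,2,3,6,4,3,1,2,3,5,2,3,0,1,2,3,5,4,3,1,2,3,6,5,3,1,2,0,3,6,3,4,2,3,5,4,3,6,2,3,1,2,3,6,2])) (.node (.word [1,2,3,5,4,3,1,2,3,6,5,3,1,2,0,3,6,3,4,2,3,5,4,3,6,2,3,1,2,3,6,2,1,2,3,5,4,3,1,2,3,6,5,3,1,2,0,2,3,5,4,3,1,2,3,6,5,3,1,2,0,1,0,1,3,2,1,3,4,5,3,2,1,6,3,4,2,3,2,3,6,3,1,2,3,5,2,3,2,3,5,4,3,1,2,3,6,5,3,1,2,0,1]) (.word [1,3,6,3,4,2,3,5,4,3,6,2,3,1,2,3,6,2,3,2,3,2,1,5,6,3,2,5,3,2,1,3,6,2,3,2,3,6,4,3,1,2,3,5,2,3,0,1,3,5,6,3,2,1,0,3,5,4,2,3,2,3,1,2,3,6,5,2,6,3,4,2,3,5,4,3,6,2,3,1,2,3,6,2])))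 (.node (.node (.word [1,0,2,3,2,6,3,2,1,0,5,3,4,2,3,2,3,5,1,2,3,6,2,3,2,3,5,6,3,2,1,0,3,5,4,2,3,2,3,1,2,3,6,5,2,3,1,0,1,3,2,1,3,4,5,3,2,1,6,3,4,2,3,2,3,6,3,1,2,3,5,2,3,1,0,1,3,2,1,3,4,5,3,2,1,6,3,4,2,3,2,3,6,3,1,2,3,5,2,3,2,3,5,4,3,1,2,3,6,5,3,1,2,0,1]) (.word [0,1,3,2,1,3,4,5,3,2,1,6,3,4,2,3,2,3,6,3,1,2,3,5,2,5,6,3,2,1,0,3,5,4,2,3,2,3,1,2,3,6,5,2,5,6,3,2,1,0,3,5,4,2,3,2,3,1,2,3,6,5,2,6,3,4,2,3,5,4,3,6,2,3,1,2,3,6,2,1,3,6,3,4,2,3,5,4,3,6,2,3,1,2,3,6,2])) (.node (.word [1,3,6,3,4,2,3,5,4,3,6,2,3,1,2,3,6,2,1,3,6,3,4,2,3,5,4,3,6,2,3,1,2,3,6,2,1,3,5,6,3,2,1,0,3,5,4,2,3,2,3,1,2,3,6,5,2,3,1,3,2,3,2,1,5,6,3,2,5,3,2,1,3,6,2,3,2,3,6,4,3,1,2,3,5,2,3,0,1,3,6,3,4,2,3,5,4,3,6,2,3,1,2,3,6,2])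 (.word [1,3,5,6,3,2,1,0,3,5,4,2,3,2,3,1,2,3,6,5,2,6,3,4,2,3,5,4,3,6,2,3,1,2,3,6,2,1,2,3,5,4,3,1,2,3,6,5,3,1,2,0,2,3,5,4,3,1,2,3,6,5,3,1,2,0,2,3,5,4,3,1,2,3,6,5,3,1,2,0,1])))) (.node (.node (.node (.word [0,1,3,2,1,3,4,5,3,2,1,6,3,4,2,3,2,3,6,3,1,2,3,5,2,3,2,3,5,4,3,1,2,3,6,5,3,1,2,0,1,0,1,3,2,1,3,4,5,3,2,1,6,3,4,2,3,2,3,6,3,1,2,3,5,2,3,1,3,2,3,2,1,5,6,3,2,5,3,2,1,3,6,2,3,2,3,6,4,3,1,2,3,5,2,3,0,1,2,3,5,4,3,1,2,3,6,5,3,1,2,0,1]) (.word [1,3,5,6,3,2,1,0,3,5,4,2,3,2,3,1,2,3,6,5,2,3,0,2,3,2,6,3,2,1,0,5,3,4,2,3,2,3,5,1,2,3,6,2,3,2,1,0,1,3,2,1,3,4,5,3,2,1,6,3,4,2,3,2,3,6,3,1,2,3,5,2,6,3,4,2,3,5,4,3,6,2,3,1,2,3,6,2,1,2,3,5,4,3,1,2,3,6,5,3,1,2,0,1])) .none) (.node (.word [1,3,5,6,3,2,1,0,3,5,4,2,3,2,3,1,2,3,6,5,2,5,6,3,2,1,0,3,5,4,2,3,2,3,1,2,3,6,5,2,6,3,4,2,3,5,4,3,6,2,3,1,2,3,6,2,1,3,5,6,3,2,1,0,3,5,4,2,3,2,3,1,2,3,6,5,2,6,3,4,2,3,5,4,3,6,2,3,1,2,3,6,2])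 (.node .none (.word [3,2,3,2,1,5,6,3,2,5,3,2,1,3,6,2,3,2,3,6,4,3,1,2,3,5,2,3,0,1,2,3,5,4,3,1,2,3,6,5,3,1,2,0,1,3,2,3,2,1,5,6,3,2,5,3,2,1,3,6,2,3,2,3,6,4,3,1,2,3,5,2,3,0,1,3,5,6,3,2,1,0,3,5,4,2,3,2,3,1,2,3,6,5,2,3,2,3,5,4,3,1,2,3,6,5,3,1,2,0,1]))))) (.node (.node (.node (.node (.word [3,2,3,2,1,5,6,3,2,5,3,2,1,3,6,2,3,2,3,6,4,3,1,2,3,5,2,3,0,1,3,5,6,3,2,1,0,3,5,4,2,3,2,3,1,2,3,6,5,2,3,1,0,1,3,2,1,3,4,5,3,2,1,6,3,4,2,3,2,3,6,3,1,2,3,5,2,6,3,4,2,3,5,4,3,6,2,3,1,2,3,6,2,1,2,3,5,4,3,1,2,3,6,5,3,1,2,0,3,6,3,4,2,3,5,4,3,6,2,3,1,2,3,6,2]) (.word [1,0,2,3,2,6,3,2,1,0,5,3,4,2,3,2,3,5,1,2,3,6,2,3,2,1,3,2,3,2,1,5,6,3,2,5,3,2,1,3,6,2,3,2,3,6,4,3,1,2,3,5,2,3,0,3,2,3,2,1,5,6,3,2,5,3,2,1,3,6,2,3,2,3,6,4,3,1,2,3,5,2,3,0,1,2,3,5,4,3,1,2,3,6,5,3,1,2,0,1]))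 (.node (.word [1,3,5,6,3,2,1,0,3,5,4,2,3,2,3,1,2,3,6,5,2,5,6,3,2,1,0,3,5,4,2,3,2,3,1,2,3,6,5,2,3,1,0,1,3,2,1,3,4,5,3,2,1,6,3,4,2,3,2,3,6,3,1,2,3,5,2,3,2,3,5,4,3,1,2,3,6,5,3,1,2,0,1]) (.word [0,1,3,2,1,3,4,5,3,2,1,6,3,4,2,3,2,3,6,3,1,2,3,5,2,3,2,3,5,4,3,1,2,3,6,5,3,1,2,0,1,3,2,3,2,1,5,6,3,2,5,3,2,1,3,6,2,3,2,3,6,4,3,1,2,3,5,2,3,0,1,3,5,6,3,2,1,0,3,5,4,2,3,2,3,1,2,3,6,5,2,3,2,3,5,4,3,1,2,3,6,5,3,1,2,0,1]))) (.node (.node (.word [1,2,3,5,4,3,1,2,3,6,5,3,1,3,2,6,3,2,1,0,5,3,4,2,3,2,3,5,1,2,3,6,2,3,2,3,5,6,3,2,1,0,3,5,4,2,3,2,3,1,2,3,6,5,2,3,1,3,2,3,2,1,5,6,3,2,5,3,2,1,3,6,2,3,2,3,6,4,3,1,2,3,5,2,3,0,1,3,6,3,4,2,3,5,4,3,6,2,3,1,2,3,6,2,1,3,6,3,4,2,3,5,4,3,6,2,3,1,2,3,6,2]) (.word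 [1,0,2,3,2,6,3,2,1,0,5,3,4,2,3,2,3,5,1,2,3,6,2,3,2,1,3,2,3,2,1,5,6,3,2,5,3,2,1,3,6,2,3,2,3,6,4,3,1,2,3,5,2,3,0,3,2,3,2,1,5,6,3,2,5,3,2,1,3,6,2,3,2,3,6,4,3,1,2,3,5,2,3,0,1,3,6,3,4,2,3,5,4,3,6,2,3,1,2,3,6,2,1,3,6,3,4,2,3,5,4,3,6,2,3,1,2,3,6,2,1,3,6,3,4,2,3,5,4,3,6,2,3,1,2,3,6,2])) (.node (.word [1,0,2,3,2,6,3,2,1,0,5,3,4,2,3,2,3,5,1,2,3,6,2,3,2,1,3,2,3,2,1,5,6,3,2,5,3,2,1,3,6,2,3,2,3,6,4,3,1,2,3,5,2,3,0,1,2,3,5,4,3,1,2,3,6,5,3,1,2,0,3,5,6,3,2,1,0,3,5,4,2,3,2,3,1,2,3,6,5,2,6,3,4,2,3,5,4,3,6,2,3,1,2,3,6,2]) (.word [1,3,6,3,4,2,3,5,4,3,6,2,3,1,2,3,6,2,0,1,3,2,1,3,4,5,3,2,1,6,3,4,2,3,2,3,6,3,1,2,3,5,2,3,1,0,1,3,2,1,3,4,5,3,2,1,6,3,4,2,3,2,3,6,3,1,2,3,5,2,3,1,3,2,3,2,1,5,6,3,2,5,3,2,1,3,6,2,3,2,3,6,4,3,1,2,3,5,2,3,0,1,2,3,5,4,3,1,2,3,6,5,3,1,2,0,1]))))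 (.node (.node (.node (.word [1,2,3,5,4,3,1,2,3,6,5,3,1,3,2,6,3,2,1,0,5,3,4,2,3,2,3,5,1,2,3,6,2,3,2,3,5,6,3,2,1,0,3,5,4,2,3,2,3,1,2,3,6,5,2,3,2,3,5,4,3,1,2,3,6,5,3,1,2,0,1]) (.word [1,2,3,5,4,3,1,2,3,6,5,3,1,2,0,1,3,2,3,2,1,5,6,3,2,5,3,2,1,3,6,2,3,2,3,6,4,3,1,2,3,5,2,3,1,3,2,1,3,4,5,3,2,1,6,3,4,2,3,2,3,6,3,1,2,3,5,2,3,2,3,5,4,3,1,2,3,6,5,3,1,2,0,3,6,3,4,2,3,5,4,3,6,2,3,1,2,3,6,2])) (.node .none (.word [1,3,6,3,4,2,3,5,4,3,6,2,3,1,2,3,6,2,1,3,6,3,4,2,3,5,4,3,6,2,3,1,2,3,6,2,1,2,3,5,4,3,1,2,3,6,5,3,1,2,0,1]))) (.node .none (.word [3,2,3,2,1,5,6,3,2,5,3,2,1,3,6,2,3,2,3,6,4,3,1,2,3,5,2,3,0,1,3,6,3,4,2,3,5,4,3,6,2,3,1,2,3,6,2,3,2,3,2,1,5,6,3,2,5,3,2,1,3,6,2,3,2,3,6,4,3,1,2,3,5,2,3,0,1,2,3,5,4,3,1,2,3,6,5,3,1,2,0,2,3,5,4,3,1,2,3,6,5,3,1,2,0,1])))))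 (.node (.node (.node (.node (.word [1,2,3,5,4,3,1,2,3,6,5,3,1,2,0,1,3,2,3,2,1,5,6,3,2,5,3,2,1,3,6,2,3,2,3,6,4,3,1,2,3,5,2,3,0,1,0,2,3,2,6,3,2,1,0,5,3,4,2,3,2,3,5,1,2,3,6,2,3,2,3,6,3,4,2,3,5,4,3,6,2,3,1,2,3,6,2]) (.node (.word [1,3,6,3,4,2,3,5,4,3,6,2,3,1,2,3,6,2,1,3,5,6,3,2,1,0,3,5,4,2,3,2,3,1,2,3,6,5,2,3,0,2,3,2,6,3,2,1,0,5,3,4,2,3,2,3,5,1,2,3,6,2,3,2,1,0,1,3,2,1,3,4,5,3,2,1,6,3,4,2,3,2,3,6,3,1,2,3,5,2,3,2,3,5,4,3,1,2,3,6,5,3,1,2,0,1]) (.word [3,2,3,2,1,5,6,3,2,5,3,2,1,3,6,2,3,2,3,6,4,3,1,2,3,5,2,3,0,1,3,6,3,4,2,3,5,4,3,6,2,3,1,2,3,6,2,1,3,5,6,3,2,1,0,3,5,4,2,3,2,3,1,2,3,6,5,2,6,3,4,2,3,5,4,3,6,2,3,1,2,3,6,2,1,3,6,3,4,2,3,5,4,3,6,2,3,1,2,3,6,2]))) (.node (.word [1,3,6,3,4,2,3,5,4,3,6,2,3,1,2,3,6,2,0,1,3,2,1,3,4,5,3,2,1,6,3,4,2,3,2,3,6,3,1,2,3,5,2,3,0,2,3,2,6,3,2,1,0,5,3,4,2,3,2,3,5,1,2,3,6,2,5,4,3,1,2,3,6,5,3,1,2,0,1])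 (.node .none (.word [3,2,3,2,1,5,6,3,2,5,3,2,1,3,6,2,3,2,3,6,4,3,1,2,3,5,2,3,0,1,2,3,5,4,3,1,2,3,6,5,3,1,2,0,3,6,3,4,2,3,5,4,3,6,2,3,1,2,3,6,2,3,2,3,2,1,5,6,3,2,5,3,2,1,3,6,2,3,2,3,6,4,3,1,2,3,5,2,3,0,1,3,6,3,4,2,3,5,4,3,6,2,3,1,2,3,6,2])))) (.node .none (.node (.node .none (.word [1,3,5,6,3,2,1,0,3,5,4,2,3,2,3,1,2,3,6,5,2,3,2,3,5,4,3,1,2,3,6,5,3,1,2,0,3,5,6,3,2,1,0,3,5,4,2,3,2,3,1,2,3,6,5,2,3,1,3,2,3,2,1,5,6,3,2,5,3,2,1,3,6,2,3,2,3,6,4,3,1,2,3,5,2,3,0,1,3,6,3,4,2,3,5,4,3,6,2,3,1,2,3,6,2,1,3,6,3,4,2,3,5,4,3,6,2,3,1,2,3,6,2])) (.node .none (.word [1,3,5,6,3,2,1,0,3,5,4,2,3,2,3,1,2,3,6,5,2,5,6,3,2,1,0,3,5,4,2,3,2,3,1,2,3,6,5,2,5,6,3,2,1,0,3,5,4,2,3,2,3,1,2,3,6,5,2,3,2,3,5,4,3,1,2,3,6,5,3,1,2,0,1])))))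 (.node (.node (.node (.node .none (.word [1,0,2,3,2,6,3,2,1,0,5,3,4,2,3,2,3,5,1,2,3,6,2,3,2,3,6,3,4,2,3,5,4,3,6,2,3,1,2,3,6,2,1,3,5,6,3,2,1,0,3,5,4,2,3,2,3,1,2,3,6,5,2,6,3,4,2,3,5,4,3,6,2,3,1,2,3,6,2,1,3,6,3,4,2,3,5,4,3,6,2,3,1,2,3,6,2])) (.word [0,1,3,2,1,3,4,5,3,2,1,6,3,4,2,3,2,3,6,3,1,2,3,5,2,3,0,2,3,2,6,3,2,1,0,5,3,4,2,3,2,3,5,1,2,3,6,2,3,2,3,5,6,3,2,1,0,3,5,4,2,3,2,3,1,2,3,6,5,2,5,6,3,2,1,0,3,5,4,2,3,2,3,1,2,3,6,5,2,6,3,4,2,3,5,4,3,6,2,3,1,2,3,6,2,1,3,6,3,4,2,3,5,4,3,6,2,3,1,2,3,6,2])) (.node (.node (.word [3,2,3,2,1,5,6,3,2,5,3,2,1,3,6,2,3,2,3,6,4,3,1,2,3,5,2,3,0,1,3,6,3,4,2,3,5,4,3,6,2,3,1,2,3,6,2,1,3,5,6,3,2,1,0,3,5,4,2,3,2,3,1,2,3,6,5,2,3,1,3,2,3,2,1,5,6,3,2,5,3,2,1,3,6,2,3,2,3,6,4,3,1,2,3,5,2,3,0,1,2,3,5,4,3,1,2,3,6,5,3,1,2,0,1])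 (.word [1,2,3,5,4,3,1,2,3,6,5,3,1,2,0,1,0,1,3,2,1,3,4,5,3,2,1,6,3,4,2,3,2,3,6,3,1,2,3,5,2,5,6,3,2,1,0,3,5,4,2,3,2,3,1,2,3,6,5,2,6,3,4,2,3,5,4,3,6,2,3,1,2,3,6,2,1,3,6,3,4,2,3,5,4,3,6,2,3,1,2,3,6,2])) (.node (.word [1,2,3,5,4,3,1,2,3,6,5,3,1,2,0,3,6,3,4,2,3,5,4,3,6,2,3,1,2,3,6,2,1,3,6,3,4,2,3,5,4,3,6,2,3,1,2,3,6,2,1,2,3,5,4,3,1,2,3,6,5,3,1,2,0,1]) (.word [0,1,3,2,1,3,4,5,3,2,1,6,3,4,2,3,2,3,6,3,1,2,3,5,2,5,6,3,2,1,0,3,5,4,2,3,2,3,1,2,3,6,5,2,6,3,4,2,3,5,4,3,6,2,3,1,2,3,6,2,1,3,6,3,4,2,3,5,4,3,6,2,3,1,2,3,6,2,3,2,3,2,1,5,6,3,2,5,3,2,1,3,6,2,3,2,3,6,4,3,1,2,3,5,2,3,0,1,3,6,3,4,2,3,5,4,3,6,2,3,1,2,3,6,2])))) (.node (.node (.node .none (.word [1,3,5,6,3,2,1,0,3,5,4,2,3,2,3,1,2,3,6,5,2,5,6,3,2,1,0,3,5,4,2,3,2,3,1,2,3,6,5,2,3,1,3,2,3,2,1,5,6,3,2,5,3,2,1,3,6,2,3,2,3,6,4,3,1,2,3,5,2,3,0,1,2,3,5,4,3,1,2,3,6,5,3,1,2,0,1]))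 (.node (.word [1,2,3,5,4,3,1,2,3,6,5,3,1,2,0,2,3,5,4,3,1,2,3,6,5,3,1,2,0,1,3,2,3,2,1,5,6,3,2,5,3,2,1,3,6,2,3,2,3,6,4,3,1,2,3,5,2,3,0,1,2,3,5,4,3,1,2,3,6,5,3,1,2,0,3,6,3,4,2,3,5,4,3,6,2,3,1,2,3,6,2]) (.word [1,2,3,5,4,3,1,2,3,6,5,3,1,2,0,1,0,1,3,2,1,3,4,5,3,2,1,6,3,4,2,3,2,3,6,3,1,2,3,5,2,3,1,3,2,3,2,1,5,6,3,2,5,3,2,1,3,6,2,3,2,3,6,4,3,1,2,3,5,2,3,0,1,3,6,3,4,2,3,5,4,3,6,2,3,1,2,3,6,2,1,3,6,3,4,2,3,5,4,3,6,2,3,1,2,3,6,2]))) (.node (.node (.word [1,3,6,3,4,2,3,5,4,3,6,2,3,1,2,3,6,2,1,3,6,3,4,2,3,5,4,3,6,2,3,1,2,3,6,2,1,3,6,3,4,2,3,5,4,3,6,2,3,1,2,3,6,2,0,1,3,2,1,3,4,5,3,2,1,6,3,4,2,3,2,3,6,3,1,2,3,5,2,3,2,3,5,4,3,1,2,3,6,5,3,1,2,0,3,6,3,4,2,3,5,4,3,6,2,3,1,2,3,6,2]) (.word [1,3,5,6,3,2,1,0,3,5,4,2,3,2,3,1,2,3,6,5,2,3,1,3,2,3,2,1,5,6,3,2,5,3,2,1,3,6,2,3,2,3,6,4,3,1,2,3,5,2,3,0,1,3,5,6,3,2,1,0,3,5,4,2,3,2,3,1,2,3,6,5,2,6,3,4,2,3,5,4,3,6,2,3,1,2,3,6,2,1,3,6,3,4,2,3,5,4,3,6,2,3,1,2,3,6,2]))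 (.node .none (.word [1,2,3,5,4,3,1,2,3,6,5,3,1,2,0,3,6,3,4,2,3,5,4,3,6,2,3,1,2,3,6,2,3,2,3,2,1,5,6,3,2,5,3,2,1,3,6,2,3,2,3,6,4,3,1,2,3,5,2,3,0,1,3,6,3,4,2,3,5,4,3,6,2,3,1,2,3,6,2,1,3,6,3,4,2,3,5,4,3,6,2,3,1,2,3,6,2,1,3,6,3,4,2,3,5,4,3,6,2,3,1,2,3,6,2]))))))))

/-- A subtree. -/
def sub105 : WTree :=
  (.node (.node (.node (.node (.node (.node (.node (.node (.word [1,3,6,3,4,2,3,5,4,3,6,2,3,1,2,3,6,2,1,2,3,5,4,3,1,2,3,6,5,3,1,2,0,2,3,5,4,3,1,2,3,6,5,3,1,2,0,3,6,3,4,2,3,5,4,3,6,2,3,1,2,3,6,2,1,2,3,5,4,3,1,2,3,6,5,3,1,2,0,1]) (.word [1,3,6,3,4,2,3,5,4,3,6,2,3,1,2,3,6,2,3,2,3,2,1,5,6,3,2,5,3,2,1,3,6,2,3,2,3,6,4,3,1,2,3,5,2,3,0,3,2,3,2,1,5,6,3,2,5,3,2,1,3,6,2,3,2,3,6,4,3,1,2,3,5,2,3,0,1,2,3,5,4,3,1,2,3,6,5,3,1,2,0,2,3,5,4,3,1,2,3,6,5,3,1,2,0,1]))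 (.word [0,1,3,2,1,3,4,5,3,2,1,6,3,4,2,3,2,3,6,3,1,2,3,5,2,3,1,0,1,3,2,1,3,4,5,3,2,1,6,3,4,2,3,2,3,6,3,1,2,3,5,2,3,2,3,5,4,3,1,2,3,6,5,3,1,2,0,2,3,5,4,3,1,2,3,6,5,3,1,2,0,2,3,5,4,3,1,2,3,6,5,3,1,2,0,1])) (.node (.word [1,2,3,5,4,3,1,2,3,6,5,3,1,2,0,3,5,6,3,2,1,0,3,5,4,2,3,2,3,1,2,3,6,5,2,3,2,3,5,4,3,1,2,3,6,5,3,1,2,0,2,3,5,4,3,1,2,3,6,5,3,1,2,0,3,6,3,4,2,3,5,4,3,6,2,3,1,2,3,6,2]) (.word [1,2,3,5,4,3,1,2,3,6,5,3,1,2,0,2,3,5,4,3,1,2,3,6,5,3,1,2,0,1,3,2,3,2,1,5,6,3,2,5,3,2,1,3,6,2,3,2,3,6,4,3,1,2,3,5,2,3,0,3,2,3,2,1,5,6,3,2,5,3,2,1,3,6,2,3,2,3,6,4,3,1,2,3,5,2,3,0,1,3,6,3,4,2,3,5,4,3,6,2,3,1,2,3,6,2]))) (.node (.node .none (.word [1,0,2,3,2,6,3,2,1,0,5,3,4,2,3,2,3,5,1,2,3,6,2,3,2,1,0,1,3,2,1,3,4,5,3,2,1,6,3,4,2,3,2,3,6,3,1,2,3,5,2,6,3,4,2,3,5,4,3,6,2,3,1,2,3,6,2,3,2,3,2,1,5,6,3,2,5,3,2,1,3,6,2,3,2,3,6,4,3,1,2,3,5,2,3,0,1,3,6,3,4,2,3,5,4,3,6,2,3,1,2,3,6,2]))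 (.word [1,3,6,3,4,2,3,5,4,3,6,2,3,1,2,3,6,2,3,2,3,2,1,5,6,3,2,5,3,2,1,3,6,2,3,2,3,6,4,3,1,2,3,5,2,3,0,1,0,2,3,2,6,3,2,1,0,5,3,4,2,3,2,3,5,1,2,3,6,2,3,2,3,6,3,4,2,3,5,4,3,6,2,3,1,2,3,6,2]))) (.node (.node (.node .none (.word [1,0,2,3,2,6,3,2,1,0,5,3,4,2,3,2,3,5,1,2,3,6,2,5,4,3,1,2,3,6,5,3,1,2,0,1,3,2,3,2,1,5,6,3,2,5,3,2,1,3,6,2,3,2,3,6,4,3,1,2,3,5,2,3,0,1,3,6,3,4,2,3,5,4,3,6,2,3,1,2,3,6,2])) (.word [0,1,3,2,1,3,4,5,3,2,1,6,3,4,2,3,2,3,6,3,1,2,3,5,2,3,2,3,5,4,3,1,2,3,6,5,3,1,2,0,3,6,3,4,2,3,5,4,3,6,2,3,1,2,3,6,2,1,2,3,5,4,3,1,2,3,6,5,3,1,2,0,1])) (.node (.node (.word [3,2,3,2,1,5,6,3,2,5,3,2,1,3,6,2,3,2,3,6,4,3,1,2,3,5,2,3,1,3,2,1,3,4,5,3,2,1,6,3,4,2,3,2,3,6,3,1,2,3,5,2,3,0,2,3,2,6,3,2,1,0,5,3,4,2,3,2,3,5,1,2,3,6,2,5,4,3,1,2,3,6,5,3,1,2,0,1])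 (.word [1,2,3,5,4,3,1,2,3,6,5,3,1,2,0,1,0,1,3,2,1,3,4,5,3,2,1,6,3,4,2,3,2,3,6,3,1,2,3,5,2,3,2,3,5,4,3,1,2,3,6,5,3,1,2,0,2,3,5,4,3,1,2,3,6,5,3,1,2,0,3,6,3,4,2,3,5,4,3,6,2,3,1,2,3,6,2,1,3,6,3,4,2,3,5,4,3,6,2,3,1,2,3,6,2])) (.node (.word [1,3,5,6,3,2,1,0,3,5,4,2,3,2,3,1,2,3,6,5,2,6,3,4,2,3,5,4,3,6,2,3,1,2,3,6,2,1,3,5,6,3,2,1,0,3,5,4,2,3,2,3,1,2,3,6,5,2,6,3,4,2,3,5,4,3,6,2,3,1,2,3,6,2]) (.word [1,3,6,3,4,2,3,5,4,3,6,2,3,1,2,3,6,2,3,2,3,2,1,5,6,3,2,5,3,2,1,3,6,2,3,2,3,6,4,3,1,2,3,5,2,3,1,3,2,1,3,4,5,3,2,1,6,3,4,2,3,2,3,6,3,1,2,3,5,2,3,1,3,2,3,2,1,5,6,3,2,5,3,2,1,3,6,2,3,2,3,6,4,3,1,2,3,5,2,3,0,1,2,3,5,4,3,1,2,3,6,5,3,1,2,0,1]))))) (.node (.node (.node (.node (.word [1,3,5,6,3,2,1,0,3,5,4,2,3,2,3,1,2,3,6,5,2,3,1,3,2,3,2,1,5,6,3,2,5,3,2,1,3,6,2,3,2,3,6,4,3,1,2,3,5,2,3,1,3,2,1,3,4,5,3,2,1,6,3,4,2,3,2,3,6,3,1,2,3,5,2,3,2,3,5,4,3,1,2,3,6,5,3,1,2,0,1])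 (.word [3,2,3,2,1,5,6,3,2,5,3,2,1,3,6,2,3,2,3,6,4,3,1,2,3,5,2,3,0,1,3,5,6,3,2,1,0,3,5,4,2,3,2,3,1,2,3,6,5,2,5,6,3,2,1,0,3,5,4,2,3,2,3,1,2,3,6,5,2,6,3,4,2,3,5,4,3,6,2,3,1,2,3,6,2,1,3,6,3,4,2,3,5,4,3,6,2,3,1,2,3,6,2])) (.node (.word [0,1,3,2,1,3,4,5,3,2,1,6,3,4,2,3,2,3,6,3,1,2,3,5,2,6,3,4,2,3,5,4,3,6,2,3,1,2,3,6,2,1,2,3,5,4,3,1,2,3,6,5,3,1,2,0,1]) (.word [0,1,3,2,1,3,4,5,3,2,1,6,3,4,2,3,2,3,6,3,1,2,3,5,2,3,2,3,5,4,3,1,2,3,6,5,3,1,2,0,3,6,3,4,2,3,5,4,3,6,2,3,1,2,3,6,2]))) (.node .none (.word [1,3,5,6,3,2,1,0,3,5,4,2,3,2,3,1,2,3,6,5,2,3,1,3,2,3,2,1,5,6,3,2,5,3,2,1,3,6,2,3,2,3,6,4,3,1,2,3,5,2,3,0,1,3,6,3,4,2,3,5,4,3,6,2,3,1,2,3,6,2,1,3,5,6,3,2,1,0,3,5,4,2,3,2,3,1,2,3,6,5,2,6,3,4,2,3,5,4,3,6,2,3,1,2,3,6,2])))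 (.node (.node (.node (.word [1,0,2,3,2,6,3,2,1,0,5,3,4,2,3,2,3,5,1,2,3,6,2,3,2,1,0,1,3,2,1,3,4,5,3,2,1,6,3,4,2,3,2,3,6,3,1,2,3,5,2,5,6,3,2,1,0,3,5,4,2,3,2,3,1,2,3,6,5,2,3,2,3,5,4,3,1,2,3,6,5,3,1,2,0,1]) (.word [3,2,3,2,1,5,6,3,2,5,3,2,1,3,6,2,3,2,3,6,4,3,1,2,3,5,2,3,0,1,3,6,3,4,2,3,5,4,3,6,2,3,1,2,3,6,2,1,0,2,3,2,6,3,2,1,0,5,3,4,2,3,2,3,5,1,2,3,6,2,3,2,3,6,3,4,2,3,5,4,3,6,2,3,1,2,3,6,2])) (.word [1,2,3,5,4,3,1,2,3,6,5,3,1,3,2,6,3,2,1,0,5,3,4,2,3,2,3,5,1,2,3,6,2,3,2,3,6,3,4,2,3,5,4,3,6,2,3,1,2,3,6,2,1,3,6,3,4,2,3,5,4,3,6,2,3,1,2,3,6,2])) (.node (.node (.word [1,3,5,6,3,2,1,0,3,5,4,2,3,2,3,1,2,3,6,5,2,5,6,3,2,1,0,3,5,4,2,3,2,3,1,2,3,6,5,2,3,1,3,2,3,2,1,5,6,3,2,5,3,2,1,3,6,2,3,2,3,6,4,3,1,2,3,5,2,3,0,1,2,3,5,4,3,1,2,3,6,5,3,1,2,0,2,3,5,4,3,1,2,3,6,5,3,1,2,0,1])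 (.word [0,1,3,2,1,3,4,5,3,2,1,6,3,4,2,3,2,3,6,3,1,2,3,5,2,3,0,2,3,2,6,3,2,1,0,5,3,4,2,3,2,3,5,1,2,3,6,2,5,4,3,1,2,3,6,5,3,1,2,0,1])) (.node (.word [1,2,3,5,4,3,1,2,3,6,5,3,1,2,0,2,3,5,4,3,1,2,3,6,5,3,1,2,0,1,0,1,3,2,1,3,4,5,3,2,1,6,3,4,2,3,2,3,6,3,1,2,3,5,2,6,3,4,2,3,5,4,3,6,2,3,1,2,3,6,2,1,2,3,5,4,3,1,2,3,6,5,3,1,2,0,3,6,3,4,2,3,5,4,3,6,2,3,1,2,3,6,2]) (.word [1,0,2,3,2,6,3,2,1,0,5,3,4,2,3,2,3,5,1,2,3,6,2,3,2,3,6,3,4,2,3,5,4,3,6,2,3,1,2,3,6,2,0,1,3,2,1,3,4,5,3,2,1,6,3,4,2,3,2,3,6,3,1,2,3,5,2,3,1,3,2,3,2,1,5,6,3,2,5,3,2,1,3,6,2,3,2,3,6,4,3,1,2,3,5,2,3,0,1,3,6,3,4,2,3,5,4,3,6,2,3,1,2,3,6,2])))))) (.node (.node (.node (.node (.node (.word [1,2,3,5,4,3,1,2,3,6,5,3,1,2,0,1,3,2,3,2,1,5,6,3,2,5,3,2,1,3,6,2,3,2,3,6,4,3,1,2,3,5,2,3,1,3,2,1,3,4,5,3,2,1,6,3,4,2,3,2,3,6,3,1,2,3,5,2,3,2,3,5,4,3,1,2,3,6,5,3,1,2,0,1])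 (.word [1,2,3,5,4,3,1,2,3,6,5,3,1,2,0,3,5,6,3,2,1,0,3,5,4,2,3,2,3,1,2,3,6,5,2,3,1,3,2,3,2,1,5,6,3,2,5,3,2,1,3,6,2,3,2,3,6,4,3,1,2,3,5,2,3,0,1,2,3,5,4,3,1,2,3,6,5,3,1,2,0,2,3,5,4,3,1,2,3,6,5,3,1,2,0,1])) (.node .none (.word [1,0,2,3,2,6,3,2,1,0,5,3,4,2,3,2,3,5,1,2,3,6,2,3,2,3,6,3,4,2,3,5,4,3,6,2,3,1,2,3,6,2,1,3,5,6,3,2,1,0,3,5,4,2,3,2,3,1,2,3,6,5,2,3,2,3,5,4,3,1,2,3,6,5,3,1,2,0,1,3,2,3,2,1,5,6,3,2,5,3,2,1,3,6,2,3,2,3,6,4,3,1,2,3,5,2,3,0,1,3,6,3,4,2,3,5,4,3,6,2,3,1,2,3,6,2]))) (.node .none (.word [1,0,2,3,2,6,3,2,1,0,5,3,4,2,3,2,3,5,1,2,3,6,2,3,2,1,3,2,3,2,1,5,6,3,2,5,3,2,1,3,6,2,3,2,3,6,4,3,1,2,3,5,2,3,0,1,2,3,5,4,3,1,2,3,6,5,3,1,2,0,3,6,3,4,2,3,5,4,3,6,2,3,1,2,3,6,2,1,3,6,3,4,2,3,5,4,3,6,2,3,1,2,3,6,2])))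 (.node (.node (.node (.word [1,3,5,6,3,2,1,0,3,5,4,2,3,2,3,1,2,3,6,5,2,6,3,4,2,3,5,4,3,6,2,3,1,2,3,6,2,1,3,5,6,3,2,1,0,3,5,4,2,3,2,3,1,2,3,6,5,2,6,3,4,2,3,5,4,3,6,2,3,1,2,3,6,2,1,3,6,3,4,2,3,5,4,3,6,2,3,1,2,3,6,2]) (.word [1,3,6,3,4,2,3,5,4,3,6,2,3,1,2,3,6,2,0,1,3,2,1,3,4,5,3,2,1,6,3,4,2,3,2,3,6,3,1,2,3,5,2,3,0,2,3,2,6,3,2,1,0,5,3,4,2,3,2,3,5,1,2,3,6,2,3,2,1,0,1,3,2,1,3,4,5,3,2,1,6,3,4,2,3,2,3,6,3,1,2,3,5,2,6,3,4,2,3,5,4,3,6,2,3,1,2,3,6,2,1,3,6,3,4,2,3,5,4,3,6,2,3,1,2,3,6,2])) (.node (.word [3,2,3,2,1,5,6,3,2,5,3,2,1,3,6,2,3,2,3,6,4,3,1,2,3,5,2,3,0,3,2,3,2,1,5,6,3,2,5,3,2,1,3,6,2,3,2,3,6,4,3,1,2,3,5,2,3,0,1,3,6,3,4,2,3,5,4,3,6,2,3,1,2,3,6,2,1,3,6,3,4,2,3,5,4,3,6,2,3,1,2,3,6,2,1,2,3,5,4,3,1,2,3,6,5,3,1,2,0,3,6,3,4,2,3,5,4,3,6,2,3,1,2,3,6,2])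 (.word [1,2,3,5,4,3,1,2,3,6,5,3,1,2,0,3,6,3,4,2,3,5,4,3,6,2,3,1,2,3,6,2,1,2,3,5,4,3,1,2,3,6,5,3,1,2,0,3,6,3,4,2,3,5,4,3,6,2,3,1,2,3,6,2,1,3,6,3,4,2,3,5,4,3,6,2,3,1,2,3,6,2,1,3,6,3,4,2,3,5,4,3,6,2,3,1,2,3,6,2]))) (.node .none (.node (.word [1,2,3,5,4,3,1,2,3,6,5,3,1,2,0,3,5,6,3,2,1,0,3,5,4,2,3,2,3,1,2,3,6,5,2,6,3,4,2,3,5,4,3,6,2,3,1,2,3,6,2,1,2,3,5,4,3,1,2,3,6,5,3,1,2,0,1]) (.word [3,2,3,2,1,5,6,3,2,5,3,2,1,3,6,2,3,2,3,6,4,3,1,2,3,5,2,3,0,1,3,6,3,4,2,3,5,4,3,6,2,3,1,2,3,6,2,1,3,5,6,3,2,1,0,3,5,4,2,3,2,3,1,2,3,6,5,2,3,2,3,5,4,3,1,2,3,6,5,3,1,2,0,1]))))) (.node (.node (.node (.node (.word [1,3,6,3,4,2,3,5,4,3,6,2,3,1,2,3,6,2,1,2,3,5,4,3,1,2,3,6,5,3,1,2,0,3,5,6,3,2,1,0,3,5,4,2,3,2,3,1,2,3,6,5,2,6,3,4,2,3,5,4,3,6,2,3,1,2,3,6,2])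 (.word [1,3,5,6,3,2,1,0,3,5,4,2,3,2,3,1,2,3,6,5,2,3,1,0,1,3,2,1,3,4,5,3,2,1,6,3,4,2,3,2,3,6,3,1,2,3,5,2,3,1,0,1,3,2,1,3,4,5,3,2,1,6,3,4,2,3,2,3,6,3,1,2,3,5,2,3,1,3,2,3,2,1,5,6,3,2,5,3,2,1,3,6,2,3,2,3,6,4,3,1,2,3,5,2,3,0,1,3,6,3,4,2,3,5,4,3,6,2,3,1,2,3,6,2])) (.node .none (.word [1,3,5,6,3,2,1,0,3,5,4,2,3,2,3,1,2,3,6,5,2,3,1,0,1,3,2,1,3,4,5,3,2,1,6,3,4,2,3,2,3,6,3,1,2,3,5,2,5,6,3,2,1,0,3,5,4,2,3,2,3,1,2,3,6,5,2,3,2,3,5,4,3,1,2,3,6,5,3,1,2,0,1]))) (.node (.node .none (.word [0,1,3,2,1,3,4,5,3,2,1,6,3,4,2,3,2,3,6,3,1,2,3,5,2,3,1,3,2,3,2,1,5,6,3,2,5,3,2,1,3,6,2,3,2,3,6,4,3,1,2,3,5,2,3,1,3,2,1,3,4,5,3,2,1,6,3,4,2,3,2,3,6,3,1,2,3,5,2,3,2,3,5,4,3,1,2,3,6,5,3,1,2,0,1])) (.node (.word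 [1,3,6,3,4,2,3,5,4,3,6,2,3,1,2,3,6,2,0,1,3,2,1,3,4,5,3,2,1,6,3,4,2,3,2,3,6,3,1,2,3,5,2,3,2,3,5,4,3,1,2,3,6,5,3,1,2,0,3,6,3,4,2,3,5,4,3,6,2,3,1,2,3,6,2,1,3,6,3,4,2,3,5,4,3,6,2,3,1,2,3,6,2,1,3,6,3,4,2,3,5,4,3,6,2,3,1,2,3,6,2]) (.word [0,1,3,2,1,3,4,5,3,2,1,6,3,4,2,3,2,3,6,3,1,2,3,5,2,3,1,0,1,3,2,1,3,4,5,3,2,1,6,3,4,2,3,2,3,6,3,1,2,3,5,2,3,0,2,3,2,6,3,2,1,0,5,3,4,2,3,2,3,5,1,2,3,6,2,5,4,3,1,2,3,6,5,3,1,2,0,1])))) (.node (.node (.node (.word [1,3,6,3,4,2,3,5,4,3,6,2,3,1,2,3,6,2,1,0,2,3,2,6,3,2,1,0,5,3,4,2,3,2,3,5,1,2,3,6,2,5,4,3,1,2,3,6,5,3,1,2,0,1,0,1,3,2,1,3,4,5,3,2,1,6,3,4,2,3,2,3,6,3,1,2,3,5,2,6,3,4,2,3,5,4,3,6,2,3,1,2,3,6,2]) (.word [1,2,3,5,4,3,1,2,3,6,5,3,1,2,0,2,3,5,4,3,1,2,3,6,5,3,1,2,0,1,3,2,3,2,1,5,6,3,2,5,3,2,1,3,6,2,3,2,3,6,4,3,1,2,3,5,2,3,0,1,3,5,6,3,2,1,0,3,5,4,2,3,2,3,1,2,3,6,5,2,3,2,3,5,4,3,1,2,3,6,5,3,1,2,0,1]))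 (.node .none (.word [1,3,6,3,4,2,3,5,4,3,6,2,3,1,2,3,6,2,3,2,3,2,1,5,6,3,2,5,3,2,1,3,6,2,3,2,3,6,4,3,1,2,3,5,2,3,1,3,2,1,3,4,5,3,2,1,6,3,4,2,3,2,3,6,3,1,2,3,5,2,3,2,3,5,4,3,1,2,3,6,5,3,1,2,0,3,6,3,4,2,3,5,4,3,6,2,3,1,2,3,6,2]))) (.node (.word [1,3,6,3,4,2,3,5,4,3,6,2,3,1,2,3,6,2,1,0,2,3,2,6,3,2,1,0,5,3,4,2,3,2,3,5,1,2,3,6,2,5,4,3,1,2,3,6,5,3,1,2,0,3,6,3,4,2,3,5,4,3,6,2,3,1,2,3,6,2,1,3,6,3,4,2,3,5,4,3,6,2,3,1,2,3,6,2]) (.node (.word [1,3,6,3,4,2,3,5,4,3,6,2,3,1,2,3,6,2,1,3,5,6,3,2,1,0,3,5,4,2,3,2,3,1,2,3,6,5,2,6,3,4,2,3,5,4,3,6,2,3,1,2,3,6,2,1,3,6,3,4,2,3,5,4,3,6,2,3,1,2,3,6,2,1,2,3,5,4,3,1,2,3,6,5,3,1,2,0,2,3,5,4,3,1,2,3,6,5,3,1,2,0,1]) (.word [1,3,5,6,3,2,1,0,3,5,4,2,3,2,3,1,2,3,6,5,2,3,2,3,5,4,3,1,2,3,6,5,3,1,2,0,2,3,5,4,3,1,2,3,6,5,3,1,2,0,3,6,3,4,2,3,5,4,3,6,2,3,1,2,3,6,2])))))))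 (.node (.node (.node (.node (.node (.node (.word [1,3,5,6,3,2,1,0,3,5,4,2,3,2,3,1,2,3,6,5,2,3,1,0,1,3,2,1,3,4,5,3,2,1,6,3,4,2,3,2,3,6,3,1,2,3,5,2,3,1,0,1,3,2,1,3,4,5,3,2,1,6,3,4,2,3,2,3,6,3,1,2,3,5,2,3,2,3,5,4,3,1,2,3,6,5,3,1,2,0,2,3,5,4,3,1,2,3,6,5,3,1,2,0,1]) (.word [1,3,6,3,4,2,3,5,4,3,6,2,3,1,2,3,6,2,3,2,3,2,1,5,6,3,2,5,3,2,1,3,6,2,3,2,3,6,4,3,1,2,3,5,2,3,1,3,2,1,3,4,5,3,2,1,6,3,4,2,3,2,3,6,3,1,2,3,5,2,6,3,4,2,3,5,4,3,6,2,3,1,2,3,6,2,1,2,3,5,4,3,1,2,3,6,5,3,1,2,0,1])) (.node .none (.word [0,1,3,2,1,3,4,5,3,2,1,6,3,4,2,3,2,3,6,3,1,2,3,5,2,6,3,4,2,3,5,4,3,6,2,3,1,2,3,6,2,1,3,5,6,3,2,1,0,3,5,4,2,3,2,3,1,2,3,6,5,2,3,1,3,2,3,2,1,5,6,3,2,5,3,2,1,3,6,2,3,2,3,6,4,3,1,2,3,5,2,3,0,1,3,6,3,4,2,3,5,4,3,6,2,3,1,2,3,6,2,1,3,6,3,4,2,3,5,4,3,6,2,3,1,2,3,6,2])))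 (.node (.node (.word [0,1,3,2,1,3,4,5,3,2,1,6,3,4,2,3,2,3,6,3,1,2,3,5,2,3,2,3,5,4,3,1,2,3,6,5,3,1,2,0,3,5,6,3,2,1,0,3,5,4,2,3,2,3,1,2,3,6,5,2,6,3,4,2,3,5,4,3,6,2,3,1,2,3,6,2]) (.word [0,1,3,2,1,3,4,5,3,2,1,6,3,4,2,3,2,3,6,3,1,2,3,5,2,3,2,3,5,4,3,1,2,3,6,5,3,1,2,0,3,5,6,3,2,1,0,3,5,4,2,3,2,3,1,2,3,6,5,2,3,1,3,2,3,2,1,5,6,3,2,5,3,2,1,3,6,2,3,2,3,6,4,3,1,2,3,5,2,3,0,1,3,6,3,4,2,3,5,4,3,6,2,3,1,2,3,6,2])) (.node (.word [1,3,6,3,4,2,3,5,4,3,6,2,3,1,2,3,6,2,1,2,3,5,4,3,1,2,3,6,5,3,1,2,0,3,5,6,3,2,1,0,3,5,4,2,3,2,3,1,2,3,6,5,2,3,1,0,1,3,2,1,3,4,5,3,2,1,6,3,4,2,3,2,3,6,3,1,2,3,5,2,6,3,4,2,3,5,4,3,6,2,3,1,2,3,6,2]) (.word [3,2,3,2,1,5,6,3,2,5,3,2,1,3,6,2,3,2,3,6,4,3,1,2,3,5,2,3,1,3,2,1,3,4,5,3,2,1,6,3,4,2,3,2,3,6,3,1,2,3,5,2,3,2,3,5,4,3,1,2,3,6,5,3,1,2,0,3,6,3,4,2,3,5,4,3,6,2,3,1,2,3,6,2,1,3,6,3,4,2,3,5,4,3,6,2,3,1,2,3,6,2]))))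 (.node (.node (.word [3,2,3,2,1,5,6,3,2,5,3,2,1,3,6,2,3,2,3,6,4,3,1,2,3,5,2,3,0,1,3,6,3,4,2,3,5,4,3,6,2,3,1,2,3,6,2,1,0,2,3,2,6,3,2,1,0,5,3,4,2,3,2,3,5,1,2,3,6,2,3,2,1,3,2,3,2,1,5,6,3,2,5,3,2,1,3,6,2,3,2,3,6,4,3,1,2,3,5,2,3,0,1,3,6,3,4,2,3,5,4,3,6,2,3,1,2,3,6,2]) (.word [0,1,3,2,1,3,4,5,3,2,1,6,3,4,2,3,2,3,6,3,1,2,3,5,2,5,6,3,2,1,0,3,5,4,2,3,2,3,1,2,3,6,5,2,6,3,4,2,3,5,4,3,6,2,3,1,2,3,6,2,1,2,3,5,4,3,1,2,3,6,5,3,1,2,0,2,3,5,4,3,1,2,3,6,5,3,1,2,0,1])) (.node (.word [1,2,3,5,4,3,1,2,3,6,5,3,1,2,0,3,6,3,4,2,3,5,4,3,6,2,3,1,2,3,6,2,3,2,3,2,1,5,6,3,2,5,3,2,1,3,6,2,3,2,3,6,4,3,1,2,3,5,2,3,0,1,3,5,6,3,2,1,0,3,5,4,2,3,2,3,1,2,3,6,5,2,6,3,4,2,3,5,4,3,6,2,3,1,2,3,6,2]) (.node (.word [1,2,3,5,4,3,1,2,3,6,5,3,1,2,0,2,3,5,4,3,1,2,3,6,5,3,1,2,0,1,3,2,3,2,1,5,6,3,2,5,3,2,1,3,6,2,3,2,3,6,4,3,1,2,3,5,2,3,0,1,3,5,6,3,2,1,0,3,5,4,2,3,2,3,1,2,3,6,5,2,6,3,4,2,3,5,4,3,6,2,3,1,2,3,6,2])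 (.word [1,0,2,3,2,6,3,2,1,0,5,3,4,2,3,2,3,5,1,2,3,6,2,5,4,3,1,2,3,6,5,3,1,2,0,3,6,3,4,2,3,5,4,3,6,2,3,1,2,3,6,2,1,3,6,3,4,2,3,5,4,3,6,2,3,1,2,3,6,2]))))) (.node (.node (.node (.node (.word [0,1,3,2,1,3,4,5,3,2,1,6,3,4,2,3,2,3,6,3,1,2,3,5,2,3,1,0,1,3,2,1,3,4,5,3,2,1,6,3,4,2,3,2,3,6,3,1,2,3,5,2,3,1,3,2,3,2,1,5,6,3,2,5,3,2,1,3,6,2,3,2,3,6,4,3,1,2,3,5,2,3,0,1,2,3,5,4,3,1,2,3,6,5,3,1,2,0,1]) (.word [1,3,6,3,4,2,3,5,4,3,6,2,3,1,2,3,6,2,1,2,3,5,4,3,1,2,3,6,5,3,1,2,0,3,6,3,4,2,3,5,4,3,6,2,3,1,2,3,6,2])) (.node (.word [1,0,2,3,2,6,3,2,1,0,5,3,4,2,3,2,3,5,1,2,3,6,2,3,2,1,0,1,3,2,1,3,4,5,3,2,1,6,3,4,2,3,2,3,6,3,1,2,3,5,2,3,2,3,5,4,3,1,2,3,6,5,3,1,2,0,3,6,3,4,2,3,5,4,3,6,2,3,1,2,3,6,2,1,3,6,3,4,2,3,5,4,3,6,2,3,1,2,3,6,2,1,3,6,3,4,2,3,5,4,3,6,2,3,1,2,3,6,2])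 (.word [1,0,2,3,2,6,3,2,1,0,5,3,4,2,3,2,3,5,1,2,3,6,2,3,2,1,3,2,3,2,1,5,6,3,2,5,3,2,1,3,6,2,3,2,3,6,4,3,1,2,3,5,2,3,1,3,2,1,3,4,5,3,2,1,6,3,4,2,3,2,3,6,3,1,2,3,5,2,6,3,4,2,3,5,4,3,6,2,3,1,2,3,6,2,1,3,6,3,4,2,3,5,4,3,6,2,3,1,2,3,6,2]))) (.node (.node (.word [1,3,5,6,3,2,1,0,3,5,4,2,3,2,3,1,2,3,6,5,2,3,1,3,2,3,2,1,5,6,3,2,5,3,2,1,3,6,2,3,2,3,6,4,3,1,2,3,5,2,3,0,3,2,3,2,1,5,6,3,2,5,3,2,1,3,6,2,3,2,3,6,4,3,1,2,3,5,2,3,0,1,2,3,5,4,3,1,2,3,6,5,3,1,2,0,3,6,3,4,2,3,5,4,3,6,2,3,1,2,3,6,2]) (.word [1,3,6,3,4,2,3,5,4,3,6,2,3,1,2,3,6,2,1,0,2,3,2,6,3,2,1,0,5,3,4,2,3,2,3,5,1,2,3,6,2,3,2,3,5,6,3,2,1,0,3,5,4,2,3,2,3,1,2,3,6,5,2,3,2,3,5,4,3,1,2,3,6,5,3,1,2,0,3,6,3,4,2,3,5,4,3,6,2,3,1,2,3,6,2,1,3,6,3,4,2,3,5,4,3,6,2,3,1,2,3,6,2]))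 (.node .none (.word [1,3,5,6,3,2,1,0,3,5,4,2,3,2,3,1,2,3,6,5,2,3,1,0,1,3,2,1,3,4,5,3,2,1,6,3,4,2,3,2,3,6,3,1,2,3,5,2,5,6,3,2,1,0,3,5,4,2,3,2,3,1,2,3,6,5,2,6,3,4,2,3,5,4,3,6,2,3,1,2,3,6,2])))) (.node (.node (.node (.word [0,1,3,2,1,3,4,5,3,2,1,6,3,4,2,3,2,3,6,3,1,2,3,5,2,5,6,3,2,1,0,3,5,4,2,3,2,3,1,2,3,6,5,2,6,3,4,2,3,5,4,3,6,2,3,1,2,3,6,2,0,1,3,2,1,3,4,5,3,2,1,6,3,4,2,3,2,3,6,3,1,2,3,5,2,6,3,4,2,3,5,4,3,6,2,3,1,2,3,6,2]) (.word [0,1,3,2,1,3,4,5,3,2,1,6,3,4,2,3,2,3,6,3,1,2,3,5,2,5,6,3,2,1,0,3,5,4,2,3,2,3,1,2,3,6,5,2,3,0,2,3,2,6,3,2,1,0,5,3,4,2,3,2,3,5,1,2,3,6,2,5,4,3,1,2,3,6,5,3,1,2,0,3,6,3,4,2,3,5,4,3,6,2,3,1,2,3,6,2,1,3,6,3,4,2,3,5,4,3,6,2,3,1,2,3,6,2])) (.word [1,2,3,5,4,3,1,2,3,6,5,3,1,2,0,1,0,1,3,2,1,3,4,5,3,2,1,6,3,4,2,3,2,3,6,3,1,2,3,5,2,6,3,4,2,3,5,4,3,6,2,3,1,2,3,6,2,3,2,3,2,1,5,6,3,2,5,3,2,1,3,6,2,3,2,3,6,4,3,1,2,3,5,2,3,0,1,3,6,3,4,2,3,5,4,3,6,2,3,1,2,3,6,2]))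 (.node (.node (.word [1,2,3,5,4,3,1,2,3,6,5,3,1,2,0,3,5,6,3,2,1,0,3,5,4,2,3,2,3,1,2,3,6,5,2,3,1,0,1,3,2,1,3,4,5,3,2,1,6,3,4,2,3,2,3,6,3,1,2,3,5,2,6,3,4,2,3,5,4,3,6,2,3,1,2,3,6,2,3,2,3,2,1,5,6,3,2,5,3,2,1,3,6,2,3,2,3,6,4,3,1,2,3,5,2,3,0,1,3,6,3,4,2,3,5,4,3,6,2,3,1,2,3,6,2]) (.word [0,1,3,2,1,3,4,5,3,2,1,6,3,4,2,3,2,3,6,3,1,2,3,5,2,3,1,0,1,3,2,1,3,4,5,3,2,1,6,3,4,2,3,2,3,6,3,1,2,3,5,2,5,6,3,2,1,0,3,5,4,2,3,2,3,1,2,3,6,5,2,6,3,4,2,3,5,4,3,6,2,3,1,2,3,6,2,1,3,6,3,4,2,3,5,4,3,6,2,3,1,2,3,6,2,1,3,6,3,4,2,3,5,4,3,6,2,3,1,2,3,6,2])) (.word [1,2,3,5,4,3,1,2,3,6,5,3,1,2,0,3,6,3,4,2,3,5,4,3,6,2,3,1,2,3,6,2,1,0,2,3,2,6,3,2,1,0,5,3,4,2,3,2,3,5,1,2,3,6,2,3,2,1,0,1,3,2,1,3,4,5,3,2,1,6,3,4,2,3,2,3,6,3,1,2,3,5,2,6,3,4,2,3,5,4,3,6,2,3,1,2,3,6,2])))))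 (.node (.node (.node (.node .none (.node (.word [1,3,5,6,3,2,1,0,3,5,4,2,3,2,3,1,2,3,6,5,2,3,2,3,5,4,3,1,2,3,6,5,3,1,2,0,3,6,3,4,2,3,5,4,3,6,2,3,1,2,3,6,2,1,3,5,6,3,2,1,0,3,5,4,2,3,2,3,1,2,3,6,5,2,6,3,4,2,3,5,4,3,6,2,3,1,2,3,6,2]) (.word [1,3,6,3,4,2,3,5,4,3,6,2,3,1,2,3,6,2,3,2,3,2,1,5,6,3,2,5,3,2,1,3,6,2,3,2,3,6,4,3,1,2,3,5,2,3,0,1,0,2,3,2,6,3,2,1,0,5,3,4,2,3,2,3,5,1,2,3,6,2,3,2,3,6,3,4,2,3,5,4,3,6,2,3,1,2,3,6,2,1,2,3,5,4,3,1,2,3,6,5,3,1,2,0,1]))) (.node (.node (.word [1,3,5,6,3,2,1,0,3,5,4,2,3,2,3,1,2,3,6,5,2,3,2,3,5,4,3,1,2,3,6,5,3,1,2,0,3,6,3,4,2,3,5,4,3,6,2,3,1,2,3,6,2,1,2,3,5,4,3,1,2,3,6,5,3,1,2,0,3,6,3,4,2,3,5,4,3,6,2,3,1,2,3,6,2]) (.word [1,2,3,5,4,3,1,2,3,6,5,3,1,2,0,3,5,6,3,2,1,0,3,5,4,2,3,2,3,1,2,3,6,5,2,6,3,4,2,3,5,4,3,6,2,3,1,2,3,6,2,0,1,3,2,1,3,4,5,3,2,1,6,3,4,2,3,2,3,6,3,1,2,3,5,2,3,1,3,2,3,2,1,5,6,3,2,5,3,2,1,3,6,2,3,2,3,6,4,3,1,2,3,5,2,3,0,1,3,6,3,4,2,3,5,4,3,6,2,3,1,2,3,6,2]))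 (.word [3,2,3,2,1,5,6,3,2,5,3,2,1,3,6,2,3,2,3,6,4,3,1,2,3,5,2,3,0,1,3,6,3,4,2,3,5,4,3,6,2,3,1,2,3,6,2,0,1,3,2,1,3,4,5,3,2,1,6,3,4,2,3,2,3,6,3,1,2,3,5,2,3,2,3,5,4,3,1,2,3,6,5,3,1,2,0,3,6,3,4,2,3,5,4,3,6,2,3,1,2,3,6,2]))) (.node (.node (.word [1,3,5,6,3,2,1,0,3,5,4,2,3,2,3,1,2,3,6,5,2,3,2,3,5,4,3,1,2,3,6,5,3,1,3,2,6,3,2,1,0,5,3,4,2,3,2,3,5,1,2,3,6,2,3,2,1,0,1,3,2,1,3,4,5,3,2,1,6,3,4,2,3,2,3,6,3,1,2,3,5,2,6,3,4,2,3,5,4,3,6,2,3,1,2,3,6,2]) (.node (.word [1,2,3,5,4,3,1,2,3,6,5,3,1,2,0,1,3,2,3,2,1,5,6,3,2,5,3,2,1,3,6,2,3,2,3,6,4,3,1,2,3,5,2,3,0,1,3,6,3,4,2,3,5,4,3,6,2,3,1,2,3,6,2,1,2,3,5,4,3,1,2,3,6,5,3,1,2,0,3,6,3,4,2,3,5,4,3,6,2,3,1,2,3,6,2]) (.word [1,3,5,6,3,2,1,0,3,5,4,2,3,2,3,1,2,3,6,5,2,5,6,3,2,1,0,3,5,4,2,3,2,3,1,2,3,6,5,2,5,6,3,2,1,0,3,5,4,2,3,2,3,1,2,3,6,5,2,6,3,4,2,3,5,4,3,6,2,3,1,2,3,6,2,3,2,3,2,1,5,6,3,2,5,3,2,1,3,6,2,3,2,3,6,4,3,1,2,3,5,2,3,0,1,3,6,3,4,2,3,5,4,3,6,2,3,1,2,3,6,2])))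 (.node (.word [1,0,2,3,2,6,3,2,1,0,5,3,4,2,3,2,3,5,1,2,3,6,2,3,2,1,3,2,3,2,1,5,6,3,2,5,3,2,1,3,6,2,3,2,3,6,4,3,1,2,3,5,2,3,0,1,3,5,6,3,2,1,0,3,5,4,2,3,2,3,1,2,3,6,5,2,3,2,3,5,4,3,1,2,3,6,5,3,1,2,0,3,6,3,4,2,3,5,4,3,6,2,3,1,2,3,6,2,1,3,6,3,4,2,3,5,4,3,6,2,3,1,2,3,6,2]) (.word [1,3,5,6,3,2,1,0,3,5,4,2,3,2,3,1,2,3,6,5,2,3,2,3,5,4,3,1,2,3,6,5,3,1,2,0,1,3,2,3,2,1,5,6,3,2,5,3,2,1,3,6,2,3,2,3,6,4,3,1,2,3,5,2,3,0,1,3,6,3,4,2,3,5,4,3,6,2,3,1,2,3,6,2,1,3,6,3,4,2,3,5,4,3,6,2,3,1,2,3,6,2])))) (.node (.node (.node .none (.node (.word [1,0,2,3,2,6,3,2,1,0,5,3,4,2,3,2,3,5,1,2,3,6,2,3,2,1,3,2,3,2,1,5,6,3,2,5,3,2,1,3,6,2,3,2,3,6,4,3,1,2,3,5,2,3,0,3,2,3,2,1,5,6,3,2,5,3,2,1,3,6,2,3,2,3,6,4,3,1,2,3,5,2,3,0,1,3,6,3,4,2,3,5,4,3,6,2,3,1,2,3,6,2,1,2,3,5,4,3,1,2,3,6,5,3,1,2,0,3,6,3,4,2,3,5,4,3,6,2,3,1,2,3,6,2])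 (.word [1,3,5,6,3,2,1,0,3,5,4,2,3,2,3,1,2,3,6,5,2,6,3,4,2,3,5,4,3,6,2,3,1,2,3,6,2,1,3,5,6,3,2,1,0,3,5,4,2,3,2,3,1,2,3,6,5,2,5,6,3,2,1,0,3,5,4,2,3,2,3,1,2,3,6,5,2,6,3,4,2,3,5,4,3,6,2,3,1,2,3,6,2]))) (.node (.word [1,3,5,6,3,2,1,0,3,5,4,2,3,2,3,1,2,3,6,5,2,3,0,2,3,2,6,3,2,1,0,5,3,4,2,3,2,3,5,1,2,3,6,2,3,2,3,6,3,4,2,3,5,4,3,6,2,3,1,2,3,6,2,1,2,3,5,4,3,1,2,3,6,5,3,1,2,0,3,6,3,4,2,3,5,4,3,6,2,3,1,2,3,6,2]) (.word [0,1,3,2,1,3,4,5,3,2,1,6,3,4,2,3,2,3,6,3,1,2,3,5,2,3,2,3,5,4,3,1,2,3,6,5,3,1,2,0,1,3,2,3,2,1,5,6,3,2,5,3,2,1,3,6,2,3,2,3,6,4,3,1,2,3,5,2,3,0,1,3,6,3,4,2,3,5,4,3,6,2,3,1,2,3,6,2,1,3,6,3,4,2,3,5,4,3,6,2,3,1,2,3,6,2,1,3,6,3,4,2,3,5,4,3,6,2,3,1,2,3,6,2]))) (.node (.node (.node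 (.word [3,2,3,2,1,5,6,3,2,5,3,2,1,3,6,2,3,2,3,6,4,3,1,2,3,5,2,3,0,1,3,6,3,4,2,3,5,4,3,6,2,3,1,2,3,6,2,1,0,2,3,2,6,3,2,1,0,5,3,4,2,3,2,3,5,1,2,3,6,2,3,2,1,0,1,3,2,1,3,4,5,3,2,1,6,3,4,2,3,2,3,6,3,1,2,3,5,2,6,3,4,2,3,5,4,3,6,2,3,1,2,3,6,2]) (.word [1,2,3,5,4,3,1,2,3,6,5,3,1,2,0,3,5,6,3,2,1,0,3,5,4,2,3,2,3,1,2,3,6,5,2,6,3,4,2,3,5,4,3,6,2,3,1,2,3,6,2,1,3,6,3,4,2,3,5,4,3,6,2,3,1,2,3,6,2,0,1,3,2,1,3,4,5,3,2,1,6,3,4,2,3,2,3,6,3,1,2,3,5,2,6,3,4,2,3,5,4,3,6,2,3,1,2,3,6,2])) .none) (.word [0,1,3,2,1,3,4,5,3,2,1,6,3,4,2,3,2,3,6,3,1,2,3,5,2,3,1,3,2,3,2,1,5,6,3,2,5,3,2,1,3,6,2,3,2,3,6,4,3,1,2,3,5,2,3,1,3,2,1,3,4,5,3,2,1,6,3,4,2,3,2,3,6,3,1,2,3,5,2,6,3,4,2,3,5,4,3,6,2,3,1,2,3,6,2,1,3,6,3,4,2,3,5,4,3,6,2,3,1,2,3,6,2]))))))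

/-- A subtree. -/
def sub106 : WTree :=
  (.node (.node (.node (.node (.node (.node (.node .none (.word [1,3,5,6,3,2,1,0,3,5,4,2,3,2,3,1,2,3,6,5,2,3,2,3,5,4,3,1,2,3,6,5,3,1,2,0,2,3,5,4,3,1,2,3,6,5,3,1,2,0,1,3,2,3,2,1,5,6,3,2,5,3,2,1,3,6,2,3,2,3,6,4,3,1,2,3,5,2,3,0,1,2,3,5,4,3,1,2,3,6,5,3,1,2,0,3,6,3,4,2,3,5,4,3,6,2,3,1,2,3,6,2])) (.word [3,2,3,2,1,5,6,3,2,5,3,2,1,3,6,2,3,2,3,6,4,3,1,2,3,5,2,3,0,1,2,3,5,4,3,1,2,3,6,5,3,1,2,0,1,3,2,3,2,1,5,6,3,2,5,3,2,1,3,6,2,3,2,3,6,4,3,1,2,3,5,2,3,0,1,3,6,3,4,2,3,5,4,3,6,2,3,1,2,3,6,2,1,2,3,5,4,3,1,2,3,6,5,3,1,2,0,1])) (.node (.node (.word [1,2,3,5,4,3,1,2,3,6,5,3,1,3,2,6,3,2,1,0,5,3,4,2,3,2,3,5,1,2,3,6,2,3,2,3,6,3,4,2,3,5,4,3,6,2,3,1,2,3,6,2,1,0,2,3,2,6,3,2,1,0,5,3,4,2,3,2,3,5,1,2,3,6,2,5,4,3,1,2,3,6,5,3,1,2,0,1])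 (.word [1,3,6,3,4,2,3,5,4,3,6,2,3,1,2,3,6,2,3,2,3,2,1,5,6,3,2,5,3,2,1,3,6,2,3,2,3,6,4,3,1,2,3,5,2,3,1,3,2,1,3,4,5,3,2,1,6,3,4,2,3,2,3,6,3,1,2,3,5,2,3,2,3,5,4,3,1,2,3,6,5,3,1,2,0,3,5,6,3,2,1,0,3,5,4,2,3,2,3,1,2,3,6,5,2,6,3,4,2,3,5,4,3,6,2,3,1,2,3,6,2])) (.node .none (.word [3,2,3,2,1,5,6,3,2,5,3,2,1,3,6,2,3,2,3,6,4,3,1,2,3,5,2,3,1,3,2,1,3,4,5,3,2,1,6,3,4,2,3,2,3,6,3,1,2,3,5,2,5,6,3,2,1,0,3,5,4,2,3,2,3,1,2,3,6,5,2,6,3,4,2,3,5,4,3,6,2,3,1,2,3,6,2,1,2,3,5,4,3,1,2,3,6,5,3,1,2,0,1])))) (.node (.node (.node (.word [1,3,6,3,4,2,3,5,4,3,6,2,3,1,2,3,6,2,1,2,3,5,4,3,1,2,3,6,5,3,1,2,0,3,5,6,3,2,1,0,3,5,4,2,3,2,3,1,2,3,6,5,2,3,2,3,5,4,3,1,2,3,6,5,3,1,2,0,1]) (.word [1,2,3,5,4,3,1,2,3,6,5,3,1,2,0,3,5,6,3,2,1,0,3,5,4,2,3,2,3,1,2,3,6,5,2,3,1,3,2,3,2,1,5,6,3,2,5,3,2,1,3,6,2,3,2,3,6,4,3,1,2,3,5,2,3,0,1,3,5,6,3,2,1,0,3,5,4,2,3,2,3,1,2,3,6,5,2,6,3,4,2,3,5,4,3,6,2,3,1,2,3,6,2,1,3,6,3,4,2,3,5,4,3,6,2,3,1,2,3,6,2]))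 (.word [1,3,5,6,3,2,1,0,3,5,4,2,3,2,3,1,2,3,6,5,2,3,2,3,5,4,3,1,2,3,6,5,3,1,2,0,1,0,1,3,2,1,3,4,5,3,2,1,6,3,4,2,3,2,3,6,3,1,2,3,5,2,3,1,3,2,3,2,1,5,6,3,2,5,3,2,1,3,6,2,3,2,3,6,4,3,1,2,3,5,2,3,0,1,2,3,5,4,3,1,2,3,6,5,3,1,2,0,1])) (.node (.node .none (.word [1,3,6,3,4,2,3,5,4,3,6,2,3,1,2,3,6,2,3,2,3,2,1,5,6,3,2,5,3,2,1,3,6,2,3,2,3,6,4,3,1,2,3,5,2,3,0,1,3,6,3,4,2,3,5,4,3,6,2,3,1,2,3,6,2,0,1,3,2,1,3,4,5,3,2,1,6,3,4,2,3,2,3,6,3,1,2,3,5,2,3,1,0,1,3,2,1,3,4,5,3,2,1,6,3,4,2,3,2,3,6,3,1,2,3,5,2,6,3,4,2,3,5,4,3,6,2,3,1,2,3,6,2])) (.node (.word [1,3,5,6,3,2,1,0,3,5,4,2,3,2,3,1,2,3,6,5,2,5,6,3,2,1,0,3,5,4,2,3,2,3,1,2,3,6,5,2,6,3,4,2,3,5,4,3,6,2,3,1,2,3,6,2,1,3,6,3,4,2,3,5,4,3,6,2,3,1,2,3,6,2,0,1,3,2,1,3,4,5,3,2,1,6,3,4,2,3,2,3,6,3,1,2,3,5,2,6,3,4,2,3,5,4,3,6,2,3,1,2,3,6,2])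 (.word [1,3,6,3,4,2,3,5,4,3,6,2,3,1,2,3,6,2,1,3,5,6,3,2,1,0,3,5,4,2,3,2,3,1,2,3,6,5,2,3,2,3,5,4,3,1,2,3,6,5,3,1,2,0,1]))))) (.node (.node (.node (.node (.word [3,2,3,2,1,5,6,3,2,5,3,2,1,3,6,2,3,2,3,6,4,3,1,2,3,5,2,3,0,1,3,5,6,3,2,1,0,3,5,4,2,3,2,3,1,2,3,6,5,2,6,3,4,2,3,5,4,3,6,2,3,1,2,3,6,2,1,0,2,3,2,6,3,2,1,0,5,3,4,2,3,2,3,5,1,2,3,6,2,3,2,3,6,3,4,2,3,5,4,3,6,2,3,1,2,3,6,2]) (.word [0,1,3,2,1,3,4,5,3,2,1,6,3,4,2,3,2,3,6,3,1,2,3,5,2,6,3,4,2,3,5,4,3,6,2,3,1,2,3,6,2,1,2,3,5,4,3,1,2,3,6,5,3,1,2,0,3,6,3,4,2,3,5,4,3,6,2,3,1,2,3,6,2,1,3,6,3,4,2,3,5,4,3,6,2,3,1,2,3,6,2])) (.node (.word [3,2,3,2,1,5,6,3,2,5,3,2,1,3,6,2,3,2,3,6,4,3,1,2,3,5,2,3,0,1,0,2,3,2,6,3,2,1,0,5,3,4,2,3,2,3,5,1,2,3,6,2,5,4,3,1,2,3,6,5,3,1,2,0,1,0,1,3,2,1,3,4,5,3,2,1,6,3,4,2,3,2,3,6,3,1,2,3,5,2,3,2,3,5,4,3,1,2,3,6,5,3,1,2,0,1])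 (.word [0,1,3,2,1,3,4,5,3,2,1,6,3,4,2,3,2,3,6,3,1,2,3,5,2,6,3,4,2,3,5,4,3,6,2,3,1,2,3,6,2,3,2,3,2,1,5,6,3,2,5,3,2,1,3,6,2,3,2,3,6,4,3,1,2,3,5,2,3,0,1,3,5,6,3,2,1,0,3,5,4,2,3,2,3,1,2,3,6,5,2,6,3,4,2,3,5,4,3,6,2,3,1,2,3,6,2]))) (.node (.node (.word [3,2,3,2,1,5,6,3,2,5,3,2,1,3,6,2,3,2,3,6,4,3,1,2,3,5,2,3,0,1,3,6,3,4,2,3,5,4,3,6,2,3,1,2,3,6,2,1,3,5,6,3,2,1,0,3,5,4,2,3,2,3,1,2,3,6,5,2,5,6,3,2,1,0,3,5,4,2,3,2,3,1,2,3,6,5,2,6,3,4,2,3,5,4,3,6,2,3,1,2,3,6,2]) (.word [1,2,3,5,4,3,1,2,3,6,5,3,1,2,0,3,6,3,4,2,3,5,4,3,6,2,3,1,2,3,6,2,0,1,3,2,1,3,4,5,3,2,1,6,3,4,2,3,2,3,6,3,1,2,3,5,2,3,2,3,5,4,3,1,2,3,6,5,3,1,2,0,3,6,3,4,2,3,5,4,3,6,2,3,1,2,3,6,2,1,3,6,3,4,2,3,5,4,3,6,2,3,1,2,3,6,2])) (.node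 .none (.word [3,2,3,2,1,5,6,3,2,5,3,2,1,3,6,2,3,2,3,6,4,3,1,2,3,5,2,3,1,3,2,1,3,4,5,3,2,1,6,3,4,2,3,2,3,6,3,1,2,3,5,2,6,3,4,2,3,5,4,3,6,2,3,1,2,3,6,2,3,2,3,2,1,5,6,3,2,5,3,2,1,3,6,2,3,2,3,6,4,3,1,2,3,5,2,3,0,1,3,6,3,4,2,3,5,4,3,6,2,3,1,2,3,6,2])))) (.node (.node .none (.word [1,2,3,5,4,3,1,2,3,6,5,3,1,3,2,6,3,2,1,0,5,3,4,2,3,2,3,5,1,2,3,6,2,3,2,1,3,2,3,2,1,5,6,3,2,5,3,2,1,3,6,2,3,2,3,6,4,3,1,2,3,5,2,3,1,3,2,1,3,4,5,3,2,1,6,3,4,2,3,2,3,6,3,1,2,3,5,2,6,3,4,2,3,5,4,3,6,2,3,1,2,3,6,2])) (.node (.node (.word [1,0,2,3,2,6,3,2,1,0,5,3,4,2,3,2,3,5,1,2,3,6,2,3,2,1,3,2,3,2,1,5,6,3,2,5,3,2,1,3,6,2,3,2,3,6,4,3,1,2,3,5,2,3,1,3,2,1,3,4,5,3,2,1,6,3,4,2,3,2,3,6,3,1,2,3,5,2,5,6,3,2,1,0,3,5,4,2,3,2,3,1,2,3,6,5,2,6,3,4,2,3,5,4,3,6,2,3,1,2,3,6,2])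 (.word [1,2,3,5,4,3,1,2,3,6,5,3,1,2,0,1,3,2,3,2,1,5,6,3,2,5,3,2,1,3,6,2,3,2,3,6,4,3,1,2,3,5,2,3,0,1,2,3,5,4,3,1,2,3,6,5,3,1,3,2,6,3,2,1,0,5,3,4,2,3,2,3,5,1,2,3,6,2,3,2,3,6,3,4,2,3,5,4,3,6,2,3,1,2,3,6,2])) (.node .none (.word [1,3,6,3,4,2,3,5,4,3,6,2,3,1,2,3,6,2,1,3,5,6,3,2,1,0,3,5,4,2,3,2,3,1,2,3,6,5,2,3,1,0,1,3,2,1,3,4,5,3,2,1,6,3,4,2,3,2,3,6,3,1,2,3,5,2,3,2,3,5,4,3,1,2,3,6,5,3,1,2,0,3,6,3,4,2,3,5,4,3,6,2,3,1,2,3,6,2])))))) (.node (.node (.node (.node (.node .none (.word [1,2,3,5,4,3,1,2,3,6,5,3,1,2,0,3,6,3,4,2,3,5,4,3,6,2,3,1,2,3,6,2,3,2,3,2,1,5,6,3,2,5,3,2,1,3,6,2,3,2,3,6,4,3,1,2,3,5,2,3,0,1,3,6,3,4,2,3,5,4,3,6,2,3,1,2,3,6,2,1,3,6,3,4,2,3,5,4,3,6,2,3,1,2,3,6,2])) (.node (.word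 [1,2,3,5,4,3,1,2,3,6,5,3,1,2,0,1,0,1,3,2,1,3,4,5,3,2,1,6,3,4,2,3,2,3,6,3,1,2,3,5,2,3,1,3,2,3,2,1,5,6,3,2,5,3,2,1,3,6,2,3,2,3,6,4,3,1,2,3,5,2,3,0,1,2,3,5,4,3,1,2,3,6,5,3,1,2,0,1]) (.word [1,2,3,5,4,3,1,2,3,6,5,3,1,2,0,3,5,6,3,2,1,0,3,5,4,2,3,2,3,1,2,3,6,5,2,3,0,2,3,2,6,3,2,1,0,5,3,4,2,3,2,3,5,1,2,3,6,2,5,4,3,1,2,3,6,5,3,1,2,0,3,6,3,4,2,3,5,4,3,6,2,3,1,2,3,6,2,1,3,6,3,4,2,3,5,4,3,6,2,3,1,2,3,6,2]))) (.node (.node (.word [1,0,2,3,2,6,3,2,1,0,5,3,4,2,3,2,3,5,1,2,3,6,2,3,2,3,5,6,3,2,1,0,3,5,4,2,3,2,3,1,2,3,6,5,2,3,2,3,5,4,3,1,2,3,6,5,3,1,2,0,1,0,1,3,2,1,3,4,5,3,2,1,6,3,4,2,3,2,3,6,3,1,2,3,5,2,3,2,3,5,4,3,1,2,3,6,5,3,1,2,0,1]) (.word [3,2,3,2,1,5,6,3,2,5,3,2,1,3,6,2,3,2,3,6,4,3,1,2,3,5,2,3,0,1,3,6,3,4,2,3,5,4,3,6,2,3,1,2,3,6,2,1,3,6,3,4,2,3,5,4,3,6,2,3,1,2,3,6,2,3,2,3,2,1,5,6,3,2,5,3,2,1,3,6,2,3,2,3,6,4,3,1,2,3,5,2,3,0,1,3,6,3,4,2,3,5,4,3,6,2,3,1,2,3,6,2]))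 (.node (.word [1,0,2,3,2,6,3,2,1,0,5,3,4,2,3,2,3,5,1,2,3,6,2,3,2,1,0,1,3,2,1,3,4,5,3,2,1,6,3,4,2,3,2,3,6,3,1,2,3,5,2,3,1,0,1,3,2,1,3,4,5,3,2,1,6,3,4,2,3,2,3,6,3,1,2,3,5,2,3,1,3,2,3,2,1,5,6,3,2,5,3,2,1,3,6,2,3,2,3,6,4,3,1,2,3,5,2,3,0,1,3,6,3,4,2,3,5,4,3,6,2,3,1,2,3,6,2,1,3,6,3,4,2,3,5,4,3,6,2,3,1,2,3,6,2]) (.word [0,1,3,2,1,3,4,5,3,2,1,6,3,4,2,3,2,3,6,3,1,2,3,5,2,5,6,3,2,1,0,3,5,4,2,3,2,3,1,2,3,6,5,2,3,0,2,3,2,6,3,2,1,0,5,3,4,2,3,2,3,5,1,2,3,6,2,3,2,1,3,2,3,2,1,5,6,3,2,5,3,2,1,3,6,2,3,2,3,6,4,3,1,2,3,5,2,3,0,1,2,3,5,4,3,1,2,3,6,5,3,1,2,0,1])))) (.node (.node .none (.node (.word [1,2,3,5,4,3,1,2,3,6,5,3,1,2,0,3,6,3,4,2,3,5,4,3,6,2,3,1,2,3,6,2,0,1,3,2,1,3,4,5,3,2,1,6,3,4,2,3,2,3,6,3,1,2,3,5,2,3,1,3,2,3,2,1,5,6,3,2,5,3,2,1,3,6,2,3,2,3,6,4,3,1,2,3,5,2,3,0,1,2,3,5,4,3,1,2,3,6,5,3,1,2,0,1])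 (.word [0,1,3,2,1,3,4,5,3,2,1,6,3,4,2,3,2,3,6,3,1,2,3,5,2,3,1,3,2,3,2,1,5,6,3,2,5,3,2,1,3,6,2,3,2,3,6,4,3,1,2,3,5,2,3,0,1,3,6,3,4,2,3,5,4,3,6,2,3,1,2,3,6,2,1,0,2,3,2,6,3,2,1,0,5,3,4,2,3,2,3,5,1,2,3,6,2,5,4,3,1,2,3,6,5,3,1,2,0,1]))) (.node (.node (.word [3,2,3,2,1,5,6,3,2,5,3,2,1,3,6,2,3,2,3,6,4,3,1,2,3,5,2,3,0,1,3,5,6,3,2,1,0,3,5,4,2,3,2,3,1,2,3,6,5,2,6,3,4,2,3,5,4,3,6,2,3,1,2,3,6,2,3,2,3,2,1,5,6,3,2,5,3,2,1,3,6,2,3,2,3,6,4,3,1,2,3,5,2,3,0,1,3,6,3,4,2,3,5,4,3,6,2,3,1,2,3,6,2]) (.word [1,3,6,3,4,2,3,5,4,3,6,2,3,1,2,3,6,2,1,3,5,6,3,2,1,0,3,5,4,2,3,2,3,1,2,3,6,5,2,6,3,4,2,3,5,4,3,6,2,3,1,2,3,6,2,0,1,3,2,1,3,4,5,3,2,1,6,3,4,2,3,2,3,6,3,1,2,3,5,2,3,1,3,2,3,2,1,5,6,3,2,5,3,2,1,3,6,2,3,2,3,6,4,3,1,2,3,5,2,3,0,1,3,6,3,4,2,3,5,4,3,6,2,3,1,2,3,6,2]))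 (.node .none (.word [1,2,3,5,4,3,1,2,3,6,5,3,1,2,0,3,5,6,3,2,1,0,3,5,4,2,3,2,3,1,2,3,6,5,2,3,0,2,3,2,6,3,2,1,0,5,3,4,2,3,2,3,5,1,2,3,6,2,3,2,3,6,3,4,2,3,5,4,3,6,2,3,1,2,3,6,2,3,2,3,2,1,5,6,3,2,5,3,2,1,3,6,2,3,2,3,6,4,3,1,2,3,5,2,3,0,1,3,6,3,4,2,3,5,4,3,6,2,3,1,2,3,6,2]))))) (.node (.node (.node (.node (.word [1,2,3,5,4,3,1,2,3,6,5,3,1,2,0,1,3,2,3,2,1,5,6,3,2,5,3,2,1,3,6,2,3,2,3,6,4,3,1,2,3,5,2,3,0,1,3,6,3,4,2,3,5,4,3,6,2,3,1,2,3,6,2,3,2,3,2,1,5,6,3,2,5,3,2,1,3,6,2,3,2,3,6,4,3,1,2,3,5,2,3,0,1,3,6,3,4,2,3,5,4,3,6,2,3,1,2,3,6,2]) (.word [3,2,3,2,1,5,6,3,2,5,3,2,1,3,6,2,3,2,3,6,4,3,1,2,3,5,2,3,0,1,3,6,3,4,2,3,5,4,3,6,2,3,1,2,3,6,2,1,2,3,5,4,3,1,2,3,6,5,3,1,2,0,2,3,5,4,3,1,2,3,6,5,3,1,2,0,1]))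 (.node (.word [3,2,3,2,1,5,6,3,2,5,3,2,1,3,6,2,3,2,3,6,4,3,1,2,3,5,2,3,0,1,0,2,3,2,6,3,2,1,0,5,3,4,2,3,2,3,5,1,2,3,6,2,3,2,1,3,2,3,2,1,5,6,3,2,5,3,2,1,3,6,2,3,2,3,6,4,3,1,2,3,5,2,3,0,1,3,6,3,4,2,3,5,4,3,6,2,3,1,2,3,6,2,1,2,3,5,4,3,1,2,3,6,5,3,1,2,0,1]) (.word [0,1,3,2,1,3,4,5,3,2,1,6,3,4,2,3,2,3,6,3,1,2,3,5,2,6,3,4,2,3,5,4,3,6,2,3,1,2,3,6,2,3,2,3,2,1,5,6,3,2,5,3,2,1,3,6,2,3,2,3,6,4,3,1,2,3,5,2,3,1,3,2,1,3,4,5,3,2,1,6,3,4,2,3,2,3,6,3,1,2,3,5,2,6,3,4,2,3,5,4,3,6,2,3,1,2,3,6,2]))) (.node (.node .none (.word [1,3,6,3,4,2,3,5,4,3,6,2,3,1,2,3,6,2,3,2,3,2,1,5,6,3,2,5,3,2,1,3,6,2,3,2,3,6,4,3,1,2,3,5,2,3,0,1,3,6,3,4,2,3,5,4,3,6,2,3,1,2,3,6,2,1,3,6,3,4,2,3,5,4,3,6,2,3,1,2,3,6,2,1,3,6,3,4,2,3,5,4,3,6,2,3,1,2,3,6,2]))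 (.node (.word [3,2,3,2,1,5,6,3,2,5,3,2,1,3,6,2,3,2,3,6,4,3,1,2,3,5,2,3,1,3,2,1,3,4,5,3,2,1,6,3,4,2,3,2,3,6,3,1,2,3,5,2,3,2,3,5,4,3,1,2,3,6,5,3,1,2,0,3,6,3,4,2,3,5,4,3,6,2,3,1,2,3,6,2]) (.word [1,3,5,6,3,2,1,0,3,5,4,2,3,2,3,1,2,3,6,5,2,3,1,0,1,3,2,1,3,4,5,3,2,1,6,3,4,2,3,2,3,6,3,1,2,3,5,2,3,2,3,5,4,3,1,2,3,6,5,3,1,2,0,3,5,6,3,2,1,0,3,5,4,2,3,2,3,1,2,3,6,5,2,3,2,3,5,4,3,1,2,3,6,5,3,1,2,0,1])))) (.node (.node (.word [1,3,5,6,3,2,1,0,3,5,4,2,3,2,3,1,2,3,6,5,2,6,3,4,2,3,5,4,3,6,2,3,1,2,3,6,2,1,0,2,3,2,6,3,2,1,0,5,3,4,2,3,2,3,5,1,2,3,6,2,3,2,3,6,3,4,2,3,5,4,3,6,2,3,1,2,3,6,2,1,3,6,3,4,2,3,5,4,3,6,2,3,1,2,3,6,2]) (.word [0,1,3,2,1,3,4,5,3,2,1,6,3,4,2,3,2,3,6,3,1,2,3,5,2,3,1,0,1,3,2,1,3,4,5,3,2,1,6,3,4,2,3,2,3,6,3,1,2,3,5,2,3,0,2,3,2,6,3,2,1,0,5,3,4,2,3,2,3,5,1,2,3,6,2,3,2,3,6,3,4,2,3,5,4,3,6,2,3,1,2,3,6,2]))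 (.node (.node (.word [1,3,6,3,4,2,3,5,4,3,6,2,3,1,2,3,6,2,3,2,3,2,1,5,6,3,2,5,3,2,1,3,6,2,3,2,3,6,4,3,1,2,3,5,2,3,0,1,2,3,5,4,3,1,2,3,6,5,3,1,2,0,2,3,5,4,3,1,2,3,6,5,3,1,2,0,1]) (.word [0,1,3,2,1,3,4,5,3,2,1,6,3,4,2,3,2,3,6,3,1,2,3,5,2,3,2,3,5,4,3,1,2,3,6,5,3,1,3,2,6,3,2,1,0,5,3,4,2,3,2,3,5,1,2,3,6,2,3,2,3,5,6,3,2,1,0,3,5,4,2,3,2,3,1,2,3,6,5,2,6,3,4,2,3,5,4,3,6,2,3,1,2,3,6,2,1,3,6,3,4,2,3,5,4,3,6,2,3,1,2,3,6,2])) (.node (.word [1,0,2,3,2,6,3,2,1,0,5,3,4,2,3,2,3,5,1,2,3,6,2,3,2,3,5,6,3,2,1,0,3,5,4,2,3,2,3,1,2,3,6,5,2,6,3,4,2,3,5,4,3,6,2,3,1,2,3,6,2]) (.word [1,0,2,3,2,6,3,2,1,0,5,3,4,2,3,2,3,5,1,2,3,6,2,3,2,3,6,3,4,2,3,5,4,3,6,2,3,1,2,3,6,2,1,3,5,6,3,2,1,0,3,5,4,2,3,2,3,1,2,3,6,5,2,3,1,0,1,3,2,1,3,4,5,3,2,1,6,3,4,2,3,2,3,6,3,1,2,3,5,2,3,2,3,5,4,3,1,2,3,6,5,3,1,2,0,1])))))))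 (.node (.node (.node (.node (.node (.node (.word [3,2,3,2,1,5,6,3,2,5,3,2,1,3,6,2,3,2,3,6,4,3,1,2,3,5,2,3,0,1,0,2,3,2,6,3,2,1,0,5,3,4,2,3,2,3,5,1,2,3,6,2,5,4,3,1,2,3,6,5,3,1,2,0,1]) (.word [1,3,6,3,4,2,3,5,4,3,6,2,3,1,2,3,6,2,1,3,5,6,3,2,1,0,3,5,4,2,3,2,3,1,2,3,6,5,2,3,1,3,2,3,2,1,5,6,3,2,5,3,2,1,3,6,2,3,2,3,6,4,3,1,2,3,5,2,3,0,1,3,6,3,4,2,3,5,4,3,6,2,3,1,2,3,6,2,1,3,6,3,4,2,3,5,4,3,6,2,3,1,2,3,6,2])) (.node (.word [1,3,5,6,3,2,1,0,3,5,4,2,3,2,3,1,2,3,6,5,2,3,1,0,1,3,2,1,3,4,5,3,2,1,6,3,4,2,3,2,3,6,3,1,2,3,5,2,3,2,3,5,4,3,1,2,3,6,5,3,1,2,0,2,3,5,4,3,1,2,3,6,5,3,1,2,0,3,6,3,4,2,3,5,4,3,6,2,3,1,2,3,6,2]) (.word [1,0,2,3,2,6,3,2,1,0,5,3,4,2,3,2,3,5,1,2,3,6,2,3,2,1,0,1,3,2,1,3,4,5,3,2,1,6,3,4,2,3,2,3,6,3,1,2,3,5,2,3,2,3,5,4,3,1,2,3,6,5,3,1,2,0,1])))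 (.node (.word [0,1,3,2,1,3,4,5,3,2,1,6,3,4,2,3,2,3,6,3,1,2,3,5,2,5,6,3,2,1,0,3,5,4,2,3,2,3,1,2,3,6,5,2,6,3,4,2,3,5,4,3,6,2,3,1,2,3,6,2,1,3,6,3,4,2,3,5,4,3,6,2,3,1,2,3,6,2]) (.node .none (.word [0,1,3,2,1,3,4,5,3,2,1,6,3,4,2,3,2,3,6,3,1,2,3,5,2,3,2,3,5,4,3,1,2,3,6,5,3,1,3,2,6,3,2,1,0,5,3,4,2,3,2,3,5,1,2,3,6,2,3,2,3,6,3,4,2,3,5,4,3,6,2,3,1,2,3,6,2,1,2,3,5,4,3,1,2,3,6,5,3,1,2,0,1])))) (.node (.node (.node (.word [1,3,6,3,4,2,3,5,4,3,6,2,3,1,2,3,6,2,0,1,3,2,1,3,4,5,3,2,1,6,3,4,2,3,2,3,6,3,1,2,3,5,2,3,1,3,2,3,2,1,5,6,3,2,5,3,2,1,3,6,2,3,2,3,6,4,3,1,2,3,5,2,3,0,1,3,6,3,4,2,3,5,4,3,6,2,3,1,2,3,6,2,1,2,3,5,4,3,1,2,3,6,5,3,1,2,0,1]) (.word [1,2,3,5,4,3,1,2,3,6,5,3,1,2,0,3,5,6,3,2,1,0,3,5,4,2,3,2,3,1,2,3,6,5,2,3,1,0,1,3,2,1,3,4,5,3,2,1,6,3,4,2,3,2,3,6,3,1,2,3,5,2,5,6,3,2,1,0,3,5,4,2,3,2,3,1,2,3,6,5,2,3,2,3,5,4,3,1,2,3,6,5,3,1,2,0,1]))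 (.node (.word [1,2,3,5,4,3,1,2,3,6,5,3,1,2,0,3,6,3,4,2,3,5,4,3,6,2,3,1,2,3,6,2,1,3,6,3,4,2,3,5,4,3,6,2,3,1,2,3,6,2,1,2,3,5,4,3,1,2,3,6,5,3,1,2,0,3,6,3,4,2,3,5,4,3,6,2,3,1,2,3,6,2]) (.word [1,3,5,6,3,2,1,0,3,5,4,2,3,2,3,1,2,3,6,5,2,3,2,3,5,4,3,1,2,3,6,5,3,1,2,0,2,3,5,4,3,1,2,3,6,5,3,1,2,0,1]))) (.node (.word [0,1,3,2,1,3,4,5,3,2,1,6,3,4,2,3,2,3,6,3,1,2,3,5,2,6,3,4,2,3,5,4,3,6,2,3,1,2,3,6,2,1,0,2,3,2,6,3,2,1,0,5,3,4,2,3,2,3,5,1,2,3,6,2,3,2,3,6,3,4,2,3,5,4,3,6,2,3,1,2,3,6,2]) (.node (.word [1,3,5,6,3,2,1,0,3,5,4,2,3,2,3,1,2,3,6,5,2,3,1,3,2,3,2,1,5,6,3,2,5,3,2,1,3,6,2,3,2,3,6,4,3,1,2,3,5,2,3,0,3,2,3,2,1,5,6,3,2,5,3,2,1,3,6,2,3,2,3,6,4,3,1,2,3,5,2,3,0,1,3,6,3,4,2,3,5,4,3,6,2,3,1,2,3,6,2,1,2,3,5,4,3,1,2,3,6,5,3,1,2,0,1])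 (.word [1,2,3,5,4,3,1,2,3,6,5,3,1,2,0,3,6,3,4,2,3,5,4,3,6,2,3,1,2,3,6,2,3,2,3,2,1,5,6,3,2,5,3,2,1,3,6,2,3,2,3,6,4,3,1,2,3,5,2,3,0,3,2,3,2,1,5,6,3,2,5,3,2,1,3,6,2,3,2,3,6,4,3,1,2,3,5,2,3,0,1,3,6,3,4,2,3,5,4,3,6,2,3,1,2,3,6,2]))))) (.node (.node (.node (.node (.word [1,2,3,5,4,3,1,2,3,6,5,3,1,2,0,3,5,6,3,2,1,0,3,5,4,2,3,2,3,1,2,3,6,5,2,6,3,4,2,3,5,4,3,6,2,3,1,2,3,6,2,1,3,5,6,3,2,1,0,3,5,4,2,3,2,3,1,2,3,6,5,2,6,3,4,2,3,5,4,3,6,2,3,1,2,3,6,2]) (.word [1,0,2,3,2,6,3,2,1,0,5,3,4,2,3,2,3,5,1,2,3,6,2,3,2,3,6,3,4,2,3,5,4,3,6,2,3,1,2,3,6,2,1,2,3,5,4,3,1,2,3,6,5,3,1,2,0,1,3,2,3,2,1,5,6,3,2,5,3,2,1,3,6,2,3,2,3,6,4,3,1,2,3,5,2,3,0,1,3,6,3,4,2,3,5,4,3,6,2,3,1,2,3,6,2])) (.node (.word [3,2,3,2,1,5,6,3,2,5,3,2,1,3,6,2,3,2,3,6,4,3,1,2,3,5,2,3,0,1,3,6,3,4,2,3,5,4,3,6,2,3,1,2,3,6,2,1,3,6,3,4,2,3,5,4,3,6,2,3,1,2,3,6,2,0,1,3,2,1,3,4,5,3,2,1,6,3,4,2,3,2,3,6,3,1,2,3,5,2,5,6,3,2,1,0,3,5,4,2,3,2,3,1,2,3,6,5,2,6,3,4,2,3,5,4,3,6,2,3,1,2,3,6,2])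 (.word [1,3,6,3,4,2,3,5,4,3,6,2,3,1,2,3,6,2,1,3,5,6,3,2,1,0,3,5,4,2,3,2,3,1,2,3,6,5,2,3,2,3,5,4,3,1,2,3,6,5,3,1,2,0,2,3,5,4,3,1,2,3,6,5,3,1,2,0,1]))) (.node (.word [1,3,5,6,3,2,1,0,3,5,4,2,3,2,3,1,2,3,6,5,2,3,0,2,3,2,6,3,2,1,0,5,3,4,2,3,2,3,5,1,2,3,6,2,3,2,1,0,1,3,2,1,3,4,5,3,2,1,6,3,4,2,3,2,3,6,3,1,2,3,5,2,6,3,4,2,3,5,4,3,6,2,3,1,2,3,6,2,1,3,6,3,4,2,3,5,4,3,6,2,3,1,2,3,6,2]) (.node .none (.word [1,3,5,6,3,2,1,0,3,5,4,2,3,2,3,1,2,3,6,5,2,3,1,3,2,3,2,1,5,6,3,2,5,3,2,1,3,6,2,3,2,3,6,4,3,1,2,3,5,2,3,0,1,2,3,5,4,3,1,2,3,6,5,3,1,2,0,3,5,6,3,2,1,0,3,5,4,2,3,2,3,1,2,3,6,5,2,6,3,4,2,3,5,4,3,6,2,3,1,2,3,6,2])))) (.node (.node (.node .none (.word [1,3,6,3,4,2,3,5,4,3,6,2,3,1,2,3,6,2,1,3,5,6,3,2,1,0,3,5,4,2,3,2,3,1,2,3,6,5,2,6,3,4,2,3,5,4,3,6,2,3,1,2,3,6,2,1,0,2,3,2,6,3,2,1,0,5,3,4,2,3,2,3,5,1,2,3,6,2,5,4,3,1,2,3,6,5,3,1,2,0,1]))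 (.node .none (.word [1,3,5,6,3,2,1,0,3,5,4,2,3,2,3,1,2,3,6,5,2,3,2,3,5,4,3,1,2,3,6,5,3,1,2,0,1,3,2,3,2,1,5,6,3,2,5,3,2,1,3,6,2,3,2,3,6,4,3,1,2,3,5,2,3,0,1,3,6,3,4,2,3,5,4,3,6,2,3,1,2,3,6,2,3,2,3,2,1,5,6,3,2,5,3,2,1,3,6,2,3,2,3,6,4,3,1,2,3,5,2,3,0,1,3,6,3,4,2,3,5,4,3,6,2,3,1,2,3,6,2]))) (.node (.node (.word [0,1,3,2,1,3,4,5,3,2,1,6,3,4,2,3,2,3,6,3,1,2,3,5,2,3,2,3,5,4,3,1,2,3,6,5,3,1,2,0,2,3,5,4,3,1,2,3,6,5,3,1,2,0,3,5,6,3,2,1,0,3,5,4,2,3,2,3,1,2,3,6,5,2,6,3,4,2,3,5,4,3,6,2,3,1,2,3,6,2,1,3,6,3,4,2,3,5,4,3,6,2,3,1,2,3,6,2]) (.word [3,2,3,2,1,5,6,3,2,5,3,2,1,3,6,2,3,2,3,6,4,3,1,2,3,5,2,3,0,3,2,3,2,1,5,6,3,2,5,3,2,1,3,6,2,3,2,3,6,4,3,1,2,3,5,2,3,0,1,2,3,5,4,3,1,2,3,6,5,3,1,2,0,3,6,3,4,2,3,5,4,3,6,2,3,1,2,3,6,2,1,3,6,3,4,2,3,5,4,3,6,2,3,1,2,3,6,2]))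 (.node .none (.word [3,2,3,2,1,5,6,3,2,5,3,2,1,3,6,2,3,2,3,6,4,3,1,2,3,5,2,3,0,3,2,3,2,1,5,6,3,2,5,3,2,1,3,6,2,3,2,3,6,4,3,1,2,3,5,2,3,0,1,2,3,5,4,3,1,2,3,6,5,3,1,2,0,3,6,3,4,2,3,5,4,3,6,2,3,1,2,3,6,2,1,3,5,6,3,2,1,0,3,5,4,2,3,2,3,1,2,3,6,5,2,6,3,4,2,3,5,4,3,6,2,3,1,2,3,6,2])))))) (.node (.node (.node (.node .none (.word [1,3,6,3,4,2,3,5,4,3,6,2,3,1,2,3,6,2,1,3,5,6,3,2,1,0,3,5,4,2,3,2,3,1,2,3,6,5,2,5,6,3,2,1,0,3,5,4,2,3,2,3,1,2,3,6,5,2,3,2,3,5,4,3,1,2,3,6,5,3,1,2,0,1,3,2,3,2,1,5,6,3,2,5,3,2,1,3,6,2,3,2,3,6,4,3,1,2,3,5,2,3,0,1,3,6,3,4,2,3,5,4,3,6,2,3,1,2,3,6,2])) (.node (.node .none (.word [1,2,3,5,4,3,1,2,3,6,5,3,1,2,0,3,6,3,4,2,3,5,4,3,6,2,3,1,2,3,6,2,3,2,3,2,1,5,6,3,2,5,3,2,1,3,6,2,3,2,3,6,4,3,1,2,3,5,2,3,0,3,2,3,2,1,5,6,3,2,5,3,2,1,3,6,2,3,2,3,6,4,3,1,2,3,5,2,3,0,1,2,3,5,4,3,1,2,3,6,5,3,1,2,0,1]))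 .none)) (.node (.node (.node (.word [1,2,3,5,4,3,1,2,3,6,5,3,1,3,2,6,3,2,1,0,5,3,4,2,3,2,3,5,1,2,3,6,2,3,2,3,6,3,4,2,3,5,4,3,6,2,3,1,2,3,6,2,0,1,3,2,1,3,4,5,3,2,1,6,3,4,2,3,2,3,6,3,1,2,3,5,2,3,2,3,5,4,3,1,2,3,6,5,3,1,2,0,3,6,3,4,2,3,5,4,3,6,2,3,1,2,3,6,2]) (.word [3,2,3,2,1,5,6,3,2,5,3,2,1,3,6,2,3,2,3,6,4,3,1,2,3,5,2,3,0,3,2,3,2,1,5,6,3,2,5,3,2,1,3,6,2,3,2,3,6,4,3,1,2,3,5,2,3,0,3,2,3,2,1,5,6,3,2,5,3,2,1,3,6,2,3,2,3,6,4,3,1,2,3,5,2,3,0,1,2,3,5,4,3,1,2,3,6,5,3,1,2,0,2,3,5,4,3,1,2,3,6,5,3,1,2,0,1])) (.node .none (.word [1,3,6,3,4,2,3,5,4,3,6,2,3,1,2,3,6,2,1,3,5,6,3,2,1,0,3,5,4,2,3,2,3,1,2,3,6,5,2,3,2,3,5,4,3,1,2,3,6,5,3,1,2,0,3,6,3,4,2,3,5,4,3,6,2,3,1,2,3,6,2]))) (.node (.node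 .none (.word [1,0,2,3,2,6,3,2,1,0,5,3,4,2,3,2,3,5,1,2,3,6,2,5,4,3,1,2,3,6,5,3,1,2,0,2,3,5,4,3,1,2,3,6,5,3,1,2,0,3,5,6,3,2,1,0,3,5,4,2,3,2,3,1,2,3,6,5,2,6,3,4,2,3,5,4,3,6,2,3,1,2,3,6,2,1,3,6,3,4,2,3,5,4,3,6,2,3,1,2,3,6,2])) (.node (.word [1,2,3,5,4,3,1,2,3,6,5,3,1,2,0,1,0,1,3,2,1,3,4,5,3,2,1,6,3,4,2,3,2,3,6,3,1,2,3,5,2,3,2,3,5,4,3,1,2,3,6,5,3,1,2,0,3,6,3,4,2,3,5,4,3,6,2,3,1,2,3,6,2,1,3,6,3,4,2,3,5,4,3,6,2,3,1,2,3,6,2]) (.word [1,2,3,5,4,3,1,2,3,6,5,3,1,2,0,1,0,1,3,2,1,3,4,5,3,2,1,6,3,4,2,3,2,3,6,3,1,2,3,5,2,3,2,3,5,4,3,1,2,3,6,5,3,1,2,0,3,6,3,4,2,3,5,4,3,6,2,3,1,2,3,6,2,1,2,3,5,4,3,1,2,3,6,5,3,1,2,0,3,6,3,4,2,3,5,4,3,6,2,3,1,2,3,6,2]))))) (.node (.node (.node (.node (.word [1,0,2,3,2,6,3,2,1,0,5,3,4,2,3,2,3,5,1,2,3,6,2,3,2,1,3,2,3,2,1,5,6,3,2,5,3,2,1,3,6,2,3,2,3,6,4,3,1,2,3,5,2,3,0,1,2,3,5,4,3,1,2,3,6,5,3,1,2,0,2,3,5,4,3,1,2,3,6,5,3,1,2,0,3,6,3,4,2,3,5,4,3,6,2,3,1,2,3,6,2])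 (.word [0,1,3,2,1,3,4,5,3,2,1,6,3,4,2,3,2,3,6,3,1,2,3,5,2,5,6,3,2,1,0,3,5,4,2,3,2,3,1,2,3,6,5,2,3,2,3,5,4,3,1,2,3,6,5,3,1,2,0,2,3,5,4,3,1,2,3,6,5,3,1,2,0,1])) (.node .none (.word [1,2,3,5,4,3,1,2,3,6,5,3,1,2,0,2,3,5,4,3,1,2,3,6,5,3,1,3,2,6,3,2,1,0,5,3,4,2,3,2,3,5,1,2,3,6,2,3,2,1,0,1,3,2,1,3,4,5,3,2,1,6,3,4,2,3,2,3,6,3,1,2,3,5,2,6,3,4,2,3,5,4,3,6,2,3,1,2,3,6,2]))) (.node (.node .none (.word [1,2,3,5,4,3,1,2,3,6,5,3,1,2,0,3,6,3,4,2,3,5,4,3,6,2,3,1,2,3,6,2,0,1,3,2,1,3,4,5,3,2,1,6,3,4,2,3,2,3,6,3,1,2,3,5,2,6,3,4,2,3,5,4,3,6,2,3,1,2,3,6,2,1,3,6,3,4,2,3,5,4,3,6,2,3,1,2,3,6,2])) (.node (.word [3,2,3,2,1,5,6,3,2,5,3,2,1,3,6,2,3,2,3,6,4,3,1,2,3,5,2,3,0,1,0,2,3,2,6,3,2,1,0,5,3,4,2,3,2,3,5,1,2,3,6,2,3,2,3,6,3,4,2,3,5,4,3,6,2,3,1,2,3,6,2,1,2,3,5,4,3,1,2,3,6,5,3,1,2,0,2,3,5,4,3,1,2,3,6,5,3,1,2,0,3,6,3,4,2,3,5,4,3,6,2,3,1,2,3,6,2])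 (.word [0,1,3,2,1,3,4,5,3,2,1,6,3,4,2,3,2,3,6,3,1,2,3,5,2,3,2,3,5,4,3,1,2,3,6,5,3,1,2,0,3,6,3,4,2,3,5,4,3,6,2,3,1,2,3,6,2,1,0,2,3,2,6,3,2,1,0,5,3,4,2,3,2,3,5,1,2,3,6,2,3,2,3,6,3,4,2,3,5,4,3,6,2,3,1,2,3,6,2])))) (.node (.node (.node (.word [3,2,3,2,1,5,6,3,2,5,3,2,1,3,6,2,3,2,3,6,4,3,1,2,3,5,2,3,0,1,3,6,3,4,2,3,5,4,3,6,2,3,1,2,3,6,2,0,1,3,2,1,3,4,5,3,2,1,6,3,4,2,3,2,3,6,3,1,2,3,5,2,3,2,3,5,4,3,1,2,3,6,5,3,1,2,0,1]) (.word [3,2,3,2,1,5,6,3,2,5,3,2,1,3,6,2,3,2,3,6,4,3,1,2,3,5,2,3,0,1,2,3,5,4,3,1,2,3,6,5,3,1,2,0,2,3,5,4,3,1,2,3,6,5,3,1,2,0,3,5,6,3,2,1,0,3,5,4,2,3,2,3,1,2,3,6,5,2,6,3,4,2,3,5,4,3,6,2,3,1,2,3,6,2,1,3,6,3,4,2,3,5,4,3,6,2,3,1,2,3,6,2])) (.node (.word [1,2,3,5,4,3,1,2,3,6,5,3,1,2,0,3,5,6,3,2,1,0,3,5,4,2,3,2,3,1,2,3,6,5,2,6,3,4,2,3,5,4,3,6,2,3,1,2,3,6,2,1,3,6,3,4,2,3,5,4,3,6,2,3,1,2,3,6,2,1,2,3,5,4,3,1,2,3,6,5,3,1,2,0,3,6,3,4,2,3,5,4,3,6,2,3,1,2,3,6,2])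 (.word [1,0,2,3,2,6,3,2,1,0,5,3,4,2,3,2,3,5,1,2,3,6,2,5,4,3,1,2,3,6,5,3,1,2,0,3,6,3,4,2,3,5,4,3,6,2,3,1,2,3,6,2,1,2,3,5,4,3,1,2,3,6,5,3,1,2,0,3,6,3,4,2,3,5,4,3,6,2,3,1,2,3,6,2,1,3,6,3,4,2,3,5,4,3,6,2,3,1,2,3,6,2]))) (.node (.node (.word [1,0,2,3,2,6,3,2,1,0,5,3,4,2,3,2,3,5,1,2,3,6,2,5,4,3,1,2,3,6,5,3,1,2,0,2,3,5,4,3,1,2,3,6,5,3,1,2,0,1]) (.word [1,3,6,3,4,2,3,5,4,3,6,2,3,1,2,3,6,2,0,1,3,2,1,3,4,5,3,2,1,6,3,4,2,3,2,3,6,3,1,2,3,5,2,6,3,4,2,3,5,4,3,6,2,3,1,2,3,6,2,1,0,2,3,2,6,3,2,1,0,5,3,4,2,3,2,3,5,1,2,3,6,2,3,2,3,6,3,4,2,3,5,4,3,6,2,3,1,2,3,6,2])) .none))))))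

/-- A subtree. -/
def sub107 : WTree :=
  (.node (.node (.node (.node (.node (.node (.node (.word [0,1,3,2,1,3,4,5,3,2,1,6,3,4,2,3,2,3,6,3,1,2,3,5,2,3,1,3,2,3,2,1,5,6,3,2,5,3,2,1,3,6,2,3,2,3,6,4,3,1,2,3,5,2,3,0,1,3,5,6,3,2,1,0,3,5,4,2,3,2,3,1,2,3,6,5,2,6,3,4,2,3,5,4,3,6,2,3,1,2,3,6,2]) (.word [1,3,5,6,3,2,1,0,3,5,4,2,3,2,3,1,2,3,6,5,2,3,0,2,3,2,6,3,2,1,0,5,3,4,2,3,2,3,5,1,2,3,6,2,3,2,3,6,3,4,2,3,5,4,3,6,2,3,1,2,3,6,2,1,3,6,3,4,2,3,5,4,3,6,2,3,1,2,3,6,2,3,2,3,2,1,5,6,3,2,5,3,2,1,3,6,2,3,2,3,6,4,3,1,2,3,5,2,3,0,1,3,6,3,4,2,3,5,4,3,6,2,3,1,2,3,6,2])) (.node .none (.word [1,2,3,5,4,3,1,2,3,6,5,3,1,2,0,1,0,1,3,2,1,3,4,5,3,2,1,6,3,4,2,3,2,3,6,3,1,2,3,5,2,3,1,3,2,3,2,1,5,6,3,2,5,3,2,1,3,6,2,3,2,3,6,4,3,1,2,3,5,2,3,1,3,2,1,3,4,5,3,2,1,6,3,4,2,3,2,3,6,3,1,2,3,5,2,6,3,4,2,3,5,4,3,6,2,3,1,2,3,6,2])))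 (.node (.node (.word [0,1,3,2,1,3,4,5,3,2,1,6,3,4,2,3,2,3,6,3,1,2,3,5,2,3,1,3,2,3,2,1,5,6,3,2,5,3,2,1,3,6,2,3,2,3,6,4,3,1,2,3,5,2,3,0,1,2,3,5,4,3,1,2,3,6,5,3,1,2,0,1,0,1,3,2,1,3,4,5,3,2,1,6,3,4,2,3,2,3,6,3,1,2,3,5,2,6,3,4,2,3,5,4,3,6,2,3,1,2,3,6,2]) (.word [1,3,6,3,4,2,3,5,4,3,6,2,3,1,2,3,6,2,3,2,3,2,1,5,6,3,2,5,3,2,1,3,6,2,3,2,3,6,4,3,1,2,3,5,2,3,0,3,2,3,2,1,5,6,3,2,5,3,2,1,3,6,2,3,2,3,6,4,3,1,2,3,5,2,3,0,1,3,6,3,4,2,3,5,4,3,6,2,3,1,2,3,6,2,0,1,3,2,1,3,4,5,3,2,1,6,3,4,2,3,2,3,6,3,1,2,3,5,2,6,3,4,2,3,5,4,3,6,2,3,1,2,3,6,2])) (.node (.word [3,2,3,2,1,5,6,3,2,5,3,2,1,3,6,2,3,2,3,6,4,3,1,2,3,5,2,3,0,1,2,3,5,4,3,1,2,3,6,5,3,1,2,0,3,5,6,3,2,1,0,3,5,4,2,3,2,3,1,2,3,6,5,2,6,3,4,2,3,5,4,3,6,2,3,1,2,3,6,2])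 (.word [1,0,2,3,2,6,3,2,1,0,5,3,4,2,3,2,3,5,1,2,3,6,2,3,2,3,6,3,4,2,3,5,4,3,6,2,3,1,2,3,6,2,1,2,3,5,4,3,1,2,3,6,5,3,1,2,0,3,5,6,3,2,1,0,3,5,4,2,3,2,3,1,2,3,6,5,2,6,3,4,2,3,5,4,3,6,2,3,1,2,3,6,2])))) (.node (.node (.node .none (.word [1,0,2,3,2,6,3,2,1,0,5,3,4,2,3,2,3,5,1,2,3,6,2,5,4,3,1,2,3,6,5,3,1,2,0,1,3,2,3,2,1,5,6,3,2,5,3,2,1,3,6,2,3,2,3,6,4,3,1,2,3,5,2,3,0,1,3,6,3,4,2,3,5,4,3,6,2,3,1,2,3,6,2,1,2,3,5,4,3,1,2,3,6,5,3,1,2,0,1])) (.node (.word [1,3,5,6,3,2,1,0,3,5,4,2,3,2,3,1,2,3,6,5,2,6,3,4,2,3,5,4,3,6,2,3,1,2,3,6,2,0,1,3,2,1,3,4,5,3,2,1,6,3,4,2,3,2,3,6,3,1,2,3,5,2,5,6,3,2,1,0,3,5,4,2,3,2,3,1,2,3,6,5,2,6,3,4,2,3,5,4,3,6,2,3,1,2,3,6,2,1,3,6,3,4,2,3,5,4,3,6,2,3,1,2,3,6,2]) (.word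 [1,0,2,3,2,6,3,2,1,0,5,3,4,2,3,2,3,5,1,2,3,6,2,5,4,3,1,2,3,6,5,3,1,2,0,1,3,2,3,2,1,5,6,3,2,5,3,2,1,3,6,2,3,2,3,6,4,3,1,2,3,5,2,3,0,3,2,3,2,1,5,6,3,2,5,3,2,1,3,6,2,3,2,3,6,4,3,1,2,3,5,2,3,0,1,3,6,3,4,2,3,5,4,3,6,2,3,1,2,3,6,2]))) (.node .none (.node (.word [1,3,6,3,4,2,3,5,4,3,6,2,3,1,2,3,6,2,1,3,6,3,4,2,3,5,4,3,6,2,3,1,2,3,6,2,1,3,5,6,3,2,1,0,3,5,4,2,3,2,3,1,2,3,6,5,2,3,1,3,2,3,2,1,5,6,3,2,5,3,2,1,3,6,2,3,2,3,6,4,3,1,2,3,5,2,3,0,1,2,3,5,4,3,1,2,3,6,5,3,1,2,0,1]) (.word [0,1,3,2,1,3,4,5,3,2,1,6,3,4,2,3,2,3,6,3,1,2,3,5,2,6,3,4,2,3,5,4,3,6,2,3,1,2,3,6,2,0,1,3,2,1,3,4,5,3,2,1,6,3,4,2,3,2,3,6,3,1,2,3,5,2,3,2,3,5,4,3,1,2,3,6,5,3,1,2,0,1]))))) (.node (.node (.node (.word [1,0,2,3,2,6,3,2,1,0,5,3,4,2,3,2,3,5,1,2,3,6,2,5,4,3,1,2,3,6,5,3,1,2,0,3,6,3,4,2,3,5,4,3,6,2,3,1,2,3,6,2,1,2,3,5,4,3,1,2,3,6,5,3,1,2,0,1])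 (.node (.word [1,0,2,3,2,6,3,2,1,0,5,3,4,2,3,2,3,5,1,2,3,6,2,5,4,3,1,2,3,6,5,3,1,2,0,2,3,5,4,3,1,2,3,6,5,3,1,2,0,3,6,3,4,2,3,5,4,3,6,2,3,1,2,3,6,2,1,2,3,5,4,3,1,2,3,6,5,3,1,2,0,1]) (.word [0,1,3,2,1,3,4,5,3,2,1,6,3,4,2,3,2,3,6,3,1,2,3,5,2,6,3,4,2,3,5,4,3,6,2,3,1,2,3,6,2,1,2,3,5,4,3,1,2,3,6,5,3,1,2,0,3,6,3,4,2,3,5,4,3,6,2,3,1,2,3,6,2]))) (.node (.node (.word [1,3,5,6,3,2,1,0,3,5,4,2,3,2,3,1,2,3,6,5,2,5,6,3,2,1,0,3,5,4,2,3,2,3,1,2,3,6,5,2,3,1,0,1,3,2,1,3,4,5,3,2,1,6,3,4,2,3,2,3,6,3,1,2,3,5,2,6,3,4,2,3,5,4,3,6,2,3,1,2,3,6,2,1,3,6,3,4,2,3,5,4,3,6,2,3,1,2,3,6,2,1,3,6,3,4,2,3,5,4,3,6,2,3,1,2,3,6,2]) (.word [1,0,2,3,2,6,3,2,1,0,5,3,4,2,3,2,3,5,1,2,3,6,2,3,2,1,0,1,3,2,1,3,4,5,3,2,1,6,3,4,2,3,2,3,6,3,1,2,3,5,2,6,3,4,2,3,5,4,3,6,2,3,1,2,3,6,2,0,1,3,2,1,3,4,5,3,2,1,6,3,4,2,3,2,3,6,3,1,2,3,5,2,6,3,4,2,3,5,4,3,6,2,3,1,2,3,6,2]))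 (.word [1,2,3,5,4,3,1,2,3,6,5,3,1,2,0,1,0,1,3,2,1,3,4,5,3,2,1,6,3,4,2,3,2,3,6,3,1,2,3,5,2,6,3,4,2,3,5,4,3,6,2,3,1,2,3,6,2,1,2,3,5,4,3,1,2,3,6,5,3,1,2,0,2,3,5,4,3,1,2,3,6,5,3,1,2,0,1]))) (.node (.node (.node .none (.word [1,3,6,3,4,2,3,5,4,3,6,2,3,1,2,3,6,2,0,1,3,2,1,3,4,5,3,2,1,6,3,4,2,3,2,3,6,3,1,2,3,5,2,6,3,4,2,3,5,4,3,6,2,3,1,2,3,6,2,1,3,6,3,4,2,3,5,4,3,6,2,3,1,2,3,6,2])) (.node (.word [3,2,3,2,1,5,6,3,2,5,3,2,1,3,6,2,3,2,3,6,4,3,1,2,3,5,2,3,0,3,2,3,2,1,5,6,3,2,5,3,2,1,3,6,2,3,2,3,6,4,3,1,2,3,5,2,3,0,1,3,6,3,4,2,3,5,4,3,6,2,3,1,2,3,6,2]) (.word [0,1,3,2,1,3,4,5,3,2,1,6,3,4,2,3,2,3,6,3,1,2,3,5,2,3,1,3,2,3,2,1,5,6,3,2,5,3,2,1,3,6,2,3,2,3,6,4,3,1,2,3,5,2,3,0,1,3,6,3,4,2,3,5,4,3,6,2,3,1,2,3,6,2,1,2,3,5,4,3,1,2,3,6,5,3,1,2,0,3,6,3,4,2,3,5,4,3,6,2,3,1,2,3,6,2])))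 (.node (.node (.word [1,3,6,3,4,2,3,5,4,3,6,2,3,1,2,3,6,2,1,3,5,6,3,2,1,0,3,5,4,2,3,2,3,1,2,3,6,5,2,3,2,3,5,4,3,1,2,3,6,5,3,1,2,0,3,5,6,3,2,1,0,3,5,4,2,3,2,3,1,2,3,6,5,2,6,3,4,2,3,5,4,3,6,2,3,1,2,3,6,2]) (.word [0,1,3,2,1,3,4,5,3,2,1,6,3,4,2,3,2,3,6,3,1,2,3,5,2,3,2,3,5,4,3,1,2,3,6,5,3,1,2,0,2,3,5,4,3,1,2,3,6,5,3,1,2,0,1,0,1,3,2,1,3,4,5,3,2,1,6,3,4,2,3,2,3,6,3,1,2,3,5,2,3,2,3,5,4,3,1,2,3,6,5,3,1,2,0,1])) (.node .none (.word [1,0,2,3,2,6,3,2,1,0,5,3,4,2,3,2,3,5,1,2,3,6,2,3,2,3,6,3,4,2,3,5,4,3,6,2,3,1,2,3,6,2,1,2,3,5,4,3,1,2,3,6,5,3,1,2,0,1])))))) (.node (.node (.node (.node (.node (.word [1,3,5,6,3,2,1,0,3,5,4,2,3,2,3,1,2,3,6,5,2,5,6,3,2,1,0,3,5,4,2,3,2,3,1,2,3,6,5,2,6,3,4,2,3,5,4,3,6,2,3,1,2,3,6,2,3,2,3,2,1,5,6,3,2,5,3,2,1,3,6,2,3,2,3,6,4,3,1,2,3,5,2,3,0,1,3,6,3,4,2,3,5,4,3,6,2,3,1,2,3,6,2])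 (.word [1,2,3,5,4,3,1,2,3,6,5,3,1,3,2,6,3,2,1,0,5,3,4,2,3,2,3,5,1,2,3,6,2,3,2,3,5,6,3,2,1,0,3,5,4,2,3,2,3,1,2,3,6,5,2,6,3,4,2,3,5,4,3,6,2,3,1,2,3,6,2,1,3,6,3,4,2,3,5,4,3,6,2,3,1,2,3,6,2])) (.node .none (.word [0,1,3,2,1,3,4,5,3,2,1,6,3,4,2,3,2,3,6,3,1,2,3,5,2,3,1,0,1,3,2,1,3,4,5,3,2,1,6,3,4,2,3,2,3,6,3,1,2,3,5,2,3,2,3,5,4,3,1,2,3,6,5,3,1,2,0,2,3,5,4,3,1,2,3,6,5,3,1,2,0,3,6,3,4,2,3,5,4,3,6,2,3,1,2,3,6,2]))) (.node (.node .none (.word [1,3,6,3,4,2,3,5,4,3,6,2,3,1,2,3,6,2,0,1,3,2,1,3,4,5,3,2,1,6,3,4,2,3,2,3,6,3,1,2,3,5,2,3,2,3,5,4,3,1,2,3,6,5,3,1,2,0,1,0,1,3,2,1,3,4,5,3,2,1,6,3,4,2,3,2,3,6,3,1,2,3,5,2,6,3,4,2,3,5,4,3,6,2,3,1,2,3,6,2])) (.node (.word [0,1,3,2,1,3,4,5,3,2,1,6,3,4,2,3,2,3,6,3,1,2,3,5,2,3,2,3,5,4,3,1,2,3,6,5,3,1,2,0,1,0,1,3,2,1,3,4,5,3,2,1,6,3,4,2,3,2,3,6,3,1,2,3,5,2,6,3,4,2,3,5,4,3,6,2,3,1,2,3,6,2])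 (.word [1,2,3,5,4,3,1,2,3,6,5,3,1,2,0,3,6,3,4,2,3,5,4,3,6,2,3,1,2,3,6,2,0,1,3,2,1,3,4,5,3,2,1,6,3,4,2,3,2,3,6,3,1,2,3,5,2,5,6,3,2,1,0,3,5,4,2,3,2,3,1,2,3,6,5,2,6,3,4,2,3,5,4,3,6,2,3,1,2,3,6,2])))) (.node (.node (.node .none (.word [1,3,6,3,4,2,3,5,4,3,6,2,3,1,2,3,6,2,1,3,6,3,4,2,3,5,4,3,6,2,3,1,2,3,6,2,3,2,3,2,1,5,6,3,2,5,3,2,1,3,6,2,3,2,3,6,4,3,1,2,3,5,2,3,0,3,2,3,2,1,5,6,3,2,5,3,2,1,3,6,2,3,2,3,6,4,3,1,2,3,5,2,3,0,1,3,6,3,4,2,3,5,4,3,6,2,3,1,2,3,6,2])) (.node .none (.word [0,1,3,2,1,3,4,5,3,2,1,6,3,4,2,3,2,3,6,3,1,2,3,5,2,3,1,3,2,3,2,1,5,6,3,2,5,3,2,1,3,6,2,3,2,3,6,4,3,1,2,3,5,2,3,0,1,3,6,3,4,2,3,5,4,3,6,2,3,1,2,3,6,2,1,3,6,3,4,2,3,5,4,3,6,2,3,1,2,3,6,2,1,2,3,5,4,3,1,2,3,6,5,3,1,2,0,1])))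 (.node (.node (.word [3,2,3,2,1,5,6,3,2,5,3,2,1,3,6,2,3,2,3,6,4,3,1,2,3,5,2,3,0,1,3,6,3,4,2,3,5,4,3,6,2,3,1,2,3,6,2,1,3,5,6,3,2,1,0,3,5,4,2,3,2,3,1,2,3,6,5,2,3,2,3,5,4,3,1,2,3,6,5,3,1,2,0,2,3,5,4,3,1,2,3,6,5,3,1,2,0,1]) (.word [3,2,3,2,1,5,6,3,2,5,3,2,1,3,6,2,3,2,3,6,4,3,1,2,3,5,2,3,0,1,2,3,5,4,3,1,2,3,6,5,3,1,2,0,3,6,3,4,2,3,5,4,3,6,2,3,1,2,3,6,2,1,3,6,3,4,2,3,5,4,3,6,2,3,1,2,3,6,2])) (.node .none (.word [1,3,5,6,3,2,1,0,3,5,4,2,3,2,3,1,2,3,6,5,2,3,2,3,5,4,3,1,2,3,6,5,3,1,2,0,3,6,3,4,2,3,5,4,3,6,2,3,1,2,3,6,2,1,2,3,5,4,3,1,2,3,6,5,3,1,2,0,1]))))) (.node (.node (.node (.node (.word [1,3,6,3,4,2,3,5,4,3,6,2,3,1,2,3,6,2,1,3,6,3,4,2,3,5,4,3,6,2,3,1,2,3,6,2,0,1,3,2,1,3,4,5,3,2,1,6,3,4,2,3,2,3,6,3,1,2,3,5,2,6,3,4,2,3,5,4,3,6,2,3,1,2,3,6,2])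 (.word [1,2,3,5,4,3,1,2,3,6,5,3,1,2,0,1,3,2,3,2,1,5,6,3,2,5,3,2,1,3,6,2,3,2,3,6,4,3,1,2,3,5,2,3,0,3,2,3,2,1,5,6,3,2,5,3,2,1,3,6,2,3,2,3,6,4,3,1,2,3,5,2,3,0,1,2,3,5,4,3,1,2,3,6,5,3,1,2,0,1])) (.node (.word [1,3,6,3,4,2,3,5,4,3,6,2,3,1,2,3,6,2,1,2,3,5,4,3,1,2,3,6,5,3,1,2,0,2,3,5,4,3,1,2,3,6,5,3,1,2,0,1,3,2,3,2,1,5,6,3,2,5,3,2,1,3,6,2,3,2,3,6,4,3,1,2,3,5,2,3,0,3,2,3,2,1,5,6,3,2,5,3,2,1,3,6,2,3,2,3,6,4,3,1,2,3,5,2,3,0,1,3,6,3,4,2,3,5,4,3,6,2,3,1,2,3,6,2]) (.word [3,2,3,2,1,5,6,3,2,5,3,2,1,3,6,2,3,2,3,6,4,3,1,2,3,5,2,3,0,1,2,3,5,4,3,1,2,3,6,5,3,1,2,0,2,3,5,4,3,1,2,3,6,5,3,1,2,0,3,6,3,4,2,3,5,4,3,6,2,3,1,2,3,6,2]))) (.node (.node .none (.word [3,2,3,2,1,5,6,3,2,5,3,2,1,3,6,2,3,2,3,6,4,3,1,2,3,5,2,3,0,1,2,3,5,4,3,1,2,3,6,5,3,1,2,0,1,0,1,3,2,1,3,4,5,3,2,1,6,3,4,2,3,2,3,6,3,1,2,3,5,2,3,2,3,5,4,3,1,2,3,6,5,3,1,2,0,3,6,3,4,2,3,5,4,3,6,2,3,1,2,3,6,2]))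 (.word [1,0,2,3,2,6,3,2,1,0,5,3,4,2,3,2,3,5,1,2,3,6,2,3,2,3,6,3,4,2,3,5,4,3,6,2,3,1,2,3,6,2,1,0,2,3,2,6,3,2,1,0,5,3,4,2,3,2,3,5,1,2,3,6,2,5,4,3,1,2,3,6,5,3,1,2,0,1]))) (.node (.node (.node .none (.word [3,2,3,2,1,5,6,3,2,5,3,2,1,3,6,2,3,2,3,6,4,3,1,2,3,5,2,3,0,1,2,3,5,4,3,1,2,3,6,5,3,1,2,0,3,5,6,3,2,1,0,3,5,4,2,3,2,3,1,2,3,6,5,2,3,1,3,2,3,2,1,5,6,3,2,5,3,2,1,3,6,2,3,2,3,6,4,3,1,2,3,5,2,3,0,1,2,3,5,4,3,1,2,3,6,5,3,1,2,0,1])) (.node (.word [1,3,6,3,4,2,3,5,4,3,6,2,3,1,2,3,6,2,0,1,3,2,1,3,4,5,3,2,1,6,3,4,2,3,2,3,6,3,1,2,3,5,2,3,1,3,2,3,2,1,5,6,3,2,5,3,2,1,3,6,2,3,2,3,6,4,3,1,2,3,5,2,3,0,1,3,6,3,4,2,3,5,4,3,6,2,3,1,2,3,6,2,1,3,6,3,4,2,3,5,4,3,6,2,3,1,2,3,6,2]) (.word [1,3,6,3,4,2,3,5,4,3,6,2,3,1,2,3,6,2,1,0,2,3,2,6,3,2,1,0,5,3,4,2,3,2,3,5,1,2,3,6,2,3,2,1,0,1,3,2,1,3,4,5,3,2,1,6,3,4,2,3,2,3,6,3,1,2,3,5,2,3,1,0,1,3,2,1,3,4,5,3,2,1,6,3,4,2,3,2,3,6,3,1,2,3,5,2,6,3,4,2,3,5,4,3,6,2,3,1,2,3,6,2])))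 (.node (.node .none (.word [1,3,6,3,4,2,3,5,4,3,6,2,3,1,2,3,6,2,1,3,6,3,4,2,3,5,4,3,6,2,3,1,2,3,6,2,1,0,2,3,2,6,3,2,1,0,5,3,4,2,3,2,3,5,1,2,3,6,2,3,2,1,3,2,3,2,1,5,6,3,2,5,3,2,1,3,6,2,3,2,3,6,4,3,1,2,3,5,2,3,0,1,3,6,3,4,2,3,5,4,3,6,2,3,1,2,3,6,2,1,2,3,5,4,3,1,2,3,6,5,3,1,2,0,1])) (.node (.word [1,3,6,3,4,2,3,5,4,3,6,2,3,1,2,3,6,2,1,3,5,6,3,2,1,0,3,5,4,2,3,2,3,1,2,3,6,5,2,3,1,0,1,3,2,1,3,4,5,3,2,1,6,3,4,2,3,2,3,6,3,1,2,3,5,2,6,3,4,2,3,5,4,3,6,2,3,1,2,3,6,2]) (.word [1,3,6,3,4,2,3,5,4,3,6,2,3,1,2,3,6,2,1,3,5,6,3,2,1,0,3,5,4,2,3,2,3,1,2,3,6,5,2,6,3,4,2,3,5,4,3,6,2,3,1,2,3,6,2,1,2,3,5,4,3,1,2,3,6,5,3,1,2,0,3,6,3,4,2,3,5,4,3,6,2,3,1,2,3,6,2,1,2,3,5,4,3,1,2,3,6,5,3,1,2,0,1])))))))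 (.node (.node (.node (.node (.node .none (.node .none (.word [1,3,5,6,3,2,1,0,3,5,4,2,3,2,3,1,2,3,6,5,2,6,3,4,2,3,5,4,3,6,2,3,1,2,3,6,2,3,2,3,2,1,5,6,3,2,5,3,2,1,3,6,2,3,2,3,6,4,3,1,2,3,5,2,3,0,3,2,3,2,1,5,6,3,2,5,3,2,1,3,6,2,3,2,3,6,4,3,1,2,3,5,2,3,0,1,3,6,3,4,2,3,5,4,3,6,2,3,1,2,3,6,2,1,3,6,3,4,2,3,5,4,3,6,2,3,1,2,3,6,2]))) (.node (.node (.word [1,3,6,3,4,2,3,5,4,3,6,2,3,1,2,3,6,2,1,3,5,6,3,2,1,0,3,5,4,2,3,2,3,1,2,3,6,5,2,5,6,3,2,1,0,3,5,4,2,3,2,3,1,2,3,6,5,2,3,1,3,2,3,2,1,5,6,3,2,5,3,2,1,3,6,2,3,2,3,6,4,3,1,2,3,5,2,3,0,1,3,6,3,4,2,3,5,4,3,6,2,3,1,2,3,6,2]) (.word [1,2,3,5,4,3,1,2,3,6,5,3,1,2,0,1,0,1,3,2,1,3,4,5,3,2,1,6,3,4,2,3,2,3,6,3,1,2,3,5,2,6,3,4,2,3,5,4,3,6,2,3,1,2,3,6,2,1,3,5,6,3,2,1,0,3,5,4,2,3,2,3,1,2,3,6,5,2,6,3,4,2,3,5,4,3,6,2,3,1,2,3,6,2]))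 (.node (.word [1,3,5,6,3,2,1,0,3,5,4,2,3,2,3,1,2,3,6,5,2,3,1,3,2,3,2,1,5,6,3,2,5,3,2,1,3,6,2,3,2,3,6,4,3,1,2,3,5,2,3,0,1,0,2,3,2,6,3,2,1,0,5,3,4,2,3,2,3,5,1,2,3,6,2,3,2,3,6,3,4,2,3,5,4,3,6,2,3,1,2,3,6,2]) (.word [1,0,2,3,2,6,3,2,1,0,5,3,4,2,3,2,3,5,1,2,3,6,2,3,2,1,3,2,3,2,1,5,6,3,2,5,3,2,1,3,6,2,3,2,3,6,4,3,1,2,3,5,2,3,1,3,2,1,3,4,5,3,2,1,6,3,4,2,3,2,3,6,3,1,2,3,5,2,6,3,4,2,3,5,4,3,6,2,3,1,2,3,6,2])))) (.node (.node (.node (.word [1,0,2,3,2,6,3,2,1,0,5,3,4,2,3,2,3,5,1,2,3,6,2,3,2,3,5,6,3,2,1,0,3,5,4,2,3,2,3,1,2,3,6,5,2,3,1,0,1,3,2,1,3,4,5,3,2,1,6,3,4,2,3,2,3,6,3,1,2,3,5,2,6,3,4,2,3,5,4,3,6,2,3,1,2,3,6,2,1,2,3,5,4,3,1,2,3,6,5,3,1,2,0,1]) (.word [0,1,3,2,1,3,4,5,3,2,1,6,3,4,2,3,2,3,6,3,1,2,3,5,2,3,1,0,1,3,2,1,3,4,5,3,2,1,6,3,4,2,3,2,3,6,3,1,2,3,5,2,3,2,3,5,4,3,1,2,3,6,5,3,1,2,0,3,5,6,3,2,1,0,3,5,4,2,3,2,3,1,2,3,6,5,2,3,2,3,5,4,3,1,2,3,6,5,3,1,2,0,1]))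 (.node (.word [3,2,3,2,1,5,6,3,2,5,3,2,1,3,6,2,3,2,3,6,4,3,1,2,3,5,2,3,0,1,2,3,5,4,3,1,2,3,6,5,3,1,2,0,1,0,1,3,2,1,3,4,5,3,2,1,6,3,4,2,3,2,3,6,3,1,2,3,5,2,3,1,3,2,3,2,1,5,6,3,2,5,3,2,1,3,6,2,3,2,3,6,4,3,1,2,3,5,2,3,0,1,3,6,3,4,2,3,5,4,3,6,2,3,1,2,3,6,2,1,3,6,3,4,2,3,5,4,3,6,2,3,1,2,3,6,2]) (.word [1,2,3,5,4,3,1,2,3,6,5,3,1,2,0,1,0,1,3,2,1,3,4,5,3,2,1,6,3,4,2,3,2,3,6,3,1,2,3,5,2,6,3,4,2,3,5,4,3,6,2,3,1,2,3,6,2,1,2,3,5,4,3,1,2,3,6,5,3,1,2,0,3,6,3,4,2,3,5,4,3,6,2,3,1,2,3,6,2]))) (.node (.word [1,2,3,5,4,3,1,2,3,6,5,3,1,3,2,6,3,2,1,0,5,3,4,2,3,2,3,5,1,2,3,6,2,3,2,3,5,6,3,2,1,0,3,5,4,2,3,2,3,1,2,3,6,5,2,3,1,3,2,3,2,1,5,6,3,2,5,3,2,1,3,6,2,3,2,3,6,4,3,1,2,3,5,2,3,0,1,2,3,5,4,3,1,2,3,6,5,3,1,2,0,1])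 (.node (.word [1,2,3,5,4,3,1,2,3,6,5,3,1,2,0,2,3,5,4,3,1,2,3,6,5,3,1,3,2,6,3,2,1,0,5,3,4,2,3,2,3,5,1,2,3,6,2,3,2,3,6,3,4,2,3,5,4,3,6,2,3,1,2,3,6,2,1,2,3,5,4,3,1,2,3,6,5,3,1,2,0,3,6,3,4,2,3,5,4,3,6,2,3,1,2,3,6,2]) (.word [1,3,5,6,3,2,1,0,3,5,4,2,3,2,3,1,2,3,6,5,2,3,1,3,2,3,2,1,5,6,3,2,5,3,2,1,3,6,2,3,2,3,6,4,3,1,2,3,5,2,3,0,1,2,3,5,4,3,1,2,3,6,5,3,1,2,0,3,5,6,3,2,1,0,3,5,4,2,3,2,3,1,2,3,6,5,2,3,2,3,5,4,3,1,2,3,6,5,3,1,2,0,1]))))) (.node (.node (.node .none (.node (.word [1,3,6,3,4,2,3,5,4,3,6,2,3,1,2,3,6,2,3,2,3,2,1,5,6,3,2,5,3,2,1,3,6,2,3,2,3,6,4,3,1,2,3,5,2,3,0,3,2,3,2,1,5,6,3,2,5,3,2,1,3,6,2,3,2,3,6,4,3,1,2,3,5,2,3,0,1,2,3,5,4,3,1,2,3,6,5,3,1,2,0,1]) (.word [1,3,5,6,3,2,1,0,3,5,4,2,3,2,3,1,2,3,6,5,2,3,1,0,1,3,2,1,3,4,5,3,2,1,6,3,4,2,3,2,3,6,3,1,2,3,5,2,3,1,3,2,3,2,1,5,6,3,2,5,3,2,1,3,6,2,3,2,3,6,4,3,1,2,3,5,2,3,0,1,2,3,5,4,3,1,2,3,6,5,3,1,2,0,2,3,5,4,3,1,2,3,6,5,3,1,2,0,1])))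 (.node (.node (.word [3,2,3,2,1,5,6,3,2,5,3,2,1,3,6,2,3,2,3,6,4,3,1,2,3,5,2,3,0,1,3,5,6,3,2,1,0,3,5,4,2,3,2,3,1,2,3,6,5,2,3,1,3,2,3,2,1,5,6,3,2,5,3,2,1,3,6,2,3,2,3,6,4,3,1,2,3,5,2,3,0,1,3,6,3,4,2,3,5,4,3,6,2,3,1,2,3,6,2,1,2,3,5,4,3,1,2,3,6,5,3,1,2,0,1]) (.word [1,0,2,3,2,6,3,2,1,0,5,3,4,2,3,2,3,5,1,2,3,6,2,3,2,3,5,6,3,2,1,0,3,5,4,2,3,2,3,1,2,3,6,5,2,6,3,4,2,3,5,4,3,6,2,3,1,2,3,6,2,1,2,3,5,4,3,1,2,3,6,5,3,1,2,0,3,6,3,4,2,3,5,4,3,6,2,3,1,2,3,6,2])) (.node (.word [1,3,6,3,4,2,3,5,4,3,6,2,3,1,2,3,6,2,3,2,3,2,1,5,6,3,2,5,3,2,1,3,6,2,3,2,3,6,4,3,1,2,3,5,2,3,0,1,3,6,3,4,2,3,5,4,3,6,2,3,1,2,3,6,2,1,2,3,5,4,3,1,2,3,6,5,3,1,2,0,1]) (.word [1,3,5,6,3,2,1,0,3,5,4,2,3,2,3,1,2,3,6,5,2,3,1,3,2,3,2,1,5,6,3,2,5,3,2,1,3,6,2,3,2,3,6,4,3,1,2,3,5,2,3,0,1,2,3,5,4,3,1,2,3,6,5,3,1,2,0,1,3,2,3,2,1,5,6,3,2,5,3,2,1,3,6,2,3,2,3,6,4,3,1,2,3,5,2,3,0,1,3,6,3,4,2,3,5,4,3,6,2,3,1,2,3,6,2]))))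 (.node (.node .none (.node .none (.word [1,0,2,3,2,6,3,2,1,0,5,3,4,2,3,2,3,5,1,2,3,6,2,3,2,1,0,1,3,2,1,3,4,5,3,2,1,6,3,4,2,3,2,3,6,3,1,2,3,5,2,3,1,3,2,3,2,1,5,6,3,2,5,3,2,1,3,6,2,3,2,3,6,4,3,1,2,3,5,2,3,0,1,3,6,3,4,2,3,5,4,3,6,2,3,1,2,3,6,2]))) (.node (.node (.word [0,1,3,2,1,3,4,5,3,2,1,6,3,4,2,3,2,3,6,3,1,2,3,5,2,3,1,0,1,3,2,1,3,4,5,3,2,1,6,3,4,2,3,2,3,6,3,1,2,3,5,2,5,6,3,2,1,0,3,5,4,2,3,2,3,1,2,3,6,5,2,3,1,3,2,3,2,1,5,6,3,2,5,3,2,1,3,6,2,3,2,3,6,4,3,1,2,3,5,2,3,0,1,2,3,5,4,3,1,2,3,6,5,3,1,2,0,1]) (.word [1,3,6,3,4,2,3,5,4,3,6,2,3,1,2,3,6,2,3,2,3,2,1,5,6,3,2,5,3,2,1,3,6,2,3,2,3,6,4,3,1,2,3,5,2,3,0,3,2,3,2,1,5,6,3,2,5,3,2,1,3,6,2,3,2,3,6,4,3,1,2,3,5,2,3,0,1,3,6,3,4,2,3,5,4,3,6,2,3,1,2,3,6,2,1,3,6,3,4,2,3,5,4,3,6,2,3,1,2,3,6,2]))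 .none)))) (.node (.node (.node (.node (.node (.word [1,3,5,6,3,2,1,0,3,5,4,2,3,2,3,1,2,3,6,5,2,3,0,2,3,2,6,3,2,1,0,5,3,4,2,3,2,3,5,1,2,3,6,2,3,2,1,3,2,3,2,1,5,6,3,2,5,3,2,1,3,6,2,3,2,3,6,4,3,1,2,3,5,2,3,0,1,2,3,5,4,3,1,2,3,6,5,3,1,2,0,3,6,3,4,2,3,5,4,3,6,2,3,1,2,3,6,2,1,3,6,3,4,2,3,5,4,3,6,2,3,1,2,3,6,2]) (.word [3,2,3,2,1,5,6,3,2,5,3,2,1,3,6,2,3,2,3,6,4,3,1,2,3,5,2,3,0,1,0,2,3,2,6,3,2,1,0,5,3,4,2,3,2,3,5,1,2,3,6,2,3,2,3,5,6,3,2,1,0,3,5,4,2,3,2,3,1,2,3,6,5,2,3,1,3,2,3,2,1,5,6,3,2,5,3,2,1,3,6,2,3,2,3,6,4,3,1,2,3,5,2,3,0,1,3,6,3,4,2,3,5,4,3,6,2,3,1,2,3,6,2])) (.node .none (.word [1,2,3,5,4,3,1,2,3,6,5,3,1,2,0,3,6,3,4,2,3,5,4,3,6,2,3,1,2,3,6,2,1,0,2,3,2,6,3,2,1,0,5,3,4,2,3,2,3,5,1,2,3,6,2,3,2,1,0,1,3,2,1,3,4,5,3,2,1,6,3,4,2,3,2,3,6,3,1,2,3,5,2,3,1,0,1,3,2,1,3,4,5,3,2,1,6,3,4,2,3,2,3,6,3,1,2,3,5,2,6,3,4,2,3,5,4,3,6,2,3,1,2,3,6,2])))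 (.node .none (.node (.word [1,3,6,3,4,2,3,5,4,3,6,2,3,1,2,3,6,2,1,0,2,3,2,6,3,2,1,0,5,3,4,2,3,2,3,5,1,2,3,6,2,3,2,3,6,3,4,2,3,5,4,3,6,2,3,1,2,3,6,2,1,3,5,6,3,2,1,0,3,5,4,2,3,2,3,1,2,3,6,5,2,3,1,3,2,3,2,1,5,6,3,2,5,3,2,1,3,6,2,3,2,3,6,4,3,1,2,3,5,2,3,0,1,3,6,3,4,2,3,5,4,3,6,2,3,1,2,3,6,2]) (.word [1,3,6,3,4,2,3,5,4,3,6,2,3,1,2,3,6,2,3,2,3,2,1,5,6,3,2,5,3,2,1,3,6,2,3,2,3,6,4,3,1,2,3,5,2,3,0,3,2,3,2,1,5,6,3,2,5,3,2,1,3,6,2,3,2,3,6,4,3,1,2,3,5,2,3,0,1,3,6,3,4,2,3,5,4,3,6,2,3,1,2,3,6,2,1,2,3,5,4,3,1,2,3,6,5,3,1,2,0,3,6,3,4,2,3,5,4,3,6,2,3,1,2,3,6,2])))) (.node (.node (.node .none (.word [1,3,6,3,4,2,3,5,4,3,6,2,3,1,2,3,6,2,1,0,2,3,2,6,3,2,1,0,5,3,4,2,3,2,3,5,1,2,3,6,2,3,2,1,3,2,3,2,1,5,6,3,2,5,3,2,1,3,6,2,3,2,3,6,4,3,1,2,3,5,2,3,0,1,3,6,3,4,2,3,5,4,3,6,2,3,1,2,3,6,2,1,2,3,5,4,3,1,2,3,6,5,3,1,2,0,1]))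 (.word [0,1,3,2,1,3,4,5,3,2,1,6,3,4,2,3,2,3,6,3,1,2,3,5,2,6,3,4,2,3,5,4,3,6,2,3,1,2,3,6,2,0,1,3,2,1,3,4,5,3,2,1,6,3,4,2,3,2,3,6,3,1,2,3,5,2,6,3,4,2,3,5,4,3,6,2,3,1,2,3,6,2,1,2,3,5,4,3,1,2,3,6,5,3,1,2,0,1])) (.node (.word [1,2,3,5,4,3,1,2,3,6,5,3,1,2,0,3,6,3,4,2,3,5,4,3,6,2,3,1,2,3,6,2,1,2,3,5,4,3,1,2,3,6,5,3,1,2,0,2,3,5,4,3,1,2,3,6,5,3,1,2,0,1]) (.node (.word [1,0,2,3,2,6,3,2,1,0,5,3,4,2,3,2,3,5,1,2,3,6,2,5,4,3,1,2,3,6,5,3,1,2,0,2,3,5,4,3,1,2,3,6,5,3,1,3,2,6,3,2,1,0,5,3,4,2,3,2,3,5,1,2,3,6,2,3,2,3,6,3,4,2,3,5,4,3,6,2,3,1,2,3,6,2]) (.word [0,1,3,2,1,3,4,5,3,2,1,6,3,4,2,3,2,3,6,3,1,2,3,5,2,5,6,3,2,1,0,3,5,4,2,3,2,3,1,2,3,6,5,2,6,3,4,2,3,5,4,3,6,2,3,1,2,3,6,2,1,3,5,6,3,2,1,0,3,5,4,2,3,2,3,1,2,3,6,5,2,6,3,4,2,3,5,4,3,6,2,3,1,2,3,6,2,1,3,6,3,4,2,3,5,4,3,6,2,3,1,2,3,6,2])))))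 (.node (.node (.node (.word [1,3,6,3,4,2,3,5,4,3,6,2,3,1,2,3,6,2,0,1,3,2,1,3,4,5,3,2,1,6,3,4,2,3,2,3,6,3,1,2,3,5,2,3,2,3,5,4,3,1,2,3,6,5,3,1,3,2,6,3,2,1,0,5,3,4,2,3,2,3,5,1,2,3,6,2,5,4,3,1,2,3,6,5,3,1,2,0,2,3,5,4,3,1,2,3,6,5,3,1,2,0,1]) (.node (.word [3,2,3,2,1,5,6,3,2,5,3,2,1,3,6,2,3,2,3,6,4,3,1,2,3,5,2,3,0,1,0,2,3,2,6,3,2,1,0,5,3,4,2,3,2,3,5,1,2,3,6,2,3,2,3,5,6,3,2,1,0,3,5,4,2,3,2,3,1,2,3,6,5,2,6,3,4,2,3,5,4,3,6,2,3,1,2,3,6,2,1,3,6,3,4,2,3,5,4,3,6,2,3,1,2,3,6,2]) (.word [0,1,3,2,1,3,4,5,3,2,1,6,3,4,2,3,2,3,6,3,1,2,3,5,2,6,3,4,2,3,5,4,3,6,2,3,1,2,3,6,2,1,3,5,6,3,2,1,0,3,5,4,2,3,2,3,1,2,3,6,5,2,3,2,3,5,4,3,1,2,3,6,5,3,1,2,0,1]))) (.node (.node (.word [1,3,5,6,3,2,1,0,3,5,4,2,3,2,3,1,2,3,6,5,2,3,1,3,2,3,2,1,5,6,3,2,5,3,2,1,3,6,2,3,2,3,6,4,3,1,2,3,5,2,3,0,1,3,6,3,4,2,3,5,4,3,6,2,3,1,2,3,6,2,0,1,3,2,1,3,4,5,3,2,1,6,3,4,2,3,2,3,6,3,1,2,3,5,2,6,3,4,2,3,5,4,3,6,2,3,1,2,3,6,2])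 (.word [1,2,3,5,4,3,1,2,3,6,5,3,1,2,0,1,3,2,3,2,1,5,6,3,2,5,3,2,1,3,6,2,3,2,3,6,4,3,1,2,3,5,2,3,0,1,2,3,5,4,3,1,2,3,6,5,3,1,2,0,3,6,3,4,2,3,5,4,3,6,2,3,1,2,3,6,2,1,3,6,3,4,2,3,5,4,3,6,2,3,1,2,3,6,2])) (.word [1,3,6,3,4,2,3,5,4,3,6,2,3,1,2,3,6,2,3,2,3,2,1,5,6,3,2,5,3,2,1,3,6,2,3,2,3,6,4,3,1,2,3,5,2,3,0,1,3,6,3,4,2,3,5,4,3,6,2,3,1,2,3,6,2,3,2,3,2,1,5,6,3,2,5,3,2,1,3,6,2,3,2,3,6,4,3,1,2,3,5,2,3,0,1,3,6,3,4,2,3,5,4,3,6,2,3,1,2,3,6,2]))) (.node (.node (.node (.word [1,2,3,5,4,3,1,2,3,6,5,3,1,2,0,1,0,1,3,2,1,3,4,5,3,2,1,6,3,4,2,3,2,3,6,3,1,2,3,5,2,3,1,0,1,3,2,1,3,4,5,3,2,1,6,3,4,2,3,2,3,6,3,1,2,3,5,2,3,1,3,2,3,2,1,5,6,3,2,5,3,2,1,3,6,2,3,2,3,6,4,3,1,2,3,5,2,3,0,1,2,3,5,4,3,1,2,3,6,5,3,1,2,0,1])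 (.word [1,3,6,3,4,2,3,5,4,3,6,2,3,1,2,3,6,2,0,1,3,2,1,3,4,5,3,2,1,6,3,4,2,3,2,3,6,3,1,2,3,5,2,6,3,4,2,3,5,4,3,6,2,3,1,2,3,6,2,1,2,3,5,4,3,1,2,3,6,5,3,1,2,0,3,6,3,4,2,3,5,4,3,6,2,3,1,2,3,6,2])) .none) (.node (.node (.word [1,0,2,3,2,6,3,2,1,0,5,3,4,2,3,2,3,5,1,2,3,6,2,5,4,3,1,2,3,6,5,3,1,2,0,3,6,3,4,2,3,5,4,3,6,2,3,1,2,3,6,2,1,2,3,5,4,3,1,2,3,6,5,3,1,2,0,3,5,6,3,2,1,0,3,5,4,2,3,2,3,1,2,3,6,5,2,6,3,4,2,3,5,4,3,6,2,3,1,2,3,6,2]) (.word [1,3,6,3,4,2,3,5,4,3,6,2,3,1,2,3,6,2,1,3,5,6,3,2,1,0,3,5,4,2,3,2,3,1,2,3,6,5,2,3,2,3,5,4,3,1,2,3,6,5,3,1,2,0,2,3,5,4,3,1,2,3,6,5,3,1,2,0,2,3,5,4,3,1,2,3,6,5,3,1,2,0,1])) (.node (.word [1,2,3,5,4,3,1,2,3,6,5,3,1,2,0,2,3,5,4,3,1,2,3,6,5,3,1,2,0,1,0,1,3,2,1,3,4,5,3,2,1,6,3,4,2,3,2,3,6,3,1,2,3,5,2,3,2,3,5,4,3,1,2,3,6,5,3,1,2,0,1])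 (.word [1,3,6,3,4,2,3,5,4,3,6,2,3,1,2,3,6,2,1,3,5,6,3,2,1,0,3,5,4,2,3,2,3,1,2,3,6,5,2,6,3,4,2,3,5,4,3,6,2,3,1,2,3,6,2,1,3,5,6,3,2,1,0,3,5,4,2,3,2,3,1,2,3,6,5,2,6,3,4,2,3,5,4,3,6,2,3,1,2,3,6,2,1,3,6,3,4,2,3,5,4,3,6,2,3,1,2,3,6,2]))))))))

/-- A subtree. -/
def sub108 : WTree :=
  (.node (.node sub104 sub105) (.node sub106 sub107))

/-- A subtree. -/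
def sub109 : WTree :=
  (.node (.node (.node (.node (.node (.node (.node (.node .none (.word [1,3,5,6,3,2,1,0,3,5,4,2,3,2,3,1,2,3,6,5,2,3,1,3,2,3,2,1,5,6,3,2,5,3,2,1,3,6,2,3,2,3,6,4,3,1,2,3,5,2,3,0,1,3,6,3,4,2,3,5,4,3,6,2,3,1,2,3,6,2,1,0,2,3,2,6,3,2,1,0,5,3,4,2,3,2,3,5,1,2,3,6,2,5,4,3,1,2,3,6,5,3,1,2,0,1])) (.word [1,3,6,3,4,2,3,5,4,3,6,2,3,1,2,3,6,2,3,2,3,2,1,5,6,3,2,5,3,2,1,3,6,2,3,2,3,6,4,3,1,2,3,5,2,3,0,1,2,3,5,4,3,1,2,3,6,5,3,1,2,0,3,6,3,4,2,3,5,4,3,6,2,3,1,2,3,6,2])) (.node (.word [1,3,6,3,4,2,3,5,4,3,6,2,3,1,2,3,6,2,1,3,5,6,3,2,1,0,3,5,4,2,3,2,3,1,2,3,6,5,2,6,3,4,2,3,5,4,3,6,2,3,1,2,3,6,2,0,1,3,2,1,3,4,5,3,2,1,6,3,4,2,3,2,3,6,3,1,2,3,5,2,6,3,4,2,3,5,4,3,6,2,3,1,2,3,6,2,1,2,3,5,4,3,1,2,3,6,5,3,1,2,0,1])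 (.word [1,3,5,6,3,2,1,0,3,5,4,2,3,2,3,1,2,3,6,5,2,5,6,3,2,1,0,3,5,4,2,3,2,3,1,2,3,6,5,2,3,2,3,5,4,3,1,2,3,6,5,3,1,2,0,1,3,2,3,2,1,5,6,3,2,5,3,2,1,3,6,2,3,2,3,6,4,3,1,2,3,5,2,3,0,1,3,6,3,4,2,3,5,4,3,6,2,3,1,2,3,6,2]))) (.node .none (.node (.word [0,1,3,2,1,3,4,5,3,2,1,6,3,4,2,3,2,3,6,3,1,2,3,5,2,3,1,0,1,3,2,1,3,4,5,3,2,1,6,3,4,2,3,2,3,6,3,1,2,3,5,2,5,6,3,2,1,0,3,5,4,2,3,2,3,1,2,3,6,5,2,6,3,4,2,3,5,4,3,6,2,3,1,2,3,6,2,1,3,5,6,3,2,1,0,3,5,4,2,3,2,3,1,2,3,6,5,2,6,3,4,2,3,5,4,3,6,2,3,1,2,3,6,2]) (.word [1,2,3,5,4,3,1,2,3,6,5,3,1,2,0,1,3,2,3,2,1,5,6,3,2,5,3,2,1,3,6,2,3,2,3,6,4,3,1,2,3,5,2,3,0,1,3,5,6,3,2,1,0,3,5,4,2,3,2,3,1,2,3,6,5,2,6,3,4,2,3,5,4,3,6,2,3,1,2,3,6,2])))) (.node (.node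 .none (.word [3,2,3,2,1,5,6,3,2,5,3,2,1,3,6,2,3,2,3,6,4,3,1,2,3,5,2,3,0,3,2,3,2,1,5,6,3,2,5,3,2,1,3,6,2,3,2,3,6,4,3,1,2,3,5,2,3,1,3,2,1,3,4,5,3,2,1,6,3,4,2,3,2,3,6,3,1,2,3,5,2,3,1,0,1,3,2,1,3,4,5,3,2,1,6,3,4,2,3,2,3,6,3,1,2,3,5,2,6,3,4,2,3,5,4,3,6,2,3,1,2,3,6,2,1,3,6,3,4,2,3,5,4,3,6,2,3,1,2,3,6,2])) (.node (.node (.word [1,3,5,6,3,2,1,0,3,5,4,2,3,2,3,1,2,3,6,5,2,3,1,0,1,3,2,1,3,4,5,3,2,1,6,3,4,2,3,2,3,6,3,1,2,3,5,2,6,3,4,2,3,5,4,3,6,2,3,1,2,3,6,2,1,0,2,3,2,6,3,2,1,0,5,3,4,2,3,2,3,5,1,2,3,6,2,3,2,3,6,3,4,2,3,5,4,3,6,2,3,1,2,3,6,2]) (.word [0,1,3,2,1,3,4,5,3,2,1,6,3,4,2,3,2,3,6,3,1,2,3,5,2,3,1,3,2,3,2,1,5,6,3,2,5,3,2,1,3,6,2,3,2,3,6,4,3,1,2,3,5,2,3,0,1,2,3,5,4,3,1,2,3,6,5,3,1,2,0,3,6,3,4,2,3,5,4,3,6,2,3,1,2,3,6,2]))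 .none))) (.node (.node (.node (.node (.word [1,3,6,3,4,2,3,5,4,3,6,2,3,1,2,3,6,2,1,2,3,5,4,3,1,2,3,6,5,3,1,2,0,3,5,6,3,2,1,0,3,5,4,2,3,2,3,1,2,3,6,5,2,6,3,4,2,3,5,4,3,6,2,3,1,2,3,6,2,1,3,6,3,4,2,3,5,4,3,6,2,3,1,2,3,6,2]) (.word [1,2,3,5,4,3,1,2,3,6,5,3,1,2,0,2,3,5,4,3,1,2,3,6,5,3,1,3,2,6,3,2,1,0,5,3,4,2,3,2,3,5,1,2,3,6,2,5,4,3,1,2,3,6,5,3,1,2,0,1])) (.node .none (.word [1,2,3,5,4,3,1,2,3,6,5,3,1,3,2,6,3,2,1,0,5,3,4,2,3,2,3,5,1,2,3,6,2,3,2,3,5,6,3,2,1,0,3,5,4,2,3,2,3,1,2,3,6,5,2,6,3,4,2,3,5,4,3,6,2,3,1,2,3,6,2,1,2,3,5,4,3,1,2,3,6,5,3,1,2,0,1]))) (.node (.word [3,2,3,2,1,5,6,3,2,5,3,2,1,3,6,2,3,2,3,6,4,3,1,2,3,5,2,3,0,1,0,2,3,2,6,3,2,1,0,5,3,4,2,3,2,3,5,1,2,3,6,2,3,2,3,6,3,4,2,3,5,4,3,6,2,3,1,2,3,6,2,0,1,3,2,1,3,4,5,3,2,1,6,3,4,2,3,2,3,6,3,1,2,3,5,2,6,3,4,2,3,5,4,3,6,2,3,1,2,3,6,2])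 (.node (.word [1,2,3,5,4,3,1,2,3,6,5,3,1,2,0,2,3,5,4,3,1,2,3,6,5,3,1,2,0,1,0,1,3,2,1,3,4,5,3,2,1,6,3,4,2,3,2,3,6,3,1,2,3,5,2,6,3,4,2,3,5,4,3,6,2,3,1,2,3,6,2]) (.word [3,2,3,2,1,5,6,3,2,5,3,2,1,3,6,2,3,2,3,6,4,3,1,2,3,5,2,3,1,3,2,1,3,4,5,3,2,1,6,3,4,2,3,2,3,6,3,1,2,3,5,2,3,1,3,2,3,2,1,5,6,3,2,5,3,2,1,3,6,2,3,2,3,6,4,3,1,2,3,5,2,3,0,1,3,6,3,4,2,3,5,4,3,6,2,3,1,2,3,6,2])))) (.node (.node (.node (.word [1,2,3,5,4,3,1,2,3,6,5,3,1,2,0,3,5,6,3,2,1,0,3,5,4,2,3,2,3,1,2,3,6,5,2,5,6,3,2,1,0,3,5,4,2,3,2,3,1,2,3,6,5,2,3,2,3,5,4,3,1,2,3,6,5,3,1,2,0,2,3,5,4,3,1,2,3,6,5,3,1,2,0,1]) (.word [1,0,2,3,2,6,3,2,1,0,5,3,4,2,3,2,3,5,1,2,3,6,2,3,2,1,0,1,3,2,1,3,4,5,3,2,1,6,3,4,2,3,2,3,6,3,1,2,3,5,2,3,2,3,5,4,3,1,2,3,6,5,3,1,2,0,3,5,6,3,2,1,0,3,5,4,2,3,2,3,1,2,3,6,5,2,6,3,4,2,3,5,4,3,6,2,3,1,2,3,6,2]))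 (.node (.word [1,0,2,3,2,6,3,2,1,0,5,3,4,2,3,2,3,5,1,2,3,6,2,3,2,1,0,1,3,2,1,3,4,5,3,2,1,6,3,4,2,3,2,3,6,3,1,2,3,5,2,6,3,4,2,3,5,4,3,6,2,3,1,2,3,6,2]) (.word [3,2,3,2,1,5,6,3,2,5,3,2,1,3,6,2,3,2,3,6,4,3,1,2,3,5,2,3,0,1,2,3,5,4,3,1,2,3,6,5,3,1,2,0,1,0,1,3,2,1,3,4,5,3,2,1,6,3,4,2,3,2,3,6,3,1,2,3,5,2,5,6,3,2,1,0,3,5,4,2,3,2,3,1,2,3,6,5,2,3,1,3,2,3,2,1,5,6,3,2,5,3,2,1,3,6,2,3,2,3,6,4,3,1,2,3,5,2,3,0,1,3,6,3,4,2,3,5,4,3,6,2,3,1,2,3,6,2]))) (.node (.node (.word [1,0,2,3,2,6,3,2,1,0,5,3,4,2,3,2,3,5,1,2,3,6,2,3,2,3,6,3,4,2,3,5,4,3,6,2,3,1,2,3,6,2,1,0,2,3,2,6,3,2,1,0,5,3,4,2,3,2,3,5,1,2,3,6,2,3,2,1,3,2,3,2,1,5,6,3,2,5,3,2,1,3,6,2,3,2,3,6,4,3,1,2,3,5,2,3,0,1,3,6,3,4,2,3,5,4,3,6,2,3,1,2,3,6,2])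 (.word [1,3,6,3,4,2,3,5,4,3,6,2,3,1,2,3,6,2,1,3,6,3,4,2,3,5,4,3,6,2,3,1,2,3,6,2,1,3,6,3,4,2,3,5,4,3,6,2,3,1,2,3,6,2,0,1,3,2,1,3,4,5,3,2,1,6,3,4,2,3,2,3,6,3,1,2,3,5,2,6,3,4,2,3,5,4,3,6,2,3,1,2,3,6,2])) (.word [1,3,6,3,4,2,3,5,4,3,6,2,3,1,2,3,6,2,1,0,2,3,2,6,3,2,1,0,5,3,4,2,3,2,3,5,1,2,3,6,2,3,2,1,3,2,3,2,1,5,6,3,2,5,3,2,1,3,6,2,3,2,3,6,4,3,1,2,3,5,2,3,0,1,3,6,3,4,2,3,5,4,3,6,2,3,1,2,3,6,2]))))) (.node (.node (.node (.node .none (.node (.word [1,3,6,3,4,2,3,5,4,3,6,2,3,1,2,3,6,2,3,2,3,2,1,5,6,3,2,5,3,2,1,3,6,2,3,2,3,6,4,3,1,2,3,5,2,3,0,1,3,6,3,4,2,3,5,4,3,6,2,3,1,2,3,6,2,1,3,6,3,4,2,3,5,4,3,6,2,3,1,2,3,6,2,1,2,3,5,4,3,1,2,3,6,5,3,1,2,0,1]) (.word [1,3,6,3,4,2,3,5,4,3,6,2,3,1,2,3,6,2,0,1,3,2,1,3,4,5,3,2,1,6,3,4,2,3,2,3,6,3,1,2,3,5,2,3,1,3,2,3,2,1,5,6,3,2,5,3,2,1,3,6,2,3,2,3,6,4,3,1,2,3,5,2,3,0,1,2,3,5,4,3,1,2,3,6,5,3,1,2,0,3,6,3,4,2,3,5,4,3,6,2,3,1,2,3,6,2,1,3,6,3,4,2,3,5,4,3,6,2,3,1,2,3,6,2])))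 (.node (.node (.word [0,1,3,2,1,3,4,5,3,2,1,6,3,4,2,3,2,3,6,3,1,2,3,5,2,3,2,3,5,4,3,1,2,3,6,5,3,1,2,0,1,0,1,3,2,1,3,4,5,3,2,1,6,3,4,2,3,2,3,6,3,1,2,3,5,2,3,2,3,5,4,3,1,2,3,6,5,3,1,2,0,1]) (.word [1,2,3,5,4,3,1,2,3,6,5,3,1,2,0,1,3,2,3,2,1,5,6,3,2,5,3,2,1,3,6,2,3,2,3,6,4,3,1,2,3,5,2,3,0,1,2,3,5,4,3,1,2,3,6,5,3,1,2,0,2,3,5,4,3,1,2,3,6,5,3,1,2,0,2,3,5,4,3,1,2,3,6,5,3,1,2,0,1])) (.node (.word [0,1,3,2,1,3,4,5,3,2,1,6,3,4,2,3,2,3,6,3,1,2,3,5,2,3,2,3,5,4,3,1,2,3,6,5,3,1,2,0,2,3,5,4,3,1,2,3,6,5,3,1,3,2,6,3,2,1,0,5,3,4,2,3,2,3,5,1,2,3,6,2,3,2,3,6,3,4,2,3,5,4,3,6,2,3,1,2,3,6,2]) (.word [0,1,3,2,1,3,4,5,3,2,1,6,3,4,2,3,2,3,6,3,1,2,3,5,2,3,1,0,1,3,2,1,3,4,5,3,2,1,6,3,4,2,3,2,3,6,3,1,2,3,5,2,3,0,2,3,2,6,3,2,1,0,5,3,4,2,3,2,3,5,1,2,3,6,2,3,2,3,6,3,4,2,3,5,4,3,6,2,3,1,2,3,6,2,1,2,3,5,4,3,1,2,3,6,5,3,1,2,0,3,6,3,4,2,3,5,4,3,6,2,3,1,2,3,6,2]))))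 (.node (.node .none (.word [1,0,2,3,2,6,3,2,1,0,5,3,4,2,3,2,3,5,1,2,3,6,2,3,2,3,6,3,4,2,3,5,4,3,6,2,3,1,2,3,6,2,1,2,3,5,4,3,1,2,3,6,5,3,1,2,0,2,3,5,4,3,1,2,3,6,5,3,1,2,0,2,3,5,4,3,1,2,3,6,5,3,1,2,0,1])) (.node .none (.node (.word [1,3,5,6,3,2,1,0,3,5,4,2,3,2,3,1,2,3,6,5,2,6,3,4,2,3,5,4,3,6,2,3,1,2,3,6,2,1,3,5,6,3,2,1,0,3,5,4,2,3,2,3,1,2,3,6,5,2,3,1,3,2,3,2,1,5,6,3,2,5,3,2,1,3,6,2,3,2,3,6,4,3,1,2,3,5,2,3,0,1,3,6,3,4,2,3,5,4,3,6,2,3,1,2,3,6,2]) (.word [1,3,6,3,4,2,3,5,4,3,6,2,3,1,2,3,6,2,1,0,2,3,2,6,3,2,1,0,5,3,4,2,3,2,3,5,1,2,3,6,2,3,2,1,0,1,3,2,1,3,4,5,3,2,1,6,3,4,2,3,2,3,6,3,1,2,3,5,2,6,3,4,2,3,5,4,3,6,2,3,1,2,3,6,2,3,2,3,2,1,5,6,3,2,5,3,2,1,3,6,2,3,2,3,6,4,3,1,2,3,5,2,3,0,1,3,6,3,4,2,3,5,4,3,6,2,3,1,2,3,6,2])))))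 (.node (.node (.node (.word [3,2,3,2,1,5,6,3,2,5,3,2,1,3,6,2,3,2,3,6,4,3,1,2,3,5,2,3,1,3,2,1,3,4,5,3,2,1,6,3,4,2,3,2,3,6,3,1,2,3,5,2,3,0,2,3,2,6,3,2,1,0,5,3,4,2,3,2,3,5,1,2,3,6,2,5,4,3,1,2,3,6,5,3,1,2,0,1,3,2,3,2,1,5,6,3,2,5,3,2,1,3,6,2,3,2,3,6,4,3,1,2,3,5,2,3,0,1,3,6,3,4,2,3,5,4,3,6,2,3,1,2,3,6,2]) (.node .none (.word [1,3,6,3,4,2,3,5,4,3,6,2,3,1,2,3,6,2,1,2,3,5,4,3,1,2,3,6,5,3,1,2,0,2,3,5,4,3,1,2,3,6,5,3,1,3,2,6,3,2,1,0,5,3,4,2,3,2,3,5,1,2,3,6,2,3,2,3,6,3,4,2,3,5,4,3,6,2,3,1,2,3,6,2]))) (.node (.node (.word [1,3,6,3,4,2,3,5,4,3,6,2,3,1,2,3,6,2,0,1,3,2,1,3,4,5,3,2,1,6,3,4,2,3,2,3,6,3,1,2,3,5,2,3,1,3,2,3,2,1,5,6,3,2,5,3,2,1,3,6,2,3,2,3,6,4,3,1,2,3,5,2,3,0,1,3,6,3,4,2,3,5,4,3,6,2,3,1,2,3,6,2])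 (.word [3,2,3,2,1,5,6,3,2,5,3,2,1,3,6,2,3,2,3,6,4,3,1,2,3,5,2,3,1,3,2,1,3,4,5,3,2,1,6,3,4,2,3,2,3,6,3,1,2,3,5,2,5,6,3,2,1,0,3,5,4,2,3,2,3,1,2,3,6,5,2,6,3,4,2,3,5,4,3,6,2,3,1,2,3,6,2,1,2,3,5,4,3,1,2,3,6,5,3,1,2,0,3,6,3,4,2,3,5,4,3,6,2,3,1,2,3,6,2])) .none)) (.node (.node (.node (.word [1,3,6,3,4,2,3,5,4,3,6,2,3,1,2,3,6,2,0,1,3,2,1,3,4,5,3,2,1,6,3,4,2,3,2,3,6,3,1,2,3,5,2,5,6,3,2,1,0,3,5,4,2,3,2,3,1,2,3,6,5,2,6,3,4,2,3,5,4,3,6,2,3,1,2,3,6,2]) (.word [0,1,3,2,1,3,4,5,3,2,1,6,3,4,2,3,2,3,6,3,1,2,3,5,2,3,1,3,2,3,2,1,5,6,3,2,5,3,2,1,3,6,2,3,2,3,6,4,3,1,2,3,5,2,3,0,1,2,3,5,4,3,1,2,3,6,5,3,1,2,0,2,3,5,4,3,1,2,3,6,5,3,1,2,0,1])) (.node .none (.word [1,3,6,3,4,2,3,5,4,3,6,2,3,1,2,3,6,2,1,0,2,3,2,6,3,2,1,0,5,3,4,2,3,2,3,5,1,2,3,6,2,3,2,3,6,3,4,2,3,5,4,3,6,2,3,1,2,3,6,2])))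 (.node (.node (.word [1,0,2,3,2,6,3,2,1,0,5,3,4,2,3,2,3,5,1,2,3,6,2,5,4,3,1,2,3,6,5,3,1,2,0,3,6,3,4,2,3,5,4,3,6,2,3,1,2,3,6,2,0,1,3,2,1,3,4,5,3,2,1,6,3,4,2,3,2,3,6,3,1,2,3,5,2,6,3,4,2,3,5,4,3,6,2,3,1,2,3,6,2,1,3,6,3,4,2,3,5,4,3,6,2,3,1,2,3,6,2]) (.word [0,1,3,2,1,3,4,5,3,2,1,6,3,4,2,3,2,3,6,3,1,2,3,5,2,6,3,4,2,3,5,4,3,6,2,3,1,2,3,6,2,1,3,6,3,4,2,3,5,4,3,6,2,3,1,2,3,6,2,1,3,6,3,4,2,3,5,4,3,6,2,3,1,2,3,6,2])) (.node .none (.word [0,1,3,2,1,3,4,5,3,2,1,6,3,4,2,3,2,3,6,3,1,2,3,5,2,6,3,4,2,3,5,4,3,6,2,3,1,2,3,6,2,1,2,3,5,4,3,1,2,3,6,5,3,1,2,0,3,6,3,4,2,3,5,4,3,6,2,3,1,2,3,6,2,1,2,3,5,4,3,1,2,3,6,5,3,1,2,0,1]))))))) (.node (.node (.node (.node (.node (.node .none (.word [1,2,3,5,4,3,1,2,3,6,5,3,1,3,2,6,3,2,1,0,5,3,4,2,3,2,3,5,1,2,3,6,2,3,2,1,0,1,3,2,1,3,4,5,3,2,1,6,3,4,2,3,2,3,6,3,1,2,3,5,2,3,2,3,5,4,3,1,2,3,6,5,3,1,2,0,1]))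 (.node (.word [3,2,3,2,1,5,6,3,2,5,3,2,1,3,6,2,3,2,3,6,4,3,1,2,3,5,2,3,0,3,2,3,2,1,5,6,3,2,5,3,2,1,3,6,2,3,2,3,6,4,3,1,2,3,5,2,3,0,3,2,3,2,1,5,6,3,2,5,3,2,1,3,6,2,3,2,3,6,4,3,1,2,3,5,2,3,0,1,3,6,3,4,2,3,5,4,3,6,2,3,1,2,3,6,2]) (.word [1,2,3,5,4,3,1,2,3,6,5,3,1,2,0,3,6,3,4,2,3,5,4,3,6,2,3,1,2,3,6,2,3,2,3,2,1,5,6,3,2,5,3,2,1,3,6,2,3,2,3,6,4,3,1,2,3,5,2,3,0,1,2,3,5,4,3,1,2,3,6,5,3,1,2,0,3,6,3,4,2,3,5,4,3,6,2,3,1,2,3,6,2]))) (.node (.node .none (.word [1,0,2,3,2,6,3,2,1,0,5,3,4,2,3,2,3,5,1,2,3,6,2,3,2,1,3,2,3,2,1,5,6,3,2,5,3,2,1,3,6,2,3,2,3,6,4,3,1,2,3,5,2,3,0,3,2,3,2,1,5,6,3,2,5,3,2,1,3,6,2,3,2,3,6,4,3,1,2,3,5,2,3,0,1,2,3,5,4,3,1,2,3,6,5,3,1,2,0,2,3,5,4,3,1,2,3,6,5,3,1,2,0,3,6,3,4,2,3,5,4,3,6,2,3,1,2,3,6,2]))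 (.node (.word [0,1,3,2,1,3,4,5,3,2,1,6,3,4,2,3,2,3,6,3,1,2,3,5,2,3,2,3,5,4,3,1,2,3,6,5,3,1,2,0,2,3,5,4,3,1,2,3,6,5,3,1,2,0,3,6,3,4,2,3,5,4,3,6,2,3,1,2,3,6,2,1,3,6,3,4,2,3,5,4,3,6,2,3,1,2,3,6,2]) (.word [1,3,6,3,4,2,3,5,4,3,6,2,3,1,2,3,6,2,3,2,3,2,1,5,6,3,2,5,3,2,1,3,6,2,3,2,3,6,4,3,1,2,3,5,2,3,0,1,3,5,6,3,2,1,0,3,5,4,2,3,2,3,1,2,3,6,5,2,3,1,3,2,3,2,1,5,6,3,2,5,3,2,1,3,6,2,3,2,3,6,4,3,1,2,3,5,2,3,0,1,2,3,5,4,3,1,2,3,6,5,3,1,2,0,1])))) (.node (.node (.word [0,1,3,2,1,3,4,5,3,2,1,6,3,4,2,3,2,3,6,3,1,2,3,5,2,3,1,3,2,3,2,1,5,6,3,2,5,3,2,1,3,6,2,3,2,3,6,4,3,1,2,3,5,2,3,0,1,2,3,5,4,3,1,2,3,6,5,3,1,2,0,3,6,3,4,2,3,5,4,3,6,2,3,1,2,3,6,2,1,3,5,6,3,2,1,0,3,5,4,2,3,2,3,1,2,3,6,5,2,6,3,4,2,3,5,4,3,6,2,3,1,2,3,6,2])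 (.word [1,0,2,3,2,6,3,2,1,0,5,3,4,2,3,2,3,5,1,2,3,6,2,3,2,3,6,3,4,2,3,5,4,3,6,2,3,1,2,3,6,2,1,0,2,3,2,6,3,2,1,0,5,3,4,2,3,2,3,5,1,2,3,6,2,5,4,3,1,2,3,6,5,3,1,2,0,2,3,5,4,3,1,2,3,6,5,3,1,2,0,1])) .none)) (.node (.node (.node (.node (.word [0,1,3,2,1,3,4,5,3,2,1,6,3,4,2,3,2,3,6,3,1,2,3,5,2,6,3,4,2,3,5,4,3,6,2,3,1,2,3,6,2,0,1,3,2,1,3,4,5,3,2,1,6,3,4,2,3,2,3,6,3,1,2,3,5,2,3,1,0,1,3,2,1,3,4,5,3,2,1,6,3,4,2,3,2,3,6,3,1,2,3,5,2,6,3,4,2,3,5,4,3,6,2,3,1,2,3,6,2]) (.word [1,3,5,6,3,2,1,0,3,5,4,2,3,2,3,1,2,3,6,5,2,3,2,3,5,4,3,1,2,3,6,5,3,1,2,0,3,6,3,4,2,3,5,4,3,6,2,3,1,2,3,6,2,1,2,3,5,4,3,1,2,3,6,5,3,1,2,0,3,6,3,4,2,3,5,4,3,6,2,3,1,2,3,6,2,1,3,6,3,4,2,3,5,4,3,6,2,3,1,2,3,6,2])) (.node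 .none (.word [1,3,5,6,3,2,1,0,3,5,4,2,3,2,3,1,2,3,6,5,2,3,1,3,2,3,2,1,5,6,3,2,5,3,2,1,3,6,2,3,2,3,6,4,3,1,2,3,5,2,3,0,3,2,3,2,1,5,6,3,2,5,3,2,1,3,6,2,3,2,3,6,4,3,1,2,3,5,2,3,0,1,2,3,5,4,3,1,2,3,6,5,3,1,2,0,3,6,3,4,2,3,5,4,3,6,2,3,1,2,3,6,2,1,3,6,3,4,2,3,5,4,3,6,2,3,1,2,3,6,2]))) (.node .none (.word [1,2,3,5,4,3,1,2,3,6,5,3,1,3,2,6,3,2,1,0,5,3,4,2,3,2,3,5,1,2,3,6,2,3,2,3,6,3,4,2,3,5,4,3,6,2,3,1,2,3,6,2,0,1,3,2,1,3,4,5,3,2,1,6,3,4,2,3,2,3,6,3,1,2,3,5,2,6,3,4,2,3,5,4,3,6,2,3,1,2,3,6,2]))) (.node (.node (.node (.word [3,2,3,2,1,5,6,3,2,5,3,2,1,3,6,2,3,2,3,6,4,3,1,2,3,5,2,3,1,3,2,1,3,4,5,3,2,1,6,3,4,2,3,2,3,6,3,1,2,3,5,2,3,0,2,3,2,6,3,2,1,0,5,3,4,2,3,2,3,5,1,2,3,6,2,3,2,3,6,3,4,2,3,5,4,3,6,2,3,1,2,3,6,2,1,3,6,3,4,2,3,5,4,3,6,2,3,1,2,3,6,2])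 (.word [1,3,6,3,4,2,3,5,4,3,6,2,3,1,2,3,6,2,0,1,3,2,1,3,4,5,3,2,1,6,3,4,2,3,2,3,6,3,1,2,3,5,2,3,0,2,3,2,6,3,2,1,0,5,3,4,2,3,2,3,5,1,2,3,6,2,3,2,1,0,1,3,2,1,3,4,5,3,2,1,6,3,4,2,3,2,3,6,3,1,2,3,5,2,3,2,3,5,4,3,1,2,3,6,5,3,1,2,0,1])) (.node .none (.word [1,3,5,6,3,2,1,0,3,5,4,2,3,2,3,1,2,3,6,5,2,3,0,2,3,2,6,3,2,1,0,5,3,4,2,3,2,3,5,1,2,3,6,2,3,2,3,6,3,4,2,3,5,4,3,6,2,3,1,2,3,6,2,3,2,3,2,1,5,6,3,2,5,3,2,1,3,6,2,3,2,3,6,4,3,1,2,3,5,2,3,0,1,3,6,3,4,2,3,5,4,3,6,2,3,1,2,3,6,2]))) (.node (.node (.word [0,1,3,2,1,3,4,5,3,2,1,6,3,4,2,3,2,3,6,3,1,2,3,5,2,6,3,4,2,3,5,4,3,6,2,3,1,2,3,6,2,1,0,2,3,2,6,3,2,1,0,5,3,4,2,3,2,3,5,1,2,3,6,2,5,4,3,1,2,3,6,5,3,1,2,0,1]) (.word [1,0,2,3,2,6,3,2,1,0,5,3,4,2,3,2,3,5,1,2,3,6,2,5,4,3,1,2,3,6,5,3,1,2,0,3,6,3,4,2,3,5,4,3,6,2,3,1,2,3,6,2,1,3,6,3,4,2,3,5,4,3,6,2,3,1,2,3,6,2,1,3,6,3,4,2,3,5,4,3,6,2,3,1,2,3,6,2]))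 (.node (.word [1,2,3,5,4,3,1,2,3,6,5,3,1,2,0,2,3,5,4,3,1,2,3,6,5,3,1,2,0,1,0,1,3,2,1,3,4,5,3,2,1,6,3,4,2,3,2,3,6,3,1,2,3,5,2,3,1,0,1,3,2,1,3,4,5,3,2,1,6,3,4,2,3,2,3,6,3,1,2,3,5,2,3,2,3,5,4,3,1,2,3,6,5,3,1,2,0,1]) (.word [1,3,6,3,4,2,3,5,4,3,6,2,3,1,2,3,6,2,1,3,5,6,3,2,1,0,3,5,4,2,3,2,3,1,2,3,6,5,2,3,2,3,5,4,3,1,2,3,6,5,3,1,2,0,2,3,5,4,3,1,2,3,6,5,3,1,2,0,3,6,3,4,2,3,5,4,3,6,2,3,1,2,3,6,2])))))) (.node (.node (.node .none (.node .none (.node (.word [1,3,5,6,3,2,1,0,3,5,4,2,3,2,3,1,2,3,6,5,2,3,1,0,1,3,2,1,3,4,5,3,2,1,6,3,4,2,3,2,3,6,3,1,2,3,5,2,3,1,0,1,3,2,1,3,4,5,3,2,1,6,3,4,2,3,2,3,6,3,1,2,3,5,2,3,2,3,5,4,3,1,2,3,6,5,3,1,2,0,1]) (.word [3,2,3,2,1,5,6,3,2,5,3,2,1,3,6,2,3,2,3,6,4,3,1,2,3,5,2,3,0,1,3,6,3,4,2,3,5,4,3,6,2,3,1,2,3,6,2,1,2,3,5,4,3,1,2,3,6,5,3,1,2,0,2,3,5,4,3,1,2,3,6,5,3,1,2,0,3,6,3,4,2,3,5,4,3,6,2,3,1,2,3,6,2]))))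 (.node (.node (.node .none (.word [0,1,3,2,1,3,4,5,3,2,1,6,3,4,2,3,2,3,6,3,1,2,3,5,2,6,3,4,2,3,5,4,3,6,2,3,1,2,3,6,2,1,3,6,3,4,2,3,5,4,3,6,2,3,1,2,3,6,2])) (.word [1,0,2,3,2,6,3,2,1,0,5,3,4,2,3,2,3,5,1,2,3,6,2,3,2,3,6,3,4,2,3,5,4,3,6,2,3,1,2,3,6,2,1,3,6,3,4,2,3,5,4,3,6,2,3,1,2,3,6,2,3,2,3,2,1,5,6,3,2,5,3,2,1,3,6,2,3,2,3,6,4,3,1,2,3,5,2,3,0,3,2,3,2,1,5,6,3,2,5,3,2,1,3,6,2,3,2,3,6,4,3,1,2,3,5,2,3,0,1,3,6,3,4,2,3,5,4,3,6,2,3,1,2,3,6,2])) (.node (.word [3,2,3,2,1,5,6,3,2,5,3,2,1,3,6,2,3,2,3,6,4,3,1,2,3,5,2,3,0,1,3,6,3,4,2,3,5,4,3,6,2,3,1,2,3,6,2,0,1,3,2,1,3,4,5,3,2,1,6,3,4,2,3,2,3,6,3,1,2,3,5,2,3,0,2,3,2,6,3,2,1,0,5,3,4,2,3,2,3,5,1,2,3,6,2,5,4,3,1,2,3,6,5,3,1,2,0,1]) (.node (.word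 [0,1,3,2,1,3,4,5,3,2,1,6,3,4,2,3,2,3,6,3,1,2,3,5,2,3,2,3,5,4,3,1,2,3,6,5,3,1,2,0,1,0,1,3,2,1,3,4,5,3,2,1,6,3,4,2,3,2,3,6,3,1,2,3,5,2,5,6,3,2,1,0,3,5,4,2,3,2,3,1,2,3,6,5,2,6,3,4,2,3,5,4,3,6,2,3,1,2,3,6,2,1,3,6,3,4,2,3,5,4,3,6,2,3,1,2,3,6,2]) (.word [1,3,6,3,4,2,3,5,4,3,6,2,3,1,2,3,6,2,0,1,3,2,1,3,4,5,3,2,1,6,3,4,2,3,2,3,6,3,1,2,3,5,2,5,6,3,2,1,0,3,5,4,2,3,2,3,1,2,3,6,5,2,3,2,3,5,4,3,1,2,3,6,5,3,1,2,0,1]))))) (.node (.node (.node (.node .none (.word [1,3,6,3,4,2,3,5,4,3,6,2,3,1,2,3,6,2,3,2,3,2,1,5,6,3,2,5,3,2,1,3,6,2,3,2,3,6,4,3,1,2,3,5,2,3,0,1,3,5,6,3,2,1,0,3,5,4,2,3,2,3,1,2,3,6,5,2,3,1,0,1,3,2,1,3,4,5,3,2,1,6,3,4,2,3,2,3,6,3,1,2,3,5,2,6,3,4,2,3,5,4,3,6,2,3,1,2,3,6,2,1,3,6,3,4,2,3,5,4,3,6,2,3,1,2,3,6,2]))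 (.node .none (.word [1,3,6,3,4,2,3,5,4,3,6,2,3,1,2,3,6,2,1,2,3,5,4,3,1,2,3,6,5,3,1,2,0,2,3,5,4,3,1,2,3,6,5,3,1,2,0,1]))) (.node (.node (.word [1,3,6,3,4,2,3,5,4,3,6,2,3,1,2,3,6,2,1,3,5,6,3,2,1,0,3,5,4,2,3,2,3,1,2,3,6,5,2,5,6,3,2,1,0,3,5,4,2,3,2,3,1,2,3,6,5,2,3,2,3,5,4,3,1,2,3,6,5,3,1,2,0,1]) (.word [1,2,3,5,4,3,1,2,3,6,5,3,1,2,0,1,3,2,3,2,1,5,6,3,2,5,3,2,1,3,6,2,3,2,3,6,4,3,1,2,3,5,2,3,0,1,3,6,3,4,2,3,5,4,3,6,2,3,1,2,3,6,2,1,3,6,3,4,2,3,5,4,3,6,2,3,1,2,3,6,2,3,2,3,2,1,5,6,3,2,5,3,2,1,3,6,2,3,2,3,6,4,3,1,2,3,5,2,3,0,1,3,6,3,4,2,3,5,4,3,6,2,3,1,2,3,6,2])) (.node .none (.word [1,3,5,6,3,2,1,0,3,5,4,2,3,2,3,1,2,3,6,5,2,6,3,4,2,3,5,4,3,6,2,3,1,2,3,6,2,1,2,3,5,4,3,1,2,3,6,5,3,1,2,0,1,3,2,3,2,1,5,6,3,2,5,3,2,1,3,6,2,3,2,3,6,4,3,1,2,3,5,2,3,0,3,2,3,2,1,5,6,3,2,5,3,2,1,3,6,2,3,2,3,6,4,3,1,2,3,5,2,3,0,1,3,6,3,4,2,3,5,4,3,6,2,3,1,2,3,6,2]))))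 (.node (.node (.node (.word [1,3,5,6,3,2,1,0,3,5,4,2,3,2,3,1,2,3,6,5,2,5,6,3,2,1,0,3,5,4,2,3,2,3,1,2,3,6,5,2,6,3,4,2,3,5,4,3,6,2,3,1,2,3,6,2,0,1,3,2,1,3,4,5,3,2,1,6,3,4,2,3,2,3,6,3,1,2,3,5,2,6,3,4,2,3,5,4,3,6,2,3,1,2,3,6,2,1,2,3,5,4,3,1,2,3,6,5,3,1,2,0,1]) (.word [0,1,3,2,1,3,4,5,3,2,1,6,3,4,2,3,2,3,6,3,1,2,3,5,2,3,0,2,3,2,6,3,2,1,0,5,3,4,2,3,2,3,5,1,2,3,6,2,3,2,3,5,6,3,2,1,0,3,5,4,2,3,2,3,1,2,3,6,5,2,3,2,3,5,4,3,1,2,3,6,5,3,1,2,0,2,3,5,4,3,1,2,3,6,5,3,1,2,0,1])) (.node (.word [1,3,6,3,4,2,3,5,4,3,6,2,3,1,2,3,6,2,1,0,2,3,2,6,3,2,1,0,5,3,4,2,3,2,3,5,1,2,3,6,2,3,2,1,0,1,3,2,1,3,4,5,3,2,1,6,3,4,2,3,2,3,6,3,1,2,3,5,2,3,2,3,5,4,3,1,2,3,6,5,3,1,2,0,1]) (.word [0,1,3,2,1,3,4,5,3,2,1,6,3,4,2,3,2,3,6,3,1,2,3,5,2,3,2,3,5,4,3,1,2,3,6,5,3,1,2,0,2,3,5,4,3,1,2,3,6,5,3,1,2,0,1])))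 (.node (.node .none (.word [1,2,3,5,4,3,1,2,3,6,5,3,1,2,0,2,3,5,4,3,1,2,3,6,5,3,1,2,0,3,5,6,3,2,1,0,3,5,4,2,3,2,3,1,2,3,6,5,2,6,3,4,2,3,5,4,3,6,2,3,1,2,3,6,2,1,3,6,3,4,2,3,5,4,3,6,2,3,1,2,3,6,2])) (.word [0,1,3,2,1,3,4,5,3,2,1,6,3,4,2,3,2,3,6,3,1,2,3,5,2,3,1,3,2,3,2,1,5,6,3,2,5,3,2,1,3,6,2,3,2,3,6,4,3,1,2,3,5,2,3,1,3,2,1,3,4,5,3,2,1,6,3,4,2,3,2,3,6,3,1,2,3,5,2,3,1,0,1,3,2,1,3,4,5,3,2,1,6,3,4,2,3,2,3,6,3,1,2,3,5,2,6,3,4,2,3,5,4,3,6,2,3,1,2,3,6,2,1,3,6,3,4,2,3,5,4,3,6,2,3,1,2,3,6,2])))))))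

/-- A subtree. -/
def sub110 : WTree :=
  (.node (.node (.node (.node (.node (.node .none (.node (.word [1,0,2,3,2,6,3,2,1,0,5,3,4,2,3,2,3,5,1,2,3,6,2,3,2,1,0,1,3,2,1,3,4,5,3,2,1,6,3,4,2,3,2,3,6,3,1,2,3,5,2,6,3,4,2,3,5,4,3,6,2,3,1,2,3,6,2,1,3,6,3,4,2,3,5,4,3,6,2,3,1,2,3,6,2]) (.word [1,2,3,5,4,3,1,2,3,6,5,3,1,2,0,3,6,3,4,2,3,5,4,3,6,2,3,1,2,3,6,2,1,2,3,5,4,3,1,2,3,6,5,3,1,2,0,1,3,2,3,2,1,5,6,3,2,5,3,2,1,3,6,2,3,2,3,6,4,3,1,2,3,5,2,3,0,1,3,6,3,4,2,3,5,4,3,6,2,3,1,2,3,6,2]))) (.node (.node (.word [1,3,5,6,3,2,1,0,3,5,4,2,3,2,3,1,2,3,6,5,2,3,2,3,5,4,3,1,2,3,6,5,3,1,2,0,3,6,3,4,2,3,5,4,3,6,2,3,1,2,3,6,2,1,2,3,5,4,3,1,2,3,6,5,3,1,2,0,2,3,5,4,3,1,2,3,6,5,3,1,2,0,3,6,3,4,2,3,5,4,3,6,2,3,1,2,3,6,2])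 (.word [1,3,5,6,3,2,1,0,3,5,4,2,3,2,3,1,2,3,6,5,2,6,3,4,2,3,5,4,3,6,2,3,1,2,3,6,2])) (.node (.word [3,2,3,2,1,5,6,3,2,5,3,2,1,3,6,2,3,2,3,6,4,3,1,2,3,5,2,3,0,1,2,3,5,4,3,1,2,3,6,5,3,1,2,0,1,3,2,3,2,1,5,6,3,2,5,3,2,1,3,6,2,3,2,3,6,4,3,1,2,3,5,2,3,1,3,2,1,3,4,5,3,2,1,6,3,4,2,3,2,3,6,3,1,2,3,5,2,3,2,3,5,4,3,1,2,3,6,5,3,1,2,0,1]) (.word [1,2,3,5,4,3,1,2,3,6,5,3,1,2,0,3,5,6,3,2,1,0,3,5,4,2,3,2,3,1,2,3,6,5,2,3,1,0,1,3,2,1,3,4,5,3,2,1,6,3,4,2,3,2,3,6,3,1,2,3,5,2,6,3,4,2,3,5,4,3,6,2,3,1,2,3,6,2,1,2,3,5,4,3,1,2,3,6,5,3,1,2,0,1])))) (.node (.node (.node (.word [1,2,3,5,4,3,1,2,3,6,5,3,1,2,0,3,6,3,4,2,3,5,4,3,6,2,3,1,2,3,6,2,1,0,2,3,2,6,3,2,1,0,5,3,4,2,3,2,3,5,1,2,3,6,2,3,2,3,5,6,3,2,1,0,3,5,4,2,3,2,3,1,2,3,6,5,2,6,3,4,2,3,5,4,3,6,2,3,1,2,3,6,2])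 (.word [1,0,2,3,2,6,3,2,1,0,5,3,4,2,3,2,3,5,1,2,3,6,2,3,2,1,3,2,3,2,1,5,6,3,2,5,3,2,1,3,6,2,3,2,3,6,4,3,1,2,3,5,2,3,0,1,3,6,3,4,2,3,5,4,3,6,2,3,1,2,3,6,2])) (.node (.word [3,2,3,2,1,5,6,3,2,5,3,2,1,3,6,2,3,2,3,6,4,3,1,2,3,5,2,3,0,1,3,5,6,3,2,1,0,3,5,4,2,3,2,3,1,2,3,6,5,2,6,3,4,2,3,5,4,3,6,2,3,1,2,3,6,2,1,2,3,5,4,3,1,2,3,6,5,3,1,2,0,3,6,3,4,2,3,5,4,3,6,2,3,1,2,3,6,2]) (.word [1,3,6,3,4,2,3,5,4,3,6,2,3,1,2,3,6,2,0,1,3,2,1,3,4,5,3,2,1,6,3,4,2,3,2,3,6,3,1,2,3,5,2,3,1,3,2,3,2,1,5,6,3,2,5,3,2,1,3,6,2,3,2,3,6,4,3,1,2,3,5,2,3,1,3,2,1,3,4,5,3,2,1,6,3,4,2,3,2,3,6,3,1,2,3,5,2,6,3,4,2,3,5,4,3,6,2,3,1,2,3,6,2,1,3,6,3,4,2,3,5,4,3,6,2,3,1,2,3,6,2]))) (.node (.node (.word [0,1,3,2,1,3,4,5,3,2,1,6,3,4,2,3,2,3,6,3,1,2,3,5,2,3,1,0,1,3,2,1,3,4,5,3,2,1,6,3,4,2,3,2,3,6,3,1,2,3,5,2,3,2,3,5,4,3,1,2,3,6,5,3,1,2,0,3,6,3,4,2,3,5,4,3,6,2,3,1,2,3,6,2,1,3,6,3,4,2,3,5,4,3,6,2,3,1,2,3,6,2])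 (.word [1,3,5,6,3,2,1,0,3,5,4,2,3,2,3,1,2,3,6,5,2,6,3,4,2,3,5,4,3,6,2,3,1,2,3,6,2,3,2,3,2,1,5,6,3,2,5,3,2,1,3,6,2,3,2,3,6,4,3,1,2,3,5,2,3,0,1,3,5,6,3,2,1,0,3,5,4,2,3,2,3,1,2,3,6,5,2,6,3,4,2,3,5,4,3,6,2,3,1,2,3,6,2])) (.node (.word [1,3,6,3,4,2,3,5,4,3,6,2,3,1,2,3,6,2,1,3,6,3,4,2,3,5,4,3,6,2,3,1,2,3,6,2,1,0,2,3,2,6,3,2,1,0,5,3,4,2,3,2,3,5,1,2,3,6,2,3,2,3,5,6,3,2,1,0,3,5,4,2,3,2,3,1,2,3,6,5,2,3,1,3,2,3,2,1,5,6,3,2,5,3,2,1,3,6,2,3,2,3,6,4,3,1,2,3,5,2,3,0,1,3,6,3,4,2,3,5,4,3,6,2,3,1,2,3,6,2]) (.word [3,2,3,2,1,5,6,3,2,5,3,2,1,3,6,2,3,2,3,6,4,3,1,2,3,5,2,3,0,3,2,3,2,1,5,6,3,2,5,3,2,1,3,6,2,3,2,3,6,4,3,1,2,3,5,2,3,0,3,2,3,2,1,5,6,3,2,5,3,2,1,3,6,2,3,2,3,6,4,3,1,2,3,5,2,3,0,3,2,3,2,1,5,6,3,2,5,3,2,1,3,6,2,3,2,3,6,4,3,1,2,3,5,2,3,0,1,2,3,5,4,3,1,2,3,6,5,3,1,2,0,1])))))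 (.node (.node (.node (.node (.word [0,1,3,2,1,3,4,5,3,2,1,6,3,4,2,3,2,3,6,3,1,2,3,5,2,6,3,4,2,3,5,4,3,6,2,3,1,2,3,6,2,1,2,3,5,4,3,1,2,3,6,5,3,1,2,0,1,3,2,3,2,1,5,6,3,2,5,3,2,1,3,6,2,3,2,3,6,4,3,1,2,3,5,2,3,0,1,3,5,6,3,2,1,0,3,5,4,2,3,2,3,1,2,3,6,5,2,6,3,4,2,3,5,4,3,6,2,3,1,2,3,6,2]) (.word [1,2,3,5,4,3,1,2,3,6,5,3,1,2,0,3,6,3,4,2,3,5,4,3,6,2,3,1,2,3,6,2,1,2,3,5,4,3,1,2,3,6,5,3,1,2,0,1])) (.word [1,2,3,5,4,3,1,2,3,6,5,3,1,2,0,3,5,6,3,2,1,0,3,5,4,2,3,2,3,1,2,3,6,5,2,6,3,4,2,3,5,4,3,6,2,3,1,2,3,6,2,1,3,6,3,4,2,3,5,4,3,6,2,3,1,2,3,6,2,1,3,6,3,4,2,3,5,4,3,6,2,3,1,2,3,6,2])) (.node (.node .none (.word [1,3,6,3,4,2,3,5,4,3,6,2,3,1,2,3,6,2,3,2,3,2,1,5,6,3,2,5,3,2,1,3,6,2,3,2,3,6,4,3,1,2,3,5,2,3,0,1,3,6,3,4,2,3,5,4,3,6,2,3,1,2,3,6,2,1,3,5,6,3,2,1,0,3,5,4,2,3,2,3,1,2,3,6,5,2,3,2,3,5,4,3,1,2,3,6,5,3,1,2,0,1]))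 (.word [0,1,3,2,1,3,4,5,3,2,1,6,3,4,2,3,2,3,6,3,1,2,3,5,2,3,1,3,2,3,2,1,5,6,3,2,5,3,2,1,3,6,2,3,2,3,6,4,3,1,2,3,5,2,3,0,1,2,3,5,4,3,1,2,3,6,5,3,1,2,0,1,0,1,3,2,1,3,4,5,3,2,1,6,3,4,2,3,2,3,6,3,1,2,3,5,2,3,2,3,5,4,3,1,2,3,6,5,3,1,2,0,1]))) (.node (.node .none (.word [0,1,3,2,1,3,4,5,3,2,1,6,3,4,2,3,2,3,6,3,1,2,3,5,2,3,0,2,3,2,6,3,2,1,0,5,3,4,2,3,2,3,5,1,2,3,6,2,3,2,1,3,2,3,2,1,5,6,3,2,5,3,2,1,3,6,2,3,2,3,6,4,3,1,2,3,5,2,3,0,1,3,6,3,4,2,3,5,4,3,6,2,3,1,2,3,6,2])) (.node .none (.node (.word [1,0,2,3,2,6,3,2,1,0,5,3,4,2,3,2,3,5,1,2,3,6,2,3,2,1,0,1,3,2,1,3,4,5,3,2,1,6,3,4,2,3,2,3,6,3,1,2,3,5,2,6,3,4,2,3,5,4,3,6,2,3,1,2,3,6,2,1,3,5,6,3,2,1,0,3,5,4,2,3,2,3,1,2,3,6,5,2,6,3,4,2,3,5,4,3,6,2,3,1,2,3,6,2])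 (.word [1,3,5,6,3,2,1,0,3,5,4,2,3,2,3,1,2,3,6,5,2,5,6,3,2,1,0,3,5,4,2,3,2,3,1,2,3,6,5,2,6,3,4,2,3,5,4,3,6,2,3,1,2,3,6,2,1,3,6,3,4,2,3,5,4,3,6,2,3,1,2,3,6,2,1,3,6,3,4,2,3,5,4,3,6,2,3,1,2,3,6,2])))))) (.node (.node (.node (.node .none (.node (.word [1,3,5,6,3,2,1,0,3,5,4,2,3,2,3,1,2,3,6,5,2,3,0,2,3,2,6,3,2,1,0,5,3,4,2,3,2,3,5,1,2,3,6,2,3,2,1,3,2,3,2,1,5,6,3,2,5,3,2,1,3,6,2,3,2,3,6,4,3,1,2,3,5,2,3,0,1,3,6,3,4,2,3,5,4,3,6,2,3,1,2,3,6,2,1,2,3,5,4,3,1,2,3,6,5,3,1,2,0,1]) (.word [0,1,3,2,1,3,4,5,3,2,1,6,3,4,2,3,2,3,6,3,1,2,3,5,2,3,1,3,2,3,2,1,5,6,3,2,5,3,2,1,3,6,2,3,2,3,6,4,3,1,2,3,5,2,3,0,1,3,6,3,4,2,3,5,4,3,6,2,3,1,2,3,6,2,1,3,6,3,4,2,3,5,4,3,6,2,3,1,2,3,6,2,1,2,3,5,4,3,1,2,3,6,5,3,1,2,0,3,6,3,4,2,3,5,4,3,6,2,3,1,2,3,6,2])))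 (.node (.node (.word [3,2,3,2,1,5,6,3,2,5,3,2,1,3,6,2,3,2,3,6,4,3,1,2,3,5,2,3,0,1,3,5,6,3,2,1,0,3,5,4,2,3,2,3,1,2,3,6,5,2,3,1,3,2,3,2,1,5,6,3,2,5,3,2,1,3,6,2,3,2,3,6,4,3,1,2,3,5,2,3,0,1,2,3,5,4,3,1,2,3,6,5,3,1,2,0,1]) (.word [1,3,6,3,4,2,3,5,4,3,6,2,3,1,2,3,6,2,1,3,5,6,3,2,1,0,3,5,4,2,3,2,3,1,2,3,6,5,2,5,6,3,2,1,0,3,5,4,2,3,2,3,1,2,3,6,5,2,6,3,4,2,3,5,4,3,6,2,3,1,2,3,6,2,1,2,3,5,4,3,1,2,3,6,5,3,1,2,0,1])) .none)) (.node (.node (.node .none (.word [1,3,5,6,3,2,1,0,3,5,4,2,3,2,3,1,2,3,6,5,2,3,2,3,5,4,3,1,2,3,6,5,3,1,2,0,1])) (.node (.word [3,2,3,2,1,5,6,3,2,5,3,2,1,3,6,2,3,2,3,6,4,3,1,2,3,5,2,3,0,1,0,2,3,2,6,3,2,1,0,5,3,4,2,3,2,3,5,1,2,3,6,2,3,2,1,3,2,3,2,1,5,6,3,2,5,3,2,1,3,6,2,3,2,3,6,4,3,1,2,3,5,2,3,0,1,2,3,5,4,3,1,2,3,6,5,3,1,2,0,3,6,3,4,2,3,5,4,3,6,2,3,1,2,3,6,2,1,3,6,3,4,2,3,5,4,3,6,2,3,1,2,3,6,2])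 (.word [0,1,3,2,1,3,4,5,3,2,1,6,3,4,2,3,2,3,6,3,1,2,3,5,2,3,0,2,3,2,6,3,2,1,0,5,3,4,2,3,2,3,5,1,2,3,6,2,3,2,1,0,1,3,2,1,3,4,5,3,2,1,6,3,4,2,3,2,3,6,3,1,2,3,5,2,6,3,4,2,3,5,4,3,6,2,3,1,2,3,6,2,1,3,6,3,4,2,3,5,4,3,6,2,3,1,2,3,6,2]))) (.node (.node (.word [1,2,3,5,4,3,1,2,3,6,5,3,1,2,0,2,3,5,4,3,1,2,3,6,5,3,1,2,0,3,5,6,3,2,1,0,3,5,4,2,3,2,3,1,2,3,6,5,2,5,6,3,2,1,0,3,5,4,2,3,2,3,1,2,3,6,5,2,6,3,4,2,3,5,4,3,6,2,3,1,2,3,6,2]) (.word [1,3,5,6,3,2,1,0,3,5,4,2,3,2,3,1,2,3,6,5,2,3,2,3,5,4,3,1,2,3,6,5,3,1,2,0,1,3,2,3,2,1,5,6,3,2,5,3,2,1,3,6,2,3,2,3,6,4,3,1,2,3,5,2,3,0,1,3,5,6,3,2,1,0,3,5,4,2,3,2,3,1,2,3,6,5,2,6,3,4,2,3,5,4,3,6,2,3,1,2,3,6,2])) .none))) (.node (.node (.node (.node .none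 (.word [1,3,6,3,4,2,3,5,4,3,6,2,3,1,2,3,6,2,1,2,3,5,4,3,1,2,3,6,5,3,1,2,0,1,3,2,3,2,1,5,6,3,2,5,3,2,1,3,6,2,3,2,3,6,4,3,1,2,3,5,2,3,0,1,3,6,3,4,2,3,5,4,3,6,2,3,1,2,3,6,2])) (.node (.word [1,3,6,3,4,2,3,5,4,3,6,2,3,1,2,3,6,2,1,2,3,5,4,3,1,2,3,6,5,3,1,2,0,3,6,3,4,2,3,5,4,3,6,2,3,1,2,3,6,2,1,3,6,3,4,2,3,5,4,3,6,2,3,1,2,3,6,2]) (.word [1,3,5,6,3,2,1,0,3,5,4,2,3,2,3,1,2,3,6,5,2,3,2,3,5,4,3,1,2,3,6,5,3,1,2,0,1,3,2,3,2,1,5,6,3,2,5,3,2,1,3,6,2,3,2,3,6,4,3,1,2,3,5,2,3,0,1,3,5,6,3,2,1,0,3,5,4,2,3,2,3,1,2,3,6,5,2,3,2,3,5,4,3,1,2,3,6,5,3,1,2,0,1]))) (.node (.word [1,3,6,3,4,2,3,5,4,3,6,2,3,1,2,3,6,2,3,2,3,2,1,5,6,3,2,5,3,2,1,3,6,2,3,2,3,6,4,3,1,2,3,5,2,3,0,1,3,6,3,4,2,3,5,4,3,6,2,3,1,2,3,6,2,0,1,3,2,1,3,4,5,3,2,1,6,3,4,2,3,2,3,6,3,1,2,3,5,2,6,3,4,2,3,5,4,3,6,2,3,1,2,3,6,2,1,3,6,3,4,2,3,5,4,3,6,2,3,1,2,3,6,2])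 (.node (.word [1,3,5,6,3,2,1,0,3,5,4,2,3,2,3,1,2,3,6,5,2,3,1,3,2,3,2,1,5,6,3,2,5,3,2,1,3,6,2,3,2,3,6,4,3,1,2,3,5,2,3,1,3,2,1,3,4,5,3,2,1,6,3,4,2,3,2,3,6,3,1,2,3,5,2,6,3,4,2,3,5,4,3,6,2,3,1,2,3,6,2,1,3,6,3,4,2,3,5,4,3,6,2,3,1,2,3,6,2,1,3,6,3,4,2,3,5,4,3,6,2,3,1,2,3,6,2]) (.word [3,2,3,2,1,5,6,3,2,5,3,2,1,3,6,2,3,2,3,6,4,3,1,2,3,5,2,3,1,3,2,1,3,4,5,3,2,1,6,3,4,2,3,2,3,6,3,1,2,3,5,2,5,6,3,2,1,0,3,5,4,2,3,2,3,1,2,3,6,5,2,6,3,4,2,3,5,4,3,6,2,3,1,2,3,6,2])))) (.node .none (.node (.node .none (.word [1,0,2,3,2,6,3,2,1,0,5,3,4,2,3,2,3,5,1,2,3,6,2,3,2,3,6,3,4,2,3,5,4,3,6,2,3,1,2,3,6,2,0,1,3,2,1,3,4,5,3,2,1,6,3,4,2,3,2,3,6,3,1,2,3,5,2,3,2,3,5,4,3,1,2,3,6,5,3,1,2,0,3,6,3,4,2,3,5,4,3,6,2,3,1,2,3,6,2]))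 (.node .none (.word [1,3,6,3,4,2,3,5,4,3,6,2,3,1,2,3,6,2,0,1,3,2,1,3,4,5,3,2,1,6,3,4,2,3,2,3,6,3,1,2,3,5,2,5,6,3,2,1,0,3,5,4,2,3,2,3,1,2,3,6,5,2,6,3,4,2,3,5,4,3,6,2,3,1,2,3,6,2,1,3,6,3,4,2,3,5,4,3,6,2,3,1,2,3,6,2]))))))) (.node (.node (.node (.node (.node (.node (.word [1,2,3,5,4,3,1,2,3,6,5,3,1,2,0,1,3,2,3,2,1,5,6,3,2,5,3,2,1,3,6,2,3,2,3,6,4,3,1,2,3,5,2,3,1,3,2,1,3,4,5,3,2,1,6,3,4,2,3,2,3,6,3,1,2,3,5,2,3,0,2,3,2,6,3,2,1,0,5,3,4,2,3,2,3,5,1,2,3,6,2,5,4,3,1,2,3,6,5,3,1,2,0,1]) (.word [1,3,6,3,4,2,3,5,4,3,6,2,3,1,2,3,6,2,1,2,3,5,4,3,1,2,3,6,5,3,1,2,0,1,3,2,3,2,1,5,6,3,2,5,3,2,1,3,6,2,3,2,3,6,4,3,1,2,3,5,2,3,0,1,3,5,6,3,2,1,0,3,5,4,2,3,2,3,1,2,3,6,5,2,3,2,3,5,4,3,1,2,3,6,5,3,1,2,0,1]))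 (.node (.word [1,0,2,3,2,6,3,2,1,0,5,3,4,2,3,2,3,5,1,2,3,6,2,3,2,3,6,3,4,2,3,5,4,3,6,2,3,1,2,3,6,2,1,0,2,3,2,6,3,2,1,0,5,3,4,2,3,2,3,5,1,2,3,6,2,3,2,3,5,6,3,2,1,0,3,5,4,2,3,2,3,1,2,3,6,5,2,6,3,4,2,3,5,4,3,6,2,3,1,2,3,6,2]) (.word [1,0,2,3,2,6,3,2,1,0,5,3,4,2,3,2,3,5,1,2,3,6,2,3,2,3,5,6,3,2,1,0,3,5,4,2,3,2,3,1,2,3,6,5,2,3,2,3,5,4,3,1,2,3,6,5,3,1,2,0,3,6,3,4,2,3,5,4,3,6,2,3,1,2,3,6,2,1,3,6,3,4,2,3,5,4,3,6,2,3,1,2,3,6,2]))) (.node (.node (.word [0,1,3,2,1,3,4,5,3,2,1,6,3,4,2,3,2,3,6,3,1,2,3,5,2,3,1,0,1,3,2,1,3,4,5,3,2,1,6,3,4,2,3,2,3,6,3,1,2,3,5,2,5,6,3,2,1,0,3,5,4,2,3,2,3,1,2,3,6,5,2,6,3,4,2,3,5,4,3,6,2,3,1,2,3,6,2,1,3,6,3,4,2,3,5,4,3,6,2,3,1,2,3,6,2]) (.word [3,2,3,2,1,5,6,3,2,5,3,2,1,3,6,2,3,2,3,6,4,3,1,2,3,5,2,3,0,1,3,6,3,4,2,3,5,4,3,6,2,3,1,2,3,6,2,1,3,6,3,4,2,3,5,4,3,6,2,3,1,2,3,6,2,1,3,6,3,4,2,3,5,4,3,6,2,3,1,2,3,6,2,1,2,3,5,4,3,1,2,3,6,5,3,1,2,0,3,6,3,4,2,3,5,4,3,6,2,3,1,2,3,6,2]))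 (.word [1,3,6,3,4,2,3,5,4,3,6,2,3,1,2,3,6,2,1,2,3,5,4,3,1,2,3,6,5,3,1,2,0,3,6,3,4,2,3,5,4,3,6,2,3,1,2,3,6,2,0,1,3,2,1,3,4,5,3,2,1,6,3,4,2,3,2,3,6,3,1,2,3,5,2,6,3,4,2,3,5,4,3,6,2,3,1,2,3,6,2]))) (.node (.node (.node .none (.word [3,2,3,2,1,5,6,3,2,5,3,2,1,3,6,2,3,2,3,6,4,3,1,2,3,5,2,3,1,3,2,1,3,4,5,3,2,1,6,3,4,2,3,2,3,6,3,1,2,3,5,2,6,3,4,2,3,5,4,3,6,2,3,1,2,3,6,2,1,2,3,5,4,3,1,2,3,6,5,3,1,2,0,3,6,3,4,2,3,5,4,3,6,2,3,1,2,3,6,2])) (.word [1,3,6,3,4,2,3,5,4,3,6,2,3,1,2,3,6,2,1,0,2,3,2,6,3,2,1,0,5,3,4,2,3,2,3,5,1,2,3,6,2,3,2,1,0,1,3,2,1,3,4,5,3,2,1,6,3,4,2,3,2,3,6,3,1,2,3,5,2,6,3,4,2,3,5,4,3,6,2,3,1,2,3,6,2,1,2,3,5,4,3,1,2,3,6,5,3,1,2,0,1])) (.node (.node (.word [1,3,5,6,3,2,1,0,3,5,4,2,3,2,3,1,2,3,6,5,2,3,1,3,2,3,2,1,5,6,3,2,5,3,2,1,3,6,2,3,2,3,6,4,3,1,2,3,5,2,3,0,1,3,6,3,4,2,3,5,4,3,6,2,3,1,2,3,6,2])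 (.word [0,1,3,2,1,3,4,5,3,2,1,6,3,4,2,3,2,3,6,3,1,2,3,5,2,3,1,3,2,3,2,1,5,6,3,2,5,3,2,1,3,6,2,3,2,3,6,4,3,1,2,3,5,2,3,0,1,3,6,3,4,2,3,5,4,3,6,2,3,1,2,3,6,2,3,2,3,2,1,5,6,3,2,5,3,2,1,3,6,2,3,2,3,6,4,3,1,2,3,5,2,3,0,1,3,6,3,4,2,3,5,4,3,6,2,3,1,2,3,6,2])) (.node .none (.word [0,1,3,2,1,3,4,5,3,2,1,6,3,4,2,3,2,3,6,3,1,2,3,5,2,3,2,3,5,4,3,1,2,3,6,5,3,1,2,0,2,3,5,4,3,1,2,3,6,5,3,1,2,0,3,5,6,3,2,1,0,3,5,4,2,3,2,3,1,2,3,6,5,2,3,2,3,5,4,3,1,2,3,6,5,3,1,2,0,1]))))) (.node (.node (.node (.node .none (.word [1,2,3,5,4,3,1,2,3,6,5,3,1,2,0,1,3,2,3,2,1,5,6,3,2,5,3,2,1,3,6,2,3,2,3,6,4,3,1,2,3,5,2,3,0,1,3,5,6,3,2,1,0,3,5,4,2,3,2,3,1,2,3,6,5,2,3,2,3,5,4,3,1,2,3,6,5,3,1,2,0,1])) (.node .none (.word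 [1,2,3,5,4,3,1,2,3,6,5,3,1,2,0,2,3,5,4,3,1,2,3,6,5,3,1,2,0,3,6,3,4,2,3,5,4,3,6,2,3,1,2,3,6,2,0,1,3,2,1,3,4,5,3,2,1,6,3,4,2,3,2,3,6,3,1,2,3,5,2,6,3,4,2,3,5,4,3,6,2,3,1,2,3,6,2,1,3,6,3,4,2,3,5,4,3,6,2,3,1,2,3,6,2]))) (.node (.node .none (.word [1,2,3,5,4,3,1,2,3,6,5,3,1,2,0,1,3,2,3,2,1,5,6,3,2,5,3,2,1,3,6,2,3,2,3,6,4,3,1,2,3,5,2,3,0,1,0,2,3,2,6,3,2,1,0,5,3,4,2,3,2,3,5,1,2,3,6,2,3,2,1,0,1,3,2,1,3,4,5,3,2,1,6,3,4,2,3,2,3,6,3,1,2,3,5,2,6,3,4,2,3,5,4,3,6,2,3,1,2,3,6,2])) (.node (.word [0,1,3,2,1,3,4,5,3,2,1,6,3,4,2,3,2,3,6,3,1,2,3,5,2,3,2,3,5,4,3,1,2,3,6,5,3,1,2,0,1,3,2,3,2,1,5,6,3,2,5,3,2,1,3,6,2,3,2,3,6,4,3,1,2,3,5,2,3,0,1,2,3,5,4,3,1,2,3,6,5,3,1,2,0,3,6,3,4,2,3,5,4,3,6,2,3,1,2,3,6,2])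 (.word [3,2,3,2,1,5,6,3,2,5,3,2,1,3,6,2,3,2,3,6,4,3,1,2,3,5,2,3,0,3,2,3,2,1,5,6,3,2,5,3,2,1,3,6,2,3,2,3,6,4,3,1,2,3,5,2,3,1,3,2,1,3,4,5,3,2,1,6,3,4,2,3,2,3,6,3,1,2,3,5,2,6,3,4,2,3,5,4,3,6,2,3,1,2,3,6,2,1,2,3,5,4,3,1,2,3,6,5,3,1,2,0,1])))) (.node (.node .none (.node (.word [1,0,2,3,2,6,3,2,1,0,5,3,4,2,3,2,3,5,1,2,3,6,2,3,2,1,0,1,3,2,1,3,4,5,3,2,1,6,3,4,2,3,2,3,6,3,1,2,3,5,2,3,1,3,2,3,2,1,5,6,3,2,5,3,2,1,3,6,2,3,2,3,6,4,3,1,2,3,5,2,3,0,3,2,3,2,1,5,6,3,2,5,3,2,1,3,6,2,3,2,3,6,4,3,1,2,3,5,2,3,0,1,2,3,5,4,3,1,2,3,6,5,3,1,2,0,1]) (.word [3,2,3,2,1,5,6,3,2,5,3,2,1,3,6,2,3,2,3,6,4,3,1,2,3,5,2,3,1,3,2,1,3,4,5,3,2,1,6,3,4,2,3,2,3,6,3,1,2,3,5,2,6,3,4,2,3,5,4,3,6,2,3,1,2,3,6,2]))) (.node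 (.node (.word [1,3,6,3,4,2,3,5,4,3,6,2,3,1,2,3,6,2,1,3,5,6,3,2,1,0,3,5,4,2,3,2,3,1,2,3,6,5,2,3,1,3,2,3,2,1,5,6,3,2,5,3,2,1,3,6,2,3,2,3,6,4,3,1,2,3,5,2,3,0,3,2,3,2,1,5,6,3,2,5,3,2,1,3,6,2,3,2,3,6,4,3,1,2,3,5,2,3,0,1,2,3,5,4,3,1,2,3,6,5,3,1,2,0,1]) (.word [3,2,3,2,1,5,6,3,2,5,3,2,1,3,6,2,3,2,3,6,4,3,1,2,3,5,2,3,1,3,2,1,3,4,5,3,2,1,6,3,4,2,3,2,3,6,3,1,2,3,5,2,6,3,4,2,3,5,4,3,6,2,3,1,2,3,6,2,1,3,6,3,4,2,3,5,4,3,6,2,3,1,2,3,6,2])) (.node (.word [1,3,6,3,4,2,3,5,4,3,6,2,3,1,2,3,6,2,3,2,3,2,1,5,6,3,2,5,3,2,1,3,6,2,3,2,3,6,4,3,1,2,3,5,2,3,0,1,2,3,5,4,3,1,2,3,6,5,3,1,2,0,3,6,3,4,2,3,5,4,3,6,2,3,1,2,3,6,2,1,3,6,3,4,2,3,5,4,3,6,2,3,1,2,3,6,2]) (.word [1,3,5,6,3,2,1,0,3,5,4,2,3,2,3,1,2,3,6,5,2,3,2,3,5,4,3,1,2,3,6,5,3,1,2,0,2,3,5,4,3,1,2,3,6,5,3,1,3,2,6,3,2,1,0,5,3,4,2,3,2,3,5,1,2,3,6,2,5,4,3,1,2,3,6,5,3,1,2,0,1]))))))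 (.node (.node (.node (.word [3,2,3,2,1,5,6,3,2,5,3,2,1,3,6,2,3,2,3,6,4,3,1,2,3,5,2,3,1,3,2,1,3,4,5,3,2,1,6,3,4,2,3,2,3,6,3,1,2,3,5,2,3,1,3,2,3,2,1,5,6,3,2,5,3,2,1,3,6,2,3,2,3,6,4,3,1,2,3,5,2,3,0,1,2,3,5,4,3,1,2,3,6,5,3,1,2,0,3,6,3,4,2,3,5,4,3,6,2,3,1,2,3,6,2,1,3,6,3,4,2,3,5,4,3,6,2,3,1,2,3,6,2]) (.node (.word [3,2,3,2,1,5,6,3,2,5,3,2,1,3,6,2,3,2,3,6,4,3,1,2,3,5,2,3,0,1,2,3,5,4,3,1,2,3,6,5,3,1,3,2,6,3,2,1,0,5,3,4,2,3,2,3,5,1,2,3,6,2,3,2,3,6,3,4,2,3,5,4,3,6,2,3,1,2,3,6,2,1,2,3,5,4,3,1,2,3,6,5,3,1,2,0,3,6,3,4,2,3,5,4,3,6,2,3,1,2,3,6,2]) (.node (.word [1,3,5,6,3,2,1,0,3,5,4,2,3,2,3,1,2,3,6,5,2,3,1,0,1,3,2,1,3,4,5,3,2,1,6,3,4,2,3,2,3,6,3,1,2,3,5,2,6,3,4,2,3,5,4,3,6,2,3,1,2,3,6,2,0,1,3,2,1,3,4,5,3,2,1,6,3,4,2,3,2,3,6,3,1,2,3,5,2,3,2,3,5,4,3,1,2,3,6,5,3,1,2,0,1])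 (.word [1,0,2,3,2,6,3,2,1,0,5,3,4,2,3,2,3,5,1,2,3,6,2,5,4,3,1,2,3,6,5,3,1,2,0,1])))) (.node (.node (.word [1,3,5,6,3,2,1,0,3,5,4,2,3,2,3,1,2,3,6,5,2,5,6,3,2,1,0,3,5,4,2,3,2,3,1,2,3,6,5,2,3,1,0,1,3,2,1,3,4,5,3,2,1,6,3,4,2,3,2,3,6,3,1,2,3,5,2,3,1,3,2,3,2,1,5,6,3,2,5,3,2,1,3,6,2,3,2,3,6,4,3,1,2,3,5,2,3,0,1,2,3,5,4,3,1,2,3,6,5,3,1,2,0,1]) (.word [1,3,5,6,3,2,1,0,3,5,4,2,3,2,3,1,2,3,6,5,2,3,1,3,2,3,2,1,5,6,3,2,5,3,2,1,3,6,2,3,2,3,6,4,3,1,2,3,5,2,3,0,1,0,2,3,2,6,3,2,1,0,5,3,4,2,3,2,3,5,1,2,3,6,2,5,4,3,1,2,3,6,5,3,1,2,0,1])) (.node (.word [1,0,2,3,2,6,3,2,1,0,5,3,4,2,3,2,3,5,1,2,3,6,2,3,2,3,5,6,3,2,1,0,3,5,4,2,3,2,3,1,2,3,6,5,2,3,2,3,5,4,3,1,2,3,6,5,3,1,2,0,2,3,5,4,3,1,2,3,6,5,3,1,2,0,3,6,3,4,2,3,5,4,3,6,2,3,1,2,3,6,2])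 (.node (.word [1,0,2,3,2,6,3,2,1,0,5,3,4,2,3,2,3,5,1,2,3,6,2,3,2,3,6,3,4,2,3,5,4,3,6,2,3,1,2,3,6,2,1,3,6,3,4,2,3,5,4,3,6,2,3,1,2,3,6,2,1,3,5,6,3,2,1,0,3,5,4,2,3,2,3,1,2,3,6,5,2,6,3,4,2,3,5,4,3,6,2,3,1,2,3,6,2,1,3,6,3,4,2,3,5,4,3,6,2,3,1,2,3,6,2]) (.word [1,3,5,6,3,2,1,0,3,5,4,2,3,2,3,1,2,3,6,5,2,3,2,3,5,4,3,1,2,3,6,5,3,1,2,0,3,6,3,4,2,3,5,4,3,6,2,3,1,2,3,6,2,1,3,6,3,4,2,3,5,4,3,6,2,3,1,2,3,6,2]))))) (.node (.node (.node (.word [1,0,2,3,2,6,3,2,1,0,5,3,4,2,3,2,3,5,1,2,3,6,2,3,2,3,6,3,4,2,3,5,4,3,6,2,3,1,2,3,6,2,1,3,6,3,4,2,3,5,4,3,6,2,3,1,2,3,6,2,3,2,3,2,1,5,6,3,2,5,3,2,1,3,6,2,3,2,3,6,4,3,1,2,3,5,2,3,0,1,2,3,5,4,3,1,2,3,6,5,3,1,2,0,3,6,3,4,2,3,5,4,3,6,2,3,1,2,3,6,2]) (.node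 (.word [1,0,2,3,2,6,3,2,1,0,5,3,4,2,3,2,3,5,1,2,3,6,2,3,2,3,6,3,4,2,3,5,4,3,6,2,3,1,2,3,6,2,3,2,3,2,1,5,6,3,2,5,3,2,1,3,6,2,3,2,3,6,4,3,1,2,3,5,2,3,0,1,3,6,3,4,2,3,5,4,3,6,2,3,1,2,3,6,2]) (.word [0,1,3,2,1,3,4,5,3,2,1,6,3,4,2,3,2,3,6,3,1,2,3,5,2,3,1,3,2,3,2,1,5,6,3,2,5,3,2,1,3,6,2,3,2,3,6,4,3,1,2,3,5,2,3,0,1,3,5,6,3,2,1,0,3,5,4,2,3,2,3,1,2,3,6,5,2,6,3,4,2,3,5,4,3,6,2,3,1,2,3,6,2,1,3,5,6,3,2,1,0,3,5,4,2,3,2,3,1,2,3,6,5,2,6,3,4,2,3,5,4,3,6,2,3,1,2,3,6,2]))) (.node (.node (.word [1,2,3,5,4,3,1,2,3,6,5,3,1,2,0,3,5,6,3,2,1,0,3,5,4,2,3,2,3,1,2,3,6,5,2,5,6,3,2,1,0,3,5,4,2,3,2,3,1,2,3,6,5,2,6,3,4,2,3,5,4,3,6,2,3,1,2,3,6,2,1,2,3,5,4,3,1,2,3,6,5,3,1,2,0,1]) (.word [1,2,3,5,4,3,1,2,3,6,5,3,1,2,0,1,0,1,3,2,1,3,4,5,3,2,1,6,3,4,2,3,2,3,6,3,1,2,3,5,2,3,1,0,1,3,2,1,3,4,5,3,2,1,6,3,4,2,3,2,3,6,3,1,2,3,5,2,3,2,3,5,4,3,1,2,3,6,5,3,1,2,0,1]))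 (.word [1,0,2,3,2,6,3,2,1,0,5,3,4,2,3,2,3,5,1,2,3,6,2,3,2,3,5,6,3,2,1,0,3,5,4,2,3,2,3,1,2,3,6,5,2,6,3,4,2,3,5,4,3,6,2,3,1,2,3,6,2,3,2,3,2,1,5,6,3,2,5,3,2,1,3,6,2,3,2,3,6,4,3,1,2,3,5,2,3,0,1,3,6,3,4,2,3,5,4,3,6,2,3,1,2,3,6,2]))) (.node (.node (.node (.word [1,0,2,3,2,6,3,2,1,0,5,3,4,2,3,2,3,5,1,2,3,6,2,3,2,3,6,3,4,2,3,5,4,3,6,2,3,1,2,3,6,2]) (.word [1,3,6,3,4,2,3,5,4,3,6,2,3,1,2,3,6,2,3,2,3,2,1,5,6,3,2,5,3,2,1,3,6,2,3,2,3,6,4,3,1,2,3,5,2,3,0,1,3,6,3,4,2,3,5,4,3,6,2,3,1,2,3,6,2,1,2,3,5,4,3,1,2,3,6,5,3,1,2,0,2,3,5,4,3,1,2,3,6,5,3,1,2,0,1])) .none) (.node (.node (.word [3,2,3,2,1,5,6,3,2,5,3,2,1,3,6,2,3,2,3,6,4,3,1,2,3,5,2,3,0,1,3,5,6,3,2,1,0,3,5,4,2,3,2,3,1,2,3,6,5,2,6,3,4,2,3,5,4,3,6,2,3,1,2,3,6,2,1,2,3,5,4,3,1,2,3,6,5,3,1,2,0,1])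 (.word [0,1,3,2,1,3,4,5,3,2,1,6,3,4,2,3,2,3,6,3,1,2,3,5,2,6,3,4,2,3,5,4,3,6,2,3,1,2,3,6,2,0,1,3,2,1,3,4,5,3,2,1,6,3,4,2,3,2,3,6,3,1,2,3,5,2,6,3,4,2,3,5,4,3,6,2,3,1,2,3,6,2])) (.node .none (.word [0,1,3,2,1,3,4,5,3,2,1,6,3,4,2,3,2,3,6,3,1,2,3,5,2,3,1,0,1,3,2,1,3,4,5,3,2,1,6,3,4,2,3,2,3,6,3,1,2,3,5,2,6,3,4,2,3,5,4,3,6,2,3,1,2,3,6,2,1,2,3,5,4,3,1,2,3,6,5,3,1,2,0,1]))))))))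

/-- A subtree. -/
def sub111 : WTree :=
  (.node (.node (.node (.node (.node (.node (.node (.node .none (.word [1,3,6,3,4,2,3,5,4,3,6,2,3,1,2,3,6,2,1,3,5,6,3,2,1,0,3,5,4,2,3,2,3,1,2,3,6,5,2,6,3,4,2,3,5,4,3,6,2,3,1,2,3,6,2,1,3,6,3,4,2,3,5,4,3,6,2,3,1,2,3,6,2,1,3,6,3,4,2,3,5,4,3,6,2,3,1,2,3,6,2])) .none) (.node (.word [0,1,3,2,1,3,4,5,3,2,1,6,3,4,2,3,2,3,6,3,1,2,3,5,2,3,2,3,5,4,3,1,2,3,6,5,3,1,2,0,3,6,3,4,2,3,5,4,3,6,2,3,1,2,3,6,2,1,3,6,3,4,2,3,5,4,3,6,2,3,1,2,3,6,2]) (.word [1,0,2,3,2,6,3,2,1,0,5,3,4,2,3,2,3,5,1,2,3,6,2,3,2,1,3,2,3,2,1,5,6,3,2,5,3,2,1,3,6,2,3,2,3,6,4,3,1,2,3,5,2,3,0,1,3,6,3,4,2,3,5,4,3,6,2,3,1,2,3,6,2,0,1,3,2,1,3,4,5,3,2,1,6,3,4,2,3,2,3,6,3,1,2,3,5,2,6,3,4,2,3,5,4,3,6,2,3,1,2,3,6,2])))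 (.node (.word [1,3,6,3,4,2,3,5,4,3,6,2,3,1,2,3,6,2,3,2,3,2,1,5,6,3,2,5,3,2,1,3,6,2,3,2,3,6,4,3,1,2,3,5,2,3,0,1,3,6,3,4,2,3,5,4,3,6,2,3,1,2,3,6,2]) (.node (.word [1,3,5,6,3,2,1,0,3,5,4,2,3,2,3,1,2,3,6,5,2,3,2,3,5,4,3,1,2,3,6,5,3,1,3,2,6,3,2,1,0,5,3,4,2,3,2,3,5,1,2,3,6,2,3,2,3,6,3,4,2,3,5,4,3,6,2,3,1,2,3,6,2,1,3,6,3,4,2,3,5,4,3,6,2,3,1,2,3,6,2]) (.word [3,2,3,2,1,5,6,3,2,5,3,2,1,3,6,2,3,2,3,6,4,3,1,2,3,5,2,3,0,1,0,2,3,2,6,3,2,1,0,5,3,4,2,3,2,3,5,1,2,3,6,2,3,2,1,0,1,3,2,1,3,4,5,3,2,1,6,3,4,2,3,2,3,6,3,1,2,3,5,2,3,1,0,1,3,2,1,3,4,5,3,2,1,6,3,4,2,3,2,3,6,3,1,2,3,5,2,3,2,3,5,4,3,1,2,3,6,5,3,1,2,0,1])))) (.node (.node (.node (.word [1,3,6,3,4,2,3,5,4,3,6,2,3,1,2,3,6,2,1,3,6,3,4,2,3,5,4,3,6,2,3,1,2,3,6,2,1,3,5,6,3,2,1,0,3,5,4,2,3,2,3,1,2,3,6,5,2,3,2,3,5,4,3,1,2,3,6,5,3,1,2,0,3,6,3,4,2,3,5,4,3,6,2,3,1,2,3,6,2])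 (.word [0,1,3,2,1,3,4,5,3,2,1,6,3,4,2,3,2,3,6,3,1,2,3,5,2,3,1,3,2,3,2,1,5,6,3,2,5,3,2,1,3,6,2,3,2,3,6,4,3,1,2,3,5,2,3,1,3,2,1,3,4,5,3,2,1,6,3,4,2,3,2,3,6,3,1,2,3,5,2,6,3,4,2,3,5,4,3,6,2,3,1,2,3,6,2])) (.node .none (.word [1,2,3,5,4,3,1,2,3,6,5,3,1,2,0,1,3,2,3,2,1,5,6,3,2,5,3,2,1,3,6,2,3,2,3,6,4,3,1,2,3,5,2,3,0,1,0,2,3,2,6,3,2,1,0,5,3,4,2,3,2,3,5,1,2,3,6,2,5,4,3,1,2,3,6,5,3,1,2,0,3,6,3,4,2,3,5,4,3,6,2,3,1,2,3,6,2,1,2,3,5,4,3,1,2,3,6,5,3,1,2,0,1]))) (.node .none (.node (.word [1,3,5,6,3,2,1,0,3,5,4,2,3,2,3,1,2,3,6,5,2,3,0,2,3,2,6,3,2,1,0,5,3,4,2,3,2,3,5,1,2,3,6,2,5,4,3,1,2,3,6,5,3,1,2,0,2,3,5,4,3,1,2,3,6,5,3,1,2,0,1]) (.word [0,1,3,2,1,3,4,5,3,2,1,6,3,4,2,3,2,3,6,3,1,2,3,5,2,3,1,0,1,3,2,1,3,4,5,3,2,1,6,3,4,2,3,2,3,6,3,1,2,3,5,2,3,1,0,1,3,2,1,3,4,5,3,2,1,6,3,4,2,3,2,3,6,3,1,2,3,5,2,3,2,3,5,4,3,1,2,3,6,5,3,1,2,0,3,6,3,4,2,3,5,4,3,6,2,3,1,2,3,6,2,1,3,6,3,4,2,3,5,4,3,6,2,3,1,2,3,6,2])))))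 (.node (.node (.node (.node (.word [0,1,3,2,1,3,4,5,3,2,1,6,3,4,2,3,2,3,6,3,1,2,3,5,2,5,6,3,2,1,0,3,5,4,2,3,2,3,1,2,3,6,5,2,3,2,3,5,4,3,1,2,3,6,5,3,1,2,0,3,6,3,4,2,3,5,4,3,6,2,3,1,2,3,6,2,1,3,6,3,4,2,3,5,4,3,6,2,3,1,2,3,6,2]) (.word [3,2,3,2,1,5,6,3,2,5,3,2,1,3,6,2,3,2,3,6,4,3,1,2,3,5,2,3,0,1,2,3,5,4,3,1,2,3,6,5,3,1,2,0,3,5,6,3,2,1,0,3,5,4,2,3,2,3,1,2,3,6,5,2,3,2,3,5,4,3,1,2,3,6,5,3,1,2,0,2,3,5,4,3,1,2,3,6,5,3,1,2,0,1])) (.node .none (.word [1,3,5,6,3,2,1,0,3,5,4,2,3,2,3,1,2,3,6,5,2,3,1,3,2,3,2,1,5,6,3,2,5,3,2,1,3,6,2,3,2,3,6,4,3,1,2,3,5,2,3,0,1,3,6,3,4,2,3,5,4,3,6,2,3,1,2,3,6,2,1,0,2,3,2,6,3,2,1,0,5,3,4,2,3,2,3,5,1,2,3,6,2,3,2,3,6,3,4,2,3,5,4,3,6,2,3,1,2,3,6,2]))) (.node (.node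 (.word [1,0,2,3,2,6,3,2,1,0,5,3,4,2,3,2,3,5,1,2,3,6,2,5,4,3,1,2,3,6,5,3,1,2,0,1,0,1,3,2,1,3,4,5,3,2,1,6,3,4,2,3,2,3,6,3,1,2,3,5,2,6,3,4,2,3,5,4,3,6,2,3,1,2,3,6,2]) (.word [1,2,3,5,4,3,1,2,3,6,5,3,1,2,0,1,3,2,3,2,1,5,6,3,2,5,3,2,1,3,6,2,3,2,3,6,4,3,1,2,3,5,2,3,0,1,2,3,5,4,3,1,2,3,6,5,3,1,2,0,3,6,3,4,2,3,5,4,3,6,2,3,1,2,3,6,2])) .none)) (.node (.node (.node .none (.word [1,3,5,6,3,2,1,0,3,5,4,2,3,2,3,1,2,3,6,5,2,6,3,4,2,3,5,4,3,6,2,3,1,2,3,6,2,3,2,3,2,1,5,6,3,2,5,3,2,1,3,6,2,3,2,3,6,4,3,1,2,3,5,2,3,0,3,2,3,2,1,5,6,3,2,5,3,2,1,3,6,2,3,2,3,6,4,3,1,2,3,5,2,3,0,1,3,6,3,4,2,3,5,4,3,6,2,3,1,2,3,6,2])) (.node .none (.word [1,0,2,3,2,6,3,2,1,0,5,3,4,2,3,2,3,5,1,2,3,6,2,3,2,1,3,2,3,2,1,5,6,3,2,5,3,2,1,3,6,2,3,2,3,6,4,3,1,2,3,5,2,3,0,1,3,6,3,4,2,3,5,4,3,6,2,3,1,2,3,6,2,3,2,3,2,1,5,6,3,2,5,3,2,1,3,6,2,3,2,3,6,4,3,1,2,3,5,2,3,0,1,3,6,3,4,2,3,5,4,3,6,2,3,1,2,3,6,2])))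 (.node (.node (.word [1,0,2,3,2,6,3,2,1,0,5,3,4,2,3,2,3,5,1,2,3,6,2,5,4,3,1,2,3,6,5,3,1,2,0,1,3,2,3,2,1,5,6,3,2,5,3,2,1,3,6,2,3,2,3,6,4,3,1,2,3,5,2,3,0,1,3,6,3,4,2,3,5,4,3,6,2,3,1,2,3,6,2,1,3,6,3,4,2,3,5,4,3,6,2,3,1,2,3,6,2]) (.word [1,3,6,3,4,2,3,5,4,3,6,2,3,1,2,3,6,2,1,3,5,6,3,2,1,0,3,5,4,2,3,2,3,1,2,3,6,5,2,3,1,3,2,3,2,1,5,6,3,2,5,3,2,1,3,6,2,3,2,3,6,4,3,1,2,3,5,2,3,0,1,0,2,3,2,6,3,2,1,0,5,3,4,2,3,2,3,5,1,2,3,6,2,3,2,3,6,3,4,2,3,5,4,3,6,2,3,1,2,3,6,2])) (.node .none (.word [1,3,6,3,4,2,3,5,4,3,6,2,3,1,2,3,6,2,1,3,6,3,4,2,3,5,4,3,6,2,3,1,2,3,6,2,1,3,6,3,4,2,3,5,4,3,6,2,3,1,2,3,6,2,3,2,3,2,1,5,6,3,2,5,3,2,1,3,6,2,3,2,3,6,4,3,1,2,3,5,2,3,0,1,2,3,5,4,3,1,2,3,6,5,3,1,2,0,3,6,3,4,2,3,5,4,3,6,2,3,1,2,3,6,2]))))))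 (.node (.node (.node (.node (.node (.word [1,0,2,3,2,6,3,2,1,0,5,3,4,2,3,2,3,5,1,2,3,6,2,3,2,3,5,6,3,2,1,0,3,5,4,2,3,2,3,1,2,3,6,5,2,3,2,3,5,4,3,1,2,3,6,5,3,1,2,0,1]) (.word [1,0,2,3,2,6,3,2,1,0,5,3,4,2,3,2,3,5,1,2,3,6,2,5,4,3,1,2,3,6,5,3,1,2,0,1,0,1,3,2,1,3,4,5,3,2,1,6,3,4,2,3,2,3,6,3,1,2,3,5,2,3,2,3,5,4,3,1,2,3,6,5,3,1,2,0,1])) (.node (.word [1,2,3,5,4,3,1,2,3,6,5,3,1,2,0,3,6,3,4,2,3,5,4,3,6,2,3,1,2,3,6,2,1,2,3,5,4,3,1,2,3,6,5,3,1,3,2,6,3,2,1,0,5,3,4,2,3,2,3,5,1,2,3,6,2,5,4,3,1,2,3,6,5,3,1,2,0,1]) (.word [1,3,6,3,4,2,3,5,4,3,6,2,3,1,2,3,6,2,1,3,5,6,3,2,1,0,3,5,4,2,3,2,3,1,2,3,6,5,2,3,2,3,5,4,3,1,2,3,6,5,3,1,2,0,2,3,5,4,3,1,2,3,6,5,3,1,2,0,1,0,1,3,2,1,3,4,5,3,2,1,6,3,4,2,3,2,3,6,3,1,2,3,5,2,6,3,4,2,3,5,4,3,6,2,3,1,2,3,6,2])))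 (.node (.node .none (.word [1,3,6,3,4,2,3,5,4,3,6,2,3,1,2,3,6,2,1,3,5,6,3,2,1,0,3,5,4,2,3,2,3,1,2,3,6,5,2,6,3,4,2,3,5,4,3,6,2,3,1,2,3,6,2,1,0,2,3,2,6,3,2,1,0,5,3,4,2,3,2,3,5,1,2,3,6,2,3,2,3,6,3,4,2,3,5,4,3,6,2,3,1,2,3,6,2])) .none)) (.node (.node (.node (.word [1,2,3,5,4,3,1,2,3,6,5,3,1,3,2,6,3,2,1,0,5,3,4,2,3,2,3,5,1,2,3,6,2,3,2,3,6,3,4,2,3,5,4,3,6,2,3,1,2,3,6,2,1,2,3,5,4,3,1,2,3,6,5,3,1,2,0,3,6,3,4,2,3,5,4,3,6,2,3,1,2,3,6,2]) (.word [3,2,3,2,1,5,6,3,2,5,3,2,1,3,6,2,3,2,3,6,4,3,1,2,3,5,2,3,0,1,3,5,6,3,2,1,0,3,5,4,2,3,2,3,1,2,3,6,5,2,3,2,3,5,4,3,1,2,3,6,5,3,1,2,0,3,5,6,3,2,1,0,3,5,4,2,3,2,3,1,2,3,6,5,2,3,2,3,5,4,3,1,2,3,6,5,3,1,2,0,1])) (.word [3,2,3,2,1,5,6,3,2,5,3,2,1,3,6,2,3,2,3,6,4,3,1,2,3,5,2,3,0,1,3,5,6,3,2,1,0,3,5,4,2,3,2,3,1,2,3,6,5,2,3,0,2,3,2,6,3,2,1,0,5,3,4,2,3,2,3,5,1,2,3,6,2,3,2,1,3,2,3,2,1,5,6,3,2,5,3,2,1,3,6,2,3,2,3,6,4,3,1,2,3,5,2,3,0,1,3,6,3,4,2,3,5,4,3,6,2,3,1,2,3,6,2,1,2,3,5,4,3,1,2,3,6,5,3,1,2,0,1]))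 (.node (.node .none (.word [0,1,3,2,1,3,4,5,3,2,1,6,3,4,2,3,2,3,6,3,1,2,3,5,2,6,3,4,2,3,5,4,3,6,2,3,1,2,3,6,2,1,3,6,3,4,2,3,5,4,3,6,2,3,1,2,3,6,2,0,1,3,2,1,3,4,5,3,2,1,6,3,4,2,3,2,3,6,3,1,2,3,5,2,6,3,4,2,3,5,4,3,6,2,3,1,2,3,6,2])) (.word [1,2,3,5,4,3,1,2,3,6,5,3,1,2,0,2,3,5,4,3,1,2,3,6,5,3,1,2,0,3,5,6,3,2,1,0,3,5,4,2,3,2,3,1,2,3,6,5,2,6,3,4,2,3,5,4,3,6,2,3,1,2,3,6,2])))) (.node (.node (.node (.node (.word [3,2,3,2,1,5,6,3,2,5,3,2,1,3,6,2,3,2,3,6,4,3,1,2,3,5,2,3,0,3,2,3,2,1,5,6,3,2,5,3,2,1,3,6,2,3,2,3,6,4,3,1,2,3,5,2,3,0,1,2,3,5,4,3,1,2,3,6,5,3,1,2,0,1,0,1,3,2,1,3,4,5,3,2,1,6,3,4,2,3,2,3,6,3,1,2,3,5,2,3,2,3,5,4,3,1,2,3,6,5,3,1,2,0,1]) (.word [1,3,6,3,4,2,3,5,4,3,6,2,3,1,2,3,6,2,3,2,3,2,1,5,6,3,2,5,3,2,1,3,6,2,3,2,3,6,4,3,1,2,3,5,2,3,0,1,2,3,5,4,3,1,2,3,6,5,3,1,2,0,3,5,6,3,2,1,0,3,5,4,2,3,2,3,1,2,3,6,5,2,6,3,4,2,3,5,4,3,6,2,3,1,2,3,6,2]))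 (.word [1,3,5,6,3,2,1,0,3,5,4,2,3,2,3,1,2,3,6,5,2,3,2,3,5,4,3,1,2,3,6,5,3,1,2,0,2,3,5,4,3,1,2,3,6,5,3,1,2,0,2,3,5,4,3,1,2,3,6,5,3,1,2,0,1])) (.node (.node (.word [0,1,3,2,1,3,4,5,3,2,1,6,3,4,2,3,2,3,6,3,1,2,3,5,2,3,1,3,2,3,2,1,5,6,3,2,5,3,2,1,3,6,2,3,2,3,6,4,3,1,2,3,5,2,3,0,1,3,6,3,4,2,3,5,4,3,6,2,3,1,2,3,6,2,1,3,5,6,3,2,1,0,3,5,4,2,3,2,3,1,2,3,6,5,2,6,3,4,2,3,5,4,3,6,2,3,1,2,3,6,2]) (.word [1,0,2,3,2,6,3,2,1,0,5,3,4,2,3,2,3,5,1,2,3,6,2,3,2,3,6,3,4,2,3,5,4,3,6,2,3,1,2,3,6,2,3,2,3,2,1,5,6,3,2,5,3,2,1,3,6,2,3,2,3,6,4,3,1,2,3,5,2,3,0,1,3,6,3,4,2,3,5,4,3,6,2,3,1,2,3,6,2,3,2,3,2,1,5,6,3,2,5,3,2,1,3,6,2,3,2,3,6,4,3,1,2,3,5,2,3,0,1,3,6,3,4,2,3,5,4,3,6,2,3,1,2,3,6,2])) (.node .none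 (.word [1,2,3,5,4,3,1,2,3,6,5,3,1,2,0,3,5,6,3,2,1,0,3,5,4,2,3,2,3,1,2,3,6,5,2,6,3,4,2,3,5,4,3,6,2,3,1,2,3,6,2,1,3,6,3,4,2,3,5,4,3,6,2,3,1,2,3,6,2])))) (.node (.node (.node (.word [0,1,3,2,1,3,4,5,3,2,1,6,3,4,2,3,2,3,6,3,1,2,3,5,2,6,3,4,2,3,5,4,3,6,2,3,1,2,3,6,2,3,2,3,2,1,5,6,3,2,5,3,2,1,3,6,2,3,2,3,6,4,3,1,2,3,5,2,3,0,1,3,6,3,4,2,3,5,4,3,6,2,3,1,2,3,6,2,1,3,6,3,4,2,3,5,4,3,6,2,3,1,2,3,6,2]) (.word [1,2,3,5,4,3,1,2,3,6,5,3,1,2,0,1,3,2,3,2,1,5,6,3,2,5,3,2,1,3,6,2,3,2,3,6,4,3,1,2,3,5,2,3,0,1,3,6,3,4,2,3,5,4,3,6,2,3,1,2,3,6,2,1,3,6,3,4,2,3,5,4,3,6,2,3,1,2,3,6,2,1,2,3,5,4,3,1,2,3,6,5,3,1,2,0,1])) .none) (.node (.node (.word [1,3,6,3,4,2,3,5,4,3,6,2,3,1,2,3,6,2]) (.word [1,3,5,6,3,2,1,0,3,5,4,2,3,2,3,1,2,3,6,5,2,3,1,3,2,3,2,1,5,6,3,2,5,3,2,1,3,6,2,3,2,3,6,4,3,1,2,3,5,2,3,0,1,3,5,6,3,2,1,0,3,5,4,2,3,2,3,1,2,3,6,5,2,6,3,4,2,3,5,4,3,6,2,3,1,2,3,6,2]))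 (.node .none (.word [1,0,2,3,2,6,3,2,1,0,5,3,4,2,3,2,3,5,1,2,3,6,2,3,2,1,3,2,3,2,1,5,6,3,2,5,3,2,1,3,6,2,3,2,3,6,4,3,1,2,3,5,2,3,0,1,3,6,3,4,2,3,5,4,3,6,2,3,1,2,3,6,2,1,2,3,5,4,3,1,2,3,6,5,3,1,2,0,1]))))))) (.node (.node (.node (.node (.node .none (.word [3,2,3,2,1,5,6,3,2,5,3,2,1,3,6,2,3,2,3,6,4,3,1,2,3,5,2,3,0,1,2,3,5,4,3,1,2,3,6,5,3,1,2,0,1,3,2,3,2,1,5,6,3,2,5,3,2,1,3,6,2,3,2,3,6,4,3,1,2,3,5,2,3,0,1,3,5,6,3,2,1,0,3,5,4,2,3,2,3,1,2,3,6,5,2,6,3,4,2,3,5,4,3,6,2,3,1,2,3,6,2,1,3,6,3,4,2,3,5,4,3,6,2,3,1,2,3,6,2])) (.node (.node (.word [0,1,3,2,1,3,4,5,3,2,1,6,3,4,2,3,2,3,6,3,1,2,3,5,2,6,3,4,2,3,5,4,3,6,2,3,1,2,3,6,2,1,3,5,6,3,2,1,0,3,5,4,2,3,2,3,1,2,3,6,5,2,3,2,3,5,4,3,1,2,3,6,5,3,1,2,0,3,6,3,4,2,3,5,4,3,6,2,3,1,2,3,6,2])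 (.word [1,2,3,5,4,3,1,2,3,6,5,3,1,2,0,1,0,1,3,2,1,3,4,5,3,2,1,6,3,4,2,3,2,3,6,3,1,2,3,5,2,3,1,3,2,3,2,1,5,6,3,2,5,3,2,1,3,6,2,3,2,3,6,4,3,1,2,3,5,2,3,0,1,2,3,5,4,3,1,2,3,6,5,3,1,2,0,2,3,5,4,3,1,2,3,6,5,3,1,2,0,1])) (.node (.word [3,2,3,2,1,5,6,3,2,5,3,2,1,3,6,2,3,2,3,6,4,3,1,2,3,5,2,3,0,1,2,3,5,4,3,1,2,3,6,5,3,1,2,0,1,3,2,3,2,1,5,6,3,2,5,3,2,1,3,6,2,3,2,3,6,4,3,1,2,3,5,2,3,0,1,2,3,5,4,3,1,2,3,6,5,3,1,2,0,3,6,3,4,2,3,5,4,3,6,2,3,1,2,3,6,2]) (.word [1,0,2,3,2,6,3,2,1,0,5,3,4,2,3,2,3,5,1,2,3,6,2,3,2,3,6,3,4,2,3,5,4,3,6,2,3,1,2,3,6,2,0,1,3,2,1,3,4,5,3,2,1,6,3,4,2,3,2,3,6,3,1,2,3,5,2,3,1,0,1,3,2,1,3,4,5,3,2,1,6,3,4,2,3,2,3,6,3,1,2,3,5,2,6,3,4,2,3,5,4,3,6,2,3,1,2,3,6,2,1,3,6,3,4,2,3,5,4,3,6,2,3,1,2,3,6,2]))))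 (.node (.node .none (.node (.word [1,2,3,5,4,3,1,2,3,6,5,3,1,2,0,3,5,6,3,2,1,0,3,5,4,2,3,2,3,1,2,3,6,5,2,6,3,4,2,3,5,4,3,6,2,3,1,2,3,6,2,0,1,3,2,1,3,4,5,3,2,1,6,3,4,2,3,2,3,6,3,1,2,3,5,2,6,3,4,2,3,5,4,3,6,2,3,1,2,3,6,2,1,3,6,3,4,2,3,5,4,3,6,2,3,1,2,3,6,2]) (.word [1,0,2,3,2,6,3,2,1,0,5,3,4,2,3,2,3,5,1,2,3,6,2,5,4,3,1,2,3,6,5,3,1,2,0,3,6,3,4,2,3,5,4,3,6,2,3,1,2,3,6,2,1,0,2,3,2,6,3,2,1,0,5,3,4,2,3,2,3,5,1,2,3,6,2,3,2,3,6,3,4,2,3,5,4,3,6,2,3,1,2,3,6,2]))) (.node (.node (.word [1,0,2,3,2,6,3,2,1,0,5,3,4,2,3,2,3,5,1,2,3,6,2,3,2,3,6,3,4,2,3,5,4,3,6,2,3,1,2,3,6,2,1,3,5,6,3,2,1,0,3,5,4,2,3,2,3,1,2,3,6,5,2,3,1,3,2,3,2,1,5,6,3,2,5,3,2,1,3,6,2,3,2,3,6,4,3,1,2,3,5,2,3,0,1,3,6,3,4,2,3,5,4,3,6,2,3,1,2,3,6,2])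 (.word [3,2,3,2,1,5,6,3,2,5,3,2,1,3,6,2,3,2,3,6,4,3,1,2,3,5,2,3,0,1,3,5,6,3,2,1,0,3,5,4,2,3,2,3,1,2,3,6,5,2,3,2,3,5,4,3,1,2,3,6,5,3,1,2,0,3,6,3,4,2,3,5,4,3,6,2,3,1,2,3,6,2,1,2,3,5,4,3,1,2,3,6,5,3,1,2,0,1])) (.word [0,1,3,2,1,3,4,5,3,2,1,6,3,4,2,3,2,3,6,3,1,2,3,5,2,3,0,2,3,2,6,3,2,1,0,5,3,4,2,3,2,3,5,1,2,3,6,2,5,4,3,1,2,3,6,5,3,1,2,0,2,3,5,4,3,1,2,3,6,5,3,1,2,0,1])))) (.node (.node (.node (.word [1,3,6,3,4,2,3,5,4,3,6,2,3,1,2,3,6,2,0,1,3,2,1,3,4,5,3,2,1,6,3,4,2,3,2,3,6,3,1,2,3,5,2,3,1,3,2,3,2,1,5,6,3,2,5,3,2,1,3,6,2,3,2,3,6,4,3,1,2,3,5,2,3,1,3,2,1,3,4,5,3,2,1,6,3,4,2,3,2,3,6,3,1,2,3,5,2,3,2,3,5,4,3,1,2,3,6,5,3,1,2,0,1]) (.node (.word [1,3,5,6,3,2,1,0,3,5,4,2,3,2,3,1,2,3,6,5,2,6,3,4,2,3,5,4,3,6,2,3,1,2,3,6,2,1,3,5,6,3,2,1,0,3,5,4,2,3,2,3,1,2,3,6,5,2,3,1,0,1,3,2,1,3,4,5,3,2,1,6,3,4,2,3,2,3,6,3,1,2,3,5,2,6,3,4,2,3,5,4,3,6,2,3,1,2,3,6,2])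 (.word [0,1,3,2,1,3,4,5,3,2,1,6,3,4,2,3,2,3,6,3,1,2,3,5,2,3,1,3,2,3,2,1,5,6,3,2,5,3,2,1,3,6,2,3,2,3,6,4,3,1,2,3,5,2,3,0,3,2,3,2,1,5,6,3,2,5,3,2,1,3,6,2,3,2,3,6,4,3,1,2,3,5,2,3,0,1,2,3,5,4,3,1,2,3,6,5,3,1,2,0,1]))) (.node .none (.node (.word [1,3,5,6,3,2,1,0,3,5,4,2,3,2,3,1,2,3,6,5,2,3,1,0,1,3,2,1,3,4,5,3,2,1,6,3,4,2,3,2,3,6,3,1,2,3,5,2,3,0,2,3,2,6,3,2,1,0,5,3,4,2,3,2,3,5,1,2,3,6,2,3,2,3,6,3,4,2,3,5,4,3,6,2,3,1,2,3,6,2,1,2,3,5,4,3,1,2,3,6,5,3,1,2,0,3,6,3,4,2,3,5,4,3,6,2,3,1,2,3,6,2]) (.word [1,2,3,5,4,3,1,2,3,6,5,3,1,2,0,3,6,3,4,2,3,5,4,3,6,2,3,1,2,3,6,2,1,0,2,3,2,6,3,2,1,0,5,3,4,2,3,2,3,5,1,2,3,6,2,5,4,3,1,2,3,6,5,3,1,2,0,2,3,5,4,3,1,2,3,6,5,3,1,2,0,3,6,3,4,2,3,5,4,3,6,2,3,1,2,3,6,2]))))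 (.node (.node (.node (.word [1,3,6,3,4,2,3,5,4,3,6,2,3,1,2,3,6,2,1,3,6,3,4,2,3,5,4,3,6,2,3,1,2,3,6,2,1,0,2,3,2,6,3,2,1,0,5,3,4,2,3,2,3,5,1,2,3,6,2,3,2,3,5,6,3,2,1,0,3,5,4,2,3,2,3,1,2,3,6,5,2,6,3,4,2,3,5,4,3,6,2,3,1,2,3,6,2]) (.word [0,1,3,2,1,3,4,5,3,2,1,6,3,4,2,3,2,3,6,3,1,2,3,5,2,3,1,3,2,3,2,1,5,6,3,2,5,3,2,1,3,6,2,3,2,3,6,4,3,1,2,3,5,2,3,0,1,2,3,5,4,3,1,2,3,6,5,3,1,2,0,1,3,2,3,2,1,5,6,3,2,5,3,2,1,3,6,2,3,2,3,6,4,3,1,2,3,5,2,3,0,1,3,6,3,4,2,3,5,4,3,6,2,3,1,2,3,6,2,1,3,6,3,4,2,3,5,4,3,6,2,3,1,2,3,6,2])) (.node (.word [1,3,5,6,3,2,1,0,3,5,4,2,3,2,3,1,2,3,6,5,2,5,6,3,2,1,0,3,5,4,2,3,2,3,1,2,3,6,5,2,3,1,3,2,3,2,1,5,6,3,2,5,3,2,1,3,6,2,3,2,3,6,4,3,1,2,3,5,2,3,0,1,3,6,3,4,2,3,5,4,3,6,2,3,1,2,3,6,2,1,2,3,5,4,3,1,2,3,6,5,3,1,2,0,1])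 (.word [1,2,3,5,4,3,1,2,3,6,5,3,1,3,2,6,3,2,1,0,5,3,4,2,3,2,3,5,1,2,3,6,2,3,2,3,6,3,4,2,3,5,4,3,6,2,3,1,2,3,6,2,3,2,3,2,1,5,6,3,2,5,3,2,1,3,6,2,3,2,3,6,4,3,1,2,3,5,2,3,0,1,3,6,3,4,2,3,5,4,3,6,2,3,1,2,3,6,2]))) (.node (.node .none (.word [1,0,2,3,2,6,3,2,1,0,5,3,4,2,3,2,3,5,1,2,3,6,2,3,2,3,5,6,3,2,1,0,3,5,4,2,3,2,3,1,2,3,6,5,2,3,1,3,2,3,2,1,5,6,3,2,5,3,2,1,3,6,2,3,2,3,6,4,3,1,2,3,5,2,3,0,1,3,6,3,4,2,3,5,4,3,6,2,3,1,2,3,6,2])) (.word [3,2,3,2,1,5,6,3,2,5,3,2,1,3,6,2,3,2,3,6,4,3,1,2,3,5,2,3,0,1,2,3,5,4,3,1,2,3,6,5,3,1,2,0,2,3,5,4,3,1,2,3,6,5,3,1,3,2,6,3,2,1,0,5,3,4,2,3,2,3,5,1,2,3,6,2,3,2,3,6,3,4,2,3,5,4,3,6,2,3,1,2,3,6,2]))))) (.node (.node (.node (.node (.node .none (.word [0,1,3,2,1,3,4,5,3,2,1,6,3,4,2,3,2,3,6,3,1,2,3,5,2,3,2,3,5,4,3,1,2,3,6,5,3,1,2,0,3,6,3,4,2,3,5,4,3,6,2,3,1,2,3,6,2,1,2,3,5,4,3,1,2,3,6,5,3,1,2,0,3,6,3,4,2,3,5,4,3,6,2,3,1,2,3,6,2]))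 (.word [1,2,3,5,4,3,1,2,3,6,5,3,1,2,0,1,3,2,3,2,1,5,6,3,2,5,3,2,1,3,6,2,3,2,3,6,4,3,1,2,3,5,2,3,0,1,3,5,6,3,2,1,0,3,5,4,2,3,2,3,1,2,3,6,5,2,3,1,3,2,3,2,1,5,6,3,2,5,3,2,1,3,6,2,3,2,3,6,4,3,1,2,3,5,2,3,0,1,2,3,5,4,3,1,2,3,6,5,3,1,2,0,1])) (.node (.word [1,3,6,3,4,2,3,5,4,3,6,2,3,1,2,3,6,2,1,3,6,3,4,2,3,5,4,3,6,2,3,1,2,3,6,2,3,2,3,2,1,5,6,3,2,5,3,2,1,3,6,2,3,2,3,6,4,3,1,2,3,5,2,3,1,3,2,1,3,4,5,3,2,1,6,3,4,2,3,2,3,6,3,1,2,3,5,2,6,3,4,2,3,5,4,3,6,2,3,1,2,3,6,2]) (.node (.word [1,3,5,6,3,2,1,0,3,5,4,2,3,2,3,1,2,3,6,5,2,6,3,4,2,3,5,4,3,6,2,3,1,2,3,6,2,3,2,3,2,1,5,6,3,2,5,3,2,1,3,6,2,3,2,3,6,4,3,1,2,3,5,2,3,0,1,2,3,5,4,3,1,2,3,6,5,3,1,2,0,3,6,3,4,2,3,5,4,3,6,2,3,1,2,3,6,2]) (.word [3,2,3,2,1,5,6,3,2,5,3,2,1,3,6,2,3,2,3,6,4,3,1,2,3,5,2,3,0,1,3,5,6,3,2,1,0,3,5,4,2,3,2,3,1,2,3,6,5,2,3,2,3,5,4,3,1,2,3,6,5,3,1,2,0,1,3,2,3,2,1,5,6,3,2,5,3,2,1,3,6,2,3,2,3,6,4,3,1,2,3,5,2,3,0,1,3,6,3,4,2,3,5,4,3,6,2,3,1,2,3,6,2]))))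 (.node (.node (.node (.word [1,2,3,5,4,3,1,2,3,6,5,3,1,2,0,1,0,1,3,2,1,3,4,5,3,2,1,6,3,4,2,3,2,3,6,3,1,2,3,5,2,3,0,2,3,2,6,3,2,1,0,5,3,4,2,3,2,3,5,1,2,3,6,2,3,2,1,0,1,3,2,1,3,4,5,3,2,1,6,3,4,2,3,2,3,6,3,1,2,3,5,2,3,2,3,5,4,3,1,2,3,6,5,3,1,2,0,1]) (.word [1,3,5,6,3,2,1,0,3,5,4,2,3,2,3,1,2,3,6,5,2,3,2,3,5,4,3,1,2,3,6,5,3,1,2,0,3,5,6,3,2,1,0,3,5,4,2,3,2,3,1,2,3,6,5,2,3,2,3,5,4,3,1,2,3,6,5,3,1,2,0,1])) (.word [0,1,3,2,1,3,4,5,3,2,1,6,3,4,2,3,2,3,6,3,1,2,3,5,2,3,1,3,2,3,2,1,5,6,3,2,5,3,2,1,3,6,2,3,2,3,6,4,3,1,2,3,5,2,3,0,3,2,3,2,1,5,6,3,2,5,3,2,1,3,6,2,3,2,3,6,4,3,1,2,3,5,2,3,0,1,3,6,3,4,2,3,5,4,3,6,2,3,1,2,3,6,2,1,2,3,5,4,3,1,2,3,6,5,3,1,2,0,1])) (.node (.word [1,3,5,6,3,2,1,0,3,5,4,2,3,2,3,1,2,3,6,5,2,6,3,4,2,3,5,4,3,6,2,3,1,2,3,6,2,1,2,3,5,4,3,1,2,3,6,5,3,1,2,0,3,6,3,4,2,3,5,4,3,6,2,3,1,2,3,6,2,1,2,3,5,4,3,1,2,3,6,5,3,1,2,0,1])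 (.node (.word [1,3,6,3,4,2,3,5,4,3,6,2,3,1,2,3,6,2,1,3,5,6,3,2,1,0,3,5,4,2,3,2,3,1,2,3,6,5,2,3,0,2,3,2,6,3,2,1,0,5,3,4,2,3,2,3,5,1,2,3,6,2,5,4,3,1,2,3,6,5,3,1,2,0,3,6,3,4,2,3,5,4,3,6,2,3,1,2,3,6,2,1,3,6,3,4,2,3,5,4,3,6,2,3,1,2,3,6,2]) (.word [3,2,3,2,1,5,6,3,2,5,3,2,1,3,6,2,3,2,3,6,4,3,1,2,3,5,2,3,1,3,2,1,3,4,5,3,2,1,6,3,4,2,3,2,3,6,3,1,2,3,5,2,3,1,0,1,3,2,1,3,4,5,3,2,1,6,3,4,2,3,2,3,6,3,1,2,3,5,2,6,3,4,2,3,5,4,3,6,2,3,1,2,3,6,2,1,3,6,3,4,2,3,5,4,3,6,2,3,1,2,3,6,2,1,3,6,3,4,2,3,5,4,3,6,2,3,1,2,3,6,2]))))) (.node (.node .none (.node (.word [1,3,6,3,4,2,3,5,4,3,6,2,3,1,2,3,6,2,1,2,3,5,4,3,1,2,3,6,5,3,1,2,0,1]) (.node (.word [3,2,3,2,1,5,6,3,2,5,3,2,1,3,6,2,3,2,3,6,4,3,1,2,3,5,2,3,0,1,0,2,3,2,6,3,2,1,0,5,3,4,2,3,2,3,5,1,2,3,6,2,3,2,3,6,3,4,2,3,5,4,3,6,2,3,1,2,3,6,2,1,3,5,6,3,2,1,0,3,5,4,2,3,2,3,1,2,3,6,5,2,6,3,4,2,3,5,4,3,6,2,3,1,2,3,6,2])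 (.word [3,2,3,2,1,5,6,3,2,5,3,2,1,3,6,2,3,2,3,6,4,3,1,2,3,5,2,3,0,1,2,3,5,4,3,1,2,3,6,5,3,1,2,0,1,3,2,3,2,1,5,6,3,2,5,3,2,1,3,6,2,3,2,3,6,4,3,1,2,3,5,2,3,0,1,3,6,3,4,2,3,5,4,3,6,2,3,1,2,3,6,2,1,3,6,3,4,2,3,5,4,3,6,2,3,1,2,3,6,2])))) (.node (.node (.node (.word [0,1,3,2,1,3,4,5,3,2,1,6,3,4,2,3,2,3,6,3,1,2,3,5,2,3,2,3,5,4,3,1,2,3,6,5,3,1,2,0,3,6,3,4,2,3,5,4,3,6,2,3,1,2,3,6,2,1,3,6,3,4,2,3,5,4,3,6,2,3,1,2,3,6,2,0,1,3,2,1,3,4,5,3,2,1,6,3,4,2,3,2,3,6,3,1,2,3,5,2,6,3,4,2,3,5,4,3,6,2,3,1,2,3,6,2]) (.word [3,2,3,2,1,5,6,3,2,5,3,2,1,3,6,2,3,2,3,6,4,3,1,2,3,5,2,3,0,1,2,3,5,4,3,1,2,3,6,5,3,1,2,0,3,6,3,4,2,3,5,4,3,6,2,3,1,2,3,6,2,1,3,5,6,3,2,1,0,3,5,4,2,3,2,3,1,2,3,6,5,2,6,3,4,2,3,5,4,3,6,2,3,1,2,3,6,2]))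 (.word [1,3,6,3,4,2,3,5,4,3,6,2,3,1,2,3,6,2,3,2,3,2,1,5,6,3,2,5,3,2,1,3,6,2,3,2,3,6,4,3,1,2,3,5,2,3,0,1,3,6,3,4,2,3,5,4,3,6,2,3,1,2,3,6,2,3,2,3,2,1,5,6,3,2,5,3,2,1,3,6,2,3,2,3,6,4,3,1,2,3,5,2,3,0,3,2,3,2,1,5,6,3,2,5,3,2,1,3,6,2,3,2,3,6,4,3,1,2,3,5,2,3,0,1,3,6,3,4,2,3,5,4,3,6,2,3,1,2,3,6,2])) (.node (.node .none (.word [1,3,6,3,4,2,3,5,4,3,6,2,3,1,2,3,6,2,3,2,3,2,1,5,6,3,2,5,3,2,1,3,6,2,3,2,3,6,4,3,1,2,3,5,2,3,1,3,2,1,3,4,5,3,2,1,6,3,4,2,3,2,3,6,3,1,2,3,5,2,3,2,3,5,4,3,1,2,3,6,5,3,1,2,0,1,3,2,3,2,1,5,6,3,2,5,3,2,1,3,6,2,3,2,3,6,4,3,1,2,3,5,2,3,0,1,3,6,3,4,2,3,5,4,3,6,2,3,1,2,3,6,2])) (.node (.word [0,1,3,2,1,3,4,5,3,2,1,6,3,4,2,3,2,3,6,3,1,2,3,5,2,3,1,0,1,3,2,1,3,4,5,3,2,1,6,3,4,2,3,2,3,6,3,1,2,3,5,2,6,3,4,2,3,5,4,3,6,2,3,1,2,3,6,2,1,3,6,3,4,2,3,5,4,3,6,2,3,1,2,3,6,2,1,2,3,5,4,3,1,2,3,6,5,3,1,2,0,3,6,3,4,2,3,5,4,3,6,2,3,1,2,3,6,2])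 (.word [1,3,6,3,4,2,3,5,4,3,6,2,3,1,2,3,6,2,1,3,5,6,3,2,1,0,3,5,4,2,3,2,3,1,2,3,6,5,2,3,1,3,2,3,2,1,5,6,3,2,5,3,2,1,3,6,2,3,2,3,6,4,3,1,2,3,5,2,3,0,1,2,3,5,4,3,1,2,3,6,5,3,1,2,0,3,6,3,4,2,3,5,4,3,6,2,3,1,2,3,6,2]))))))))

/-- A subtree. -/
def sub112 : WTree :=
  (.node (.node (.node (.node (.node (.node (.node .none (.word [1,0,2,3,2,6,3,2,1,0,5,3,4,2,3,2,3,5,1,2,3,6,2,5,4,3,1,2,3,6,5,3,1,2,0,3,5,6,3,2,1,0,3,5,4,2,3,2,3,1,2,3,6,5,2,6,3,4,2,3,5,4,3,6,2,3,1,2,3,6,2,1,2,3,5,4,3,1,2,3,6,5,3,1,2,0,1])) (.word [3,2,3,2,1,5,6,3,2,5,3,2,1,3,6,2,3,2,3,6,4,3,1,2,3,5,2,3,0,1,0,2,3,2,6,3,2,1,0,5,3,4,2,3,2,3,5,1,2,3,6,2,3,2,1,0,1,3,2,1,3,4,5,3,2,1,6,3,4,2,3,2,3,6,3,1,2,3,5,2,6,3,4,2,3,5,4,3,6,2,3,1,2,3,6,2,1,2,3,5,4,3,1,2,3,6,5,3,1,2,0,1]))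 (.node .none (.node .none (.word [1,2,3,5,4,3,1,2,3,6,5,3,1,2,0,3,6,3,4,2,3,5,4,3,6,2,3,1,2,3,6,2,1,3,5,6,3,2,1,0,3,5,4,2,3,2,3,1,2,3,6,5,2,3,2,3,5,4,3,1,2,3,6,5,3,1,2,0,1])))) (.node (.node (.node (.word [3,2,3,2,1,5,6,3,2,5,3,2,1,3,6,2,3,2,3,6,4,3,1,2,3,5,2,3,0,3,2,3,2,1,5,6,3,2,5,3,2,1,3,6,2,3,2,3,6,4,3,1,2,3,5,2,3,0,1,3,6,3,4,2,3,5,4,3,6,2,3,1,2,3,6,2,0,1,3,2,1,3,4,5,3,2,1,6,3,4,2,3,2,3,6,3,1,2,3,5,2,6,3,4,2,3,5,4,3,6,2,3,1,2,3,6,2]) (.word [3,2,3,2,1,5,6,3,2,5,3,2,1,3,6,2,3,2,3,6,4,3,1,2,3,5,2,3,0,1,2,3,5,4,3,1,2,3,6,5,3,1,3,2,6,3,2,1,0,5,3,4,2,3,2,3,5,1,2,3,6,2,3,2,3,6,3,4,2,3,5,4,3,6,2,3,1,2,3,6,2,1,3,6,3,4,2,3,5,4,3,6,2,3,1,2,3,6,2])) (.node (.word [1,3,5,6,3,2,1,0,3,5,4,2,3,2,3,1,2,3,6,5,2,3,2,3,5,4,3,1,2,3,6,5,3,1,2,0,2,3,5,4,3,1,2,3,6,5,3,1,3,2,6,3,2,1,0,5,3,4,2,3,2,3,5,1,2,3,6,2,3,2,1,0,1,3,2,1,3,4,5,3,2,1,6,3,4,2,3,2,3,6,3,1,2,3,5,2,6,3,4,2,3,5,4,3,6,2,3,1,2,3,6,2])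 (.word [0,1,3,2,1,3,4,5,3,2,1,6,3,4,2,3,2,3,6,3,1,2,3,5,2,6,3,4,2,3,5,4,3,6,2,3,1,2,3,6,2,1,3,5,6,3,2,1,0,3,5,4,2,3,2,3,1,2,3,6,5,2,3,2,3,5,4,3,1,2,3,6,5,3,1,2,0,1,3,2,3,2,1,5,6,3,2,5,3,2,1,3,6,2,3,2,3,6,4,3,1,2,3,5,2,3,0,1,3,6,3,4,2,3,5,4,3,6,2,3,1,2,3,6,2]))) (.node (.node (.word [3,2,3,2,1,5,6,3,2,5,3,2,1,3,6,2,3,2,3,6,4,3,1,2,3,5,2,3,0,1,3,5,6,3,2,1,0,3,5,4,2,3,2,3,1,2,3,6,5,2,3,1,0,1,3,2,1,3,4,5,3,2,1,6,3,4,2,3,2,3,6,3,1,2,3,5,2,6,3,4,2,3,5,4,3,6,2,3,1,2,3,6,2]) (.word [0,1,3,2,1,3,4,5,3,2,1,6,3,4,2,3,2,3,6,3,1,2,3,5,2,3,0,2,3,2,6,3,2,1,0,5,3,4,2,3,2,3,5,1,2,3,6,2,5,4,3,1,2,3,6,5,3,1,2,0,3,6,3,4,2,3,5,4,3,6,2,3,1,2,3,6,2,1,2,3,5,4,3,1,2,3,6,5,3,1,2,0,1])) (.node (.word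 [3,2,3,2,1,5,6,3,2,5,3,2,1,3,6,2,3,2,3,6,4,3,1,2,3,5,2,3,0,1,3,5,6,3,2,1,0,3,5,4,2,3,2,3,1,2,3,6,5,2,3,1,3,2,3,2,1,5,6,3,2,5,3,2,1,3,6,2,3,2,3,6,4,3,1,2,3,5,2,3,0,1,0,2,3,2,6,3,2,1,0,5,3,4,2,3,2,3,5,1,2,3,6,2,3,2,3,6,3,4,2,3,5,4,3,6,2,3,1,2,3,6,2]) (.word [0,1,3,2,1,3,4,5,3,2,1,6,3,4,2,3,2,3,6,3,1,2,3,5,2,6,3,4,2,3,5,4,3,6,2,3,1,2,3,6,2,1,2,3,5,4,3,1,2,3,6,5,3,1,2,0,1,3,2,3,2,1,5,6,3,2,5,3,2,1,3,6,2,3,2,3,6,4,3,1,2,3,5,2,3,0,1,3,6,3,4,2,3,5,4,3,6,2,3,1,2,3,6,2]))))) (.node (.node (.node (.node (.word [1,3,5,6,3,2,1,0,3,5,4,2,3,2,3,1,2,3,6,5,2,6,3,4,2,3,5,4,3,6,2,3,1,2,3,6,2,1,2,3,5,4,3,1,2,3,6,5,3,1,2,0,2,3,5,4,3,1,2,3,6,5,3,1,2,0,1]) (.word [1,3,6,3,4,2,3,5,4,3,6,2,3,1,2,3,6,2,1,2,3,5,4,3,1,2,3,6,5,3,1,2,0,2,3,5,4,3,1,2,3,6,5,3,1,2,0,1,0,1,3,2,1,3,4,5,3,2,1,6,3,4,2,3,2,3,6,3,1,2,3,5,2,3,2,3,5,4,3,1,2,3,6,5,3,1,2,0,1]))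 .none) .none) (.node (.node (.node .none (.word [1,0,2,3,2,6,3,2,1,0,5,3,4,2,3,2,3,5,1,2,3,6,2,3,2,1,0,1,3,2,1,3,4,5,3,2,1,6,3,4,2,3,2,3,6,3,1,2,3,5,2,3,2,3,5,4,3,1,2,3,6,5,3,1,2,0,2,3,5,4,3,1,2,3,6,5,3,1,2,0,1])) (.node .none (.word [0,1,3,2,1,3,4,5,3,2,1,6,3,4,2,3,2,3,6,3,1,2,3,5,2,3,1,3,2,3,2,1,5,6,3,2,5,3,2,1,3,6,2,3,2,3,6,4,3,1,2,3,5,2,3,0,1,3,6,3,4,2,3,5,4,3,6,2,3,1,2,3,6,2,0,1,3,2,1,3,4,5,3,2,1,6,3,4,2,3,2,3,6,3,1,2,3,5,2,6,3,4,2,3,5,4,3,6,2,3,1,2,3,6,2]))) (.node (.node (.word [1,0,2,3,2,6,3,2,1,0,5,3,4,2,3,2,3,5,1,2,3,6,2,3,2,3,6,3,4,2,3,5,4,3,6,2,3,1,2,3,6,2,1,2,3,5,4,3,1,2,3,6,5,3,1,2,0,2,3,5,4,3,1,2,3,6,5,3,1,2,0,3,6,3,4,2,3,5,4,3,6,2,3,1,2,3,6,2]) (.word [1,3,5,6,3,2,1,0,3,5,4,2,3,2,3,1,2,3,6,5,2,3,1,3,2,3,2,1,5,6,3,2,5,3,2,1,3,6,2,3,2,3,6,4,3,1,2,3,5,2,3,0,1,3,6,3,4,2,3,5,4,3,6,2,3,1,2,3,6,2,3,2,3,2,1,5,6,3,2,5,3,2,1,3,6,2,3,2,3,6,4,3,1,2,3,5,2,3,0,1,3,6,3,4,2,3,5,4,3,6,2,3,1,2,3,6,2]))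 (.node (.word [3,2,3,2,1,5,6,3,2,5,3,2,1,3,6,2,3,2,3,6,4,3,1,2,3,5,2,3,0,1,3,6,3,4,2,3,5,4,3,6,2,3,1,2,3,6,2,1,2,3,5,4,3,1,2,3,6,5,3,1,2,0,3,5,6,3,2,1,0,3,5,4,2,3,2,3,1,2,3,6,5,2,6,3,4,2,3,5,4,3,6,2,3,1,2,3,6,2]) (.word [1,2,3,5,4,3,1,2,3,6,5,3,1,2,0,1,3,2,3,2,1,5,6,3,2,5,3,2,1,3,6,2,3,2,3,6,4,3,1,2,3,5,2,3,1,3,2,1,3,4,5,3,2,1,6,3,4,2,3,2,3,6,3,1,2,3,5,2,3,0,2,3,2,6,3,2,1,0,5,3,4,2,3,2,3,5,1,2,3,6,2,3,2,3,6,3,4,2,3,5,4,3,6,2,3,1,2,3,6,2,1,3,6,3,4,2,3,5,4,3,6,2,3,1,2,3,6,2])))))) (.node (.node (.node (.node (.word [1,0,2,3,2,6,3,2,1,0,5,3,4,2,3,2,3,5,1,2,3,6,2,3,2,3,6,3,4,2,3,5,4,3,6,2,3,1,2,3,6,2,1,3,5,6,3,2,1,0,3,5,4,2,3,2,3,1,2,3,6,5,2,3,2,3,5,4,3,1,2,3,6,5,3,1,2,0,3,6,3,4,2,3,5,4,3,6,2,3,1,2,3,6,2])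 (.node (.word [3,2,3,2,1,5,6,3,2,5,3,2,1,3,6,2,3,2,3,6,4,3,1,2,3,5,2,3,0,3,2,3,2,1,5,6,3,2,5,3,2,1,3,6,2,3,2,3,6,4,3,1,2,3,5,2,3,0,1,2,3,5,4,3,1,2,3,6,5,3,1,2,0,1,3,2,3,2,1,5,6,3,2,5,3,2,1,3,6,2,3,2,3,6,4,3,1,2,3,5,2,3,0,1,3,6,3,4,2,3,5,4,3,6,2,3,1,2,3,6,2,1,3,6,3,4,2,3,5,4,3,6,2,3,1,2,3,6,2]) (.word [1,0,2,3,2,6,3,2,1,0,5,3,4,2,3,2,3,5,1,2,3,6,2,3,2,1,3,2,3,2,1,5,6,3,2,5,3,2,1,3,6,2,3,2,3,6,4,3,1,2,3,5,2,3,0,3,2,3,2,1,5,6,3,2,5,3,2,1,3,6,2,3,2,3,6,4,3,1,2,3,5,2,3,0,1,3,6,3,4,2,3,5,4,3,6,2,3,1,2,3,6,2]))) (.node (.node (.word [1,2,3,5,4,3,1,2,3,6,5,3,1,2,0,2,3,5,4,3,1,2,3,6,5,3,1,2,0,2,3,5,4,3,1,2,3,6,5,3,1,2,0,1]) (.word [1,3,6,3,4,2,3,5,4,3,6,2,3,1,2,3,6,2,1,3,5,6,3,2,1,0,3,5,4,2,3,2,3,1,2,3,6,5,2,3,1,0,1,3,2,1,3,4,5,3,2,1,6,3,4,2,3,2,3,6,3,1,2,3,5,2,6,3,4,2,3,5,4,3,6,2,3,1,2,3,6,2,1,3,6,3,4,2,3,5,4,3,6,2,3,1,2,3,6,2]))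 (.node (.word [3,2,3,2,1,5,6,3,2,5,3,2,1,3,6,2,3,2,3,6,4,3,1,2,3,5,2,3,0,1,2,3,5,4,3,1,2,3,6,5,3,1,2,0,2,3,5,4,3,1,2,3,6,5,3,1,2,0,2,3,5,4,3,1,2,3,6,5,3,1,2,0,1,0,1,3,2,1,3,4,5,3,2,1,6,3,4,2,3,2,3,6,3,1,2,3,5,2,6,3,4,2,3,5,4,3,6,2,3,1,2,3,6,2]) (.word [1,3,6,3,4,2,3,5,4,3,6,2,3,1,2,3,6,2,1,2,3,5,4,3,1,2,3,6,5,3,1,2,0,1,3,2,3,2,1,5,6,3,2,5,3,2,1,3,6,2,3,2,3,6,4,3,1,2,3,5,2,3,0,1,3,6,3,4,2,3,5,4,3,6,2,3,1,2,3,6,2,1,3,6,3,4,2,3,5,4,3,6,2,3,1,2,3,6,2])))) (.node (.node (.node (.word [1,3,6,3,4,2,3,5,4,3,6,2,3,1,2,3,6,2,1,3,5,6,3,2,1,0,3,5,4,2,3,2,3,1,2,3,6,5,2,6,3,4,2,3,5,4,3,6,2,3,1,2,3,6,2,3,2,3,2,1,5,6,3,2,5,3,2,1,3,6,2,3,2,3,6,4,3,1,2,3,5,2,3,0,1,3,6,3,4,2,3,5,4,3,6,2,3,1,2,3,6,2])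 (.word [0,1,3,2,1,3,4,5,3,2,1,6,3,4,2,3,2,3,6,3,1,2,3,5,2,3,1,0,1,3,2,1,3,4,5,3,2,1,6,3,4,2,3,2,3,6,3,1,2,3,5,2,6,3,4,2,3,5,4,3,6,2,3,1,2,3,6,2])) (.node (.word [1,3,6,3,4,2,3,5,4,3,6,2,3,1,2,3,6,2,1,0,2,3,2,6,3,2,1,0,5,3,4,2,3,2,3,5,1,2,3,6,2,3,2,3,6,3,4,2,3,5,4,3,6,2,3,1,2,3,6,2,1,3,6,3,4,2,3,5,4,3,6,2,3,1,2,3,6,2]) (.word [1,3,5,6,3,2,1,0,3,5,4,2,3,2,3,1,2,3,6,5,2,3,2,3,5,4,3,1,2,3,6,5,3,1,2,0,1,3,2,3,2,1,5,6,3,2,5,3,2,1,3,6,2,3,2,3,6,4,3,1,2,3,5,2,3,0,1,3,6,3,4,2,3,5,4,3,6,2,3,1,2,3,6,2]))) .none)) (.node (.node (.node (.node .none (.word [3,2,3,2,1,5,6,3,2,5,3,2,1,3,6,2,3,2,3,6,4,3,1,2,3,5,2,3,0,3,2,3,2,1,5,6,3,2,5,3,2,1,3,6,2,3,2,3,6,4,3,1,2,3,5,2,3,0,1,3,5,6,3,2,1,0,3,5,4,2,3,2,3,1,2,3,6,5,2,3,2,3,5,4,3,1,2,3,6,5,3,1,2,0,3,6,3,4,2,3,5,4,3,6,2,3,1,2,3,6,2,1,3,6,3,4,2,3,5,4,3,6,2,3,1,2,3,6,2]))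 (.node (.word [1,2,3,5,4,3,1,2,3,6,5,3,1,2,0,3,6,3,4,2,3,5,4,3,6,2,3,1,2,3,6,2,3,2,3,2,1,5,6,3,2,5,3,2,1,3,6,2,3,2,3,6,4,3,1,2,3,5,2,3,0,1,2,3,5,4,3,1,2,3,6,5,3,1,2,0,1,3,2,3,2,1,5,6,3,2,5,3,2,1,3,6,2,3,2,3,6,4,3,1,2,3,5,2,3,0,1,3,6,3,4,2,3,5,4,3,6,2,3,1,2,3,6,2]) (.word [3,2,3,2,1,5,6,3,2,5,3,2,1,3,6,2,3,2,3,6,4,3,1,2,3,5,2,3,0,3,2,3,2,1,5,6,3,2,5,3,2,1,3,6,2,3,2,3,6,4,3,1,2,3,5,2,3,0,3,2,3,2,1,5,6,3,2,5,3,2,1,3,6,2,3,2,3,6,4,3,1,2,3,5,2,3,0,1,3,6,3,4,2,3,5,4,3,6,2,3,1,2,3,6,2,1,3,5,6,3,2,1,0,3,5,4,2,3,2,3,1,2,3,6,5,2,6,3,4,2,3,5,4,3,6,2,3,1,2,3,6,2]))) (.node (.word [3,2,3,2,1,5,6,3,2,5,3,2,1,3,6,2,3,2,3,6,4,3,1,2,3,5,2,3,1,3,2,1,3,4,5,3,2,1,6,3,4,2,3,2,3,6,3,1,2,3,5,2,3,2,3,5,4,3,1,2,3,6,5,3,1,2,0,1,3,2,3,2,1,5,6,3,2,5,3,2,1,3,6,2,3,2,3,6,4,3,1,2,3,5,2,3,0,1,2,3,5,4,3,1,2,3,6,5,3,1,2,0,3,6,3,4,2,3,5,4,3,6,2,3,1,2,3,6,2])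 (.word [0,1,3,2,1,3,4,5,3,2,1,6,3,4,2,3,2,3,6,3,1,2,3,5,2,5,6,3,2,1,0,3,5,4,2,3,2,3,1,2,3,6,5,2,3,1,3,2,3,2,1,5,6,3,2,5,3,2,1,3,6,2,3,2,3,6,4,3,1,2,3,5,2,3,0,1,2,3,5,4,3,1,2,3,6,5,3,1,2,0,1,3,2,3,2,1,5,6,3,2,5,3,2,1,3,6,2,3,2,3,6,4,3,1,2,3,5,2,3,0,1,3,6,3,4,2,3,5,4,3,6,2,3,1,2,3,6,2]))) (.node (.node (.node (.word [0,1,3,2,1,3,4,5,3,2,1,6,3,4,2,3,2,3,6,3,1,2,3,5,2,5,6,3,2,1,0,3,5,4,2,3,2,3,1,2,3,6,5,2,3,1,0,1,3,2,1,3,4,5,3,2,1,6,3,4,2,3,2,3,6,3,1,2,3,5,2,3,2,3,5,4,3,1,2,3,6,5,3,1,2,0,3,6,3,4,2,3,5,4,3,6,2,3,1,2,3,6,2,1,3,6,3,4,2,3,5,4,3,6,2,3,1,2,3,6,2]) (.word [1,2,3,5,4,3,1,2,3,6,5,3,1,2,0,1,3,2,3,2,1,5,6,3,2,5,3,2,1,3,6,2,3,2,3,6,4,3,1,2,3,5,2,3,0,1,3,6,3,4,2,3,5,4,3,6,2,3,1,2,3,6,2,1,0,2,3,2,6,3,2,1,0,5,3,4,2,3,2,3,5,1,2,3,6,2,5,4,3,1,2,3,6,5,3,1,2,0,1]))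 (.node .none (.word [1,0,2,3,2,6,3,2,1,0,5,3,4,2,3,2,3,5,1,2,3,6,2,3,2,3,6,3,4,2,3,5,4,3,6,2,3,1,2,3,6,2,1,3,6,3,4,2,3,5,4,3,6,2,3,1,2,3,6,2,1,2,3,5,4,3,1,2,3,6,5,3,1,2,0,3,6,3,4,2,3,5,4,3,6,2,3,1,2,3,6,2,1,3,6,3,4,2,3,5,4,3,6,2,3,1,2,3,6,2]))) (.node (.node .none (.word [1,2,3,5,4,3,1,2,3,6,5,3,1,2,0,3,6,3,4,2,3,5,4,3,6,2,3,1,2,3,6,2,1,3,5,6,3,2,1,0,3,5,4,2,3,2,3,1,2,3,6,5,2,3,1,0,1,3,2,1,3,4,5,3,2,1,6,3,4,2,3,2,3,6,3,1,2,3,5,2,6,3,4,2,3,5,4,3,6,2,3,1,2,3,6,2,1,3,6,3,4,2,3,5,4,3,6,2,3,1,2,3,6,2])) (.node (.word [1,3,6,3,4,2,3,5,4,3,6,2,3,1,2,3,6,2,1,3,6,3,4,2,3,5,4,3,6,2,3,1,2,3,6,2,1,2,3,5,4,3,1,2,3,6,5,3,1,2,0,1,3,2,3,2,1,5,6,3,2,5,3,2,1,3,6,2,3,2,3,6,4,3,1,2,3,5,2,3,0,1,3,6,3,4,2,3,5,4,3,6,2,3,1,2,3,6,2,1,3,6,3,4,2,3,5,4,3,6,2,3,1,2,3,6,2])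 (.word [1,2,3,5,4,3,1,2,3,6,5,3,1,3,2,6,3,2,1,0,5,3,4,2,3,2,3,5,1,2,3,6,2,5,4,3,1,2,3,6,5,3,1,2,0,1]))))))) (.node (.node (.node (.node (.node (.node .none (.word [1,3,5,6,3,2,1,0,3,5,4,2,3,2,3,1,2,3,6,5,2,3,1,0,1,3,2,1,3,4,5,3,2,1,6,3,4,2,3,2,3,6,3,1,2,3,5,2,6,3,4,2,3,5,4,3,6,2,3,1,2,3,6,2,3,2,3,2,1,5,6,3,2,5,3,2,1,3,6,2,3,2,3,6,4,3,1,2,3,5,2,3,0,1,3,6,3,4,2,3,5,4,3,6,2,3,1,2,3,6,2])) (.node (.word [1,0,2,3,2,6,3,2,1,0,5,3,4,2,3,2,3,5,1,2,3,6,2,5,4,3,1,2,3,6,5,3,1,2,0,1,3,2,3,2,1,5,6,3,2,5,3,2,1,3,6,2,3,2,3,6,4,3,1,2,3,5,2,3,1,3,2,1,3,4,5,3,2,1,6,3,4,2,3,2,3,6,3,1,2,3,5,2,6,3,4,2,3,5,4,3,6,2,3,1,2,3,6,2]) (.word [0,1,3,2,1,3,4,5,3,2,1,6,3,4,2,3,2,3,6,3,1,2,3,5,2,3,1,3,2,3,2,1,5,6,3,2,5,3,2,1,3,6,2,3,2,3,6,4,3,1,2,3,5,2,3,1,3,2,1,3,4,5,3,2,1,6,3,4,2,3,2,3,6,3,1,2,3,5,2,3,1,3,2,3,2,1,5,6,3,2,5,3,2,1,3,6,2,3,2,3,6,4,3,1,2,3,5,2,3,0,1,2,3,5,4,3,1,2,3,6,5,3,1,2,0,1])))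 (.word [1,3,5,6,3,2,1,0,3,5,4,2,3,2,3,1,2,3,6,5,2,3,1,3,2,3,2,1,5,6,3,2,5,3,2,1,3,6,2,3,2,3,6,4,3,1,2,3,5,2,3,0,1,3,6,3,4,2,3,5,4,3,6,2,3,1,2,3,6,2,1,3,6,3,4,2,3,5,4,3,6,2,3,1,2,3,6,2,1,2,3,5,4,3,1,2,3,6,5,3,1,2,0,1])) (.node (.node (.node .none (.word [3,2,3,2,1,5,6,3,2,5,3,2,1,3,6,2,3,2,3,6,4,3,1,2,3,5,2,3,0,3,2,3,2,1,5,6,3,2,5,3,2,1,3,6,2,3,2,3,6,4,3,1,2,3,5,2,3,0,1,3,6,3,4,2,3,5,4,3,6,2,3,1,2,3,6,2,3,2,3,2,1,5,6,3,2,5,3,2,1,3,6,2,3,2,3,6,4,3,1,2,3,5,2,3,0,3,2,3,2,1,5,6,3,2,5,3,2,1,3,6,2,3,2,3,6,4,3,1,2,3,5,2,3,0,1,3,6,3,4,2,3,5,4,3,6,2,3,1,2,3,6,2])) (.node (.word [0,1,3,2,1,3,4,5,3,2,1,6,3,4,2,3,2,3,6,3,1,2,3,5,2,6,3,4,2,3,5,4,3,6,2,3,1,2,3,6,2,1,3,6,3,4,2,3,5,4,3,6,2,3,1,2,3,6,2,1,2,3,5,4,3,1,2,3,6,5,3,1,2,0,3,6,3,4,2,3,5,4,3,6,2,3,1,2,3,6,2])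 (.word [3,2,3,2,1,5,6,3,2,5,3,2,1,3,6,2,3,2,3,6,4,3,1,2,3,5,2,3,1,3,2,1,3,4,5,3,2,1,6,3,4,2,3,2,3,6,3,1,2,3,5,2,6,3,4,2,3,5,4,3,6,2,3,1,2,3,6,2,0,1,3,2,1,3,4,5,3,2,1,6,3,4,2,3,2,3,6,3,1,2,3,5,2,6,3,4,2,3,5,4,3,6,2,3,1,2,3,6,2]))) (.node (.node (.word [1,2,3,5,4,3,1,2,3,6,5,3,1,2,0,1,3,2,3,2,1,5,6,3,2,5,3,2,1,3,6,2,3,2,3,6,4,3,1,2,3,5,2,3,0,1,3,6,3,4,2,3,5,4,3,6,2,3,1,2,3,6,2,1,3,5,6,3,2,1,0,3,5,4,2,3,2,3,1,2,3,6,5,2,6,3,4,2,3,5,4,3,6,2,3,1,2,3,6,2]) (.word [0,1,3,2,1,3,4,5,3,2,1,6,3,4,2,3,2,3,6,3,1,2,3,5,2,6,3,4,2,3,5,4,3,6,2,3,1,2,3,6,2,1,3,6,3,4,2,3,5,4,3,6,2,3,1,2,3,6,2,3,2,3,2,1,5,6,3,2,5,3,2,1,3,6,2,3,2,3,6,4,3,1,2,3,5,2,3,1,3,2,1,3,4,5,3,2,1,6,3,4,2,3,2,3,6,3,1,2,3,5,2,6,3,4,2,3,5,4,3,6,2,3,1,2,3,6,2]))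 (.word [1,3,6,3,4,2,3,5,4,3,6,2,3,1,2,3,6,2,3,2,3,2,1,5,6,3,2,5,3,2,1,3,6,2,3,2,3,6,4,3,1,2,3,5,2,3,0,3,2,3,2,1,5,6,3,2,5,3,2,1,3,6,2,3,2,3,6,4,3,1,2,3,5,2,3,0,1,3,6,3,4,2,3,5,4,3,6,2,3,1,2,3,6,2,3,2,3,2,1,5,6,3,2,5,3,2,1,3,6,2,3,2,3,6,4,3,1,2,3,5,2,3,0,1,3,6,3,4,2,3,5,4,3,6,2,3,1,2,3,6,2])))) (.node (.node (.node .none (.word [0,1,3,2,1,3,4,5,3,2,1,6,3,4,2,3,2,3,6,3,1,2,3,5,2,3,1,0,1,3,2,1,3,4,5,3,2,1,6,3,4,2,3,2,3,6,3,1,2,3,5,2,3,1,0,1,3,2,1,3,4,5,3,2,1,6,3,4,2,3,2,3,6,3,1,2,3,5,2,6,3,4,2,3,5,4,3,6,2,3,1,2,3,6,2,1,3,6,3,4,2,3,5,4,3,6,2,3,1,2,3,6,2,1,3,6,3,4,2,3,5,4,3,6,2,3,1,2,3,6,2])) (.node (.node .none (.word [1,0,2,3,2,6,3,2,1,0,5,3,4,2,3,2,3,5,1,2,3,6,2,5,4,3,1,2,3,6,5,3,1,2,0,3,6,3,4,2,3,5,4,3,6,2,3,1,2,3,6,2,1,0,2,3,2,6,3,2,1,0,5,3,4,2,3,2,3,5,1,2,3,6,2,3,2,3,6,3,4,2,3,5,4,3,6,2,3,1,2,3,6,2,1,3,6,3,4,2,3,5,4,3,6,2,3,1,2,3,6,2]))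 (.node (.word [1,0,2,3,2,6,3,2,1,0,5,3,4,2,3,2,3,5,1,2,3,6,2,5,4,3,1,2,3,6,5,3,1,2,0,2,3,5,4,3,1,2,3,6,5,3,1,2,0,3,6,3,4,2,3,5,4,3,6,2,3,1,2,3,6,2]) (.word [3,2,3,2,1,5,6,3,2,5,3,2,1,3,6,2,3,2,3,6,4,3,1,2,3,5,2,3,0,1,3,6,3,4,2,3,5,4,3,6,2,3,1,2,3,6,2,1,2,3,5,4,3,1,2,3,6,5,3,1,2,0,2,3,5,4,3,1,2,3,6,5,3,1,2,0,2,3,5,4,3,1,2,3,6,5,3,1,2,0,1])))) (.node (.node (.word [0,1,3,2,1,3,4,5,3,2,1,6,3,4,2,3,2,3,6,3,1,2,3,5,2,3,1,0,1,3,2,1,3,4,5,3,2,1,6,3,4,2,3,2,3,6,3,1,2,3,5,2,3,1,3,2,3,2,1,5,6,3,2,5,3,2,1,3,6,2,3,2,3,6,4,3,1,2,3,5,2,3,0,3,2,3,2,1,5,6,3,2,5,3,2,1,3,6,2,3,2,3,6,4,3,1,2,3,5,2,3,0,1,2,3,5,4,3,1,2,3,6,5,3,1,2,0,1]) (.node .none (.word [1,2,3,5,4,3,1,2,3,6,5,3,1,2,0,1,3,2,3,2,1,5,6,3,2,5,3,2,1,3,6,2,3,2,3,6,4,3,1,2,3,5,2,3,1,3,2,1,3,4,5,3,2,1,6,3,4,2,3,2,3,6,3,1,2,3,5,2,3,1,3,2,3,2,1,5,6,3,2,5,3,2,1,3,6,2,3,2,3,6,4,3,1,2,3,5,2,3,0,1,3,6,3,4,2,3,5,4,3,6,2,3,1,2,3,6,2])))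 (.node (.node .none (.word [0,1,3,2,1,3,4,5,3,2,1,6,3,4,2,3,2,3,6,3,1,2,3,5,2,3,2,3,5,4,3,1,2,3,6,5,3,1,2,0,2,3,5,4,3,1,2,3,6,5,3,1,2,0,2,3,5,4,3,1,2,3,6,5,3,1,2,0,1])) (.word [0,1,3,2,1,3,4,5,3,2,1,6,3,4,2,3,2,3,6,3,1,2,3,5,2,3,1,0,1,3,2,1,3,4,5,3,2,1,6,3,4,2,3,2,3,6,3,1,2,3,5,2,3,2,3,5,4,3,1,2,3,6,5,3,1,2,0,1]))))) (.node (.node (.node (.node (.node .none (.word [3,2,3,2,1,5,6,3,2,5,3,2,1,3,6,2,3,2,3,6,4,3,1,2,3,5,2,3,0,1,0,2,3,2,6,3,2,1,0,5,3,4,2,3,2,3,5,1,2,3,6,2,3,2,3,6,3,4,2,3,5,4,3,6,2,3,1,2,3,6,2,1,3,6,3,4,2,3,5,4,3,6,2,3,1,2,3,6,2])) (.node (.word [1,3,6,3,4,2,3,5,4,3,6,2,3,1,2,3,6,2,1,3,5,6,3,2,1,0,3,5,4,2,3,2,3,1,2,3,6,5,2,3,2,3,5,4,3,1,2,3,6,5,3,1,2,0,3,6,3,4,2,3,5,4,3,6,2,3,1,2,3,6,2,3,2,3,2,1,5,6,3,2,5,3,2,1,3,6,2,3,2,3,6,4,3,1,2,3,5,2,3,0,1,3,6,3,4,2,3,5,4,3,6,2,3,1,2,3,6,2])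 (.word [1,3,5,6,3,2,1,0,3,5,4,2,3,2,3,1,2,3,6,5,2,3,1,0,1,3,2,1,3,4,5,3,2,1,6,3,4,2,3,2,3,6,3,1,2,3,5,2,3,2,3,5,4,3,1,2,3,6,5,3,1,3,2,6,3,2,1,0,5,3,4,2,3,2,3,5,1,2,3,6,2,5,4,3,1,2,3,6,5,3,1,2,0,1]))) (.node (.node (.word [3,2,3,2,1,5,6,3,2,5,3,2,1,3,6,2,3,2,3,6,4,3,1,2,3,5,2,3,1,3,2,1,3,4,5,3,2,1,6,3,4,2,3,2,3,6,3,1,2,3,5,2,3,0,2,3,2,6,3,2,1,0,5,3,4,2,3,2,3,5,1,2,3,6,2,5,4,3,1,2,3,6,5,3,1,2,0,2,3,5,4,3,1,2,3,6,5,3,1,2,0,1]) (.word [1,3,5,6,3,2,1,0,3,5,4,2,3,2,3,1,2,3,6,5,2,3,0,2,3,2,6,3,2,1,0,5,3,4,2,3,2,3,5,1,2,3,6,2,5,4,3,1,2,3,6,5,3,1,2,0,3,6,3,4,2,3,5,4,3,6,2,3,1,2,3,6,2,1,2,3,5,4,3,1,2,3,6,5,3,1,2,0,1])) (.node (.word [0,1,3,2,1,3,4,5,3,2,1,6,3,4,2,3,2,3,6,3,1,2,3,5,2,5,6,3,2,1,0,3,5,4,2,3,2,3,1,2,3,6,5,2,6,3,4,2,3,5,4,3,6,2,3,1,2,3,6,2,1,2,3,5,4,3,1,2,3,6,5,3,1,2,0,1])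 (.word [0,1,3,2,1,3,4,5,3,2,1,6,3,4,2,3,2,3,6,3,1,2,3,5,2,3,0,2,3,2,6,3,2,1,0,5,3,4,2,3,2,3,5,1,2,3,6,2,3,2,3,6,3,4,2,3,5,4,3,6,2,3,1,2,3,6,2,1,2,3,5,4,3,1,2,3,6,5,3,1,2,0,3,6,3,4,2,3,5,4,3,6,2,3,1,2,3,6,2])))) (.node (.node (.node (.word [1,2,3,5,4,3,1,2,3,6,5,3,1,2,0,3,5,6,3,2,1,0,3,5,4,2,3,2,3,1,2,3,6,5,2,3,2,3,5,4,3,1,2,3,6,5,3,1,2,0,1]) (.word [1,2,3,5,4,3,1,2,3,6,5,3,1,2,0,2,3,5,4,3,1,2,3,6,5,3,1,3,2,6,3,2,1,0,5,3,4,2,3,2,3,5,1,2,3,6,2,3,2,3,6,3,4,2,3,5,4,3,6,2,3,1,2,3,6,2])) (.node .none (.word [1,0,2,3,2,6,3,2,1,0,5,3,4,2,3,2,3,5,1,2,3,6,2,3,2,3,6,3,4,2,3,5,4,3,6,2,3,1,2,3,6,2,1,3,6,3,4,2,3,5,4,3,6,2,3,1,2,3,6,2,3,2,3,2,1,5,6,3,2,5,3,2,1,3,6,2,3,2,3,6,4,3,1,2,3,5,2,3,0,1,3,6,3,4,2,3,5,4,3,6,2,3,1,2,3,6,2])))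 (.node (.node (.word [1,2,3,5,4,3,1,2,3,6,5,3,1,2,0,3,5,6,3,2,1,0,3,5,4,2,3,2,3,1,2,3,6,5,2,6,3,4,2,3,5,4,3,6,2,3,1,2,3,6,2]) (.word [0,1,3,2,1,3,4,5,3,2,1,6,3,4,2,3,2,3,6,3,1,2,3,5,2,3,1,3,2,3,2,1,5,6,3,2,5,3,2,1,3,6,2,3,2,3,6,4,3,1,2,3,5,2,3,0,1,2,3,5,4,3,1,2,3,6,5,3,1,2,0,3,5,6,3,2,1,0,3,5,4,2,3,2,3,1,2,3,6,5,2,3,2,3,5,4,3,1,2,3,6,5,3,1,2,0,1])) (.node .none (.word [3,2,3,2,1,5,6,3,2,5,3,2,1,3,6,2,3,2,3,6,4,3,1,2,3,5,2,3,0,1,3,6,3,4,2,3,5,4,3,6,2,3,1,2,3,6,2,1,3,6,3,4,2,3,5,4,3,6,2,3,1,2,3,6,2,1,3,6,3,4,2,3,5,4,3,6,2,3,1,2,3,6,2]))))) (.node (.node (.node (.node .none (.word [1,2,3,5,4,3,1,2,3,6,5,3,1,2,0,3,6,3,4,2,3,5,4,3,6,2,3,1,2,3,6,2,0,1,3,2,1,3,4,5,3,2,1,6,3,4,2,3,2,3,6,3,1,2,3,5,2,6,3,4,2,3,5,4,3,6,2,3,1,2,3,6,2]))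 .none) (.node (.node (.word [1,2,3,5,4,3,1,2,3,6,5,3,1,2,0,1,3,2,3,2,1,5,6,3,2,5,3,2,1,3,6,2,3,2,3,6,4,3,1,2,3,5,2,3,0,1,3,6,3,4,2,3,5,4,3,6,2,3,1,2,3,6,2,0,1,3,2,1,3,4,5,3,2,1,6,3,4,2,3,2,3,6,3,1,2,3,5,2,3,2,3,5,4,3,1,2,3,6,5,3,1,2,0,1]) (.word [1,2,3,5,4,3,1,2,3,6,5,3,1,2,0,1,3,2,3,2,1,5,6,3,2,5,3,2,1,3,6,2,3,2,3,6,4,3,1,2,3,5,2,3,0,3,2,3,2,1,5,6,3,2,5,3,2,1,3,6,2,3,2,3,6,4,3,1,2,3,5,2,3,0,1,3,6,3,4,2,3,5,4,3,6,2,3,1,2,3,6,2])) (.node .none (.word [3,2,3,2,1,5,6,3,2,5,3,2,1,3,6,2,3,2,3,6,4,3,1,2,3,5,2,3,0,1,2,3,5,4,3,1,2,3,6,5,3,1,2,0,1,0,1,3,2,1,3,4,5,3,2,1,6,3,4,2,3,2,3,6,3,1,2,3,5,2,6,3,4,2,3,5,4,3,6,2,3,1,2,3,6,2])))) (.node (.node (.word [1,3,6,3,4,2,3,5,4,3,6,2,3,1,2,3,6,2,1,3,5,6,3,2,1,0,3,5,4,2,3,2,3,1,2,3,6,5,2,6,3,4,2,3,5,4,3,6,2,3,1,2,3,6,2,1,2,3,5,4,3,1,2,3,6,5,3,1,2,0,3,6,3,4,2,3,5,4,3,6,2,3,1,2,3,6,2])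 (.node (.word [1,3,5,6,3,2,1,0,3,5,4,2,3,2,3,1,2,3,6,5,2,6,3,4,2,3,5,4,3,6,2,3,1,2,3,6,2,1,3,6,3,4,2,3,5,4,3,6,2,3,1,2,3,6,2,3,2,3,2,1,5,6,3,2,5,3,2,1,3,6,2,3,2,3,6,4,3,1,2,3,5,2,3,0,1,2,3,5,4,3,1,2,3,6,5,3,1,2,0,3,6,3,4,2,3,5,4,3,6,2,3,1,2,3,6,2]) (.word [1,3,6,3,4,2,3,5,4,3,6,2,3,1,2,3,6,2,1,3,5,6,3,2,1,0,3,5,4,2,3,2,3,1,2,3,6,5,2,3,1,0,1,3,2,1,3,4,5,3,2,1,6,3,4,2,3,2,3,6,3,1,2,3,5,2,3,0,2,3,2,6,3,2,1,0,5,3,4,2,3,2,3,5,1,2,3,6,2,3,2,3,6,3,4,2,3,5,4,3,6,2,3,1,2,3,6,2]))) (.node (.node (.word [0,1,3,2,1,3,4,5,3,2,1,6,3,4,2,3,2,3,6,3,1,2,3,5,2,3,2,3,5,4,3,1,2,3,6,5,3,1,2,0,1,3,2,3,2,1,5,6,3,2,5,3,2,1,3,6,2,3,2,3,6,4,3,1,2,3,5,2,3,0,1,3,6,3,4,2,3,5,4,3,6,2,3,1,2,3,6,2]) (.word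 [1,3,6,3,4,2,3,5,4,3,6,2,3,1,2,3,6,2,3,2,3,2,1,5,6,3,2,5,3,2,1,3,6,2,3,2,3,6,4,3,1,2,3,5,2,3,0,1,2,3,5,4,3,1,2,3,6,5,3,1,2,0,2,3,5,4,3,1,2,3,6,5,3,1,2,0,3,5,6,3,2,1,0,3,5,4,2,3,2,3,1,2,3,6,5,2,6,3,4,2,3,5,4,3,6,2,3,1,2,3,6,2])) (.word [0,1,3,2,1,3,4,5,3,2,1,6,3,4,2,3,2,3,6,3,1,2,3,5,2,3,2,3,5,4,3,1,2,3,6,5,3,1,2,0,3,5,6,3,2,1,0,3,5,4,2,3,2,3,1,2,3,6,5,2,6,3,4,2,3,5,4,3,6,2,3,1,2,3,6,2,1,2,3,5,4,3,1,2,3,6,5,3,1,2,0,3,6,3,4,2,3,5,4,3,6,2,3,1,2,3,6,2])))))))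

/-- A subtree. -/
def sub113 : WTree :=
  (.node (.node sub109 sub110) (.node sub111 sub112))

/-- Points. -/
def levY1pts0 : List ℕ := [0,4,6,8,9,12,13,14,16,17,20,21,24,25,26,27,32,33,34,36,39,40,41,44,45,46,47,48,49,56,59,61,62,64,66,67,69,70,71,72,73,75,76,77,78,79,80,81,82,83,84,85,86,87,88,89,92,99,100,101,103,104,105,106,109,110,112,114,116,117,118,120,123,124,125,126,128,130,133,134,135,136,138,139,140,142,143,145,146,147,149,150,153,154,156,157,158,160,161,164,167,168,169,170,172,175,178,180,181,182,183,184,185,186,187,188,191,193,195,196,198,200,201,209,211,212,215,216,217,222,223,224,225,226,227,229,231,233,238,239,240,243,245,247,249,250,251,252,253,254,255,257,258,260,261,263,264,266,267,268,269,273,274,276,277,279,280,281,282,283,284,285,287,288,291,292,293,294,299,302,303,305,306,308,311,313,315,316,318,319,321,322,323,324,325,327,328,333,336,337]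

/-- Points. -/
def levY1pts1 : List ℕ := [338,340,341,342,344,345,349,350,353,354,355,356,358,359,360,362,363,364,367,368,369,370,371,372,374,375,376,377,378,379,380,381,382,383,384,385,386,387,388,390,393,394,395,396,399,400,401,402,404,405,406,407,408,409,411,412,413,415,416,420,421,427,428,429,430,432,435,438,439,440,441,442,443,444,445,446,447,450,451,452,453,454,455,456,457,458,460,461,463,464,466,467,468,469,470,472,473,474,475,476,477,478,481,482,483,484,485,487,489,490,492,496,497,498,501,502,505,506,507,509,511,512,514,515,516,517,518,519,520,521,523,524,527,528,529,530,531,532,533,534,535,536,539,543,545,546,547,548,549,551,554,555,556,558,559,560,561,562,564,565,566,567,568,569,574,575,576,581,582,584,585,587,588,589,592,593,596,597,599,600,601,602,604,605,606,607,612,613,614,615,618,619,620,621,623,624,625,632,633,634]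

/-- Points. -/
def levY1pts2 : List ℕ := [635,637,638,640,641,642,643,645,646,649,650,651,652,653,654,655,656,658,659,660,661,663,665,666,667,668,669,671,673,674,675,676,677,678,679,680,681,682,683,687,691,692,694,695,696,697,698,699,700,701,702,705,706,707,709,710,713,714,715,716,717,718,722,724,727,728,729,730,731,736,737,738,740,741,742,746,748,749,753,754,755,757,759,760,762,764,767,768,769,771,772,774,775,777,778,779,781,782,785,787,788,790,791,792,793,794,795,796,797,798,801,803,805,806,809,810,813,814,815,816,819,820,822,823,824,825,826,827,828,829,830,831,832,833,835,836,838,841,842,843,844,845,848,849,850,851,852,855,856,858,859,860,861,862,863,864,865,866,868,869,870,872,873,875,876,877,879,880,881,882,884,885,886,887,888,889,890,891,892,893,894,896,897,898,900,901,902,903,905,907,908,909,910,911,917,918,919,921,922,924]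

/-- Points. -/
def levY1pts3 : List ℕ := [925,926,927,928,929,931,932,934,935,937,938,940,942,946,947,949,951,953,955,956,957,958,961,963,968,969,970,971,972,975,976,977,979,980,982,983,985,987,988,991,992,993,994,996,997,998,1000,1001,1002,1004,1005,1007,1010,1011,1014,1015,1016,1021,1022,1023,1025,1026,1027,1029,1030,1032,1033,1034,1036,1037,1038,1039,1040,1041,1042,1043,1044,1045,1046,1049,1050,1051,1052,1055,1056,1057,1058,1061,1063,1064,1065,1066,1069,1070,1072,1076,1078,1079,1080,1082,1085,1086,1087,1089,1090,1091,1093,1094,1095,1096,1097,1099,1100,1102,1103,1104,1105,1107,1109,1110,1113,1114,1115,1118,1120,1121,1122,1125,1126,1127,1129,1130,1131,1132,1133,1134,1135,1136,1137,1138,1139,1140,1141,1142,1144,1146,1150,1151,1152,1153,1154,1157,1159,1161,1163,1165,1166,1167,1168,1169,1170,1173,1176,1178,1179,1180,1181,1182,1183,1184,1186,1190,1191,1192,1193,1194,1195,1196,1197,1198,1199,1202,1203,1204,1205,1206,1207,1208,1210,1212,1213,1214,1215,1218,1219,1220,1223,1224,1225,1228]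

/-- Points. -/
def levY1pts4 : List ℕ := [1229,1230,1231,1233,1234,1235,1237,1239,1240,1241,1242,1244,1246,1248,1250,1251,1254,1255,1256,1257,1258,1260,1261,1262,1263,1265,1266,1267,1268,1269,1271,1272,1273,1274,1275,1277,1280,1282,1285,1286,1288,1289,1290,1291,1292,1293,1297,1298,1299,1300,1302,1303,1304,1305,1306,1307,1309,1312,1315,1316,1317,1318,1319,1320,1322,1323,1324,1325,1327,1330,1333,1334,1337,1343,1344,1345,1346,1348,1349,1351,1352,1355,1356,1357,1358,1360,1361,1362,1364,1369,1370,1371,1372,1373,1374,1375,1377,1378,1379,1380,1381,1382,1383,1385,1388,1389,1392,1393,1394,1395,1396,1397,1398,1402,1403,1404,1405,1406,1407,1411,1412,1413,1416,1417,1418,1419,1420,1422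,1423,1428,1431,1432,1434,1435,1436,1439,1440,1441,1445,1446,1447,1448,1451,1452,1453,1454,1457,1458,1461,1462,1464,1468,1471,1472,1473,1475,1476,1477,1479,1480,1481,1482,1484,1485,1486,1487,1488,1490,1491,1493,1494,1495,1496,1497,1498,1499,1501,1503,1504,1505,1506,1507,1509,1510,1511,1512,1514,1515,1517,1518,1519,1520,1521,1523,1525,1526,1527,1530,1531,1533]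

/-- Points. -/
def levY1pts5 : List ℕ := [1534,1535,1536,1537,1538,1539,1540,1542,1543,1545,1546,1547,1548,1549,1550,1552,1553,1554,1555,1556,1557,1560,1561,1562,1563,1564,1565,1566,1567,1571,1573,1574,1575,1576,1577,1578,1579,1581,1582,1583,1584,1585,1590,1593,1594,1597,1599,1600,1603,1604,1605,1606,1607,1608,1609,1610,1612,1613,1616,1617,1618,1619,1620,1621,1622,1623,1625,1626,1627,1628,1629,1632,1633,1634,1635,1637,1640,1641,1643,1645,1646,1647,1648,1651,1653,1654,1656,1657,1659,1660,1661,1664,1665,1666,1668,1670,1671,1672,1675,1676,1677,1678,1679,1682,1684,1685,1686,1687,1692,1693,1695,1697,1698,1701,1702,1705,1706,1707,1708,1709,1710,1711,1712,1714,1716,1717,1718,1720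,1721,1722,1724,1727,1728,1729,1731,1732,1734,1735,1736,1740,1741,1742,1743,1744,1745,1746,1747,1748,1749,1751,1752,1754,1755,1756,1757,1758,1759,1760,1761,1762,1763,1764,1768,1769,1773,1774,1775,1776,1777,1778,1779,1780,1781,1784,1786,1790,1791,1792,1793,1794,1795,1796,1797,1798,1799,1802,1803,1804,1805,1807,1808,1809,1811,1812,1813,1815,1816,1817,1818,1820]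

/-- Points. -/
def levY1pts6 : List ℕ := [1821,1824,1826,1827,1828,1829,1832,1836,1837,1839,1840,1841,1842,1843,1846,1847,1850,1851,1852,1853,1854,1855,1856,1857,1858,1859,1860,1861,1862,1866,1868,1870,1872,1873,1877,1878,1879,1880,1881,1882,1883,1884,1885,1886,1887,1888,1889,1892,1893,1894,1895,1897,1898,1899,1902,1904,1905,1906,1907,1909,1911,1914,1919,1920,1922,1924,1925,1926,1927,1929,1930,1931,1932,1933,1934,1935,1936,1937,1941,1942,1945,1946,1947,1949,1950,1952,1953,1954,1955,1956,1957,1958,1960,1961,1962,1964,1965,1966,1968,1969,1971,1972,1973,1975,1976,1978,1979,1981,1982,1983,1984,1985,1988,1989,1990,1991,1992,1993,1994,1995,1997,1998,1999,2003,2004,2005,2006,2011,2012,2016,2017,2018,2019,2020,2021,2022,2023,2025,2027,2028,2029,2031,2033,2034,2036,2038,2039,2042,2043,2044,2045,2046,2048,2049,2050,2051,2052,2054,2055,2057]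

/-- A level. -/
def levY1 : Level :=
  ⟨1168, (.node (.node sub98 sub103) (.node sub108 sub113)), levY1pts0 ++ levY1pts1 ++ levY1pts2 ++ levY1pts3 ++ levY1pts4 ++ levY1pts5 ++ levY1pts6⟩

/-- A subtree. -/
def sub114 : WTree :=
  (.node (.node .none (.node (.node (.node .none (.node .none (.word [3,2,3,2,1,5,6,3,2,5,3,2,1,3,6,2,3,2,3,6,4,3,1,2,3,5,2,3,1,3,2,1,3,4,5,3,2,1,6,3,4,2,3,2,3,6,3,1,2,3,5,2,5,6,3,2,1,0,3,5,4,2,3,2,3,1,2,3,6,5,2,3,1,3,2,3,2,1,5,6,3,2,5,3,2,1,3,6,2,3,2,3,6,4,3,1,2,3,5,2,3,0,3,2,3,2,1,5,6,3,2,5,3,2,1,3,6,2,3,2,3,6,4,3,1,2,3,5,2,3,0]))) .none) (.node .none (.node .none (.word [1,3,5,6,3,2,1,0,3,5,4,2,3,2,3,1,2,3,6,5,2,3,0,2,3,2,6,3,2,1,0,5,3,4,2,3,2,3,5,1,2,3,6,2,3,2,1,3,2,3,2,1,5,6,3,2,5,3,2,1,3,6,2,3,2,3,6,4,3,1,2,3,5,2,3,0])))))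 (.node (.node (.node (.node .none (.node .none (.word [3,2,3,2,1,5,6,3,2,5,3,2,1,3,6,2,3,2,3,6,4,3,1,2,3,5,2,3,1,3,2,1,3,4,5,3,2,1,6,3,4,2,3,2,3,6,3,1,2,3,5,2,3,1,3,2,3,2,1,5,6,3,2,5,3,2,1,3,6,2,3,2,3,6,4,3,1,2,3,5,2,3,0]))) .none) .none) (.node (.node (.node .none (.word [1,0,2,3,2,6,3,2,1,0,5,3,4,2,3,2,3,5,1,2,3,6,2,3,2,1,0,1,3,2,1,3,4,5,3,2,1,6,3,4,2,3,2,3,6,3,1,2,3,5,2,3,1,3,2,3,2,1,5,6,3,2,5,3,2,1,3,6,2,3,2,3,6,4,3,1,2,3,5,2,3,1,3,2,1,3,4,5,3,2,1,6,3,4,2,3,2,3,6,3,1,2,3,5,2,3,1])) .none) (.node .none (.node (.node .none (.word [1,3,5,6,3,2,1,0,3,5,4,2,3,2,3,1,2,3,6,5,2,3,1,3,2,3,2,1,5,6,3,2,5,3,2,1,3,6,2,3,2,3,6,4,3,1,2,3,5,2,3,0,3,2,3,2,1,5,6,3,2,5,3,2,1,3,6,2,3,2,3,6,4,3,1,2,3,5,2,3,0,1,3,5,6,3,2,1,0,3,5,4,2,3,2,3,1,2,3,6,5,2,3,1,3,2,3,2,1,5,6,3,2,5,3,2,1,3,6,2,3,2,3,6,4,3,1,2,3,5,2,3,0]))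 (.node .none (.node .none (.word [0,1,3,2,1,3,4,5,3,2,1,6,3,4,2,3,2,3,6,3,1,2,3,5,2,5,6,3,2,1,0,3,5,4,2,3,2,3,1,2,3,6,5,2,3,1,3,2,3,2,1,5,6,3,2,5,3,2,1,3,6,2,3,2,3,6,4,3,1,2,3,5,2,3,1,3,2,1,3,4,5,3,2,1,6,3,4,2,3,2,3,6,3,1,2,3,5,2,3,1,3,2,3,2,1,5,6,3,2,5,3,2,1,3,6,2,3,2,3,6,4,3,1,2,3,5,2,3,0]))))))))

/-- A subtree. -/
def sub115 : WTree :=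
  (.node (.node (.node (.node .none (.node .none (.node (.word [0,1,3,2,1,3,4,5,3,2,1,6,3,4,2,3,2,3,6,3,1,2,3,5,2,3,1,0,1,3,2,1,3,4,5,3,2,1,6,3,4,2,3,2,3,6,3,1,2,3,5,2,3,1]) (.word [1,3,5,6,3,2,1,0,3,5,4,2,3,2,3,1,2,3,6,5,2,5,6,3,2,1,0,3,5,4,2,3,2,3,1,2,3,6,5,2,3,1,0,1,3,2,1,3,4,5,3,2,1,6,3,4,2,3,2,3,6,3,1,2,3,5,2,3,1])))) .none) (.node (.node .none (.node .none (.word [0,1,3,2,1,3,4,5,3,2,1,6,3,4,2,3,2,3,6,3,1,2,3,5,2,3,1]))) (.node (.node (.node (.node .none (.word [3,2,3,2,1,5,6,3,2,5,3,2,1,3,6,2,3,2,3,6,4,3,1,2,3,5,2,3,0,1,3,5,6,3,2,1,0,3,5,4,2,3,2,3,1,2,3,6,5,2,3,1,0,1,3,2,1,3,4,5,3,2,1,6,3,4,2,3,2,3,6,3,1,2,3,5,2,3,1])) .none) (.node .none (.node .none (.word [1,0,2,3,2,6,3,2,1,0,5,3,4,2,3,2,3,5,1,2,3,6,2,3,2,1,0,1,3,2,1,3,4,5,3,2,1,6,3,4,2,3,2,3,6,3,1,2,3,5,2,5,6,3,2,1,0,3,5,4,2,3,2,3,1,2,3,6,5,2,5,6,3,2,1,0,3,5,4,2,3,2,3,1,2,3,6,5,2,3,1,3,2,3,2,1,5,6,3,2,5,3,2,1,3,6,2,3,2,3,6,4,3,1,2,3,5,2,3,0]))))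 (.node .none (.word [0,1,3,2,1,3,4,5,3,2,1,6,3,4,2,3,2,3,6,3,1,2,3,5,2,5,6,3,2,1,0,3,5,4,2,3,2,3,1,2,3,6,5,2,3,1,0,1,3,2,1,3,4,5,3,2,1,6,3,4,2,3,2,3,6,3,1,2,3,5,2,3,1,0,1,3,2,1,3,4,5,3,2,1,6,3,4,2,3,2,3,6,3,1,2,3,5,2,3,1]))))) (.node (.node .none (.node .none (.node .none (.node .none (.node .none (.word [1,0,2,3,2,6,3,2,1,0,5,3,4,2,3,2,3,5,1,2,3,6,2,3,2,1,0,1,3,2,1,3,4,5,3,2,1,6,3,4,2,3,2,3,6,3,1,2,3,5,2,3,1,3,2,3,2,1,5,6,3,2,5,3,2,1,3,6,2,3,2,3,6,4,3,1,2,3,5,2,3,0])))))) (.node (.node .none (.node .none (.node .none (.word [1,0,2,3,2,6,3,2,1,0,5,3,4,2,3,2,3,5,1,2,3,6,2,3,2,1,0,1,3,2,1,3,4,5,3,2,1,6,3,4,2,3,2,3,6,3,1,2,3,5,2,3,1])))) (.node (.node .none (.node (.node .none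 (.word [3,2,3,2,1,5,6,3,2,5,3,2,1,3,6,2,3,2,3,6,4,3,1,2,3,5,2,3,0,1,3,5,6,3,2,1,0,3,5,4,2,3,2,3,1,2,3,6,5,2,3,1,3,2,3,2,1,5,6,3,2,5,3,2,1,3,6,2,3,2,3,6,4,3,1,2,3,5,2,3,0,3,2,3,2,1,5,6,3,2,5,3,2,1,3,6,2,3,2,3,6,4,3,1,2,3,5,2,3,0])) .none)) .none))))

/-- A subtree. -/
def sub116 : WTree :=
  (.node (.node (.node (.node .none (.node (.node (.node .none (.word [1,3,5,6,3,2,1,0,3,5,4,2,3,2,3,1,2,3,6,5,2,5,6,3,2,1,0,3,5,4,2,3,2,3,1,2,3,6,5,2,5,6,3,2,1,0,3,5,4,2,3,2,3,1,2,3,6,5,2,3,1,0,1,3,2,1,3,4,5,3,2,1,6,3,4,2,3,2,3,6,3,1,2,3,5,2,3,1])) (.word [0,1,3,2,1,3,4,5,3,2,1,6,3,4,2,3,2,3,6,3,1,2,3,5,2,5,6,3,2,1,0,3,5,4,2,3,2,3,1,2,3,6,5,2,3,1,0,1,3,2,1,3,4,5,3,2,1,6,3,4,2,3,2,3,6,3,1,2,3,5,2,3,1,3,2,3,2,1,5,6,3,2,5,3,2,1,3,6,2,3,2,3,6,4,3,1,2,3,5,2,3,0]))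 .none)) (.node (.node (.node .none (.word [1,0,2,3,2,6,3,2,1,0,5,3,4,2,3,2,3,5,1,2,3,6,2,3,2,3,5,6,3,2,1,0,3,5,4,2,3,2,3,1,2,3,6,5,2,3,1,3,2,3,2,1,5,6,3,2,5,3,2,1,3,6,2,3,2,3,6,4,3,1,2,3,5,2,3,1,3,2,1,3,4,5,3,2,1,6,3,4,2,3,2,3,6,3,1,2,3,5,2,3,1])) .none) .none)) .none) (.node (.node (.node .none (.node .none (.node .none (.word [3,2,3,2,1,5,6,3,2,5,3,2,1,3,6,2,3,2,3,6,4,3,1,2,3,5,2,3,0])))) .none) .none))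

/-- A subtree. -/
def sub117 : WTree :=
  (.node (.node (.node .none (.node .none (.node .none (.node .none (.node .none (.word [0,1,3,2,1,3,4,5,3,2,1,6,3,4,2,3,2,3,6,3,1,2,3,5,2,3,0,2,3,2,6,3,2,1,0,5,3,4,2,3,2,3,5,1,2,3,6,2,3,2,1,0,1,3,2,1,3,4,5,3,2,1,6,3,4,2,3,2,3,6,3,1,2,3,5,2,3,1])))))) (.node (.node (.node (.node .none (.node .none (.word [1,3,5,6,3,2,1,0,3,5,4,2,3,2,3,1,2,3,6,5,2,5,6,3,2,1,0,3,5,4,2,3,2,3,1,2,3,6,5,2,3,1,0,1,3,2,1,3,4,5,3,2,1,6,3,4,2,3,2,3,6,3,1,2,3,5,2,3,1,3,2,3,2,1,5,6,3,2,5,3,2,1,3,6,2,3,2,3,6,4,3,1,2,3,5,2,3,0]))) .none) .none) (.node .none (.node (.node .none (.node .none (.word [3,2,3,2,1,5,6,3,2,5,3,2,1,3,6,2,3,2,3,6,4,3,1,2,3,5,2,3,0,3,2,3,2,1,5,6,3,2,5,3,2,1,3,6,2,3,2,3,6,4,3,1,2,3,5,2,3,0,1,0,2,3,2,6,3,2,1,0,5,3,4,2,3,2,3,5,1,2,3,6,2,3,2,1,3,2,3,2,1,5,6,3,2,5,3,2,1,3,6,2,3,2,3,6,4,3,1,2,3,5,2,3,0])))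 .none)))) (.node (.node .none (.node (.node (.node (.node .none (.word [0,1,3,2,1,3,4,5,3,2,1,6,3,4,2,3,2,3,6,3,1,2,3,5,2,3,0,2,3,2,6,3,2,1,0,5,3,4,2,3,2,3,5,1,2,3,6,2,3,2,3,5,6,3,2,1,0,3,5,4,2,3,2,3,1,2,3,6,5,2,3,1,3,2,3,2,1,5,6,3,2,5,3,2,1,3,6,2,3,2,3,6,4,3,1,2,3,5,2,3,1,3,2,1,3,4,5,3,2,1,6,3,4,2,3,2,3,6,3,1,2,3,5,2,3,1])) .none) .none) .none)) (.node (.node (.node .none (.node (.node .none (.word [1,0,2,3,2,6,3,2,1,0,5,3,4,2,3,2,3,5,1,2,3,6,2,3,2,1,0,1,3,2,1,3,4,5,3,2,1,6,3,4,2,3,2,3,6,3,1,2,3,5,2,3,1,0,1,3,2,1,3,4,5,3,2,1,6,3,4,2,3,2,3,6,3,1,2,3,5,2,3,1,3,2,3,2,1,5,6,3,2,5,3,2,1,3,6,2,3,2,3,6,4,3,1,2,3,5,2,3,0,3,2,3,2,1,5,6,3,2,5,3,2,1,3,6,2,3,2,3,6,4,3,1,2,3,5,2,3,0]))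 .none)) .none) (.node (.node .none (.node .none (.node .none (.word [0,1,3,2,1,3,4,5,3,2,1,6,3,4,2,3,2,3,6,3,1,2,3,5,2,3,1,3,2,3,2,1,5,6,3,2,5,3,2,1,3,6,2,3,2,3,6,4,3,1,2,3,5,2,3,0,3,2,3,2,1,5,6,3,2,5,3,2,1,3,6,2,3,2,3,6,4,3,1,2,3,5,2,3,0,3,2,3,2,1,5,6,3,2,5,3,2,1,3,6,2,3,2,3,6,4,3,1,2,3,5,2,3,0,3,2,3,2,1,5,6,3,2,5,3,2,1,3,6,2,3,2,3,6,4,3,1,2,3,5,2,3,0])))) (.node (.node .none (.node .none (.word [0,1,3,2,1,3,4,5,3,2,1,6,3,4,2,3,2,3,6,3,1,2,3,5,2,3,1,3,2,3,2,1,5,6,3,2,5,3,2,1,3,6,2,3,2,3,6,4,3,1,2,3,5,2,3,1,3,2,1,3,4,5,3,2,1,6,3,4,2,3,2,3,6,3,1,2,3,5,2,3,1,0,1,3,2,1,3,4,5,3,2,1,6,3,4,2,3,2,3,6,3,1,2,3,5,2,3,1,3,2,3,2,1,5,6,3,2,5,3,2,1,3,6,2,3,2,3,6,4,3,1,2,3,5,2,3,0]))) (.node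 (.node (.word [1,3,5,6,3,2,1,0,3,5,4,2,3,2,3,1,2,3,6,5,2,3,1,3,2,3,2,1,5,6,3,2,5,3,2,1,3,6,2,3,2,3,6,4,3,1,2,3,5,2,3,0]) (.word [3,2,3,2,1,5,6,3,2,5,3,2,1,3,6,2,3,2,3,6,4,3,1,2,3,5,2,3,0,3,2,3,2,1,5,6,3,2,5,3,2,1,3,6,2,3,2,3,6,4,3,1,2,3,5,2,3,0,3,2,3,2,1,5,6,3,2,5,3,2,1,3,6,2,3,2,3,6,4,3,1,2,3,5,2,3,0,3,2,3,2,1,5,6,3,2,5,3,2,1,3,6,2,3,2,3,6,4,3,1,2,3,5,2,3,0])) .none))))))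

/-- A subtree. -/
def sub118 : WTree :=
  (.node (.node sub114 sub115) (.node sub116 sub117))

/-- A subtree. -/
def sub119 : WTree :=
  (.node (.node (.node (.node .none (.node .none (.node (.node .none (.word [1,3,5,6,3,2,1,0,3,5,4,2,3,2,3,1,2,3,6,5,2,3,0,2,3,2,6,3,2,1,0,5,3,4,2,3,2,3,5,1,2,3,6,2,3,2,1,0,1,3,2,1,3,4,5,3,2,1,6,3,4,2,3,2,3,6,3,1,2,3,5,2,3,1])) .none))) (.node .none (.node (.word [1,0,2,3,2,6,3,2,1,0,5,3,4,2,3,2,3,5,1,2,3,6,2,3,2,3,5,6,3,2,1,0,3,5,4,2,3,2,3,1,2,3,6,5,2,3,1,0,1,3,2,1,3,4,5,3,2,1,6,3,4,2,3,2,3,6,3,1,2,3,5,2,3,1,0,1,3,2,1,3,4,5,3,2,1,6,3,4,2,3,2,3,6,3,1,2,3,5,2,3,1]) (.node .none (.word [3,2,3,2,1,5,6,3,2,5,3,2,1,3,6,2,3,2,3,6,4,3,1,2,3,5,2,3,0,1,0,2,3,2,6,3,2,1,0,5,3,4,2,3,2,3,5,1,2,3,6,2,3,2,1,3,2,3,2,1,5,6,3,2,5,3,2,1,3,6,2,3,2,3,6,4,3,1,2,3,5,2,3,0,3,2,3,2,1,5,6,3,2,5,3,2,1,3,6,2,3,2,3,6,4,3,1,2,3,5,2,3,0])))))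 (.node (.node (.node (.node .none (.node .none (.word [1,0,2,3,2,6,3,2,1,0,5,3,4,2,3,2,3,5,1,2,3,6,2,3,2,1,0,1,3,2,1,3,4,5,3,2,1,6,3,4,2,3,2,3,6,3,1,2,3,5,2,3,0,2,3,2,6,3,2,1,0,5,3,4,2,3,2,3,5,1,2,3,6,2,3,2,1,3,2,3,2,1,5,6,3,2,5,3,2,1,3,6,2,3,2,3,6,4,3,1,2,3,5,2,3,0]))) .none) .none) (.node (.node (.node .none (.word [3,2,3,2,1,5,6,3,2,5,3,2,1,3,6,2,3,2,3,6,4,3,1,2,3,5,2,3,1,3,2,1,3,4,5,3,2,1,6,3,4,2,3,2,3,6,3,1,2,3,5,2,5,6,3,2,1,0,3,5,4,2,3,2,3,1,2,3,6,5,2,3,1,0,1,3,2,1,3,4,5,3,2,1,6,3,4,2,3,2,3,6,3,1,2,3,5,2,3,1,3,2,3,2,1,5,6,3,2,5,3,2,1,3,6,2,3,2,3,6,4,3,1,2,3,5,2,3,0])) .none) .none))) (.node (.node (.node (.node .none (.node .none (.word [3,2,3,2,1,5,6,3,2,5,3,2,1,3,6,2,3,2,3,6,4,3,1,2,3,5,2,3,0,1,0,2,3,2,6,3,2,1,0,5,3,4,2,3,2,3,5,1,2,3,6,2,3,2,3,5,6,3,2,1,0,3,5,4,2,3,2,3,1,2,3,6,5,2,3,1,0,1,3,2,1,3,4,5,3,2,1,6,3,4,2,3,2,3,6,3,1,2,3,5,2,3,1,3,2,3,2,1,5,6,3,2,5,3,2,1,3,6,2,3,2,3,6,4,3,1,2,3,5,2,3,0])))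 (.node .none (.node .none (.node .none (.word [1,0,2,3,2,6,3,2,1,0,5,3,4,2,3,2,3,5,1,2,3,6,2,3,2,1,3,2,3,2,1,5,6,3,2,5,3,2,1,3,6,2,3,2,3,6,4,3,1,2,3,5,2,3,0,3,2,3,2,1,5,6,3,2,5,3,2,1,3,6,2,3,2,3,6,4,3,1,2,3,5,2,3,0]))))) .none) (.node (.node (.node (.node (.node .none (.word [1,3,5,6,3,2,1,0,3,5,4,2,3,2,3,1,2,3,6,5,2,3,1,0,1,3,2,1,3,4,5,3,2,1,6,3,4,2,3,2,3,6,3,1,2,3,5,2,3,1])) .none) .none) .none) .none)))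

/-- A subtree. -/
def sub120 : WTree :=
  (.node (.node (.node (.node (.word [1,3,5,6,3,2,1,0,3,5,4,2,3,2,3,1,2,3,6,5,2,5,6,3,2,1,0,3,5,4,2,3,2,3,1,2,3,6,5,2,5,6,3,2,1,0,3,5,4,2,3,2,3,1,2,3,6,5,2,3,1,3,2,3,2,1,5,6,3,2,5,3,2,1,3,6,2,3,2,3,6,4,3,1,2,3,5,2,3,0]) (.node (.node (.node .none (.word [1,3,5,6,3,2,1,0,3,5,4,2,3,2,3,1,2,3,6,5,2,3,0,2,3,2,6,3,2,1,0,5,3,4,2,3,2,3,5,1,2,3,6,2,3,2,1,0,1,3,2,1,3,4,5,3,2,1,6,3,4,2,3,2,3,6,3,1,2,3,5,2,3,1,3,2,3,2,1,5,6,3,2,5,3,2,1,3,6,2,3,2,3,6,4,3,1,2,3,5,2,3,0])) .none) (.node .none (.word [])))) (.node (.node (.node .none (.word [1,3,5,6,3,2,1,0,3,5,4,2,3,2,3,1,2,3,6,5,2,3,1,3,2,3,2,1,5,6,3,2,5,3,2,1,3,6,2,3,2,3,6,4,3,1,2,3,5,2,3,0,3,2,3,2,1,5,6,3,2,5,3,2,1,3,6,2,3,2,3,6,4,3,1,2,3,5,2,3,0,3,2,3,2,1,5,6,3,2,5,3,2,1,3,6,2,3,2,3,6,4,3,1,2,3,5,2,3,0,3,2,3,2,1,5,6,3,2,5,3,2,1,3,6,2,3,2,3,6,4,3,1,2,3,5,2,3,0]))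 .none) (.word [3,2,3,2,1,5,6,3,2,5,3,2,1,3,6,2,3,2,3,6,4,3,1,2,3,5,2,3,1,3,2,1,3,4,5,3,2,1,6,3,4,2,3,2,3,6,3,1,2,3,5,2,3,0,2,3,2,6,3,2,1,0,5,3,4,2,3,2,3,5,1,2,3,6,2,3,2,1,3,2,3,2,1,5,6,3,2,5,3,2,1,3,6,2,3,2,3,6,4,3,1,2,3,5,2,3,0]))) (.node (.node .none (.node .none (.node (.node (.word [1,3,5,6,3,2,1,0,3,5,4,2,3,2,3,1,2,3,6,5,2,3,1,3,2,3,2,1,5,6,3,2,5,3,2,1,3,6,2,3,2,3,6,4,3,1,2,3,5,2,3,0,1,3,5,6,3,2,1,0,3,5,4,2,3,2,3,1,2,3,6,5,2,3,1,3,2,3,2,1,5,6,3,2,5,3,2,1,3,6,2,3,2,3,6,4,3,1,2,3,5,2,3,0]) (.word [3,2,3,2,1,5,6,3,2,5,3,2,1,3,6,2,3,2,3,6,4,3,1,2,3,5,2,3,1,3,2,1,3,4,5,3,2,1,6,3,4,2,3,2,3,6,3,1,2,3,5,2,3,1])) .none))) (.node (.node .none (.node (.node .none (.word [3,2,3,2,1,5,6,3,2,5,3,2,1,3,6,2,3,2,3,6,4,3,1,2,3,5,2,3,0,1,0,2,3,2,6,3,2,1,0,5,3,4,2,3,2,3,5,1,2,3,6,2,3,2,1,3,2,3,2,1,5,6,3,2,5,3,2,1,3,6,2,3,2,3,6,4,3,1,2,3,5,2,3,1,3,2,1,3,4,5,3,2,1,6,3,4,2,3,2,3,6,3,1,2,3,5,2,3,1]))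 .none)) .none))) (.node (.node .none (.node (.word [1,0,2,3,2,6,3,2,1,0,5,3,4,2,3,2,3,5,1,2,3,6,2,3,2,1,3,2,3,2,1,5,6,3,2,5,3,2,1,3,6,2,3,2,3,6,4,3,1,2,3,5,2,3,0]) (.node .none (.node .none (.word [0,1,3,2,1,3,4,5,3,2,1,6,3,4,2,3,2,3,6,3,1,2,3,5,2,5,6,3,2,1,0,3,5,4,2,3,2,3,1,2,3,6,5,2,3,1,3,2,3,2,1,5,6,3,2,5,3,2,1,3,6,2,3,2,3,6,4,3,1,2,3,5,2,3,0,3,2,3,2,1,5,6,3,2,5,3,2,1,3,6,2,3,2,3,6,4,3,1,2,3,5,2,3,0]))))) (.node .none (.node (.node (.node (.word [1,0,2,3,2,6,3,2,1,0,5,3,4,2,3,2,3,5,1,2,3,6,2,3,2,3,5,6,3,2,1,0,3,5,4,2,3,2,3,1,2,3,6,5,2,3,1,3,2,3,2,1,5,6,3,2,5,3,2,1,3,6,2,3,2,3,6,4,3,1,2,3,5,2,3,0]) (.node .none (.word [1,0,2,3,2,6,3,2,1,0,5,3,4,2,3,2,3,5,1,2,3,6,2,3,2,1,3,2,3,2,1,5,6,3,2,5,3,2,1,3,6,2,3,2,3,6,4,3,1,2,3,5,2,3,1,3,2,1,3,4,5,3,2,1,6,3,4,2,3,2,3,6,3,1,2,3,5,2,3,1,0,1,3,2,1,3,4,5,3,2,1,6,3,4,2,3,2,3,6,3,1,2,3,5,2,3,1,3,2,3,2,1,5,6,3,2,5,3,2,1,3,6,2,3,2,3,6,4,3,1,2,3,5,2,3,0])))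 .none) .none))))

/-- A subtree. -/
def sub121 : WTree :=
  (.node (.node (.node (.node (.node .none (.word [0,1,3,2,1,3,4,5,3,2,1,6,3,4,2,3,2,3,6,3,1,2,3,5,2,3,0,2,3,2,6,3,2,1,0,5,3,4,2,3,2,3,5,1,2,3,6,2,3,2,1,3,2,3,2,1,5,6,3,2,5,3,2,1,3,6,2,3,2,3,6,4,3,1,2,3,5,2,3,0])) .none) (.node (.node .none (.node (.node (.word [0,1,3,2,1,3,4,5,3,2,1,6,3,4,2,3,2,3,6,3,1,2,3,5,2,3,1,3,2,3,2,1,5,6,3,2,5,3,2,1,3,6,2,3,2,3,6,4,3,1,2,3,5,2,3,0,3,2,3,2,1,5,6,3,2,5,3,2,1,3,6,2,3,2,3,6,4,3,1,2,3,5,2,3,0,1,3,5,6,3,2,1,0,3,5,4,2,3,2,3,1,2,3,6,5,2,3,1,3,2,3,2,1,5,6,3,2,5,3,2,1,3,6,2,3,2,3,6,4,3,1,2,3,5,2,3,0]) (.word [0,1,3,2,1,3,4,5,3,2,1,6,3,4,2,3,2,3,6,3,1,2,3,5,2,5,6,3,2,1,0,3,5,4,2,3,2,3,1,2,3,6,5,2,3,1,3,2,3,2,1,5,6,3,2,5,3,2,1,3,6,2,3,2,3,6,4,3,1,2,3,5,2,3,0]))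 .none)) .none)) (.node (.word [1,0,2,3,2,6,3,2,1,0,5,3,4,2,3,2,3,5,1,2,3,6,2,3,2,1,0,1,3,2,1,3,4,5,3,2,1,6,3,4,2,3,2,3,6,3,1,2,3,5,2,3,1,0,1,3,2,1,3,4,5,3,2,1,6,3,4,2,3,2,3,6,3,1,2,3,5,2,3,1]) (.word [0,1,3,2,1,3,4,5,3,2,1,6,3,4,2,3,2,3,6,3,1,2,3,5,2,3,1,0,1,3,2,1,3,4,5,3,2,1,6,3,4,2,3,2,3,6,3,1,2,3,5,2,3,1,3,2,3,2,1,5,6,3,2,5,3,2,1,3,6,2,3,2,3,6,4,3,1,2,3,5,2,3,0]))) (.node (.node (.node (.node (.node .none (.node .none (.word [1,0,2,3,2,6,3,2,1,0,5,3,4,2,3,2,3,5,1,2,3,6,2,3,2,3,5,6,3,2,1,0,3,5,4,2,3,2,3,1,2,3,6,5,2,5,6,3,2,1,0,3,5,4,2,3,2,3,1,2,3,6,5,2,3,1,3,2,3,2,1,5,6,3,2,5,3,2,1,3,6,2,3,2,3,6,4,3,1,2,3,5,2,3,0]))) .none) .none) (.node .none (.node (.node (.node .none (.word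 [1,3,5,6,3,2,1,0,3,5,4,2,3,2,3,1,2,3,6,5,2,3,1,0,1,3,2,1,3,4,5,3,2,1,6,3,4,2,3,2,3,6,3,1,2,3,5,2,5,6,3,2,1,0,3,5,4,2,3,2,3,1,2,3,6,5,2,3,1,3,2,3,2,1,5,6,3,2,5,3,2,1,3,6,2,3,2,3,6,4,3,1,2,3,5,2,3,0])) .none) .none))) (.node (.word [3,2,3,2,1,5,6,3,2,5,3,2,1,3,6,2,3,2,3,6,4,3,1,2,3,5,2,3,1,3,2,1,3,4,5,3,2,1,6,3,4,2,3,2,3,6,3,1,2,3,5,2,5,6,3,2,1,0,3,5,4,2,3,2,3,1,2,3,6,5,2,3,1,3,2,3,2,1,5,6,3,2,5,3,2,1,3,6,2,3,2,3,6,4,3,1,2,3,5,2,3,0]) (.node .none (.node (.node .none (.node .none (.word [1,3,5,6,3,2,1,0,3,5,4,2,3,2,3,1,2,3,6,5,2,5,6,3,2,1,0,3,5,4,2,3,2,3,1,2,3,6,5,2,3,1,3,2,3,2,1,5,6,3,2,5,3,2,1,3,6,2,3,2,3,6,4,3,1,2,3,5,2,3,0]))) .none)))))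

/-- A subtree. -/
def sub122 : WTree :=
  (.node (.node (.node (.node (.node .none (.word [1,0,2,3,2,6,3,2,1,0,5,3,4,2,3,2,3,5,1,2,3,6,2,3,2,1,3,2,3,2,1,5,6,3,2,5,3,2,1,3,6,2,3,2,3,6,4,3,1,2,3,5,2,3,0,3,2,3,2,1,5,6,3,2,5,3,2,1,3,6,2,3,2,3,6,4,3,1,2,3,5,2,3,0,1,3,5,6,3,2,1,0,3,5,4,2,3,2,3,1,2,3,6,5,2,3,1,3,2,3,2,1,5,6,3,2,5,3,2,1,3,6,2,3,2,3,6,4,3,1,2,3,5,2,3,0])) .none) (.node .none (.node .none (.word [1,3,5,6,3,2,1,0,3,5,4,2,3,2,3,1,2,3,6,5,2,3,1,3,2,3,2,1,5,6,3,2,5,3,2,1,3,6,2,3,2,3,6,4,3,1,2,3,5,2,3,0,3,2,3,2,1,5,6,3,2,5,3,2,1,3,6,2,3,2,3,6,4,3,1,2,3,5,2,3,0])))) (.node .none (.node .none (.node (.node .none (.word [0,1,3,2,1,3,4,5,3,2,1,6,3,4,2,3,2,3,6,3,1,2,3,5,2,5,6,3,2,1,0,3,5,4,2,3,2,3,1,2,3,6,5,2,5,6,3,2,1,0,3,5,4,2,3,2,3,1,2,3,6,5,2,3,1,0,1,3,2,1,3,4,5,3,2,1,6,3,4,2,3,2,3,6,3,1,2,3,5,2,3,1,3,2,3,2,1,5,6,3,2,5,3,2,1,3,6,2,3,2,3,6,4,3,1,2,3,5,2,3,0]))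 .none)))) (.node (.node (.node (.node .none (.node .none (.node .none (.word [3,2,3,2,1,5,6,3,2,5,3,2,1,3,6,2,3,2,3,6,4,3,1,2,3,5,2,3,0,1,3,5,6,3,2,1,0,3,5,4,2,3,2,3,1,2,3,6,5,2,3,1,3,2,3,2,1,5,6,3,2,5,3,2,1,3,6,2,3,2,3,6,4,3,1,2,3,5,2,3,0])))) (.node (.node .none (.node .none (.word [3,2,3,2,1,5,6,3,2,5,3,2,1,3,6,2,3,2,3,6,4,3,1,2,3,5,2,3,0,3,2,3,2,1,5,6,3,2,5,3,2,1,3,6,2,3,2,3,6,4,3,1,2,3,5,2,3,0,3,2,3,2,1,5,6,3,2,5,3,2,1,3,6,2,3,2,3,6,4,3,1,2,3,5,2,3,0]))) .none)) .none) (.node (.node (.node .none (.node (.node .none (.word [1,3,5,6,3,2,1,0,3,5,4,2,3,2,3,1,2,3,6,5,2,3,1,0,1,3,2,1,3,4,5,3,2,1,6,3,4,2,3,2,3,6,3,1,2,3,5,2,3,1,0,1,3,2,1,3,4,5,3,2,1,6,3,4,2,3,2,3,6,3,1,2,3,5,2,3,1]))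 .none)) .none) (.node (.node (.node .none (.node .none (.word [0,1,3,2,1,3,4,5,3,2,1,6,3,4,2,3,2,3,6,3,1,2,3,5,2,3,1,0,1,3,2,1,3,4,5,3,2,1,6,3,4,2,3,2,3,6,3,1,2,3,5,2,5,6,3,2,1,0,3,5,4,2,3,2,3,1,2,3,6,5,2,3,1,3,2,3,2,1,5,6,3,2,5,3,2,1,3,6,2,3,2,3,6,4,3,1,2,3,5,2,3,0]))) .none) .none))))

/-- A subtree. -/
def sub123 : WTree :=
  (.node (.node sub119 sub120) (.node sub121 sub122))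

/-- A subtree. -/
def sub124 : WTree :=
  (.node (.node (.node (.node .none (.node (.word [1,3,5,6,3,2,1,0,3,5,4,2,3,2,3,1,2,3,6,5,2,3,1,0,1,3,2,1,3,4,5,3,2,1,6,3,4,2,3,2,3,6,3,1,2,3,5,2,3,1,3,2,3,2,1,5,6,3,2,5,3,2,1,3,6,2,3,2,3,6,4,3,1,2,3,5,2,3,1,3,2,1,3,4,5,3,2,1,6,3,4,2,3,2,3,6,3,1,2,3,5,2,3,1]) (.node .none (.node .none (.word [1,3,5,6,3,2,1,0,3,5,4,2,3,2,3,1,2,3,6,5,2,3,1,3,2,3,2,1,5,6,3,2,5,3,2,1,3,6,2,3,2,3,6,4,3,1,2,3,5,2,3,1,3,2,1,3,4,5,3,2,1,6,3,4,2,3,2,3,6,3,1,2,3,5,2,3,1]))))) .none) (.node (.node (.node .none (.node (.node .none (.word [0,1,3,2,1,3,4,5,3,2,1,6,3,4,2,3,2,3,6,3,1,2,3,5,2,3,1,0,1,3,2,1,3,4,5,3,2,1,6,3,4,2,3,2,3,6,3,1,2,3,5,2,3,0,2,3,2,6,3,2,1,0,5,3,4,2,3,2,3,5,1,2,3,6,2,3,2,1,0,1,3,2,1,3,4,5,3,2,1,6,3,4,2,3,2,3,6,3,1,2,3,5,2,3,1]))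 .none)) .none) .none)) (.node .none (.node (.node .none (.node (.node .none (.word [3,2,3,2,1,5,6,3,2,5,3,2,1,3,6,2,3,2,3,6,4,3,1,2,3,5,2,3,0,3,2,3,2,1,5,6,3,2,5,3,2,1,3,6,2,3,2,3,6,4,3,1,2,3,5,2,3,0,1,3,5,6,3,2,1,0,3,5,4,2,3,2,3,1,2,3,6,5,2,3,1,3,2,3,2,1,5,6,3,2,5,3,2,1,3,6,2,3,2,3,6,4,3,1,2,3,5,2,3,0])) (.word [0,1,3,2,1,3,4,5,3,2,1,6,3,4,2,3,2,3,6,3,1,2,3,5,2,3,0,2,3,2,6,3,2,1,0,5,3,4,2,3,2,3,5,1,2,3,6,2,3,2,1,0,1,3,2,1,3,4,5,3,2,1,6,3,4,2,3,2,3,6,3,1,2,3,5,2,5,6,3,2,1,0,3,5,4,2,3,2,3,1,2,3,6,5,2,3,1,3,2,3,2,1,5,6,3,2,5,3,2,1,3,6,2,3,2,3,6,4,3,1,2,3,5,2,3,0]))) (.node (.node (.node .none (.node .none (.word [1,3,5,6,3,2,1,0,3,5,4,2,3,2,3,1,2,3,6,5,2,3,1,0,1,3,2,1,3,4,5,3,2,1,6,3,4,2,3,2,3,6,3,1,2,3,5,2,3,1,0,1,3,2,1,3,4,5,3,2,1,6,3,4,2,3,2,3,6,3,1,2,3,5,2,3,1,3,2,3,2,1,5,6,3,2,5,3,2,1,3,6,2,3,2,3,6,4,3,1,2,3,5,2,3,0])))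 .none) .none))))

/-- A subtree. -/
def sub125 : WTree :=
  (.node (.node (.node (.node .none (.word [3,2,3,2,1,5,6,3,2,5,3,2,1,3,6,2,3,2,3,6,4,3,1,2,3,5,2,3,0,1,0,2,3,2,6,3,2,1,0,5,3,4,2,3,2,3,5,1,2,3,6,2,3,2,1,0,1,3,2,1,3,4,5,3,2,1,6,3,4,2,3,2,3,6,3,1,2,3,5,2,3,1,0,1,3,2,1,3,4,5,3,2,1,6,3,4,2,3,2,3,6,3,1,2,3,5,2,3,1])) (.node .none (.node (.node .none (.node .none (.word [3,2,3,2,1,5,6,3,2,5,3,2,1,3,6,2,3,2,3,6,4,3,1,2,3,5,2,3,0,1,3,5,6,3,2,1,0,3,5,4,2,3,2,3,1,2,3,6,5,2,5,6,3,2,1,0,3,5,4,2,3,2,3,1,2,3,6,5,2,3,1,3,2,3,2,1,5,6,3,2,5,3,2,1,3,6,2,3,2,3,6,4,3,1,2,3,5,2,3,0,3,2,3,2,1,5,6,3,2,5,3,2,1,3,6,2,3,2,3,6,4,3,1,2,3,5,2,3,0]))) .none))) (.node (.node (.node .none (.node .none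 (.node .none (.word [3,2,3,2,1,5,6,3,2,5,3,2,1,3,6,2,3,2,3,6,4,3,1,2,3,5,2,3,0,3,2,3,2,1,5,6,3,2,5,3,2,1,3,6,2,3,2,3,6,4,3,1,2,3,5,2,3,0,1,0,2,3,2,6,3,2,1,0,5,3,4,2,3,2,3,5,1,2,3,6,2,3,2,1,0,1,3,2,1,3,4,5,3,2,1,6,3,4,2,3,2,3,6,3,1,2,3,5,2,3,1])))) .none) (.node (.node (.node .none (.word [1,3,5,6,3,2,1,0,3,5,4,2,3,2,3,1,2,3,6,5,2,5,6,3,2,1,0,3,5,4,2,3,2,3,1,2,3,6,5,2,3,1,3,2,3,2,1,5,6,3,2,5,3,2,1,3,6,2,3,2,3,6,4,3,1,2,3,5,2,3,1,3,2,1,3,4,5,3,2,1,6,3,4,2,3,2,3,6,3,1,2,3,5,2,3,1,3,2,3,2,1,5,6,3,2,5,3,2,1,3,6,2,3,2,3,6,4,3,1,2,3,5,2,3,0])) .none) .none))) (.node (.node .none (.node (.node .none (.node .none (.word [0,1,3,2,1,3,4,5,3,2,1,6,3,4,2,3,2,3,6,3,1,2,3,5,2,5,6,3,2,1,0,3,5,4,2,3,2,3,1,2,3,6,5,2,5,6,3,2,1,0,3,5,4,2,3,2,3,1,2,3,6,5,2,3,1,3,2,3,2,1,5,6,3,2,5,3,2,1,3,6,2,3,2,3,6,4,3,1,2,3,5,2,3,0])))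 (.node (.node .none (.node .none (.word [3,2,3,2,1,5,6,3,2,5,3,2,1,3,6,2,3,2,3,6,4,3,1,2,3,5,2,3,0,1,0,2,3,2,6,3,2,1,0,5,3,4,2,3,2,3,5,1,2,3,6,2,3,2,3,5,6,3,2,1,0,3,5,4,2,3,2,3,1,2,3,6,5,2,5,6,3,2,1,0,3,5,4,2,3,2,3,1,2,3,6,5,2,3,1,3,2,3,2,1,5,6,3,2,5,3,2,1,3,6,2,3,2,3,6,4,3,1,2,3,5,2,3,0]))) .none))) (.node (.node .none (.node .none (.node .none (.node .none (.word [0,1,3,2,1,3,4,5,3,2,1,6,3,4,2,3,2,3,6,3,1,2,3,5,2,3,1,3,2,3,2,1,5,6,3,2,5,3,2,1,3,6,2,3,2,3,6,4,3,1,2,3,5,2,3,0]))))) (.node .none (.node .none (.node (.node .none (.word [0,1,3,2,1,3,4,5,3,2,1,6,3,4,2,3,2,3,6,3,1,2,3,5,2,3,1,3,2,3,2,1,5,6,3,2,5,3,2,1,3,6,2,3,2,3,6,4,3,1,2,3,5,2,3,0,3,2,3,2,1,5,6,3,2,5,3,2,1,3,6,2,3,2,3,6,4,3,1,2,3,5,2,3,0,3,2,3,2,1,5,6,3,2,5,3,2,1,3,6,2,3,2,3,6,4,3,1,2,3,5,2,3,0]))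 .none))))))

/-- A subtree. -/
def sub126 : WTree :=
  (.node (.node (.node (.node .none (.node (.node .none (.node .none (.word [0,1,3,2,1,3,4,5,3,2,1,6,3,4,2,3,2,3,6,3,1,2,3,5,2,3,1,3,2,3,2,1,5,6,3,2,5,3,2,1,3,6,2,3,2,3,6,4,3,1,2,3,5,2,3,0,3,2,3,2,1,5,6,3,2,5,3,2,1,3,6,2,3,2,3,6,4,3,1,2,3,5,2,3,0]))) .none)) .none) .none) (.node .none (.node (.node (.node (.node .none (.node .none (.word [3,2,3,2,1,5,6,3,2,5,3,2,1,3,6,2,3,2,3,6,4,3,1,2,3,5,2,3,1,3,2,1,3,4,5,3,2,1,6,3,4,2,3,2,3,6,3,1,2,3,5,2,3,1,3,2,3,2,1,5,6,3,2,5,3,2,1,3,6,2,3,2,3,6,4,3,1,2,3,5,2,3,1,3,2,1,3,4,5,3,2,1,6,3,4,2,3,2,3,6,3,1,2,3,5,2,3,1]))) .none) (.node (.node .none (.word [3,2,3,2,1,5,6,3,2,5,3,2,1,3,6,2,3,2,3,6,4,3,1,2,3,5,2,3,0,1,0,2,3,2,6,3,2,1,0,5,3,4,2,3,2,3,5,1,2,3,6,2,3,2,1,3,2,3,2,1,5,6,3,2,5,3,2,1,3,6,2,3,2,3,6,4,3,1,2,3,5,2,3,0]))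 .none)) .none)))

/-- A subtree. -/
def sub127 : WTree :=
  (.node (.node (.node (.node (.node (.node .none (.word [1,3,5,6,3,2,1,0,3,5,4,2,3,2,3,1,2,3,6,5,2,5,6,3,2,1,0,3,5,4,2,3,2,3,1,2,3,6,5,2,3,1,3,2,3,2,1,5,6,3,2,5,3,2,1,3,6,2,3,2,3,6,4,3,1,2,3,5,2,3,0,3,2,3,2,1,5,6,3,2,5,3,2,1,3,6,2,3,2,3,6,4,3,1,2,3,5,2,3,0])) .none) .none) (.node (.node .none (.node .none (.node .none (.word [1,3,5,6,3,2,1,0,3,5,4,2,3,2,3,1,2,3,6,5,2,5,6,3,2,1,0,3,5,4,2,3,2,3,1,2,3,6,5,2,3,1,3,2,3,2,1,5,6,3,2,5,3,2,1,3,6,2,3,2,3,6,4,3,1,2,3,5,2,3,1,3,2,1,3,4,5,3,2,1,6,3,4,2,3,2,3,6,3,1,2,3,5,2,3,1])))) (.word [0,1,3,2,1,3,4,5,3,2,1,6,3,4,2,3,2,3,6,3,1,2,3,5,2,5,6,3,2,1,0,3,5,4,2,3,2,3,1,2,3,6,5,2,5,6,3,2,1,0,3,5,4,2,3,2,3,1,2,3,6,5,2,5,6,3,2,1,0,3,5,4,2,3,2,3,1,2,3,6,5,2,3,1,3,2,3,2,1,5,6,3,2,5,3,2,1,3,6,2,3,2,3,6,4,3,1,2,3,5,2,3,0])))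 (.node .none (.node .none (.word [0,1,3,2,1,3,4,5,3,2,1,6,3,4,2,3,2,3,6,3,1,2,3,5,2,3,1,3,2,3,2,1,5,6,3,2,5,3,2,1,3,6,2,3,2,3,6,4,3,1,2,3,5,2,3,1,3,2,1,3,4,5,3,2,1,6,3,4,2,3,2,3,6,3,1,2,3,5,2,3,1,3,2,3,2,1,5,6,3,2,5,3,2,1,3,6,2,3,2,3,6,4,3,1,2,3,5,2,3,1,3,2,1,3,4,5,3,2,1,6,3,4,2,3,2,3,6,3,1,2,3,5,2,3,1])))) (.node (.node (.node (.node (.node (.node (.word [3,2,3,2,1,5,6,3,2,5,3,2,1,3,6,2,3,2,3,6,4,3,1,2,3,5,2,3,1,3,2,1,3,4,5,3,2,1,6,3,4,2,3,2,3,6,3,1,2,3,5,2,3,1,0,1,3,2,1,3,4,5,3,2,1,6,3,4,2,3,2,3,6,3,1,2,3,5,2,3,1,3,2,3,2,1,5,6,3,2,5,3,2,1,3,6,2,3,2,3,6,4,3,1,2,3,5,2,3,0]) (.word [1,3,5,6,3,2,1,0,3,5,4,2,3,2,3,1,2,3,6,5,2,3,1,0,1,3,2,1,3,4,5,3,2,1,6,3,4,2,3,2,3,6,3,1,2,3,5,2,3,1,0,1,3,2,1,3,4,5,3,2,1,6,3,4,2,3,2,3,6,3,1,2,3,5,2,3,1,3,2,3,2,1,5,6,3,2,5,3,2,1,3,6,2,3,2,3,6,4,3,1,2,3,5,2,3,0,3,2,3,2,1,5,6,3,2,5,3,2,1,3,6,2,3,2,3,6,4,3,1,2,3,5,2,3,0]))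 .none) .none) .none) (.node .none (.node .none (.node .none (.word [1,0,2,3,2,6,3,2,1,0,5,3,4,2,3,2,3,5,1,2,3,6,2,3,2,3,5,6,3,2,1,0,3,5,4,2,3,2,3,1,2,3,6,5,2,3,1,3,2,3,2,1,5,6,3,2,5,3,2,1,3,6,2,3,2,3,6,4,3,1,2,3,5,2,3,1,3,2,1,3,4,5,3,2,1,6,3,4,2,3,2,3,6,3,1,2,3,5,2,3,1,3,2,3,2,1,5,6,3,2,5,3,2,1,3,6,2,3,2,3,6,4,3,1,2,3,5,2,3,0]))))) (.node (.node .none (.node (.node .none (.node .none (.word [0,1,3,2,1,3,4,5,3,2,1,6,3,4,2,3,2,3,6,3,1,2,3,5,2,5,6,3,2,1,0,3,5,4,2,3,2,3,1,2,3,6,5,2,3,0,2,3,2,6,3,2,1,0,5,3,4,2,3,2,3,5,1,2,3,6,2,3,2,1,3,2,3,2,1,5,6,3,2,5,3,2,1,3,6,2,3,2,3,6,4,3,1,2,3,5,2,3,0]))) .none)) .none)))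

/-- A subtree. -/
def sub128 : WTree :=
  (.node (.node sub124 sub125) (.node sub126 sub127))

/-- A subtree. -/
def sub129 : WTree :=
  (.node (.node (.node (.node .none (.node (.node (.node .none (.word [3,2,3,2,1,5,6,3,2,5,3,2,1,3,6,2,3,2,3,6,4,3,1,2,3,5,2,3,1,3,2,1,3,4,5,3,2,1,6,3,4,2,3,2,3,6,3,1,2,3,5,2,5,6,3,2,1,0,3,5,4,2,3,2,3,1,2,3,6,5,2,5,6,3,2,1,0,3,5,4,2,3,2,3,1,2,3,6,5,2,3,1,3,2,3,2,1,5,6,3,2,5,3,2,1,3,6,2,3,2,3,6,4,3,1,2,3,5,2,3,0])) .none) .none)) (.node (.node (.node .none (.word [0,1,3,2,1,3,4,5,3,2,1,6,3,4,2,3,2,3,6,3,1,2,3,5,2,5,6,3,2,1,0,3,5,4,2,3,2,3,1,2,3,6,5,2,3,1,3,2,3,2,1,5,6,3,2,5,3,2,1,3,6,2,3,2,3,6,4,3,1,2,3,5,2,3,1,3,2,1,3,4,5,3,2,1,6,3,4,2,3,2,3,6,3,1,2,3,5,2,3,1]))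 .none) .none)) (.node (.node .none (.node (.node (.node .none (.word [0,1,3,2,1,3,4,5,3,2,1,6,3,4,2,3,2,3,6,3,1,2,3,5,2,3,1,3,2,3,2,1,5,6,3,2,5,3,2,1,3,6,2,3,2,3,6,4,3,1,2,3,5,2,3,0,1,3,5,6,3,2,1,0,3,5,4,2,3,2,3,1,2,3,6,5,2,3,1,0,1,3,2,1,3,4,5,3,2,1,6,3,4,2,3,2,3,6,3,1,2,3,5,2,3,1])) .none) .none)) (.node (.node (.node (.node .none (.word [3,2,3,2,1,5,6,3,2,5,3,2,1,3,6,2,3,2,3,6,4,3,1,2,3,5,2,3,0,1,0,2,3,2,6,3,2,1,0,5,3,4,2,3,2,3,5,1,2,3,6,2,3,2,1,0,1,3,2,1,3,4,5,3,2,1,6,3,4,2,3,2,3,6,3,1,2,3,5,2,3,1])) .none) .none) (.node (.node .none (.word [1,0,2,3,2,6,3,2,1,0,5,3,4,2,3,2,3,5,1,2,3,6,2,3,2,3,5,6,3,2,1,0,3,5,4,2,3,2,3,1,2,3,6,5,2,3,1,0,1,3,2,1,3,4,5,3,2,1,6,3,4,2,3,2,3,6,3,1,2,3,5,2,3,1]))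 .none)))) (.node (.node (.node (.word [1,0,2,3,2,6,3,2,1,0,5,3,4,2,3,2,3,5,1,2,3,6,2,3,2,1,0,1,3,2,1,3,4,5,3,2,1,6,3,4,2,3,2,3,6,3,1,2,3,5,2,3,0,2,3,2,6,3,2,1,0,5,3,4,2,3,2,3,5,1,2,3,6,2,3,2,1,0,1,3,2,1,3,4,5,3,2,1,6,3,4,2,3,2,3,6,3,1,2,3,5,2,3,1]) (.node .none (.node .none (.word [1,3,5,6,3,2,1,0,3,5,4,2,3,2,3,1,2,3,6,5,2,3,1,0,1,3,2,1,3,4,5,3,2,1,6,3,4,2,3,2,3,6,3,1,2,3,5,2,3,1,3,2,3,2,1,5,6,3,2,5,3,2,1,3,6,2,3,2,3,6,4,3,1,2,3,5,2,3,0])))) (.node (.node (.node .none (.word [3,2,3,2,1,5,6,3,2,5,3,2,1,3,6,2,3,2,3,6,4,3,1,2,3,5,2,3,0,1,0,2,3,2,6,3,2,1,0,5,3,4,2,3,2,3,5,1,2,3,6,2,3,2,3,5,6,3,2,1,0,3,5,4,2,3,2,3,1,2,3,6,5,2,3,1,3,2,3,2,1,5,6,3,2,5,3,2,1,3,6,2,3,2,3,6,4,3,1,2,3,5,2,3,0]))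 .none) .none)) (.node (.node (.node (.node .none (.word [1,0,2,3,2,6,3,2,1,0,5,3,4,2,3,2,3,5,1,2,3,6,2,3,2,1,0,1,3,2,1,3,4,5,3,2,1,6,3,4,2,3,2,3,6,3,1,2,3,5,2,3,1,3,2,3,2,1,5,6,3,2,5,3,2,1,3,6,2,3,2,3,6,4,3,1,2,3,5,2,3,0,3,2,3,2,1,5,6,3,2,5,3,2,1,3,6,2,3,2,3,6,4,3,1,2,3,5,2,3,0])) (.node (.node .none (.word [1,3,5,6,3,2,1,0,3,5,4,2,3,2,3,1,2,3,6,5,2,5,6,3,2,1,0,3,5,4,2,3,2,3,1,2,3,6,5,2,3,1,0,1,3,2,1,3,4,5,3,2,1,6,3,4,2,3,2,3,6,3,1,2,3,5,2,3,1,3,2,3,2,1,5,6,3,2,5,3,2,1,3,6,2,3,2,3,6,4,3,1,2,3,5,2,3,1,3,2,1,3,4,5,3,2,1,6,3,4,2,3,2,3,6,3,1,2,3,5,2,3,1])) .none)) .none) (.node .none (.node .none (.word [1,0,2,3,2,6,3,2,1,0,5,3,4,2,3,2,3,5,1,2,3,6,2,3,2,1,3,2,3,2,1,5,6,3,2,5,3,2,1,3,6,2,3,2,3,6,4,3,1,2,3,5,2,3,1,3,2,1,3,4,5,3,2,1,6,3,4,2,3,2,3,6,3,1,2,3,5,2,3,1]))))))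

/-- A subtree. -/
def sub130 : WTree :=
  (.node (.node (.node .none (.node .none (.node (.node (.word [0,1,3,2,1,3,4,5,3,2,1,6,3,4,2,3,2,3,6,3,1,2,3,5,2,3,1,0,1,3,2,1,3,4,5,3,2,1,6,3,4,2,3,2,3,6,3,1,2,3,5,2,5,6,3,2,1,0,3,5,4,2,3,2,3,1,2,3,6,5,2,3,1,3,2,3,2,1,5,6,3,2,5,3,2,1,3,6,2,3,2,3,6,4,3,1,2,3,5,2,3,0,3,2,3,2,1,5,6,3,2,5,3,2,1,3,6,2,3,2,3,6,4,3,1,2,3,5,2,3,0]) (.node .none (.word [1,3,5,6,3,2,1,0,3,5,4,2,3,2,3,1,2,3,6,5,2,5,6,3,2,1,0,3,5,4,2,3,2,3,1,2,3,6,5,2,3,1,3,2,3,2,1,5,6,3,2,5,3,2,1,3,6,2,3,2,3,6,4,3,1,2,3,5,2,3,0,1,3,5,6,3,2,1,0,3,5,4,2,3,2,3,1,2,3,6,5,2,3,1,3,2,3,2,1,5,6,3,2,5,3,2,1,3,6,2,3,2,3,6,4,3,1,2,3,5,2,3,0]))) (.word [1,3,5,6,3,2,1,0,3,5,4,2,3,2,3,1,2,3,6,5,2,3,1,3,2,3,2,1,5,6,3,2,5,3,2,1,3,6,2,3,2,3,6,4,3,1,2,3,5,2,3,1,3,2,1,3,4,5,3,2,1,6,3,4,2,3,2,3,6,3,1,2,3,5,2,3,1,0,1,3,2,1,3,4,5,3,2,1,6,3,4,2,3,2,3,6,3,1,2,3,5,2,3,1,3,2,3,2,1,5,6,3,2,5,3,2,1,3,6,2,3,2,3,6,4,3,1,2,3,5,2,3,0]))))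 (.node (.node (.node .none (.node .none (.word [3,2,3,2,1,5,6,3,2,5,3,2,1,3,6,2,3,2,3,6,4,3,1,2,3,5,2,3,0,3,2,3,2,1,5,6,3,2,5,3,2,1,3,6,2,3,2,3,6,4,3,1,2,3,5,2,3,0,1,0,2,3,2,6,3,2,1,0,5,3,4,2,3,2,3,5,1,2,3,6,2,3,2,3,5,6,3,2,1,0,3,5,4,2,3,2,3,1,2,3,6,5,2,3,1,3,2,3,2,1,5,6,3,2,5,3,2,1,3,6,2,3,2,3,6,4,3,1,2,3,5,2,3,0]))) (.node .none (.node .none (.node .none (.word [0,1,3,2,1,3,4,5,3,2,1,6,3,4,2,3,2,3,6,3,1,2,3,5,2,3,1,3,2,3,2,1,5,6,3,2,5,3,2,1,3,6,2,3,2,3,6,4,3,1,2,3,5,2,3,0,1,0,2,3,2,6,3,2,1,0,5,3,4,2,3,2,3,5,1,2,3,6,2,3,2,1,3,2,3,2,1,5,6,3,2,5,3,2,1,3,6,2,3,2,3,6,4,3,1,2,3,5,2,3,0]))))) (.node .none (.node (.node .none (.word [0,1,3,2,1,3,4,5,3,2,1,6,3,4,2,3,2,3,6,3,1,2,3,5,2,3,1,0,1,3,2,1,3,4,5,3,2,1,6,3,4,2,3,2,3,6,3,1,2,3,5,2,3,1,3,2,3,2,1,5,6,3,2,5,3,2,1,3,6,2,3,2,3,6,4,3,1,2,3,5,2,3,0,3,2,3,2,1,5,6,3,2,5,3,2,1,3,6,2,3,2,3,6,4,3,1,2,3,5,2,3,0]))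 (.word [0,1,3,2,1,3,4,5,3,2,1,6,3,4,2,3,2,3,6,3,1,2,3,5,2,3,0,2,3,2,6,3,2,1,0,5,3,4,2,3,2,3,5,1,2,3,6,2,3,2,3,5,6,3,2,1,0,3,5,4,2,3,2,3,1,2,3,6,5,2,5,6,3,2,1,0,3,5,4,2,3,2,3,1,2,3,6,5,2,3,1,3,2,3,2,1,5,6,3,2,5,3,2,1,3,6,2,3,2,3,6,4,3,1,2,3,5,2,3,0]))))) (.node .none (.node (.node .none (.node .none (.node (.node .none (.word [3,2,3,2,1,5,6,3,2,5,3,2,1,3,6,2,3,2,3,6,4,3,1,2,3,5,2,3,0,3,2,3,2,1,5,6,3,2,5,3,2,1,3,6,2,3,2,3,6,4,3,1,2,3,5,2,3,0])) .none))) (.node (.node .none (.node .none (.node .none (.word [0,1,3,2,1,3,4,5,3,2,1,6,3,4,2,3,2,3,6,3,1,2,3,5,2,3,1,3,2,3,2,1,5,6,3,2,5,3,2,1,3,6,2,3,2,3,6,4,3,1,2,3,5,2,3,1,3,2,1,3,4,5,3,2,1,6,3,4,2,3,2,3,6,3,1,2,3,5,2,3,1])))) .none))))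

/-- A subtree. -/
def sub131 : WTree :=
  (.node (.node .none (.node (.node (.node .none (.node .none (.node .none (.word [0,1,3,2,1,3,4,5,3,2,1,6,3,4,2,3,2,3,6,3,1,2,3,5,2,5,6,3,2,1,0,3,5,4,2,3,2,3,1,2,3,6,5,2,5,6,3,2,1,0,3,5,4,2,3,2,3,1,2,3,6,5,2,3,1,3,2,3,2,1,5,6,3,2,5,3,2,1,3,6,2,3,2,3,6,4,3,1,2,3,5,2,3,0,3,2,3,2,1,5,6,3,2,5,3,2,1,3,6,2,3,2,3,6,4,3,1,2,3,5,2,3,0])))) .none) .none)) (.node (.node .none (.node (.node (.node (.node .none (.word [1,3,5,6,3,2,1,0,3,5,4,2,3,2,3,1,2,3,6,5,2,3,1,3,2,3,2,1,5,6,3,2,5,3,2,1,3,6,2,3,2,3,6,4,3,1,2,3,5,2,3,1,3,2,1,3,4,5,3,2,1,6,3,4,2,3,2,3,6,3,1,2,3,5,2,3,1,3,2,3,2,1,5,6,3,2,5,3,2,1,3,6,2,3,2,3,6,4,3,1,2,3,5,2,3,1,3,2,1,3,4,5,3,2,1,6,3,4,2,3,2,3,6,3,1,2,3,5,2,3,1]))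 .none) .none) .none)) (.node (.node (.node (.node (.word [1,3,5,6,3,2,1,0,3,5,4,2,3,2,3,1,2,3,6,5,2,3,1,3,2,3,2,1,5,6,3,2,5,3,2,1,3,6,2,3,2,3,6,4,3,1,2,3,5,2,3,1,3,2,1,3,4,5,3,2,1,6,3,4,2,3,2,3,6,3,1,2,3,5,2,3,1,3,2,3,2,1,5,6,3,2,5,3,2,1,3,6,2,3,2,3,6,4,3,1,2,3,5,2,3,0]) (.node .none (.word [1,0,2,3,2,6,3,2,1,0,5,3,4,2,3,2,3,5,1,2,3,6,2,3,2,1,0,1,3,2,1,3,4,5,3,2,1,6,3,4,2,3,2,3,6,3,1,2,3,5,2,3,1,0,1,3,2,1,3,4,5,3,2,1,6,3,4,2,3,2,3,6,3,1,2,3,5,2,3,1,3,2,3,2,1,5,6,3,2,5,3,2,1,3,6,2,3,2,3,6,4,3,1,2,3,5,2,3,0]))) .none) .none) (.node (.node (.node (.node .none (.word [0,1,3,2,1,3,4,5,3,2,1,6,3,4,2,3,2,3,6,3,1,2,3,5,2,3,1,3,2,3,2,1,5,6,3,2,5,3,2,1,3,6,2,3,2,3,6,4,3,1,2,3,5,2,3,1,3,2,1,3,4,5,3,2,1,6,3,4,2,3,2,3,6,3,1,2,3,5,2,3,1,0,1,3,2,1,3,4,5,3,2,1,6,3,4,2,3,2,3,6,3,1,2,3,5,2,3,1]))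 .none) .none) (.node (.node .none (.node .none (.word [1,0,2,3,2,6,3,2,1,0,5,3,4,2,3,2,3,5,1,2,3,6,2,3,2,1,3,2,3,2,1,5,6,3,2,5,3,2,1,3,6,2,3,2,3,6,4,3,1,2,3,5,2,3,0,3,2,3,2,1,5,6,3,2,5,3,2,1,3,6,2,3,2,3,6,4,3,1,2,3,5,2,3,0,3,2,3,2,1,5,6,3,2,5,3,2,1,3,6,2,3,2,3,6,4,3,1,2,3,5,2,3,0]))) .none)))))

/-- A subtree. -/
def sub132 : WTree :=
  (.node (.node (.node (.node (.node (.node .none (.node .none (.word [0,1,3,2,1,3,4,5,3,2,1,6,3,4,2,3,2,3,6,3,1,2,3,5,2,3,1,0,1,3,2,1,3,4,5,3,2,1,6,3,4,2,3,2,3,6,3,1,2,3,5,2,3,1,3,2,3,2,1,5,6,3,2,5,3,2,1,3,6,2,3,2,3,6,4,3,1,2,3,5,2,3,1,3,2,1,3,4,5,3,2,1,6,3,4,2,3,2,3,6,3,1,2,3,5,2,3,1]))) (.node .none (.word [3,2,3,2,1,5,6,3,2,5,3,2,1,3,6,2,3,2,3,6,4,3,1,2,3,5,2,3,1,3,2,1,3,4,5,3,2,1,6,3,4,2,3,2,3,6,3,1,2,3,5,2,3,1,0,1,3,2,1,3,4,5,3,2,1,6,3,4,2,3,2,3,6,3,1,2,3,5,2,3,1])))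 .none) .none) .none) (.node (.node (.node (.node .none (.node (.node .none (.word [1,0,2,3,2,6,3,2,1,0,5,3,4,2,3,2,3,5,1,2,3,6,2,3,2,1,0,1,3,2,1,3,4,5,3,2,1,6,3,4,2,3,2,3,6,3,1,2,3,5,2,5,6,3,2,1,0,3,5,4,2,3,2,3,1,2,3,6,5,2,3,1,3,2,3,2,1,5,6,3,2,5,3,2,1,3,6,2,3,2,3,6,4,3,1,2,3,5,2,3,0])) (.node .none (.word [1,3,5,6,3,2,1,0,3,5,4,2,3,2,3,1,2,3,6,5,2,3,1,3,2,3,2,1,5,6,3,2,5,3,2,1,3,6,2,3,2,3,6,4,3,1,2,3,5,2,3,0,1,3,5,6,3,2,1,0,3,5,4,2,3,2,3,1,2,3,6,5,2,3,1,0,1,3,2,1,3,4,5,3,2,1,6,3,4,2,3,2,3,6,3,1,2,3,5,2,3,1])))) .none) .none) (.node .none (.node (.node (.node .none (.node .none (.word [1,0,2,3,2,6,3,2,1,0,5,3,4,2,3,2,3,5,1,2,3,6,2,3,2,3,5,6,3,2,1,0,3,5,4,2,3,2,3,1,2,3,6,5,2,3,1,0,1,3,2,1,3,4,5,3,2,1,6,3,4,2,3,2,3,6,3,1,2,3,5,2,3,1,3,2,3,2,1,5,6,3,2,5,3,2,1,3,6,2,3,2,3,6,4,3,1,2,3,5,2,3,0])))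 .none) .none))))

/-- A subtree. -/
def sub133 : WTree :=
  (.node (.node sub129 sub130) (.node sub131 sub132))

/-- Points. -/
def levY2pts0 : List ℕ := [10,19,29,38,54,55,90,102,122,129,137,194,202,203,205,237,262,270,304,326,392,424,426,433,459,462,480,488,491,499,508,525,563,579,580,586,595,610,617,644,689,693,739,747,750,752,783,784,786,800,811,857,904,906,915,916,952,962,986,989,1053,1074,1111,1116,1123,1128,1143,1155,1156,1162,1187,1238,1311,1313,1331,1340,1342,1350,1386,1400,1410,1450,1467,1529,1532,1551,1558,1570,1580,1589,1591,1649,1658,1662,1663,1669,1694,1725,1737,1739,1753,1772,1782,1783,1788,1822,1823,1831,1833,1869,1896,1915,1916,1921,1938,1963,1977,1996,2008,2032]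

/-- A level. -/
def levY2 : Level :=
  ⟨906, (.node (.node sub118 sub123) (.node sub128 sub133)), levY2pts0⟩

/-- A subtree. -/
def sub134 : WTree :=
  (.node (.node (.node .none (.node .none (.node (.node (.node .none (.word [1,0,2,3,2,6,3,2,1,0,5,3,4,2,3,2,3,5,1,2,3,6,2,3,2,1])) .none) .none))) .none) (.node (.node .none (.node .none (.node (.node .none (.node .none (.word [1,0,2,3,2,6,3,2,1,0,5,3,4,2,3,2,3,5,1,2,3,6,2,3,2,3,5,6,3,2,1,0,3,5,4,2,3,2,3,1,2,3,6,5,2,5,6,3,2,1,0,3,5,4,2,3,2,3,1,2,3,6,5,2,3,1]))) .none))) (.node .none (.node (.node (.node (.node .none (.word [])) .none) .none) .none))))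

/-- A subtree. -/
def sub135 : WTree :=
  (.node (.node .none (.node .none (.node .none (.node (.node .none (.word [1,3,5,6,3,2,1,0,3,5,4,2,3,2,3,1,2,3,6,5,2,5,6,3,2,1,0,3,5,4,2,3,2,3,1,2,3,6,5,2,3,1])) .none)))) .none)

/-- A subtree. -/
def sub136 : WTree :=
  (.node (.node .none sub134) (.node .none sub135))

/-- A subtree. -/
def sub137 : WTree :=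
  (.node (.node (.node (.node .none (.node .none (.word [1,3,5,6,3,2,1,0,3,5,4,2,3,2,3,1,2,3,6,5,2,3,1]))) .none) .none) (.node (.node .none (.node (.node .none (.node .none (.node .none (.word [1,0,2,3,2,6,3,2,1,0,5,3,4,2,3,2,3,5,1,2,3,6,2,3,2,3,5,6,3,2,1,0,3,5,4,2,3,2,3,1,2,3,6,5,2,5,6,3,2,1,0,3,5,4,2,3,2,3,1,2,3,6,5,2,5,6,3,2,1,0,3,5,4,2,3,2,3,1,2,3,6,5,2,3,1])))) .none)) (.node .none (.word [1,0,2,3,2,6,3,2,1,0,5,3,4,2,3,2,3,5,1,2,3,6,2,3,2,3,5,6,3,2,1,0,3,5,4,2,3,2,3,1,2,3,6,5,2,3,1]))))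

/-- A subtree. -/
def sub138 : WTree :=
  (.node .none (.node sub137 .none))

/-- A subtree. -/
def sub139 : WTree :=
  (.node (.node (.node (.node .none (.node (.node (.node .none (.word [1,3,5,6,3,2,1,0,3,5,4,2,3,2,3,1,2,3,6,5,2,3,0,2,3,2,6,3,2,1,0,5,3,4,2,3,2,3,5,1,2,3,6,2,3,2,1])) .none) .none)) (.node (.node .none (.word [1,3,5,6,3,2,1,0,3,5,4,2,3,2,3,1,2,3,6,5,2,5,6,3,2,1,0,3,5,4,2,3,2,3,1,2,3,6,5,2,5,6,3,2,1,0,3,5,4,2,3,2,3,1,2,3,6,5,2,3,1])) .none)) .none) .none)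

/-- A subtree. -/
def sub140 : WTree :=
  (.node (.node sub139 .none) .none)

/-- A subtree. -/
def sub141 : WTree :=
  (.node .none (.node (.node .none (.node .none (.node .none (.word [1,3,5,6,3,2,1,0,3,5,4,2,3,2,3,1,2,3,6,5,2,5,6,3,2,1,0,3,5,4,2,3,2,3,1,2,3,6,5,2,3,0,2,3,2,6,3,2,1,0,5,3,4,2,3,2,3,5,1,2,3,6,2,3,2,1])))) .none))

/-- A subtree. -/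
def sub142 : WTree :=
  (.node (.node .none (.node .none (.node .none (.word [1,0,2,3,2,6,3,2,1,0,5,3,4,2,3,2,3,5,1,2,3,6,2,3,2,3,5,6,3,2,1,0,3,5,4,2,3,2,3,1,2,3,6,5,2,3,0,2,3,2,6,3,2,1,0,5,3,4,2,3,2,3,5,1,2,3,6,2,3,2,1])))) .none)

/-- A subtree. -/
def sub143 : WTree :=
  (.node .none (.node .none (.node (.node (.node (.node .none (.node .none (.word [1,3,5,6,3,2,1,0,3,5,4,2,3,2,3,1,2,3,6,5,2,5,6,3,2,1,0,3,5,4,2,3,2,3,1,2,3,6,5,2,5,6,3,2,1,0,3,5,4,2,3,2,3,1,2,3,6,5,2,5,6,3,2,1,0,3,5,4,2,3,2,3,1,2,3,6,5,2,3,1]))) .none) .none) .none)))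

/-- A subtree. -/
def sub144 : WTree :=
  (.node (.node .none sub141) (.node sub142 sub143))

/-- Points. -/
def levY3pts0 : List ℕ := [118,231,321,390,475,748,1144,1153,1224,1599,1752,1878]

/-- A level. -/
def levY3 : Level :=
  ⟨1144, (.node (.node sub136 sub138) (.node sub140 sub144)), levY3pts0⟩

/-- The levels. -/
def levY : List Level := [levY0,levY1,levY2,levY3]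

/-- Certificate data. -/
def xWord : List ℕ := [5,3,1,2,3,2,3,6,3,4,1,2,3,5,4]

/-- Certificate data. -/
def hWord : List ℕ := [3,5,3,2,3,4,3,2,3,1,2,3,6,3,5,3,6,2,3]

/-- Certificate data. -/
def sWord : List ℕ := [1,4,2,3,5,2,3,4,2,3,1,2,3,6,5,1,0]

/-- Certificate data. -/
def xPow : List (List ℕ) := [[],[5,3,1,2,3,2,3,6,3,4,1,2,3,5,4],[0,1,0,2,3,2,5,3,2,1,0,3,2,3,1,2,3,6,1,2,3,2,3,6,4,3],[0,1,2,3,2,1,3,6,3,2,1,3,2,6,3,4,2,3,1,2,3,6,2,3,4,2,3,6,5,3],[1,4,3,2,1,3,2,4,3,6,3,2,3,1,2,3,4,1,2,3,1,2,3,5,2,3,1,0],[0,2,1,4,3,2,1,0,3,6,5,3,2,3,6,1,2,3,2,3,5,3,4,2],[4,5,3,2,1,0,3,2,1,3,2,6,4,3,5,1,2,3,1,2,3,6,4,3,1,2],[1,0,3,6,3,2,4,3,2,1,3,2,3,5,2,3,1,2,3,6,3,4,3,0,1,2],[0,2,3,4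,3,2,5,3,2,1,3,2,5,3,2,3,1,2,3,4,2,3,5,6,3,4,1],[1,4,3,6,5,3,2,4,3,2,1,3,2,3,5,2,3,1,2,3,5,2,3,4,3,2,0],[2,1,0,3,4,3,6,3,2,1,3,5,2,3,2,3,1,2,3,4,2,3,6,3,0,1],[2,1,0,3,4,6,3,2,1,3,2,5,4,3,6,1,2,3,1,2,3,1,2,3,5,4],[2,4,3,5,3,2,3,2,6,3,1,2,3,5,6,3,0,1,2,3,4,1,2,0],[1,2,3,6,3,2,1,3,2,4,6,3,2,3,1,2,3,1,2,3,5,3,2,3,1,2,3],[3,5,6,3,2,4,3,2,6,3,2,1,3,2,4,3,6,2,3,1,2,3,6,3,1,2,3,2,1,0],[3,4,6,3,2,3,2,1,0,6,3,2,3,4,1,2,3,1,2,3,5,2,3,2,1,0],[5,3,4,3,2,3,6,3,1,2,3,2,3,5,1]]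

/-- Certificate data. -/
def yPow : List (List ℕ) := [[],[5,6,3,2,1,3,5,3,2,1,0,3,2,3,5,3,2,3,1,2,3,6,3,5,3,6,2,3],[1,3,5,3,2,3,2,1,3,4,6,3,2,3,2,6,4,3,5,2,3,1,2,3,4,2,3,5,3,1,0],[3,2,6,3,5,3,6,3,2,1,0,3,2,3,5,3,2,3,1,2,3,5,3,1,2,3,6,5]]

/-- Certificate data. -/
def ksX : List ℕ := [0,15,8,5]

/-- Certificate data. -/
def ksY : List ℕ := [0,1,2,3]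

/-- Certificate data. -/
def xb : ℕ := 462

/-- Certificate data. -/
def yb : ℕ := 206

/-- Certificate data. -/
def genWords : List (List ℕ) := [[0,2,2,1,0,0,0,0,2,0,2,2,0,1],[2,0,2,2,0,2,2,0,1,2,0,2,2,0,1,1,1,0],[0,1,1,0,0,0,2,2,1,0,2,0,2,0,2,2,1,1,0,1,0,2,1,0,1],[1,2,1,0,1,0,1,2,0,0,2,0,0,2,0,2,0,1,2,0,1,0,2,0,0],[2,0,2,1,0,0,2,2,1,0,1,2,1,0,2,1,1,1,1,0,2,1],[1,2,0,1,2,2,1,0,1,2,0,2,0,0,0,2,2,0,2,1,1],[2,0,2,1,0,0,0,0,2,2,0,1,0,2,0,2,0,1,1,0,2,2,1,0]]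

/-- Certificate data. -/
def tauWords : List (List ℕ) := [[2,5,6,3,2,5,3,2,1,0,6,3,2,3,6,3,1,2,3,4,1,2,3,6,3],[1,0,1,2,3,5,3,2,1,3,4,2,3,6,3,2,3,4,1,2,3,5,4,2],[1,0,2,1,5,6,3,5,6,3,2,1,3,2,1,0,6,3,2,3,5,4,3,1,2,3,6,2,3,1,2,0],[3,2,1,3,4,6,3,2,1,3,2,1,3,5,4,3,2,3,1,2,3,6,4,3,1,2,3],[3,2,1,5,3,2,3,6,5,3,2,1,3,4,3,2,3,5,6,3,1,2,3,6,1,2,3,2,0],[0,1,0,5,3,2,1,6,3,2,3,5,3,2,3,1,2,3,5,3,2,3,0,1,2,3,5,1,0],[1,0,3,6,3,5,3,2,1,3,2,3,5,3,2,3,2,3,1,2,3,6,2,3,4,2,3,5,2,0]]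

/-- Certificate data. -/
def killers : List (ℕ × List ℕ) := [(4,[2,0,1,2]),(8,[0,2]),(28,[0,2,2,0,2,0])]

end Cfsg.Agent.Lib.SporOutHe
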