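import Cfsg.Agent.Lib.SporOutHe.Data
import Cfsg.Agent.Lib.SchurMult.Held.Engine

/-!
Centralisers in the Held group computed from the images of a base.
-/

set_option autoImplicit false
set_option maxRecDepth 100000

namespace Cfsg.Agent.Lib.SporOutHe

open Cfsg.Agent.Lib.Coset Cfsg.Agent.Lib.SporPres.He
open Cfsg.Agent.Lib.SchurMult.Held (elt elt_append same same_spec app_eq)

/-- A word in three given words. -/
def subst (X : List (List ℕ)) (w : List ℕ) : List ℕ := w.flatMap fun i => X.getD i []

/-- The target images when the first base point goes to `q`. -/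
noncomputable def targets (pows : List (List ℕ)) (es : List ℕ) (q : ℕ) : List ℕ :=
  es.map fun k => tab.app (pows.getD k []) q

/-- The test on the possible images of the first base point in a range. -/
noncomputable def searchOK (Ls : List Level) (pows : List (List ℕ)) (es : List ℕ) (z z' : List ℕ)
    (good : List ℕ → Bool) (lo len : ℕ) : Bool :=
  (List.range len).all fun i =>
    match sift tab Ls (targets pows es (lo + i)) with
    | none => true
    | some w => !(same (w ++ z) (z' ++ w)) || good w

/-- The base is made of images of the first point under the powers. -/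
noncomputable def baseOK (Ls : List Level) (pows : List (List ℕ)) (b0 : ℕ) (ks : List ℕ) : Bool :=
  decide (b0 < tab.size) && (Ls.map (·.b) == targets pows ks b0) &&
    pows.all fun w => w.all fun a => decide (a < tab.gens)

/-- The listed powers are right. -/
noncomputable def powsOK (pows : List (List ℕ)) (es ks : List ℕ) (z : List ℕ) : Bool :=
  (z.all fun a => decide (a < tab.gens)) && (pows.all fun w => w.all fun a => decide (a < tab.gens)) &&
    decide (es.length = ks.length) &&
    (List.range ks.length).all fun i => same (pows.getD (es.getD i 0) []) (Coset.rep (ks.getD i 0) z)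

theorem letters_getD {ws : List (List ℕ)} (h : ws.all (fun w => w.all fun a => decide (a < tab.gens)) = true)
    (i : ℕ) : ∀ a ∈ ws.getD i [], a < tab.gens := by
  intro a ha
  simp only [List.all_eq_true, decide_eq_true_eq] at h
  rcases Nat.lt_or_ge i ws.length with hlt | hge
  · rw [List.getD_eq_getElem _ _ hlt] at ha
    exact h _ (List.getElem_mem _) a ha
  · rw [List.getD_eq_default _ _ hge] at ha
    simp at ha

theorem rep_lt {z : List ℕ} (hz : ∀ a ∈ z, a < tab.gens) : ∀ i, ∀ a ∈ Coset.rep i z, a < tab.gens
  | 0 => by simp [Coset.rep]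
  | i + 1 => fun a ha => by
    rw [Coset.rep, List.mem_append] at ha
    exact ha.elim (rep_lt hz i a) (hz a)

theorem pows_spec {pows : List (List ℕ)} {es ks z : List ℕ} (h : powsOK pows es ks z = true) :
    (∀ a ∈ z, a < tab.gens) ∧ es.length = ks.length ∧
      (pows.all fun w => w.all fun a => decide (a < tab.gens)) = true ∧
      ∀ i < ks.length, elt (pows.getD (es.getD i 0) []) = elt z ^ ks.getD i 0 := by
  simp only [powsOK, Bool.and_eq_true, decide_eq_true_eq] at h
  obtain ⟨⟨⟨hz, hp⟩, hlen⟩, he⟩ := h
  simp only [List.all_eq_true, decide_eq_true_eq] at hz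
  refine ⟨hz, hlen, hp, fun i hi => ?_⟩
  rw [same_spec (letters_getD hp _) (rep_lt hz _) (List.all_eq_true.1 he i (List.mem_range.2 hi)), elt,
    elt, Coset.ev_rep]

theorem subst_lt {X : List (List ℕ)} (h : X.all (fun w => w.all fun a => decide (a < tab.gens)) = true)
    (w : List ℕ) : ∀ a ∈ subst X w, a < tab.gens := fun a ha => by
  obtain ⟨i, -, hi⟩ := List.mem_flatMap.1 ha
  exact letters_getD h i a hi

theorem elt_subst (X : List (List ℕ)) (w : List ℕ) :
    elt (subst X w) = ev (fun i => elt (X.getD i [])) w := by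
  induction w with
  | nil => rfl
  | cons i w ih =>
    rw [Coset.ev_cons, ← ih, ← elt_append]
    rfl

theorem ev_map {M N : Type*} [Group M] [Group N] (f : M →* N) (X : ℕ → M) (w : List ℕ) :
    f (ev X w) = ev (fun i => f (X i)) w := by
  simp [ev, map_list_prod, List.map_map, Function.comp_def]

/-- The levels are certified and fill the group. -/
structure Filled (Ls : List Level) : Prop where
  valid : Valid tab Ls []
  total : total Ls = 4030387200

theorem valid_letters : ∀ {Ls : List Level} {before : List ℕ}, Valid tab Ls before →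
    ∀ L ∈ Ls, ∀ d ∈ L.pts, ∀ w, L.tree.get d = some w → ∀ a ∈ w, a < tab.gens
  | L₀ :: Ls, before, hv, L, hL, d, hd, w, hw => by
    rcases List.mem_cons.1 hL with rfl | hL
    · obtain ⟨w', e, h1, -, -⟩ := entry_spec (hv.2.1 d hd)
      exact Option.some.inj (e.symm.trans hw) ▸ h1
    · exact valid_letters hv.2.2 L hL d hd w hw

theorem find {Ls : List Level} (hF : Filled Ls) {pows pows' : List (List ℕ)} {es es' ks : List ℕ} {b0 : ℕ}
    {z z' : List ℕ} (hb : baseOK Ls pows b0 es = true) (hp : powsOK pows es ks z = true)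
    (hp' : powsOK pows' es' ks z' = true) {good : List ℕ → Bool} (parts : List (ℕ × ℕ))
    (hs : ∀ q ∈ parts, searchOK Ls pows' es' z z' good q.1 q.2 = true)
    (hc : ∀ k < tab.size, ∃ q ∈ parts, q.1 ≤ k ∧ k < q.1 + q.2)
    {g : Cfsg.Spor.He} (hg : g * elt z = elt z' * g) :
    ∃ w, (∀ a ∈ w, a < tab.gens) ∧ g = elt w ∧ good w = true := by
  simp only [baseOK, Bool.and_eq_true, decide_eq_true_eq, beq_iff_eq] at hb
  obtain ⟨⟨hb0, hbs⟩, -⟩ := hb
  obtain ⟨hz, hle, hpl, hpe⟩ := pows_spec hp
  obtain ⟨hz', hle', hpl', hpe'⟩ := pows_spec hp'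
  set x0 : Fin tab.size := ⟨b0, hb0⟩ with hx0
  set q : ℕ := (act g x0 : ℕ) with hq
  have hK : Nat.card act.range ≤ SporOutHe.total Ls := by
    rw [hF.total, ← card_and_inj.1, Nat.card_congr (MonoidHom.ofInjective card_and_inj.2).toEquiv]
  have hin : Inside (hP := SporPres.He.good) act.range Ls := fun L hL d hd w hw =>
    ⟨elt w, act_ev w (List.all_eq_true.2 fun a ha => decide_eq_true (valid_letters hF.valid L hL d hd w hw a ha))⟩
  have hlenL : Ls.length = ks.length := by
    have := congrArg List.length hbs
    simpa [targets, hle] using this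
  have htg : List.Forall₂ (fun (L : Level) t => ∀ i : Fin tab.size, (i : ℕ) = L.b → (act g i : ℕ) = t) Ls
      (targets pows' es' q) := by
    rw [List.forall₂_iff_get]
    refine ⟨by simp [targets, hlenL, hle'], fun i h1 h2 x hx => ?_⟩
    have hi : i < ks.length := hlenL ▸ h1
    have hbi : Ls[i].b = tab.app (pows.getD (es.getD i 0) []) b0 := by
      have := congrArg (fun l => l[i]?) hbs
      simp only [targets, List.getElem?_map, List.getElem?_eq_getElem h1,
        List.getElem?_eq_getElem (hle.symm ▸ hi), Option.map_some, Option.some.injEq] at this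
      rw [this, ← List.getD_eq_getElem es 0 (hle.symm ▸ hi)]
    have hxe : x = act (elt z ^ ks.getD i 0) x0 := Fin.ext (by
      rw [← hpe i hi, ← app_eq (letters_getD hpl _) hb0, ← hbi]
      simpa using hx)
    have hcomm : g * elt z ^ ks.getD i 0 = elt z' ^ ks.getD i 0 * g := by
      have hc : SemiconjBy g (elt z) (elt z') := hg
      exact hc.pow_right _
    simp only [targets, List.get_eq_getElem, List.getElem_map]
    rw [hxe, ← Equiv.Perm.mul_apply, ← map_mul, hcomm, map_mul, Equiv.Perm.mul_apply, ← hpe' i hi,
      ← app_eq (letters_getD hpl' _) (act g x0).2, ← List.getD_eq_getElem _ 0 (hle'.symm ▸ hi)]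
  obtain ⟨w, hsift, hw, hgw⟩ := sift_spec hF.valid hin hK (act g) ⟨g, rfl⟩ _ htg
  have hge : g = elt w := card_and_inj.2 (hgw.trans (act_ev w (List.all_eq_true.2 fun a ha => decide_eq_true (hw a ha))).symm)
  refine ⟨w, hw, hge, ?_⟩
  obtain ⟨r, hr, h1, h2⟩ := hc q (act g x0).2
  have hh := hs r hr
  simp only [searchOK, List.all_eq_true, List.mem_range] at hh
  have h3 := hh (q - r.1) (by omega)
  rw [show r.1 + (q - r.1) = q by omega, hsift] at h3
  simp only [Bool.or_eq_true, Bool.not_eq_true'] at h3
  refine h3.resolve_left fun hf => ?_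
  rw [Bool.eq_false_iff] at hf
  refine hf ?_
  have he : elt (w ++ z) = elt (z' ++ w) := by rw [elt_append, elt_append, ← hge]; exact hg
  simp only [same, List.all_eq_true, Nat.beq_eq]
  intro b hbm
  have hbl := SchurMult.Held.base_lt_size hbm
  rw [app_eq (List.forall_mem_append.2 ⟨hw, hz⟩) hbl, app_eq (List.forall_mem_append.2 ⟨hz', hw⟩) hbl, he]

end Cfsg.Agent.Lib.SporOutHe
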