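import Cfsg.Agent.Lib.SporOutHe.Levels
import Cfsg.Agent.Lib.SporOutHe.Searches
import Cfsg.Agent.Lib.SchurMult.MathieuCommon
import Cfsg.Prelude.Def_KGroupFacts

/-!
The outer automorphism group of the Held group has order two.
-/

set_option autoImplicit false
set_option maxRecDepth 100000

namespace Cfsg.Agent.Lib.SporOutHe

open Cfsg Cfsg.Agent.Lib.Coset Cfsg.Agent.Lib.SporPres.He
open Cfsg.Agent.Lib.SchurMult.Held (elt elt_append same same_spec app_eq)

/-- The element of order 17. -/
noncomputable def X : Cfsg.Spor.He := elt xWord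

/-- The element of order 8 normalising it. -/
noncomputable def H : Cfsg.Spor.He := elt hWord

/-- The third generator. -/
noncomputable def S : Cfsg.Spor.He := elt sWord

theorem xhs_lt : (∀ a ∈ xWord, a < tab.gens) ∧ (∀ a ∈ hWord, a < tab.gens) ∧ (∀ a ∈ sWord, a < tab.gens) ∧
    tauWords.all (fun w => w.all fun a => decide (a < tab.gens)) = true := by
  have h := letters_ok
  simp only [List.all_cons, Bool.and_eq_true] at h
  exact ⟨fun a ha => of_decide_eq_true (List.all_eq_true.1 h.1 a ha),
    fun a ha => of_decide_eq_true (List.all_eq_true.1 h.2.1 a ha),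
    fun a ha => of_decide_eq_true (List.all_eq_true.1 h.2.2.1 a ha), h.2.2.2⟩

theorem elt_nil : elt [] = 1 := rfl

theorem hx_eq : H * X = X ^ 2 * H := by
  obtain ⟨hx, hh, -, -⟩ := xhs_lt
  have := same_spec (List.forall_mem_append.2 ⟨hh, hx⟩)
    (List.forall_mem_append.2 ⟨hx, List.forall_mem_append.2 ⟨hx, hh⟩⟩) rel_hx
  rw [elt_append, elt_append, elt_append, ← mul_assoc, ← pow_two] at this
  exact this

theorem X_pow : X ^ 17 = 1 ∧ X ≠ 1 := by
  obtain ⟨hx, -, -, -⟩ := xhs_lt
  refine ⟨?_, fun e => ?_⟩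
  · have := same_spec (rep_lt hx 17) (v := Coset.rep 17 xWord) (w := []) (by simp) rel_x.1
    rwa [elt, elt, ev_rep, ev_nil] at this
  · have h := rel_x.2
    rw [Bool.eq_false_iff] at h
    refine h ?_
    simp only [same, List.all_eq_true, Nat.beq_eq]
    intro b hb
    have hbl := SchurMult.Held.base_lt_size hb
    rw [app_eq hx hbl, app_eq (show ∀ a ∈ ([] : List ℕ), a < tab.gens by simp) hbl,
      show elt xWord = elt [] from e.trans elt_nil.symm]

theorem orderOf_X : orderOf X = 17 := by
  have : Fact (Nat.Prime 17) := ⟨by norm_num⟩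
  exact orderOf_eq_prime X_pow.1 X_pow.2

theorem pow_mod (a : ℕ) : X ^ a = X ^ (a % 17) := by rw [← orderOf_X, pow_mod_orderOf]

theorem xPow_eq {i : ℕ} (hi : i < 17) : elt (xPow.getD i []) = X ^ i := by
  obtain ⟨-, -, -, h⟩ := pows_spec powsAll
  have := h i (by rw [List.length_range]; exact hi)
  simpa [List.getD_eq_getElem?_getD, List.getElem?_range, hi, X] using this

theorem cent_X {g : Cfsg.Spor.He} (hg : g * X = X * g) : ∃ i < 17, g = X ^ i := by
  obtain ⟨w, hw, rfl, hgood⟩ := find levXfilled baseX powsX powsX _ searchX cover hg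
  simp only [goodX, List.any_eq_true, List.mem_range] at hgood
  obtain ⟨i, hi, hs⟩ := hgood
  exact ⟨i, hi, (same_spec hw (letters_getD (pows_spec powsX).2.2.1 i) hs).trans (xPow_eq hi)⟩

theorem no_cube (g : Cfsg.Spor.He) : g * X ≠ X ^ 3 * g := fun hg => by
  rw [← xPow_eq (show 3 < 17 by norm_num)] at hg
  obtain ⟨w, -, -, hgood⟩ := find levXfilled baseX powsX powsT _ searchT cover hg
  exact Bool.false_ne_true hgood

/-- The three words evaluated at three elements. -/
def ev3 (a b c : Cfsg.Spor.He) (w : List ℕ) : Cfsg.Spor.He := ev (fun i => [a, b, c].getD i 1) w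

theorem elt_subst3 (u v w : List ℕ) (r : List ℕ) :
    elt (subst [u, v, w] r) = ev3 (elt u) (elt v) (elt w) r := by
  rw [elt_subst, ev3]
  congr 1
  funext i
  match i with
  | 0 => rfl
  | 1 => rfl
  | 2 => rfl
  | n + 3 => rfl

theorem gen_eq {k : ℕ} (hk : k < 7) : φ k = ev3 X H S (genWords.getD k []) := by
  obtain ⟨hx, hh, hs, -⟩ := xhs_lt
  have h := List.all_eq_true.1 rel_gen k (List.mem_range.2 hk)
  have hl : [xWord, hWord, sWord].all (fun w => w.all fun a => decide (a < tab.gens)) = true := by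
    simp only [List.all_cons, List.all_nil, Bool.and_eq_true, List.all_eq_true, decide_eq_true_eq]
    exact ⟨hx, hh, hs, trivial⟩
  have := same_spec (v := [k]) (by intro a ha; rw [List.mem_singleton.1 ha]; exact hk) (subst_lt hl _) h
  rw [elt_subst3] at this
  rw [← show elt [k] = φ k by simp [elt, ev_cons, ev_nil]]
  exact this

theorem map_ev3 (f : Cfsg.Spor.He →* Cfsg.Spor.He) (a b c : Cfsg.Spor.He) (w : List ℕ) :
    f (ev3 a b c w) = ev3 (f a) (f b) (f c) w := by
  rw [ev3, ev_map, ev3]
  congr 1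
  funext i
  match i with
  | 0 => rfl
  | 1 => rfl
  | 2 => rfl
  | n + 3 => exact map_one f

theorem aut_eq_one {β : MulAut Cfsg.Spor.He} (hx : β X = X) (hh : β H = H) (hs : β S = S) : β = 1 := by
  have htop : MonoidHom.eqLocus β.toMonoidHom (MonoidHom.id _) = ⊤ := by
    rw [eq_top_iff, ← pres.gen]
    refine (Subgroup.closure_le _).2 ?_
    rintro _ ⟨k, hk, rfl⟩
    show β.toMonoidHom (φ k) = φ k
    rw [gen_eq (show k < 7 from hk), map_ev3]
    show ev3 (β X) (β H) (β S) _ = _
    rw [hx, hh, hs]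
  exact MulEquiv.ext fun g => (htop ▸ Subgroup.mem_top g : g ∈ MonoidHom.eqLocus β.toMonoidHom (MonoidHom.id _))

theorem fix_both {β : MulAut Cfsg.Spor.He} (hx : β X = X) (hh : β H = H) : β = 1 := by
  obtain ⟨hxl, hhl, hsl, -⟩ := xhs_lt
  have hy : elt yWord = H * H := elt_append _ _
  have hyl : ∀ a ∈ yWord, a < tab.gens := List.forall_mem_append.2 ⟨hhl, hhl⟩
  have hc := same_spec (List.forall_mem_append.2 ⟨hyl, hsl⟩) (List.forall_mem_append.2 ⟨hsl, hyl⟩) rel_s.1
  rw [elt_append, elt_append, hy] at hc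
  have hc' : β S * elt yWord = elt yWord * β S := by
    have := congrArg β hc
    simp only [map_mul, hh] at this
    rw [hy]
    exact this.symm
  obtain ⟨w, hw, hbw, hgood⟩ := find levYfilled baseY powsY powsY _ searchY cover hc'
  simp only [goodY, Bool.or_eq_true, List.any_eq_true, Bool.not_eq_true'] at hgood
  rcases hgood with hgood | ⟨r, hr, hne⟩
  · exact aut_eq_one hx hh (hbw.trans (same_spec hw hsl hgood))
  · exfalso
    have h1 := List.all_eq_true.1 rel_s.2 r hr
    have hl : ∀ u : List ℕ, (∀ a ∈ u, a < tab.gens) →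
        [xWord, hWord, u].all (fun w => w.all fun a => decide (a < tab.gens)) = true := fun u hu => by
      simp only [List.all_cons, List.all_nil, Bool.and_eq_true, List.all_eq_true, decide_eq_true_eq]
      exact ⟨hxl, hhl, hu, trivial⟩
    have e1 := same_spec (rep_lt (subst_lt (hl _ hsl) r.2) r.1) (by simp) h1
    rw [elt, elt, ev_rep, ev_nil] at e1
    have e1' : ev3 X H S r.2 ^ r.1 = 1 := elt_subst3 xWord hWord sWord r.2 ▸ e1
    have e2 : elt (Coset.rep r.1 (subst [xWord, hWord, w] r.2)) = elt [] := by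
      show ev φ _ = _
      rw [ev_rep, elt_nil, show ev φ (subst [xWord, hWord, w] r.2) = ev3 X H (elt w) r.2 from elt_subst3 _ _ _ _,
        ← hbw]
      have := congrArg β.toMonoidHom e1'
      rw [map_pow, map_ev3, map_one] at this
      simpa [hx, hh] using this
    rw [Bool.eq_false_iff] at hne
    refine hne ?_
    simp only [same, List.all_eq_true, Nat.beq_eq]
    intro b hb
    have hbl := SchurMult.Held.base_lt_size hb
    rw [app_eq (rep_lt (subst_lt (hl w hw) r.2) r.1) hbl,
      app_eq (show ∀ a ∈ ([] : List ℕ), a < tab.gens by simp) hbl, e2]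

theorem conj_pow_X : ∀ i : ℕ, MulAut.conj (H ^ i) X = X ^ (2 ^ i)
  | 0 => by simp
  | i + 1 => by
    have h1 : MulAut.conj H X = X ^ 2 := by rw [MulAut.conj_apply, hx_eq, mul_inv_cancel_right]
    rw [pow_succ, map_mul, MulAut.mul_apply, h1, map_pow, conj_pow_X i, ← pow_mul, ← pow_succ]

theorem fix_X {β : MulAut Cfsg.Spor.He} (hx : β X = X) : β ∈ Cfsg.Inn Cfsg.Spor.He := by
  have hz : H⁻¹ * β H * X = X * (H⁻¹ * β H) := by
    have e := congrArg β hx_eq
    rw [map_mul, map_mul, map_pow, hx] at e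
    rw [mul_assoc, e, ← mul_assoc, ← mul_assoc]
    congr 1
    rw [inv_mul_eq_iff_eq_mul, ← mul_assoc, hx_eq, mul_inv_cancel_right]
  obtain ⟨i, -, hi⟩ := cent_X hz
  rw [inv_mul_eq_iff_eq_mul] at hi
  have e : MulAut.conj (X ^ (2 * i)) * β = 1 := by
    refine fix_both ?_ ?_
    · rw [MulAut.mul_apply, hx, MulAut.conj_apply, ← pow_succ, pow_succ', mul_inv_cancel_right]
    · have hcomm : X ^ (2 * i) * H = H * X ^ i := by
        have hs : SemiconjBy H X (X ^ 2) := hx_eq
        have := hs.pow_right i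
        rw [← pow_mul] at this
        exact this.eq.symm
      rw [MulAut.mul_apply, hi, MulAut.conj_apply, ← mul_assoc, hcomm, mul_assoc H, ← pow_add, mul_assoc,
        show X ^ (i + i) = X ^ (2 * i) by rw [two_mul], mul_inv_cancel, mul_one]
  rw [eq_inv_of_mul_eq_one_right e, ← map_inv]
  exact ⟨_, rfl⟩

/-- The images of the generators under the outer automorphism. -/
noncomputable def sig (k : ℕ) : Cfsg.Spor.He := elt (tauWords.getD k [])

theorem sig_inv (k : ℕ) : sig k * sig k = 1 := by
  have hl := xhs_lt.2.2.2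
  rcases Nat.lt_or_ge k 7 with hk | hk
  · have := same_spec (List.forall_mem_append.2 ⟨letters_getD hl k, letters_getD hl k⟩) (by simp)
      (List.all_eq_true.1 rel_tau.1 k (List.mem_range.2 hk))
    rw [elt_append, elt_nil] at this
    exact this
  · rw [sig, List.getD_eq_default _ _ (rel_tau.2.2.2.le.trans hk), elt_nil, one_mul]

theorem sig_rel : ∀ w ∈ pres.base, ev sig w = 1 := fun w hw => by
  have := same_spec (subst_lt xhs_lt.2.2.2 w) (v := subst tauWords w) (w := []) (by simp)
    (List.all_eq_true.1 rel_tau.2.1 w hw)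
  rwa [elt_subst, elt_nil] at this

/-- The outer automorphism as a homomorphism. -/
noncomputable def tauHom : Cfsg.Spor.He →* Cfsg.Spor.He :=
  PresentedGroup.toGroup (pres.lift_rels sig sig_inv sig_rel idx idx_lt gl_idx idx_gl words_lt)

theorem tauHom_φ {k : ℕ} (hk : k < 7) : tauHom (φ k) = sig k := by
  show tauHom (PresentedGroup.of _) = _
  rw [tauHom, PresentedGroup.toGroup.of, idx_gl k hk]

theorem tauHom_X : tauHom X = X ^ 3 := by
  obtain ⟨hx, -, -, hl⟩ := xhs_lt
  rw [← xPow_eq (show 3 < 17 by norm_num), X, elt, ev_map]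
  have := same_spec (subst_lt hl xWord) (letters_getD (pows_spec powsX).2.2.1 3) rel_tau.2.2.1
  rw [elt_subst] at this
  refine Eq.trans ?_ this
  exact congrArg List.prod (List.map_congr_left fun a ha => tauHom_φ (hx a ha))

theorem tauHom_bijective : Function.Bijective tauHom := by
  have hfin : Finite Cfsg.Spor.He := Nat.finite_of_card_ne_zero (by rw [card_and_inj.1]; norm_num)
  have := isHe.1
  have hinj : Function.Injective tauHom := by
    rw [← MonoidHom.ker_eq_bot_iff]
    refine (IsSimpleGroup.eq_bot_or_eq_top_of_normal tauHom.ker inferInstance).resolve_right fun e => ?_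
    have h1 : tauHom X = 1 := MonoidHom.mem_ker.1 (e ▸ Subgroup.mem_top X)
    rw [tauHom_X] at h1
    have := orderOf_dvd_of_pow_eq_one h1
    rw [orderOf_X] at this
    norm_num at this
  exact ⟨hinj, Finite.surjective_of_injective hinj⟩

/-- The outer automorphism. -/
noncomputable def tau : MulAut Cfsg.Spor.He := MulEquiv.ofBijective tauHom tauHom_bijective

theorem tau_X : tau X = X ^ 3 := tauHom_X

theorem out_two : Nat.card (Cfsg.Out Cfsg.Spor.He) = 2 := by
  have : Fact (Nat.Prime 17) := ⟨by norm_num⟩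
  have : Finite Cfsg.Spor.He := Nat.finite_of_card_ne_zero (by rw [card_and_inj.1]; norm_num)
  let q : MulAut Cfsg.Spor.He →* Cfsg.Out Cfsg.Spor.He := QuotientGroup.mk' _
  have hinn : ∀ a ∈ Cfsg.Inn Cfsg.Spor.He, q a = 1 := fun a ha => (QuotientGroup.eq_one_iff a).2 ha
  have hconj : ∀ g, q (MulAut.conj g) = 1 := fun g => hinn _ ⟨g, rfl⟩
  have hall : ∀ α, q α = 1 ∨ q α = q tau := by
    intro α
    have hfac : (Nat.card Cfsg.Spor.He).factorization 17 = 1 :=
      SchurMult.Mathieu.factorization_of (r := 237081600) (by norm_num)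
        (by rw [card_and_inj.1]; norm_num) (by decide)
    have hP : Nat.card (Subgroup.zpowers X) = 17 ^ (Nat.card Cfsg.Spor.He).factorization 17 := by
      rw [Nat.card_zpowers, orderOf_X, hfac, pow_one]
    have hQ : Nat.card (Subgroup.zpowers (α X)) = 17 ^ (Nat.card Cfsg.Spor.He).factorization 17 := by
      rw [← hP, Nat.card_zpowers, Nat.card_zpowers, MulEquiv.orderOf_eq]
    obtain ⟨g, hg⟩ := MulAction.exists_smul_eq Cfsg.Spor.He (Sylow.ofCard _ hQ) (Sylow.ofCard _ hP)
    have hmem : MulAut.conj g (α X) ∈ Subgroup.zpowers X := by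
      have h1 : g * α X * g⁻¹ ∈ (g • Sylow.ofCard _ hQ : Sylow 17 Cfsg.Spor.He).toSubgroup := by
        rw [Sylow.coe_subgroup_smul]
        exact ⟨α X, Subgroup.mem_zpowers _, rfl⟩
      rw [hg] at h1
      exact h1
    obtain ⟨r, hr⟩ : ∃ r : ℕ, X ^ r = MulAut.conj g (α X) := (Submonoid.mem_powers_iff _ _).1
      ((mem_powers_iff_mem_zpowers (G := Cfsg.Spor.He)).2 hmem)
    rw [pow_mod] at hr
    have hr0 : r % 17 ≠ 0 := fun e => by
      rw [e, pow_zero, eq_comm, EmbeddingLike.map_eq_one_iff, EmbeddingLike.map_eq_one_iff] at hr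
      exact X_pow.2 hr
    have hres := List.all_eq_true.1 residues (r % 17) (List.mem_range.2 (Nat.mod_lt _ (by norm_num)))
    simp only [Bool.or_eq_true, Nat.beq_eq, List.any_eq_true] at hres
    obtain ⟨i, -, hi⟩ := hres.resolve_left hr0
    rcases hi with hi | hi
    · left
      have hfx : ((MulAut.conj (H ^ i))⁻¹ * (MulAut.conj g * α)) X = X := by
        rw [MulAut.mul_apply, MulAut.mul_apply, ← hr, hi, ← pow_mod, MulAut.inv_apply,
          MulEquiv.symm_apply_eq, conj_pow_X]
      have := hinn _ (fix_X hfx)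
      simpa [map_mul, map_inv, hconj] using this
    · right
      have hfx : ((tau * MulAut.conj (H ^ i))⁻¹ * (MulAut.conj g * α)) X = X := by
        rw [MulAut.mul_apply, MulAut.mul_apply, ← hr, hi, ← pow_mod, MulAut.inv_apply,
          MulEquiv.symm_apply_eq, MulAut.mul_apply, conj_pow_X, map_pow, tau_X, ← pow_mul]
      have := hinn _ (fix_X hfx)
      rw [map_mul, map_inv, map_mul, map_mul, hconj, hconj, mul_one, one_mul, inv_mul_eq_one] at this
      exact this.symm
  rw [Nat.card_eq_two_iff]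
  refine ⟨1, q tau, fun e => ?_, Set.eq_univ_of_forall fun a => ?_⟩
  · obtain ⟨g, hg⟩ : tau ∈ Cfsg.Inn Cfsg.Spor.He := (QuotientGroup.eq_one_iff _).1 e.symm
    refine no_cube g ?_
    have h1 := DFunLike.congr_fun hg X
    rw [tau_X, MulAut.conj_apply, mul_inv_eq_iff_eq_mul] at h1
    exact h1
  · obtain ⟨α, rfl⟩ := QuotientGroup.mk_surjective a
    rcases hall α with h | h
    · exact Or.inl h
    · exact Or.inr h

end Cfsg.Agent.Lib.SporOutHe
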